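import Mathlib
import Cfsg.Agent.Lib.Helper14.MinNonNilp
import Cfsg.Agent.Lib.Helper69.Nilpotent

set_option autoImplicit false

namespace Cfsg.Agent.Lib.Helper33

variable {G : Type*} [Group G]

/-- A nontrivial `p`-subgroup has a nontrivial element commuting with all of it. -/
theorem exists_central_of_pgroup [Finite G] {p : ℕ} [Fact p.Prime] (S : Subgroup G)
    (hS : IsPGroup p S) (hne : S ≠ ⊥) : ∃ z ∈ S, z ≠ 1 ∧ ∀ s ∈ S, s * z = z * s := by
  haveI : Nontrivial S := (Subgroup.nontrivial_iff_ne_bot S).mpr hne
  haveI := hS.center_nontrivial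
  obtain ⟨z, hz⟩ := exists_ne (1 : Subgroup.center S)
  refine ⟨((z : S) : G), (z : S).2, ?_, ?_⟩
  · intro h
    apply hz
    apply Subtype.ext
    apply Subtype.ext
    simpa using h
  · intro s hs
    have := (Subgroup.mem_center_iff.mp z.2) ⟨s, hs⟩
    have h2 := congrArg Subtype.val this
    simpa using h2

/-- In a finite nilpotent group, an element of a Sylow subgroup commuting with that Sylow subgroup
is central. -/
theorem mem_center_of_sylow_central {H : Type*} [Group H] [Finite H] [Group.IsNilpotent H]
    {p : ℕ} [hp : Fact p.Prime] (S : Sylow p H) (z : H) (hz : z ∈ (S : Subgroup H))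
    (hcomm : ∀ y ∈ (S : Subgroup H), y * z = z * y) : z ∈ Subgroup.center H := by
  set C := Subgroup.centralizer ({z} : Set H) with hC
  have hSC : (S : Subgroup H) ≤ C := by
    intro y hy
    rw [hC, Subgroup.mem_centralizer_iff]
    intro w hw
    rw [Set.mem_singleton_iff] at hw
    subst hw
    exact (hcomm y hy).symm
  have hCtop : C = ⊤ := by
    apply Cfsg.Agent.Lib.Helper14.eq_top_of_forall_sylow_le
    intro q hq
    haveI := hq
    by_cases hqp : q = p
    · subst hqp
      exact ⟨S, hSC⟩
    · let Q : Sylow q H := default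
      refine ⟨Q, ?_⟩
      have hdis : Disjoint (Q : Subgroup H) (S : Subgroup H) :=
        IsPGroup.disjoint_of_ne q p hqp _ _ Q.isPGroup' S.isPGroup'
      intro x hx
      rw [hC, Subgroup.mem_centralizer_iff]
      intro w hw
      rw [Set.mem_singleton_iff] at hw
      subst hw
      exact (Subgroup.commute_of_normal_of_disjoint _ _ inferInstance inferInstance hdis x w hx hz).eq.symm
  rw [Subgroup.mem_center_iff]
  intro g
  have hg : g ∈ C := by rw [hCtop]; exact Subgroup.mem_top g
  rw [hC, Subgroup.mem_centralizer_iff] at hg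
  exact (hg z rfl).symm

end Cfsg.Agent.Lib.Helper33
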