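import Mathlib

set_option autoImplicit false

namespace Cfsg.Agent.Lib.Helper33

variable {G : Type*} [Group G]

/-- A nontrivial normal subgroup of a finite `p`-group meets the centre nontrivially. -/
theorem exists_mem_center_of_normal {p : ℕ} [Fact p.Prime] [Finite G] (hG : IsPGroup p G)
    (N : Subgroup G) [N.Normal] (hN : N ≠ ⊥) :
    ∃ z : G, z ∈ N ∧ z ∈ Subgroup.center G ∧ z ≠ 1 := by
  have hNp : IsPGroup p N := hG.to_subgroup N
  have hNnt : Nontrivial N := (Subgroup.nontrivial_iff_ne_bot N).mpr hN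
  have dvd : p ∣ Nat.card N := by
    obtain ⟨n, hn0, hn⟩ := hNp.nontrivial_iff_card.mp hNnt
    exact hn.symm ▸ dvd_pow_self _ (ne_of_gt hn0)
  have h1 : (1 : N) ∈ MulAction.fixedPoints (ConjAct G) N := by
    intro g
    exact smul_one g
  obtain ⟨b, hb, hb1⟩ :=
    (hG.of_equiv ConjAct.toConjAct).exists_fixed_point_of_prime_dvd_card_of_fixed_point N dvd h1
  refine ⟨b, b.2, ?_, ?_⟩
  · rw [Subgroup.mem_center_iff]
    intro g
    have := hb (ConjAct.toConjAct g)
    have h2 := congrArg Subtype.val this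
    rw [ConjAct.Subgroup.val_conj_smul, ConjAct.toConjAct_smul] at h2
    calc g * b = g * b * g⁻¹ * g := by group
      _ = b * g := by rw [h2]
  · intro h
    apply hb1
    ext
    simpa using h.symm

end Cfsg.Agent.Lib.Helper33

namespace Cfsg.Agent.Lib.Helper33

variable {G : Type*} [Group G]

/-- A finite `p`-group has a normal abelian subgroup containing its own centralizer. -/
theorem exists_normal_abelian_self_centralizing {p : ℕ} [Fact p.Prime] [Finite G]
    (hG : IsPGroup p G) :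
    ∃ A : Subgroup G, A.Normal ∧ IsMulCommutative A ∧ Subgroup.centralizer (A : Set G) ≤ A := by
  classical
  let S : Set (Subgroup G) := {A | A.Normal ∧ IsMulCommutative A}
  have hSne : S.Nonempty := ⟨⊥, by infer_instance, by infer_instance⟩
  obtain ⟨A, hA⟩ := (Set.toFinite S).exists_maximal hSne
  obtain ⟨⟨hAn, hAc⟩, hAmax⟩ := hA
  refine ⟨A, hAn, hAc, ?_⟩
  by_contra hCA
  have hAC : A ≤ Subgroup.centralizer (A : Set G) := by
    intro a ha
    rw [Subgroup.mem_centralizer_iff]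
    intro b hb
    exact setLike_mul_comm hb ha
  -- the image of the centralizer in the quotient
  let N : Subgroup (G ⧸ A) := (Subgroup.centralizer (A : Set G)).map (QuotientGroup.mk' A)
  have hNn : N.Normal := Subgroup.Normal.map inferInstance _ (QuotientGroup.mk'_surjective A)
  have hNne : N ≠ ⊥ := by
    intro h
    apply hCA
    intro c hc
    have : QuotientGroup.mk' A c ∈ N := Subgroup.mem_map_of_mem _ hc
    rw [h, Subgroup.mem_bot] at this
    exact (QuotientGroup.eq_one_iff c).mp this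
  obtain ⟨z, hzN, hzc, hz1⟩ := exists_mem_center_of_normal (hG.to_quotient A) N hNne
  obtain ⟨x, hxC, hxz⟩ := hzN
  have hxA : x ∉ A := by
    intro hx
    apply hz1
    rw [← hxz]
    exact (QuotientGroup.eq_one_iff x).mpr hx
  -- the preimage of the cyclic subgroup generated by `z`
  let B : Subgroup G := (Subgroup.zpowers z).comap (QuotientGroup.mk' A)
  have hzn : (Subgroup.zpowers z).Normal := by
    constructor
    intro n hn g
    have : g * n * g⁻¹ = n := by
      have hnc : n ∈ Subgroup.center (G ⧸ A) := by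
        obtain ⟨k, rfl⟩ := hn
        exact Subgroup.zpow_mem _ hzc k
      rw [Subgroup.mem_center_iff] at hnc
      rw [hnc g]; group
    rw [this]; exact hn
  have hBn : B.Normal := Subgroup.Normal.comap hzn _
  have hAB : A ≤ B := by
    intro a ha
    change QuotientGroup.mk' A a ∈ Subgroup.zpowers z
    have : QuotientGroup.mk' A a = 1 := (QuotientGroup.eq_one_iff a).mpr ha
    rw [this]
    exact Subgroup.one_mem _
  have hxB : x ∈ B := by
    change QuotientGroup.mk' A x ∈ Subgroup.zpowers z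
    rw [hxz]; exact Subgroup.mem_zpowers z
  -- every element of `B` is `x ^ k * a` with `a ∈ A`
  have hBform : ∀ b ∈ B, ∃ k : ℤ, ∃ a ∈ A, b = x ^ k * a := by
    intro b hb
    obtain ⟨k, hk⟩ := hb
    refine ⟨k, (x ^ k)⁻¹ * b, ?_, by group⟩
    have : QuotientGroup.mk' A ((x ^ k)⁻¹ * b) = 1 := by
      rw [map_mul, map_inv, map_zpow, hxz]
      change (z ^ k)⁻¹ * (QuotientGroup.mk' A) b = 1
      rw [← hk]
      simp
    exact (QuotientGroup.eq_one_iff _).mp this
  have hxcomm : ∀ a ∈ A, a * x = x * a := by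
    intro a ha
    have hxC' : x ∈ Subgroup.centralizer (A : Set G) := hxC
    rw [Subgroup.mem_centralizer_iff] at hxC'
    exact hxC' a ha
  have hxkcomm : ∀ (k : ℤ), ∀ a ∈ A, a * x ^ k = x ^ k * a := by
    intro k a ha
    exact ((Commute.zpow_right (hxcomm a ha) k : Commute a (x ^ k))).eq
  have hBc : IsMulCommutative B := by
    constructor
    constructor
    rintro ⟨b₁, hb₁⟩ ⟨b₂, hb₂⟩
    ext
    obtain ⟨k₁, a₁, ha₁, rfl⟩ := hBform b₁ hb₁
    obtain ⟨k₂, a₂, ha₂, rfl⟩ := hBform b₂ hb₂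
    change x ^ k₁ * a₁ * (x ^ k₂ * a₂) = x ^ k₂ * a₂ * (x ^ k₁ * a₁)
    have e1 : a₁ * a₂ = a₂ * a₁ := setLike_mul_comm ha₁ ha₂
    calc x ^ k₁ * a₁ * (x ^ k₂ * a₂) = x ^ k₁ * (a₁ * x ^ k₂) * a₂ := by group
      _ = x ^ k₁ * (x ^ k₂ * a₁) * a₂ := by rw [hxkcomm k₂ a₁ ha₁]
      _ = (x ^ k₁ * x ^ k₂) * (a₁ * a₂) := by group
      _ = (x ^ k₂ * x ^ k₁) * (a₂ * a₁) := by rw [e1, ← zpow_add, ← zpow_add, add_comm]
      _ = x ^ k₂ * (x ^ k₁ * a₂) * a₁ := by group
      _ = x ^ k₂ * (a₂ * x ^ k₁) * a₁ := by rw [hxkcomm k₁ a₂ ha₂]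
      _ = x ^ k₂ * a₂ * (x ^ k₁ * a₁) := by group
  have := hAmax (show B ∈ S from ⟨hBn, hBc⟩) hAB
  exact hxA (this hxB)

end Cfsg.Agent.Lib.Helper33
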