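import Mathlib
import Cfsg.Prelude.Def_LieExceptional
import Cfsg.Agent.Lib.Helper33.CNGroup
import Cfsg.Agent.Lib.Helper33.PGroupBasic
import Cfsg.Agent.Lib.Helper15.Lifting
import Cfsg.Agent.Lib.Helper14.MinNonNilp
import Cfsg.Agent.Lib.Helper01.SolvableNP
import Cfsg.Agent.Lib.Helper65.Hall

set_option autoImplicit false

namespace Cfsg.Agent.Lib.Helper33

universe u

theorem isNilpotent_of_inj {H K : Type*} [Group H] [Group K] (f : H →* K)
    (hf : Function.Injective f) (hK : Group.IsNilpotent K) : Group.IsNilpotent H :=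
  haveI := hK; Subgroup.isNilpotent_of_ker_le_center f ((f.ker_eq_bot_iff.mpr hf).symm ▸ bot_le)

/-- Subgroups of CN-groups are CN-groups. -/
theorem isCNGroup_subgroup {G : Type*} [Group G] (hCN : Cfsg.IsCNGroup G) (K : Subgroup G) :
    Cfsg.IsCNGroup K := by
  intro k hk
  have hk' : (k : G) ≠ 1 := fun h => hk (Subtype.ext h)
  have hnil := hCN (k : G) hk'
  let f : Subgroup.centralizer ({k} : Set K) →* Subgroup.centralizer ({(k : G)} : Set G) :=
    { toFun := fun c => ⟨((c : K) : G), by
        rw [Subgroup.mem_centralizer_iff]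
        intro w hw
        rw [Set.mem_singleton_iff] at hw
        subst hw
        have := (Subgroup.mem_centralizer_iff.mp c.2) k rfl
        exact congrArg Subtype.val this⟩
      map_one' := rfl
      map_mul' := fun _ _ => rfl }
  apply isNilpotent_of_inj f _ hnil
  intro a b hab
  apply Subtype.ext
  apply Subtype.ext
  have h := congrArg Subtype.val hab
  exact h

/-- CN-groups transport along isomorphisms. -/
theorem isCNGroup_of_mulEquiv {G G' : Type*} [Group G] [Group G'] (e : G ≃* G')
    (hCN : Cfsg.IsCNGroup G) : Cfsg.IsCNGroup G' := by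
  intro g' hg'
  have h1 : e.symm g' ≠ 1 := by
    intro h
    apply hg'
    have := congrArg e h
    simpa using this
  have hnil := hCN (e.symm g') h1
  let f : Subgroup.centralizer ({g'} : Set G') →* Subgroup.centralizer ({e.symm g'} : Set G) :=
    { toFun := fun c => ⟨e.symm (c : G'), by
        rw [Subgroup.mem_centralizer_iff]
        intro w hw
        rw [Set.mem_singleton_iff] at hw
        subst hw
        have := (Subgroup.mem_centralizer_iff.mp c.2) g' rfl
        rw [← map_mul, ← map_mul, this]⟩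
      map_one' := by apply Subtype.ext; simp
      map_mul' := fun a b => by apply Subtype.ext; simp }
  apply isNilpotent_of_inj f _ hnil
  intro a b hab
  apply Subtype.ext
  have := congrArg Subtype.val hab
  exact e.symm.injective this

/-- A nontrivial solvable normal subgroup contains a nontrivial normal `p`-subgroup of `G`. -/
theorem exists_normal_pgroup_le {G : Type*} [Group G] [Finite G] (H : Subgroup G) [hHn : H.Normal]
    (hs : Group.IsSolvable H) (hne : H ≠ ⊥) :
    ∃ (p : ℕ) (A : Subgroup G), p.Prime ∧ A.Normal ∧ A ≤ H ∧ A ≠ ⊥ ∧ IsPGroup p A := by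
  haveI : Nontrivial H := (Subgroup.nontrivial_iff_ne_bot H).mpr hne
  obtain ⟨A0, hA0char, hA0comm, hA0ne⟩ := Cfsg.Agent.Lib.Helper01.exists_char_abelian_of_solvable hs
  let B : Subgroup G := A0.map H.subtype
  haveI hBn : B.Normal := ConjAct.normal_of_characteristic_of_normal
  haveI hBcomm : IsMulCommutative B := inferInstance
  have hBH : B ≤ H := Subgroup.map_subtype_le A0
  have hBne : B ≠ ⊥ := by
    intro hbot
    rw [Subgroup.map_eq_bot_iff_of_injective _ H.subtype_injective] at hbot
    exact hA0ne hbot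
  have hcard : Nat.card B ≠ 1 := fun h => hBne (Subgroup.card_eq_one.mp h)
  obtain ⟨p, hp, hpdvd⟩ := Nat.exists_prime_and_dvd hcard
  haveI : Fact p.Prime := ⟨hp⟩
  let S : Sylow p B := default
  have hSnormal : (S : Subgroup B).Normal := inferInstance
  haveI hSchar : (S : Subgroup B).Characteristic := Sylow.characteristic_of_normal S hSnormal
  refine ⟨p, (S : Subgroup B).map B.subtype, hp, ConjAct.normal_of_characteristic_of_normal,
    (Subgroup.map_subtype_le _).trans hBH, ?_, S.isPGroup'.map _⟩
  intro hbot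
  rw [Subgroup.map_eq_bot_iff_of_injective _ B.subtype_injective] at hbot
  exact Sylow.ne_bot_of_dvd_card S hpdvd hbot


/-- Key lemma: a finite CN-group `Γ` with a normal `p`-subgroup `A` and a `p`-element `y ∉ A`
whose image in `Γ ⧸ A` is central is nilpotent. -/
theorem nilpotent_of_central_mod_pgroup {Γ : Type*} [Group Γ] [Finite Γ] (hCN : Cfsg.IsCNGroup Γ)
    {p : ℕ} [hp : Fact p.Prime] (A : Subgroup Γ) [hAn : A.Normal] (hA : IsPGroup p A)
    (y : Γ) (hy : IsPGroup p (Subgroup.zpowers y)) (hyA : y ∉ A)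
    (hcent : ∀ γ : Γ, γ * y * γ⁻¹ * y⁻¹ ∈ A) : Group.IsNilpotent Γ := by
  classical
  set π := QuotientGroup.mk' A with hπ
  have hycen : ∀ c : Γ ⧸ A, c * π y = π y * c := by
    intro c
    obtain ⟨γ, rfl⟩ := QuotientGroup.mk'_surjective A c
    have h1 : π (γ * y * γ⁻¹ * y⁻¹) = 1 := (QuotientGroup.eq_one_iff _).mpr (hcent γ)
    simp only [map_mul, map_inv] at h1
    calc π γ * π y = (π γ * π y * (π γ)⁻¹ * (π y)⁻¹) * (π y * π γ) := by group
      _ = π y * π γ := by rw [h1, one_mul]
  let Zb : Subgroup (Γ ⧸ A) := Subgroup.zpowers (π y)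
  have hZbn : Zb.Normal := by
    constructor
    intro n hn g
    obtain ⟨k, rfl⟩ := Subgroup.mem_zpowers_iff.mp hn
    have hc : Commute g (π y) := hycen g
    have h2 : g * (π y) ^ k * g⁻¹ = (π y) ^ k := by
      rw [(hc.zpow_right k).eq]; group
    rw [h2]
    exact Subgroup.zpow_mem _ (Subgroup.mem_zpowers _) k
  let P : Subgroup Γ := Zb.comap π
  haveI hPn : P.Normal := hZbn.comap π
  have hZbp : IsPGroup p Zb := by
    have := hy.map π
    rwa [MonoidHom.map_zpowers] at this
  have hP : IsPGroup p P :=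
    hZbp.comap_of_ker_isPGroup π (by rw [hπ, QuotientGroup.ker_mk']; exact hA)
  have hyP : y ∈ P := Subgroup.mem_zpowers (π y)
  have hPne : P ≠ ⊥ := by
    intro h
    rw [h, Subgroup.mem_bot] at hyP
    exact hyA (hyP ▸ A.one_mem)
  let N : Subgroup Γ := P ⊓ Subgroup.centralizer (P : Set Γ)
  haveI hNn : N.Normal := by
    constructor
    intro n hn γ
    have hn := Subgroup.mem_inf.mp hn
    refine Subgroup.mem_inf.mpr ⟨hPn.conj_mem n hn.1 γ, ?_⟩
    rw [Subgroup.mem_centralizer_iff]
    intro w hw
    have hw' : γ⁻¹ * w * γ ∈ P := by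
      have := hPn.conj_mem w hw γ⁻¹
      simpa using this
    have h := (Subgroup.mem_centralizer_iff.mp hn.2) _ hw'
    have h' : γ * ((γ⁻¹ * w * γ) * n) * γ⁻¹ = γ * (n * (γ⁻¹ * w * γ)) * γ⁻¹ := by rw [h]
    calc w * (γ * n * γ⁻¹) = γ * ((γ⁻¹ * w * γ) * n) * γ⁻¹ := by group
      _ = γ * (n * (γ⁻¹ * w * γ)) * γ⁻¹ := h'
      _ = γ * n * γ⁻¹ * w := by group
  obtain ⟨z₀, hz₀P, hz₀1, hz₀c⟩ := exists_central_of_pgroup P hP hPne
  have hz₀N : z₀ ∈ N := Subgroup.mem_inf.mpr ⟨hz₀P, by
    rw [Subgroup.mem_centralizer_iff]; intro w hw; exact hz₀c w hw⟩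
  let S : Sylow p Γ := default
  have hPS : P ≤ (S : Subgroup Γ) := by
    have h := hP.to_sup_of_normal_left S.isPGroup'
    have h2 := S.is_maximal' h le_sup_right
    rw [← h2]; exact le_sup_left
  have hNS : N ≤ (S : Subgroup Γ) := inf_le_left.trans hPS
  have hN'ne : N.subgroupOf (S : Subgroup Γ) ≠ ⊥ := by
    intro h
    have hmem : (⟨z₀, hNS hz₀N⟩ : (S : Subgroup Γ)) ∈ N.subgroupOf (S : Subgroup Γ) := by
      rw [Subgroup.mem_subgroupOf]; exact hz₀N
    rw [h, Subgroup.mem_bot] at hmem
    exact hz₀1 (congrArg Subtype.val hmem)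
  obtain ⟨z, hzN, hzcen, hz1⟩ :=
    exists_mem_center_of_normal (G := (S : Subgroup Γ)) S.isPGroup' (N.subgroupOf S) hN'ne
  have hzN' : (z : Γ) ∈ P ∧ (z : Γ) ∈ Subgroup.centralizer (P : Set Γ) := by
    rw [Subgroup.mem_subgroupOf] at hzN
    exact Subgroup.mem_inf.mp hzN
  have hzΓ1 : (z : Γ) ≠ 1 := fun h => hz1 (Subtype.ext h)
  have hzS : ∀ s ∈ (S : Subgroup Γ), s * (z : Γ) = (z : Γ) * s := by
    intro s hs
    have := Subgroup.mem_center_iff.mp hzcen ⟨s, hs⟩
    exact congrArg Subtype.val this
  have htop : Subgroup.centralizer ({(z : Γ)} : Set Γ) = ⊤ := by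
    apply Cfsg.Agent.Lib.Helper14.eq_top_of_forall_sylow_le
    intro r hr
    haveI := hr
    by_cases hrp : r = p
    · subst hrp
      refine ⟨S, ?_⟩
      intro s hs
      rw [Subgroup.mem_centralizer_iff]
      intro w hw; rw [Set.mem_singleton_iff] at hw; subst hw
      exact (hzS s hs).symm
    · let R : Sylow r Γ := default
      refine ⟨R, ?_⟩
      have hcop : (Nat.card A).Coprime r := by
        obtain ⟨n, hn⟩ := IsPGroup.iff_card.mp hA
        rw [hn]
        exact Nat.Coprime.pow_left n ((Nat.coprime_primes hp.out hr.out).mpr (Ne.symm hrp))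
      have hlift := Cfsg.Agent.Lib.Helper15.centralizer_map_mk_of_coprime A hcop
        (R : Subgroup Γ) R.isPGroup'
      have hymem : π y ∈ Subgroup.centralizer
          (((R : Subgroup Γ).map (QuotientGroup.mk' A) : Subgroup (Γ ⧸ A)) : Set (Γ ⧸ A)) := by
        rw [Subgroup.mem_centralizer_iff]
        intro c _
        exact hycen c
      rw [hlift] at hymem
      obtain ⟨x', hx'R, hx'y⟩ := hymem
      have hx'P : x' ∈ P := by
        show π x' ∈ Zb
        rw [hπ, hx'y]; exact Subgroup.mem_zpowers _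
      have hx'1 : x' ≠ 1 := by
        intro h
        rw [h, map_one] at hx'y
        exact hyA ((QuotientGroup.eq_one_iff y).mp hx'y.symm)
      have hCx' := hCN x' hx'1
      have hRC : (R : Subgroup Γ) ≤ Subgroup.centralizer ({x'} : Set Γ) := by
        intro s hs
        rw [Subgroup.mem_centralizer_iff]
        intro w hw; rw [Set.mem_singleton_iff] at hw; subst hw
        exact ((Subgroup.mem_centralizer_iff.mp hx'R) s hs).symm
      have hzC : Subgroup.zpowers (z : Γ) ≤ Subgroup.centralizer ({x'} : Set Γ) := by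
        rw [Subgroup.zpowers_le, Subgroup.mem_centralizer_iff]
        intro w hw; rw [Set.mem_singleton_iff] at hw; subst hw
        exact (Subgroup.mem_centralizer_iff.mp hzN'.2) w hx'P
      have hzp : IsPGroup p (Subgroup.zpowers (z : Γ)) :=
        S.isPGroup'.to_le (Subgroup.zpowers_le.mpr z.2)
      have hcomm := Cfsg.Agent.Lib.Helper14.le_centralizer_of_nilpotent_of_pgroups (q := p) (r := r)
        (Ne.symm hrp) hCx' hzC hRC hzp R.isPGroup'
      intro s hs
      have hs' := hcomm hs
      rw [Subgroup.mem_centralizer_iff] at hs' ⊢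
      intro w hw; rw [Set.mem_singleton_iff] at hw; subst hw
      exact hs' _ (Subgroup.mem_zpowers _)
  have hnil := hCN (z : Γ) hzΓ1
  rw [htop] at hnil
  haveI := hnil
  exact Group.nilpotent_of_mulEquiv (Subgroup.topEquiv : (⊤ : Subgroup Γ) ≃* Γ)


/-- The quotient of a finite CN-group by a normal `p`-subgroup is a CN-group. -/
theorem isCNGroup_quotient_pgroup {G : Type*} [Group G] [Finite G] (hCN : Cfsg.IsCNGroup G)
    {p : ℕ} [hp : Fact p.Prime] (A : Subgroup G) [A.Normal] (hA : IsPGroup p A) :
    Cfsg.IsCNGroup (G ⧸ A) := by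
  intro gb hgb
  obtain ⟨g, rfl⟩ := QuotientGroup.mk'_surjective A gb
  set π := QuotientGroup.mk' A with hπ
  have hd1 : orderOf (π g) ≠ 1 := by rwa [Ne, orderOf_eq_one_iff]
  obtain ⟨r, hr, hrd⟩ := Nat.exists_prime_and_dvd hd1
  haveI : Fact r.Prime := ⟨hr⟩
  have hn0 : orderOf g ≠ 0 := (orderOf_pos g).ne'
  set k := (orderOf g).factorization r with hk
  set e := orderOf g / r ^ k with he
  set y := g ^ e with hy
  have hye : ¬ r ∣ e := Nat.not_dvd_ordCompl hr hn0
  have hπy1 : π y ≠ 1 := by
    intro h
    rw [hy, map_pow] at h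
    have := orderOf_dvd_of_pow_eq_one h
    exact hye (hrd.trans this)
  have hoy : orderOf y = r ^ k := orderOf_pow_orderOf_div hn0 (Nat.ordProj_dvd _ r)
  have hcent_le : Subgroup.centralizer ({π g} : Set (G ⧸ A)) ≤
      Subgroup.centralizer ({π y} : Set (G ⧸ A)) := by
    intro c hc
    rw [Subgroup.mem_centralizer_iff] at hc ⊢
    intro w hw; rw [Set.mem_singleton_iff] at hw; subst hw
    have h : Commute (π g) c := hc (π g) rfl
    rw [hy, map_pow]
    exact (h.pow_left e).eq
  suffices hsuff : Group.IsNilpotent (Subgroup.centralizer ({π y} : Set (G ⧸ A))) from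
    isNilpotent_of_inj (Subgroup.inclusion hcent_le) (Subgroup.inclusion_injective hcent_le) hsuff
  have hyp : IsPGroup r (Subgroup.zpowers y) :=
    IsPGroup.of_card (n := k) (by rw [Nat.card_zpowers, hoy])
  have hyA : y ∉ A := fun h => hπy1 ((QuotientGroup.eq_one_iff y).mpr h)
  by_cases hrp : r = p
  · subst hrp
    let Γ : Subgroup G := (Subgroup.centralizer ({π y} : Set (G ⧸ A))).comap π
    have hΓCN : Cfsg.IsCNGroup Γ := isCNGroup_subgroup hCN Γ
    have hyΓ : y ∈ Γ := by
      show π y ∈ Subgroup.centralizer ({π y} : Set (G ⧸ A))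
      rw [Subgroup.mem_centralizer_iff]
      intro w hw; rw [Set.mem_singleton_iff] at hw; subst hw; rfl
    have hΓnil : Group.IsNilpotent Γ := by
      apply nilpotent_of_central_mod_pgroup hΓCN (A.subgroupOf Γ) hA.comap_subtype ⟨y, hyΓ⟩
      · apply IsPGroup.of_card (n := k)
        rw [Nat.card_zpowers, Subgroup.orderOf_mk, hoy]
      · rw [Subgroup.mem_subgroupOf]; exact hyA
      · intro γ
        rw [Subgroup.mem_subgroupOf]
        have hγ : π (γ : G) ∈ Subgroup.centralizer ({π y} : Set (G ⧸ A)) := γ.2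
        rw [Subgroup.mem_centralizer_iff] at hγ
        have h := hγ (π y) rfl
        rw [← QuotientGroup.eq_one_iff (N := A)]
        show π ((γ : G) * y * (γ : G)⁻¹ * y⁻¹) = 1
        rw [map_mul, map_mul, map_mul, map_inv, map_inv, ← h]
        group
    haveI := hΓnil
    exact Group.nilpotent_of_surjective (π.subgroupComap _)
      (π.subgroupComap_surjective_of_surjective _ (QuotientGroup.mk'_surjective A))
  · have hcop : (Nat.card A).Coprime r := by
      obtain ⟨n, hn⟩ := IsPGroup.iff_card.mp hA
      rw [hn]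
      exact Nat.Coprime.pow_left n ((Nat.coprime_primes hp.out hr).mpr (Ne.symm hrp))
    have hlift := Cfsg.Agent.Lib.Helper15.centralizer_map_mk_of_coprime A hcop
      (Subgroup.zpowers y) hyp
    have hle : Subgroup.centralizer ({π y} : Set (G ⧸ A)) ≤
        (Subgroup.centralizer ((Subgroup.zpowers y : Subgroup G) : Set G)).map π := by
      rw [hπ, ← hlift]
      intro c hc
      rw [Subgroup.mem_centralizer_iff] at hc ⊢
      rintro w ⟨w', hw', rfl⟩
      obtain ⟨j, rfl⟩ := Subgroup.mem_zpowers_iff.mp hw'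
      have h : Commute (π y) c := hc (π y) rfl
      rw [map_zpow]
      exact (h.zpow_left j).eq
    have hy1 : y ≠ 1 := fun h => hyA (h ▸ A.one_mem)
    have hCy := hCN y hy1
    have hle2 : Subgroup.centralizer ((Subgroup.zpowers y : Subgroup G) : Set G) ≤
        Subgroup.centralizer ({y} : Set G) :=
      Subgroup.centralizer_le (by
        intro w hw
        rw [Set.mem_singleton_iff] at hw
        subst hw
        exact Subgroup.mem_zpowers _)
    have h1 : Group.IsNilpotent
        (Subgroup.centralizer ((Subgroup.zpowers y : Subgroup G) : Set G)) :=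
      isNilpotent_of_inj (Subgroup.inclusion hle2) (Subgroup.inclusion_injective hle2) hCy
    haveI := h1
    have h2 : Group.IsNilpotent
        ((Subgroup.centralizer ((Subgroup.zpowers y : Subgroup G) : Set G)).map π) :=
      Group.nilpotent_of_surjective (π.subgroupMap _) (π.subgroupMap_surjective _)
    exact isNilpotent_of_inj (Subgroup.inclusion hle) (Subgroup.inclusion_injective hle) h2

/-- Quotients of finite CN-groups by solvable normal subgroups are CN-groups (induction form). -/
theorem isCNGroup_quotient_solvable_aux : ∀ (n : ℕ) (G : Type u) [Group G] [Finite G],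
    Cfsg.IsCNGroup G → ∀ (H : Subgroup G) [H.Normal], Group.IsSolvable H → Nat.card H = n →
    Cfsg.IsCNGroup (G ⧸ H) := by
  intro n
  induction n using Nat.strong_induction_on with
  | _ n ih =>
    intro G _ _ hCN H hHn hHs hcard
    by_cases hbot : H = ⊥
    · subst hbot
      exact isCNGroup_of_mulEquiv (QuotientGroup.quotientBot (G := G)).symm hCN
    · obtain ⟨p, A, hp, hAn, hAH, hAne, hAp⟩ := exists_normal_pgroup_le H hHs hbot
      haveI := hAn
      haveI : Fact p.Prime := ⟨hp⟩
      have hGA := isCNGroup_quotient_pgroup hCN A hAp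
      have hHbs : Group.IsSolvable (H.map (QuotientGroup.mk' A)) := by
        haveI := hHs
        exact Group.isSolvable_of_surjective ((QuotientGroup.mk' A).subgroupMap_surjective H)
      have hlt : Nat.card (H.map (QuotientGroup.mk' A)) < n := by
        have h1 := Cfsg.Agent.Lib.Helper65.card_comap_mk'_eq A (H.map (QuotientGroup.mk' A))
        have h2 : (H.map (QuotientGroup.mk' A)).comap (QuotientGroup.mk' A) = H := by
          rw [Subgroup.comap_map_eq, QuotientGroup.ker_mk']
          exact sup_eq_left.mpr hAH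
        rw [h2, hcard] at h1
        have hA2 : 2 ≤ Nat.card A := by
          have h0 : Nat.card A ≠ 1 := fun h => hAne (Subgroup.card_eq_one.mp h)
          have h00 : 0 < Nat.card A := Nat.card_pos
          omega
        have hpos : 0 < Nat.card (H.map (QuotientGroup.mk' A)) := Nat.card_pos
        nlinarith
      have := ih (Nat.card (H.map (QuotientGroup.mk' A))) hlt (G ⧸ A) hGA
        (H.map (QuotientGroup.mk' A)) hHbs rfl
      exact isCNGroup_of_mulEquiv (QuotientGroup.quotientQuotientEquivQuotient A H hAH) this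

end Cfsg.Agent.Lib.Helper33
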