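import Mathlib
import Cfsg.Prelude.Def_LieExceptional
import Cfsg.Agent.Lib.Helper33.CNQuot
import Cfsg.Agent.Lib.Helper12.Schmidt
import Cfsg.Agent.Lib.Helper31.FittingHall
import Cfsg.Agent.Lib.Helper76.Fitting

set_option autoImplicit false

namespace Cfsg.Agent.Lib.Helper33

universe u

open Finset

/-- A Frobenius-type group `S ⋊ ⟨x⟩` (with `x` of prime order acting without fixed points on `S`)
cannot act on a nontrivial abelian group `V` of order coprime to `|S|` in such a way that both
the nontrivial elements of `S` and all elements of order `r` act without fixed points. -/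
theorem frobenius_action' {G : Type u} [Group G] (V : Subgroup G) [V.Normal]
    (hVc : ∀ a ∈ V, ∀ b ∈ V, a * b = b * a) [Finite V]
    (S : Subgroup G) [Finite S] (x : G) (r : ℕ) (hr : r.Prime)
    (hxS : x ∈ Subgroup.normalizer (S : Set G)) (hx : orderOf x = r)
    (h3 : ∀ u ∈ S, u * x = x * u → u = 1)
    (h4 : ∀ u ∈ S, u ≠ 1 → ∀ v ∈ V, u * v = v * u → v = 1)
    (h5 : ∀ g ∈ S, ∀ v ∈ V, (g * x * g⁻¹) * v = v * (g * x * g⁻¹) → v = 1)
    (h6 : S ≠ ⊥)
    (h7 : Nat.Coprime (Nat.card S) (Nat.card V)) : V = ⊥ := by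
  classical
  have : Fintype S := Fintype.ofFinite S
  let _ : CommGroup ↥V :=
    { (inferInstance : Group ↥V) with mul_comm := fun a b => Subtype.ext (hVc a a.2 b b.2) }
  let c : G →* MulAut ↥V := MulAut.conjNormal
  have hc_apply : ∀ (g : G) (v : ↥V), ((c g v : ↥V) : G) = g * v * g⁻¹ := fun g v => rfl
  -- (b) the norm over S is trivial
  have hNS : ∀ w : ↥V, ∏ g : ↥S, c (g : G) w = 1 := by
    intro w
    obtain ⟨u, hu⟩ := (Subgroup.ne_bot_iff_exists_ne_one).mp h6
    set P : ↥V := ∏ g : ↥S, c (g : G) w with hP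
    have hfix : c (u : G) P = P := by
      rw [hP, map_prod]
      have : ∀ g : ↥S, c (u : G) (c (g : G) w) = c ((u * g : ↥S) : G) w := by
        intro g
        rw [Subgroup.coe_mul, map_mul]
        rfl
      simp_rw [this]
      exact (Group.mulLeft_bijective u).prod_comp (fun g : ↥S => c (g : G) w)
    have h := congrArg (fun t : ↥V => (t : G)) hfix
    simp only [hc_apply] at h
    have hcomm : (u : G) * (P : G) = (P : G) * (u : G) := by
      calc (u : G) * (P : G) = ((u : G) * P * (u : G)⁻¹) * u := by group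
        _ = (P : G) * u := by rw [h]
    have hu1 : (u : G) ≠ 1 := fun h1 => hu (Subtype.ext h1)
    have := h4 u u.2 hu1 P P.2 hcomm
    exact Subtype.ext this
  -- (c) the norm over a cyclic group of order r is trivial
  have hNX : ∀ g ∈ S, ∀ v : ↥V, ∏ i ∈ range r, c ((g * x * g⁻¹) ^ i) v = 1 := by
    intro g hg v
    obtain ⟨z, hzdef⟩ : ∃ z, z = g * x * g⁻¹ := ⟨_, rfl⟩
    rw [← hzdef]
    have hz : orderOf z = r := by
      rw [← hx, hzdef]
      exact (MulAut.conj g).orderOf_eq x
    set P : ↥V := ∏ i ∈ range r, c (z ^ i) v with hP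
    have hfix : c z P = P := by
      rw [hP, map_prod]
      have : ∀ i ∈ range r, c z (c (z ^ i) v) = c (z ^ (i + 1)) v := by
        intro i _
        rw [pow_succ', map_mul]
        rfl
      rw [prod_congr rfl this]
      have e1 := prod_range_succ' (fun i => c (z ^ i) v) r
      have e2 := prod_range_succ (fun i => c (z ^ i) v) r
      have e3 : c (z ^ r) v = c (z ^ 0) v := by
        rw [← hz, pow_orderOf_eq_one, pow_zero]
      rw [e1, e3] at e2
      exact mul_right_cancel e2
    have h := congrArg (fun t : ↥V => (t : G)) hfix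
    simp only [hc_apply] at h
    have hcomm : z * (P : G) = (P : G) * z := by
      calc z * (P : G) = (z * P * z⁻¹) * z := by group
        _ = (P : G) * z := by rw [h]
    rw [hzdef] at hcomm
    exact Subtype.ext (h5 g hg P P.2 hcomm)
  -- main double counting
  rw [Subgroup.eq_bot_iff_forall]
  intro v0 hv0
  set v : ↥V := ⟨v0, hv0⟩ with hv
  have hW1 : ∏ g : ↥S, ∏ i ∈ range r, c ((g : G) * x ^ i * (g : G)⁻¹) v = 1 := by
    apply prod_eq_one
    intro g _
    have := hNX (g : G) g.2 v
    simp_rw [conj_pow] at this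
    exact this
  rw [prod_comm] at hW1
  obtain ⟨r', hr'⟩ : ∃ r', r = r' + 1 := ⟨r - 1, by have := hr.one_lt; omega⟩
  rw [hr', prod_range_succ'] at hW1
  have hT : ∀ i ∈ range r', ∏ g : ↥S, c ((g : G) * x ^ (i + 1) * (g : G)⁻¹) v = 1 := by
    intro i hi
    rw [mem_range] at hi
    set y := x ^ (i + 1) with hy
    have hyN : y ∈ Subgroup.normalizer (S : Set G) := Subgroup.pow_mem _ hxS _
    have hcop : Nat.Coprime (i + 1) (orderOf x) := by
      rw [hx]
      apply Nat.Coprime.symm
      rw [Nat.Prime.coprime_iff_not_dvd hr]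
      exact Nat.not_dvd_of_pos_of_lt (by omega) (by omega)
    obtain ⟨m, hm⟩ := exists_pow_eq_self_of_coprime hcop
    let φ : ↥S → ↥S := fun g =>
      ⟨(g : G) * y * (g : G)⁻¹ * y⁻¹, by
        have h1 : y * (g : G)⁻¹ * y⁻¹ ∈ S :=
          (Subgroup.mem_normalizer_iff.mp hyN _).mp (S.inv_mem g.2)
        have : (g : G) * y * (g : G)⁻¹ * y⁻¹ = (g : G) * (y * (g : G)⁻¹ * y⁻¹) := by group
        rw [this]
        exact S.mul_mem g.2 h1⟩
    have hφinj : Function.Injective φ := by
      intro g h hgh
      have h1 : (g : G) * y * (g : G)⁻¹ * y⁻¹ = (h : G) * y * (h : G)⁻¹ * y⁻¹ :=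
        congrArg Subtype.val hgh
      have h2 : ((h : G)⁻¹ * g) * y = y * ((h : G)⁻¹ * g) := by
        have h1' : (g : G) * y * (g : G)⁻¹ = (h : G) * y * (h : G)⁻¹ := mul_right_cancel h1
        calc ((h : G)⁻¹ * g) * y = (h : G)⁻¹ * ((g : G) * y * (g : G)⁻¹) * g := by group
          _ = (h : G)⁻¹ * ((h : G) * y * (h : G)⁻¹) * g := by rw [h1']
          _ = y * ((h : G)⁻¹ * g) := by group
      have h3' : ((h : G)⁻¹ * g) * x = x * ((h : G)⁻¹ * g) := by
        have : Commute ((h : G)⁻¹ * g) (y ^ m) := (show Commute _ y from h2).pow_right m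
        rw [hm] at this
        exact this
      have := h3 _ (S.mul_mem (S.inv_mem h.2) g.2) h3'
      exact Subtype.ext (inv_mul_eq_one.mp this).symm
    have hφbij : Function.Bijective φ := Finite.injective_iff_bijective.mp hφinj
    have hrew : ∀ g : ↥S, c ((g : G) * y * (g : G)⁻¹) v = c ((φ g : ↥S) : G) (c y v) := by
      intro g
      have : (g : G) * y * (g : G)⁻¹ = ((φ g : ↥S) : G) * y := by
        show _ = (g : G) * y * (g : G)⁻¹ * y⁻¹ * y
        group
      rw [this, map_mul]
      rfl
    simp_rw [hrew]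
    rw [hφbij.prod_comp (fun g : ↥S => c (g : G) (c y v))]
    exact hNS (c y v)
  rw [prod_eq_one hT, one_mul] at hW1
  simp only [pow_zero, mul_one, mul_inv_cancel, map_one, MulAut.one_apply, prod_const,
    card_univ] at hW1
  have hvS : v ^ Nat.card ↥S = 1 := by
    rw [Nat.card_eq_fintype_card]
    exact hW1
  have hvV : v ^ Nat.card ↥V = 1 := pow_card_eq_one'
  have := pow_gcd_eq_one.mpr ⟨hvS, hvV⟩
  rw [h7, pow_one] at this
  exact congrArg Subtype.val this


/-- In a nilpotent subgroup `Y`, an `r`-subgroup commutes with any subgroup of order prime to `r`. -/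
theorem le_centralizer_of_nilpotent_coprime {G : Type*} [Group G] [Finite G] {r : ℕ}
    [hr : Fact r.Prime] {Y R K : Subgroup G} (hY : Group.IsNilpotent Y) (hRY : R ≤ Y) (hKY : K ≤ Y)
    (hR : IsPGroup r R) (hK : (Nat.card K).Coprime r) :
    K ≤ Subgroup.centralizer (R : Set G) := by
  have htop : (Subgroup.centralizer (R : Set G)).subgroupOf K = ⊤ := by
    apply Cfsg.Agent.Lib.Helper14.eq_top_of_forall_sylow_le
    intro s hs
    haveI := hs
    let T : Sylow s K := default
    refine ⟨T, ?_⟩
    by_cases hsr : s = r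
    · subst hsr
      have hT : (T : Subgroup K) = ⊥ := by
        rcases T.isPGroup'.card_eq_or_dvd with h1 | h2
        · exact Subgroup.card_eq_one.mp h1
        · exfalso
          have h3 : s ∣ Nat.card K := h2.trans (Subgroup.card_subgroup_dvd_card _)
          have := Nat.Coprime.eq_one_of_dvd hK.symm h3
          exact hs.out.one_lt.ne' this
      rw [hT]; exact bot_le
    · intro t ht
      rw [Subgroup.mem_subgroupOf]
      have hle : (T : Subgroup K).map K.subtype ≤ Y := (Subgroup.map_subtype_le _).trans hKY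
      have := Cfsg.Agent.Lib.Helper14.le_centralizer_of_nilpotent_of_pgroups (q := r) (r := s)
        (Ne.symm hsr) hY hRY hle hR (T.isPGroup'.map _)
      exact this ⟨t, ht, rfl⟩
  intro k hk
  have : (⟨k, hk⟩ : K) ∈ (Subgroup.centralizer (R : Set G)).subgroupOf K := by
    rw [htop]; trivial
  rwa [Subgroup.mem_subgroupOf] at this

/-- A subgroup `E` of a finite CN-group acting without fixed points (by conjugation) on a nontrivial
normal abelian subgroup `V` of coprime order is nilpotent. -/
theorem isNilpotent_of_fpf_aux {Γ : Type u} [Group Γ] [Finite Γ] (hCN : Cfsg.IsCNGroup Γ)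
    (V : Subgroup Γ) [V.Normal] (hVc : ∀ a ∈ V, ∀ b ∈ V, a * b = b * a) (hV : V ≠ ⊥) :
    ∀ n : ℕ, ∀ E : Subgroup Γ, Nat.card E = n → (Nat.card E).Coprime (Nat.card V) →
      (∀ e ∈ E, e ≠ 1 → ∀ v ∈ V, e * v = v * e → v = 1) → Group.IsNilpotent E := by
  intro n
  induction n using Nat.strong_induction_on with
  | _ n ih =>
    intro E hcard hcop hfpf
    by_contra hnil
    have hsub : ∀ K : Subgroup E, K ≠ ⊤ → Group.IsNilpotent K := by
      intro K hK
      have hlt : Nat.card (K.map E.subtype) < n := by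
        rw [← hcard, Subgroup.card_map_of_injective E.subtype_injective]
        have h1 : Nat.card K ≤ Nat.card E := Subgroup.card_le_card_group K
        rcases h1.lt_or_eq with h | h
        · exact h
        · exact absurd (Subgroup.card_eq_iff_eq_top K |>.mp h) hK
      have hle : K.map E.subtype ≤ E := Subgroup.map_subtype_le K
      have h := ih _ hlt (K.map E.subtype) rfl
        (Nat.Coprime.coprime_dvd_left (Subgroup.card_dvd_of_le hle) hcop)
        (fun e he => hfpf e (hle he))
      exact isNilpotent_of_inj (K.equivMapOfInjective E.subtype E.subtype_injective).toMonoidHom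
        (MulEquiv.injective _) h
    obtain ⟨p, q, hp, hq, hpq, P, Q, hPc, hQn, hPQ⟩ :=
      Cfsg.Agent.Lib.Helper12.schmidt_structure hnil hsub
    haveI : Fact p.Prime := ⟨hp⟩
    haveI : Fact q.Prime := ⟨hq⟩
    have hE : Cfsg.IsCNGroup E := isCNGroup_subgroup hCN E
    obtain ⟨b, hb⟩ := hPc.exists_generator
    set b₀ : E := (b : E) with hb₀
    have hPmem : ∀ y ∈ (P : Subgroup E), y ∈ Subgroup.zpowers b₀ := by
      intro y hy
      obtain ⟨k, hk⟩ := Subgroup.mem_zpowers_iff.mp (hb ⟨y, hy⟩)
      refine Subgroup.mem_zpowers_iff.mpr ⟨k, ?_⟩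
      have := congrArg Subtype.val hk
      simpa using this
    -- (F0)
    have F0 : ∀ z : E, z ≠ 1 → (∀ u ∈ (Q : Subgroup E), u * z = z * u) → b₀ * z = z * b₀ → False := by
      intro z hz1 hzQ hzb
      have htop : Subgroup.centralizer ({z} : Set E) = ⊤ := by
        rw [eq_top_iff, ← hPQ]
        apply sup_le
        · intro y hy
          obtain ⟨k, rfl⟩ := Subgroup.mem_zpowers_iff.mp (hPmem y hy)
          rw [Subgroup.mem_centralizer_iff]
          intro w hw; rw [Set.mem_singleton_iff] at hw; subst hw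
          exact ((show Commute b₀ w from hzb).zpow_left k).eq.symm
        · intro y hy
          rw [Subgroup.mem_centralizer_iff]
          intro w hw; rw [Set.mem_singleton_iff] at hw; subst hw
          exact (hzQ y hy).symm
      have h := hE z hz1
      rw [htop] at h
      haveI := h
      exact hnil (Group.nilpotent_of_mulEquiv (Subgroup.topEquiv : (⊤ : Subgroup E) ≃* E))
    -- (F1)
    have hQne : (Q : Subgroup E) ≠ ⊥ := by
      intro hQ
      rw [hQ, sup_bot_eq] at hPQ
      have hsurj : Function.Surjective (P : Subgroup E).subtype := by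
        intro y
        exact ⟨⟨y, by rw [hPQ]; trivial⟩, rfl⟩
      haveI : IsCyclic E := isCyclic_of_surjective (P : Subgroup E).subtype hsurj
      letI : CommGroup E := IsCyclic.commGroup
      exact hnil inferInstance
    -- (F2)
    have hb1 : b₀ ≠ 1 := by
      intro h1
      have hP : (P : Subgroup E) = ⊥ := by
        rw [eq_bot_iff]
        intro y hy
        obtain ⟨k, rfl⟩ := Subgroup.mem_zpowers_iff.mp (hPmem y hy)
        rw [h1, one_zpow]; exact Subgroup.mem_bot.mpr rfl
      rw [hP, bot_sup_eq] at hPQ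
      have hsurj : Function.Surjective (Q : Subgroup E).subtype := by
        intro y
        exact ⟨⟨y, by rw [hPQ]; trivial⟩, rfl⟩
      have hEq : IsPGroup q E := Q.isPGroup'.of_surjective _ hsurj
      exact hnil hEq.isNilpotent
    have hbP : IsPGroup p (Subgroup.zpowers b₀) :=
      P.isPGroup'.to_le (Subgroup.zpowers_le.mpr b.2)
    -- (F3)
    have F3 : ∀ u ∈ (Q : Subgroup E), u ≠ 1 → u * b₀ = b₀ * u → False := by
      intro u hu hu1 hub
      obtain ⟨z, hzQ, hz1, hzc⟩ := exists_central_of_pgroup (Q : Subgroup E) Q.isPGroup' hQne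
      have hY := hE u hu1
      have hbY : Subgroup.zpowers b₀ ≤ Subgroup.centralizer ({u} : Set E) := by
        rw [Subgroup.zpowers_le, Subgroup.mem_centralizer_iff]
        intro w hw; rw [Set.mem_singleton_iff] at hw; subst hw
        exact hub
      have hzY : Subgroup.zpowers z ≤ Subgroup.centralizer ({u} : Set E) := by
        rw [Subgroup.zpowers_le, Subgroup.mem_centralizer_iff]
        intro w hw; rw [Set.mem_singleton_iff] at hw; subst hw
        exact hzc w hu
      have hzq : IsPGroup q (Subgroup.zpowers z) := Q.isPGroup'.to_le (Subgroup.zpowers_le.mpr hzQ)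
      have hcomm := Cfsg.Agent.Lib.Helper14.le_centralizer_of_nilpotent_of_pgroups (q := p) (r := q)
        hpq hY hbY hzY hbP hzq
      have h1 := hcomm (Subgroup.mem_zpowers z)
      rw [Subgroup.mem_centralizer_iff] at h1
      exact F0 z hz1 hzc (h1 b₀ (Subgroup.mem_zpowers b₀))
    -- (F4)
    have hpord : p ∣ orderOf b₀ := by
      obtain ⟨k, hk⟩ := (IsPGroup.iff_orderOf.mp hbP) ⟨b₀, Subgroup.mem_zpowers b₀⟩
      rw [Subgroup.orderOf_mk] at hk
      have hk0 : k ≠ 0 := by
        intro h0
        rw [h0, pow_zero, orderOf_eq_one_iff] at hk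
        exact hb1 hk
      rw [hk]; exact dvd_pow_self p hk0
    set x : E := b₀ ^ (orderOf b₀ / p) with hxdef
    have hox : orderOf x = p := orderOf_pow_orderOf_div (orderOf_pos b₀).ne' hpord
    have hx1 : x ≠ 1 := by
      intro h
      rw [h, orderOf_one] at hox
      exact hp.one_lt.ne hox
    have F4 : ∀ u ∈ (Q : Subgroup E), u * x = x * u → u = 1 := by
      intro u hu hux
      by_contra hu1
      have hY := hE x hx1
      have hbY : Subgroup.zpowers b₀ ≤ Subgroup.centralizer ({x} : Set E) := by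
        rw [Subgroup.zpowers_le, Subgroup.mem_centralizer_iff]
        intro w hw; rw [Set.mem_singleton_iff] at hw; subst hw
        exact ((Commute.refl b₀).pow_left _).eq
      have huY : Subgroup.zpowers u ≤ Subgroup.centralizer ({x} : Set E) := by
        rw [Subgroup.zpowers_le, Subgroup.mem_centralizer_iff]
        intro w hw; rw [Set.mem_singleton_iff] at hw; subst hw
        exact hux.symm
      have huq : IsPGroup q (Subgroup.zpowers u) := Q.isPGroup'.to_le (Subgroup.zpowers_le.mpr hu)
      have hcomm := Cfsg.Agent.Lib.Helper14.le_centralizer_of_nilpotent_of_pgroups (q := p) (r := q)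
        hpq hY hbY huY hbP huq
      have h1 := hcomm (Subgroup.mem_zpowers u)
      rw [Subgroup.mem_centralizer_iff] at h1
      exact F3 u hu hu1 (h1 b₀ (Subgroup.mem_zpowers b₀)).symm
    -- (F5)
    apply hV
    have hSmem : ∀ s : Γ, s ∈ (Q : Subgroup E).map E.subtype ↔ ∃ h : s ∈ E, (⟨s, h⟩ : E) ∈ (Q : Subgroup E) := by
      intro s
      constructor
      · rintro ⟨s', hs', rfl⟩
        exact ⟨s'.2, hs'⟩
      · rintro ⟨h, hs⟩
        exact ⟨⟨s, h⟩, hs, rfl⟩
    refine frobenius_action' V hVc ((Q : Subgroup E).map E.subtype) (x : Γ) p hp ?_ ?_ ?_ ?_ ?_ ?_ ?_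
    · rw [Subgroup.mem_normalizer_iff]
      intro h
      rw [hSmem, hSmem]
      constructor
      · rintro ⟨hE', hQ'⟩
        refine ⟨E.mul_mem (E.mul_mem x.2 hE') (E.inv_mem x.2), ?_⟩
        have := hQn.conj_mem ⟨h, hE'⟩ hQ' x
        exact this
      · rintro ⟨hE', hQ'⟩
        have hhE : h ∈ E := by
          have : h = (x : Γ)⁻¹ * ((x : Γ) * h * (x : Γ)⁻¹) * (x : Γ) := by group
          rw [this]
          exact E.mul_mem (E.mul_mem (E.inv_mem x.2) hE') x.2
        refine ⟨hhE, ?_⟩
        have := hQn.conj_mem _ hQ' x⁻¹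
        have heq : x⁻¹ * ⟨(x : Γ) * h * (x : Γ)⁻¹, hE'⟩ * x⁻¹⁻¹ = (⟨h, hhE⟩ : E) := by
          apply Subtype.ext
          simp only [Subgroup.coe_mul, InvMemClass.coe_inv]
          group
        rwa [heq] at this
    · rw [Subgroup.orderOf_coe]; exact hox
    · intro u hu hux
      rw [hSmem] at hu
      obtain ⟨huE, huQ⟩ := hu
      have := F4 ⟨u, huE⟩ huQ (Subtype.ext hux)
      exact congrArg Subtype.val this
    · intro u hu hu1 v hv huv
      rw [hSmem] at hu
      exact hfpf u hu.1 hu1 v hv huv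
    · intro g hg v hv hgv
      rw [hSmem] at hg
      have hmem : g * (x : Γ) * g⁻¹ ∈ E := E.mul_mem (E.mul_mem hg.1 x.2) (E.inv_mem hg.1)
      have hne : g * (x : Γ) * g⁻¹ ≠ 1 := by
        intro h
        apply hx1
        apply Subtype.ext
        have : (x : Γ) = g⁻¹ * (g * (x : Γ) * g⁻¹) * g := by group
        rw [this, h]; simp
      exact hfpf _ hmem hne v hv hgv
    · intro h
      rw [Subgroup.map_eq_bot_iff_of_injective _ E.subtype_injective] at h
      exact hQne h
    · exact Nat.Coprime.coprime_dvd_left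
        (Subgroup.card_dvd_of_le (Subgroup.map_subtype_le _)) hcop

/-- The normal Sylow subgroup of a finite nilpotent group contains every `p`-subgroup. -/
theorem le_sylow_of_isNilpotent {H : Type*} [Group H] [Finite H] [Group.IsNilpotent H]
    {p : ℕ} [Fact p.Prime] (P : Sylow p H) (R : Subgroup H) (hR : IsPGroup p R) :
    R ≤ (P : Subgroup H) := by
  obtain ⟨Q, hQ⟩ := hR.exists_le_sylow
  obtain ⟨h, hh⟩ := MulAction.exists_smul_eq H P Q
  rw [Sylow.smul_eq_of_normal] at hh
  rw [hh]; exact hQ

theorem sylow_le_fittingHall {G : Type u} [Group G] [Finite G] {r : ℕ} [Fact r.Prime]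
    (S : Sylow r G) (hS : (S : Subgroup G).Normal) : (S : Subgroup G) ≤ Cfsg.fittingHall G :=
  le_sSup ⟨hS, S.isPGroup'.isNilpotent, S.card_coprime_index⟩

theorem fittingHall_isNilpotent (G : Type u) [Group G] [Finite G] :
    Group.IsNilpotent (Cfsg.fittingHall G) := by
  have hle : Cfsg.fittingHall G ≤ Cfsg.fittingSubgroup G := by
    apply sSup_le
    intro N hN
    exact le_sSup ⟨hN.1, hN.2.1⟩
  exact isNilpotent_of_inj (Subgroup.inclusion hle) (Subgroup.inclusion_injective hle)
    Cfsg.Agent.Lib.Helper76.fittingSubgroup_isNilpotent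

/-- In a finite CN-group, a complement `E` of the largest normal nilpotent Hall subgroup `H`
acts on `H` without fixed points. -/
theorem fpf_of_complement_fittingHall {G : Type u} [Group G] [Finite G] (hCN : Cfsg.IsCNGroup G)
    (E : Subgroup G) (hc : Subgroup.IsComplement' (Cfsg.fittingHall G) E) :
    ∀ e ∈ E, e ≠ 1 → ∀ h ∈ Cfsg.fittingHall G, e * h = h * e → h = 1 := by
  classical
  set H := Cfsg.fittingHall G with hHdef
  have hHnil : Group.IsNilpotent H := fittingHall_isNilpotent G
  haveI := hHnil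
  have hHn : H.Normal := Cfsg.fittingHall_normal G
  have hcop : (Nat.card H).Coprime (Nat.card E) := by
    have h1 := Cfsg.Agent.Lib.Helper31.fittingHall_coprime G
    rwa [hc.symm.index_eq_card] at h1
  intro e₀ he₀E he₀1 h₀ hh₀H hcomm₀
  by_contra hh₀1
  -- reduce to prime orders
  have hord : orderOf e₀ ≠ 1 := by rwa [Ne, orderOf_eq_one_iff]
  obtain ⟨r, hr, hrd⟩ := Nat.exists_prime_and_dvd hord
  haveI : Fact r.Prime := ⟨hr⟩
  set e := e₀ ^ (orderOf e₀ / r) with hedef
  have hoe : orderOf e = r := orderOf_pow_orderOf_div (orderOf_pos e₀).ne' hrd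
  have heE : e ∈ E := E.pow_mem he₀E _
  have he1 : e ≠ 1 := by
    intro h; rw [h, orderOf_one] at hoe; exact hr.one_lt.ne hoe
  have hord' : orderOf h₀ ≠ 1 := by rwa [Ne, orderOf_eq_one_iff]
  obtain ⟨q, hq, hqd⟩ := Nat.exists_prime_and_dvd hord'
  haveI : Fact q.Prime := ⟨hq⟩
  set h := h₀ ^ (orderOf h₀ / q) with hhdef
  have hoh : orderOf h = q := orderOf_pow_orderOf_div (orderOf_pos h₀).ne' hqd
  have hhH : h ∈ H := H.pow_mem hh₀H _
  have hh1 : h ≠ 1 := by
    intro h'; rw [h', orderOf_one] at hoh; exact hq.one_lt.ne hoh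
  have hcomm : e * h = h * e :=
    ((show Commute e₀ h₀ from hcomm₀).pow_pow _ _).eq
  have hrE : r ∣ Nat.card E := by
    have := Subgroup.orderOf_dvd_natCard E heE
    rwa [hoe] at this
  have hqH : q ∣ Nat.card H := by
    have := Subgroup.orderOf_dvd_natCard H hhH
    rwa [hoh] at this
  have hHr : (Nat.card H).Coprime r := Nat.Coprime.coprime_dvd_right hrE hcop
  have hqr : q ≠ r := by
    intro hqr
    rw [hqr] at hqH
    have := Nat.Coprime.eq_one_of_dvd hHr.symm hqH
    exact hr.one_lt.ne' this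
  have hep : IsPGroup r (Subgroup.zpowers e) :=
    IsPGroup.of_card (n := 1) (by rw [Nat.card_zpowers, hoe, pow_one])
  -- Sylow q of H
  let Q : Sylow q H := default
  set QG : Subgroup G := (Q : Subgroup H).map H.subtype with hQG
  have hQGp : IsPGroup q QG := Q.isPGroup'.map _
  have hQGH : QG ≤ H := Subgroup.map_subtype_le _
  have hhQ : h ∈ QG := by
    have hz : IsPGroup q (Subgroup.zpowers (⟨h, hhH⟩ : H)) :=
      IsPGroup.of_card (n := 1) (by rw [Nat.card_zpowers, Subgroup.orderOf_mk, hoh, pow_one])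
    have := le_sylow_of_isNilpotent Q _ hz (Subgroup.mem_zpowers _)
    exact ⟨⟨h, hhH⟩, this, rfl⟩
  have hQGne : QG ≠ ⊥ := by
    intro hbot; rw [hbot, Subgroup.mem_bot] at hhQ; exact hh1 hhQ
  obtain ⟨z, hzQ, hz1, hzc⟩ := exists_central_of_pgroup QG hQGp hQGne
  have hzH : z ∈ H := hQGH hzQ
  -- e commutes with z
  have hez : e * z = z * e := by
    have hY := hCN h hh1
    have heY : Subgroup.zpowers e ≤ Subgroup.centralizer ({h} : Set G) := by
      rw [Subgroup.zpowers_le, Subgroup.mem_centralizer_iff]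
      intro w hw; rw [Set.mem_singleton_iff] at hw; subst hw
      exact hcomm.symm
    have hzY : Subgroup.zpowers z ≤ Subgroup.centralizer ({h} : Set G) := by
      rw [Subgroup.zpowers_le, Subgroup.mem_centralizer_iff]
      intro w hw; rw [Set.mem_singleton_iff] at hw; subst hw
      exact hzc h hhQ
    have hzq : IsPGroup q (Subgroup.zpowers z) := hQGp.to_le (Subgroup.zpowers_le.mpr hzQ)
    have hc1 := Cfsg.Agent.Lib.Helper14.le_centralizer_of_nilpotent_of_pgroups (q := q) (r := r)
      hqr hY hzY heY hzq hep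
    have h1 := hc1 (Subgroup.mem_zpowers e)
    rw [Subgroup.mem_centralizer_iff] at h1
    exact (h1 z (Subgroup.mem_zpowers z)).symm
  -- z is central in H
  have hzcen : ∀ k ∈ H, k * z = z * k := by
    obtain ⟨z₀, hz₀Q, hz₀⟩ := hzQ
    have hcen : z₀ ∈ Subgroup.center H := by
      apply mem_center_of_sylow_central Q z₀ hz₀Q
      intro y hy
      apply Subtype.ext
      have := hzc (y : G) ⟨y, hy, rfl⟩
      rw [← hz₀] at this
      exact this
    intro k hk
    have := Subgroup.mem_center_iff.mp hcen ⟨k, hk⟩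
    have h2 := congrArg Subtype.val this
    rw [← hz₀]
    exact h2
  -- e centralizes H
  have hY2 := hCN z hz1
  have hHY2 : H ≤ Subgroup.centralizer ({z} : Set G) := by
    intro k hk
    rw [Subgroup.mem_centralizer_iff]
    intro w hw; rw [Set.mem_singleton_iff] at hw; subst hw
    exact (hzcen k hk).symm
  have heY2 : Subgroup.zpowers e ≤ Subgroup.centralizer ({z} : Set G) := by
    rw [Subgroup.zpowers_le, Subgroup.mem_centralizer_iff]
    intro w hw; rw [Set.mem_singleton_iff] at hw; subst hw
    exact hez.symm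
  have heH : H ≤ Subgroup.centralizer ((Subgroup.zpowers e : Subgroup G) : Set G) :=
    le_centralizer_of_nilpotent_coprime hY2 heY2 hHY2 hep hHr
  -- C = C_G(H)
  set C : Subgroup G := Subgroup.centralizer (H : Set G) with hCdef
  haveI hCn : C.Normal := Subgroup.normal_centralizer
  have hCY2 : C ≤ Subgroup.centralizer ({z} : Set G) :=
    Subgroup.centralizer_le (by
      intro w hw; rw [Set.mem_singleton_iff] at hw; subst hw; exact hzH)
  have hCnil : Group.IsNilpotent C :=
    isNilpotent_of_inj (Subgroup.inclusion hCY2) (Subgroup.inclusion_injective hCY2) hY2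
  haveI := hCnil
  have heC : e ∈ C := by
    rw [hCdef, Subgroup.mem_centralizer_iff]
    intro k hk
    have := heH hk
    rw [Subgroup.mem_centralizer_iff] at this
    exact (this e (Subgroup.mem_zpowers e)).symm
  let R₀ : Sylow r C := default
  have hR₀n : (R₀ : Subgroup C).Normal := inferInstance
  haveI hR₀char : (R₀ : Subgroup C).Characteristic := Sylow.characteristic_of_normal R₀ hR₀n
  set R₀G : Subgroup G := (R₀ : Subgroup C).map C.subtype with hR₀G
  haveI hR₀Gn : R₀G.Normal := ConjAct.normal_of_characteristic_of_normal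
  have hR₀Gp : IsPGroup r R₀G := R₀.isPGroup'.map _
  have hR₀GC : R₀G ≤ C := Subgroup.map_subtype_le _
  have heR₀ : e ∈ R₀G := by
    have hz : IsPGroup r (Subgroup.zpowers (⟨e, heC⟩ : C)) :=
      IsPGroup.of_card (n := 1) (by rw [Nat.card_zpowers, Subgroup.orderOf_mk, hoe, pow_one])
    have := le_sylow_of_isNilpotent R₀ _ hz (Subgroup.mem_zpowers _)
    exact ⟨⟨e, heC⟩, this, rfl⟩
  -- Sylow r of G
  let R : Sylow r G := default
  have hR₀R : R₀G ≤ (R : Subgroup G) := by
    have h := hR₀Gp.to_sup_of_normal_left R.isPGroup'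
    have h2 := R.is_maximal' h le_sup_right
    rw [← h2]; exact le_sup_left
  have hN'ne : R₀G.subgroupOf (R : Subgroup G) ≠ ⊥ := by
    intro hbot
    have hmem : (⟨e, hR₀R heR₀⟩ : (R : Subgroup G)) ∈ R₀G.subgroupOf (R : Subgroup G) := by
      rw [Subgroup.mem_subgroupOf]; exact heR₀
    rw [hbot, Subgroup.mem_bot] at hmem
    exact he1 (congrArg Subtype.val hmem)
  obtain ⟨u, huN, hucen, hu1⟩ :=
    exists_mem_center_of_normal (G := (R : Subgroup G)) R.isPGroup' (R₀G.subgroupOf R) hN'ne
  have huR₀ : (u : G) ∈ R₀G := by rwa [Subgroup.mem_subgroupOf] at huN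
  have huG1 : (u : G) ≠ 1 := fun h => hu1 (Subtype.ext h)
  have huC : (u : G) ∈ C := hR₀GC huR₀
  have hY3 := hCN (u : G) huG1
  have hRY3 : (R : Subgroup G) ≤ Subgroup.centralizer ({(u : G)} : Set G) := by
    intro s hs
    rw [Subgroup.mem_centralizer_iff]
    intro w hw; rw [Set.mem_singleton_iff] at hw; subst hw
    have := Subgroup.mem_center_iff.mp hucen ⟨s, hs⟩
    exact (congrArg Subtype.val this).symm
  have hHY3 : H ≤ Subgroup.centralizer ({(u : G)} : Set G) := by
    intro k hk
    rw [Subgroup.mem_centralizer_iff]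
    intro w hw; rw [Set.mem_singleton_iff] at hw; subst hw
    rw [hCdef, Subgroup.mem_centralizer_iff] at huC
    exact (huC k hk).symm
  have hHR : H ≤ Subgroup.centralizer ((R : Subgroup G) : Set G) :=
    le_centralizer_of_nilpotent_coprime hY3 hRY3 hHY3 R.isPGroup' hHr
  have hRC : (R : Subgroup G) ≤ C := by
    intro s hs
    rw [hCdef, Subgroup.mem_centralizer_iff]
    intro k hk
    have := hHR hk
    rw [Subgroup.mem_centralizer_iff] at this
    exact (this s hs).symm
  have hRR₀ : (R : Subgroup G) ≤ R₀G := by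
    intro s hs
    have h1 : (R : Subgroup G).subgroupOf C ≤ (R₀ : Subgroup C) :=
      le_sylow_of_isNilpotent R₀ _ R.isPGroup'.comap_subtype
    exact ⟨⟨s, hRC hs⟩, h1 (by rw [Subgroup.mem_subgroupOf]; exact hs), rfl⟩
  have hReq : (R : Subgroup G) = R₀G := le_antisymm hRR₀ hR₀R
  have hRn : (R : Subgroup G).Normal := by rw [hReq]; exact hR₀Gn
  have hRH : (R : Subgroup G) ≤ H := sylow_le_fittingHall R hRn
  have heH' : e ∈ H := hRH (hR₀R heR₀)
  have : e ∈ H ⊓ E := Subgroup.mem_inf.mpr ⟨heH', heE⟩
  rw [disjoint_iff.mp hc.disjoint, Subgroup.mem_bot] at this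
  exact he1 this

end Cfsg.Agent.Lib.Helper33
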