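import Cfsg.Prelude.Def_OddOrderLocal

set_option autoImplicit false

namespace Cfsg.Agent.Lib.Helper33

open Cfsg

variable {G : Type*} [Group G]

theorem puigStep_antitone {X Y : Subgroup G} (h : X ≤ Y) : puigStep Y ≤ puigStep X := by
  unfold puigStep
  apply sSup_le_sSup
  rintro A ⟨hA, hY⟩
  exact ⟨hA, h.trans hY⟩

theorem le_puigStep {X A : Subgroup G} (hA : IsMulCommutative A)
    (hX : X ≤ Subgroup.normalizer (A : Set G)) : A ≤ puigStep X :=
  le_sSup ⟨hA, hX⟩

theorem puigStep_bot : puigStep (⊥ : Subgroup G) = ⊤ := by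
  rw [eq_top_iff]
  intro g _
  have : Subgroup.zpowers g ≤ puigStep (⊥ : Subgroup G) :=
    le_puigStep (Subgroup.zpowers_isMulCommutative g) bot_le
  exact this (Subgroup.mem_zpowers g)

theorem puigSeq_zero : puigSeq G 0 = ⊥ := rfl

theorem puigSeq_succ (n : ℕ) : puigSeq G (n + 1) = puigStep (puigSeq G n) := rfl

theorem puigSeq_one : puigSeq G 1 = ⊤ := by
  rw [puigSeq_succ, puigSeq_zero, puigStep_bot]

/-- even terms are below all later terms, odd terms are above all later terms -/
theorem puigSeq_even_odd (n : ℕ) :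
    (∀ j, puigSeq G (2 * n) ≤ puigSeq G (2 * n + j)) ∧
    (∀ j, puigSeq G (2 * n + 1 + j) ≤ puigSeq G (2 * n + 1)) := by
  induction n with
  | zero =>
    refine ⟨fun j => ?_, fun j => ?_⟩
    · simp [puigSeq_zero]
    · simp [puigSeq_one]
  | succ n ih =>
    have h1 : ∀ j, puigSeq G (2 * (n + 1)) ≤ puigSeq G (2 * (n + 1) + j) := by
      intro j
      have := puigStep_antitone (ih.2 j)
      rw [← puigSeq_succ, ← puigSeq_succ] at this
      have e1 : 2 * (n + 1) = 2 * n + 1 + 1 := by ring
      have e2 : 2 * (n + 1) + j = 2 * n + 1 + j + 1 := by ring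
      rw [e2, e1]
      exact this
    refine ⟨h1, fun j => ?_⟩
    have := puigStep_antitone (h1 j)
    rw [← puigSeq_succ, ← puigSeq_succ] at this
    have e2 : 2 * (n + 1) + 1 + j = 2 * (n + 1) + j + 1 := by ring
    rw [e2]
    exact this

theorem puigSeq_even_le_odd (n m : ℕ) : puigSeq G (2 * n) ≤ puigSeq G (2 * m + 1) := by
  rcases le_total (2 * n) (2 * m + 1) with h | h
  · obtain ⟨j, hj⟩ := Nat.exists_eq_add_of_le h
    rw [hj]
    exact (puigSeq_even_odd n).1 j
  · obtain ⟨j, hj⟩ := Nat.exists_eq_add_of_le h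
    rw [hj]
    exact (puigSeq_even_odd m).2 j

theorem puigSeq_even_mono : Monotone (fun n => puigSeq G (2 * n)) := by
  intro a b hab
  obtain ⟨j, rfl⟩ := Nat.exists_eq_add_of_le hab
  have := (puigSeq_even_odd (G := G) a).1 (2 * j)
  simpa [mul_add] using this

theorem puigSeq_odd_anti : Antitone (fun n => puigSeq G (2 * n + 1)) := by
  intro a b hab
  obtain ⟨j, rfl⟩ := Nat.exists_eq_add_of_le hab
  have := (puigSeq_even_odd (G := G) a).2 (2 * j)
  have e : 2 * (a + j) + 1 = 2 * a + 1 + 2 * j := by ring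
  simp only [e]
  exact this

theorem puigLower_le_puigSubgroup : puigLower G ≤ puigSubgroup G := by
  unfold puigLower puigSubgroup
  exact iSup_le fun n => le_iInf fun m => puigSeq_even_le_odd n m

theorem puigSeq_even_le_puigLower (n : ℕ) : puigSeq G (2 * n) ≤ puigLower G :=
  le_iSup (fun n => puigSeq G (2 * n)) n

theorem puigSubgroup_le_puigSeq_odd (n : ℕ) : puigSubgroup G ≤ puigSeq G (2 * n + 1) :=
  iInf_le (fun n => puigSeq G (2 * n + 1)) n

/-- In a finite group the Puig series stabilises. -/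
theorem puig_stabilizes [Finite G] :
    ∃ k : ℕ, ∀ n : ℕ, k ≤ n → puigSeq G (2 * n) = puigLower G ∧ puigSeq G (2 * n + 1) = puigSubgroup G := by
  obtain ⟨k1, hk1⟩ := WellFoundedGT.monotone_chain_condition
    (⟨fun n => puigSeq G (2 * n), puigSeq_even_mono⟩ : ℕ →o Subgroup G)
  obtain ⟨k2, hk2⟩ := WellFoundedLT.antitone_chain_condition (puigSeq_odd_anti (G := G))
  simp only [OrderHom.coe_mk] at hk1
  refine ⟨max k1 k2, fun n hn => ⟨?_, ?_⟩⟩
  · have hn1 : k1 ≤ n := (le_max_left _ _).trans hn
    apply le_antisymm (puigSeq_even_le_puigLower n)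
    unfold puigLower
    apply iSup_le
    intro m
    rcases le_total m n with h | h
    · exact puigSeq_even_mono h
    · have a1 := hk1 m (hn1.trans h)
      have a2 := hk1 n hn1
      rw [← a1, a2]
  · have hn2 : k2 ≤ n := (le_max_right _ _).trans hn
    apply le_antisymm _ (puigSubgroup_le_puigSeq_odd n)
    unfold puigSubgroup
    apply le_iInf
    intro m
    rcases le_total m n with h | h
    · exact puigSeq_odd_anti h
    · have a1 := hk2 m (hn2.trans h)
      have a2 := hk2 n hn2
      rw [← a1, a2]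

end Cfsg.Agent.Lib.Helper33
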