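import Mathlib
import Cfsg.Prelude
import Cfsg.Agent.Lib.Helper33.Puig

/-!
# The Puig series of a subgroup, inside the ambient group

`LL H X` is `L_H(X)` as a subgroup of the ambient group; `pseq H n` is the image in `G` of
`Cfsg.puigSeq ↥H n`.
-/

namespace Cfsg.Agent.Lib.Helper33

open Cfsg

variable {G : Type*} [Group G]

/-- `L_H(X)` inside an ambient group: generated by the abelian subgroups of `H` normalized by `X`. -/
def LL (H X : Subgroup G) : Subgroup G :=
  sSup {A : Subgroup G | A ≤ H ∧ IsMulCommutative A ∧ X ≤ Subgroup.normalizer (A : Set G)}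

theorem LL_le (H X : Subgroup G) : LL H X ≤ H :=
  sSup_le fun _ hA => hA.1

theorem le_LL {H X A : Subgroup G} (hAH : A ≤ H) (hA : IsMulCommutative A)
    (hX : X ≤ Subgroup.normalizer (A : Set G)) : A ≤ LL H X :=
  le_sSup ⟨hAH, hA, hX⟩

theorem LL_le_of_forall {H X K : Subgroup G}
    (h : ∀ A : Subgroup G, A ≤ H → IsMulCommutative A → X ≤ Subgroup.normalizer (A : Set G) → A ≤ K) :
    LL H X ≤ K :=
  sSup_le fun A hA => h A hA.1 hA.2.1 hA.2.2

theorem LL_antitone {H X X' : Subgroup G} (h : X ≤ X') : LL H X' ≤ LL H X :=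
  LL_le_of_forall fun _ hAH hA hX => le_LL hAH hA (h.trans hX)

theorem LL_mono {H H' X : Subgroup G} (h : H ≤ H') : LL H X ≤ LL H' X :=
  LL_le_of_forall fun _ hAH hA hX => le_LL (hAH.trans h) hA hX

/-- the ambient Puig series of a subgroup `H` -/
def pseq (H : Subgroup G) : ℕ → Subgroup G
  | 0 => ⊥
  | n + 1 => LL H (pseq H n)

theorem pseq_zero (H : Subgroup G) : pseq H 0 = ⊥ := rfl
theorem pseq_succ (H : Subgroup G) (n : ℕ) : pseq H (n + 1) = LL H (pseq H n) := rfl

theorem pseq_le (H : Subgroup G) (n : ℕ) : pseq H n ≤ H := by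
  cases n with
  | zero => exact bot_le
  | succ n => exact LL_le _ _

theorem map_puigStep (H : Subgroup G) (X' : Subgroup H) :
    (puigStep X').map H.subtype = LL H (X'.map H.subtype) := by
  apply le_antisymm
  · unfold puigStep
    rw [Subgroup.map_le_iff_le_comap]
    apply sSup_le
    rintro A' ⟨hA', hX'⟩
    rw [← Subgroup.map_le_iff_le_comap]
    refine le_LL (Subgroup.map_subtype_le A') inferInstance ?_
    refine le_trans (Subgroup.map_mono hX') (Subgroup.le_normalizer_map _)
  · apply LL_le_of_forall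
    intro A hAH hA hX
    have h1 : (A.subgroupOf H).map H.subtype = A := Subgroup.map_subgroupOf_eq_of_le hAH
    rw [← h1]
    apply Subgroup.map_mono
    refine Cfsg.Agent.Lib.Helper33.le_puigStep inferInstance ?_
    intro x hx
    rw [Subgroup.mem_normalizer_iff]
    intro a
    have hxN := hX ⟨x, hx, rfl⟩
    rw [Subgroup.mem_normalizer_iff] at hxN
    have := hxN (a : G)
    simpa [Subgroup.mem_subgroupOf] using this

theorem map_puigSeq (H : Subgroup G) (n : ℕ) : (puigSeq H n).map H.subtype = pseq H n := by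
  induction n with
  | zero => simp [puigSeq, pseq]
  | succ n ih => rw [puigSeq_succ, map_puigStep, ih, pseq_succ]


section equiv
variable {G' : Type*} [Group G']

theorem LL_map_le (e : G ≃* G') (H X : Subgroup G) :
    (LL H X).map e.toMonoidHom ≤ LL (H.map e.toMonoidHom) (X.map e.toMonoidHom) := by
  rw [Subgroup.map_le_iff_le_comap]
  apply LL_le_of_forall
  intro A hAH hA hX
  rw [← Subgroup.map_le_iff_le_comap]
  refine le_LL (Subgroup.map_mono hAH) inferInstance ?_
  refine le_trans (Subgroup.map_mono hX) (Subgroup.le_normalizer_map _)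

theorem LL_map (e : G ≃* G') (H X : Subgroup G) :
    (LL H X).map e.toMonoidHom = LL (H.map e.toMonoidHom) (X.map e.toMonoidHom) := by
  apply le_antisymm (LL_map_le e H X)
  have h := LL_map_le e.symm (H.map e.toMonoidHom) (X.map e.toMonoidHom)
  have hH : (H.map e.toMonoidHom).map e.symm.toMonoidHom = H := by
    rw [Subgroup.map_map]; convert Subgroup.map_id H; ext x; simp
  have hX : (X.map e.toMonoidHom).map e.symm.toMonoidHom = X := by
    rw [Subgroup.map_map]; convert Subgroup.map_id X; ext x; simp
  rw [hH, hX] at h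
  have h2 := Subgroup.map_mono (f := e.toMonoidHom) h
  rw [Subgroup.map_map] at h2
  have h3 : (LL (H.map e.toMonoidHom) (X.map e.toMonoidHom)).map
      (e.toMonoidHom.comp e.symm.toMonoidHom) = LL (H.map e.toMonoidHom) (X.map e.toMonoidHom) := by
    convert Subgroup.map_id _; ext x; simp
  rw [h3] at h2
  exact h2

theorem pseq_map (e : G ≃* G') (H : Subgroup G) (n : ℕ) :
    (pseq H n).map e.toMonoidHom = pseq (H.map e.toMonoidHom) n := by
  induction n with
  | zero => simp [pseq]
  | succ n ih => rw [pseq_succ, LL_map, ih, pseq_succ]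

end equiv

/-- the ambient Puig terms of a normal subgroup are normal -/
theorem pseq_normal (T : Subgroup G) [hT : T.Normal] (n : ℕ) : (pseq T n).Normal := by
  constructor
  intro x hx g
  have h := pseq_map (MulAut.conj g) T n
  have hT' : T.map (MulAut.conj g).toMonoidHom = T := by
    ext y
    constructor
    · rintro ⟨z, hz, rfl⟩
      exact hT.conj_mem z hz g
    · intro hy
      refine ⟨g⁻¹ * y * g, ?_, by simp [MulAut.conj_apply, mul_assoc]⟩
      have := hT.conj_mem y hy g⁻¹
      simpa using this
  rw [hT'] at h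
  have : g * x * g⁻¹ ∈ (pseq T n).map (MulAut.conj g).toMonoidHom := ⟨x, hx, rfl⟩
  rw [h] at this
  exact this

end Cfsg.Agent.Lib.Helper33
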