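import Mathlib
import Cfsg.Prelude
import Cfsg.Agent.Lib.Helper33.PuigAmb
import Cfsg.Agent.S1467

/-!
# `L_*(H)` and `L(H)` in the ambient group; the closed pair lemma
-/

namespace Cfsg.Agent.Lib.Helper33

open Cfsg

variable {G : Type*} [Group G]

/-- `L_*(H)` inside the ambient group -/
def plow (H : Subgroup G) : Subgroup G := (puigLower H).map H.subtype

/-- `L(H)` inside the ambient group -/
def pup (H : Subgroup G) : Subgroup G := (puigSubgroup H).map H.subtype

theorem exists_pseq_stable [Finite G] (H : Subgroup G) :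
    ∃ k : ℕ, ∀ n : ℕ, k ≤ n → pseq H (2 * n) = plow H ∧ pseq H (2 * n + 1) = pup H := by
  obtain ⟨k, hk⟩ := puig_stabilizes (G := H)
  refine ⟨k, fun n hn => ?_⟩
  obtain ⟨h1, h2⟩ := hk n hn
  exact ⟨by rw [← map_puigSeq, h1]; rfl, by rw [← map_puigSeq, h2]; rfl⟩

theorem pseq_even_le_plow (H : Subgroup G) (n : ℕ) : pseq H (2 * n) ≤ plow H := by
  rw [← map_puigSeq]
  exact Subgroup.map_mono (puigSeq_even_le_puigLower n)

theorem pup_le_pseq_odd (H : Subgroup G) (n : ℕ) : pup H ≤ pseq H (2 * n + 1) := by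
  rw [← map_puigSeq]
  exact Subgroup.map_mono (puigSubgroup_le_puigSeq_odd n)

theorem plow_le_pup (H : Subgroup G) : plow H ≤ pup H :=
  Subgroup.map_mono puigLower_le_puigSubgroup

theorem pup_le (H : Subgroup G) : pup H ≤ H := Subgroup.map_subtype_le _

theorem LL_plow [Finite G] (H : Subgroup G) : LL H (plow H) = pup H := by
  have := (Cfsg.Agent.S1467.result (G := H)).2.2.2.2.2.1
  unfold plow pup
  rw [← map_puigStep, this]

theorem LL_pup [Finite G] (H : Subgroup G) : LL H (pup H) = plow H := by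
  have := (Cfsg.Agent.S1467.result (G := H)).2.2.2.2.2.2
  unfold plow pup
  rw [← map_puigStep, this]

/-- **Closed pair lemma**: if `L(S) ≤ R ≤ S` then `L(R) = L(S)`. -/
theorem pup_eq_of_le [Finite G] {R S : Subgroup G} (hRS : R ≤ S) (hLR : pup S ≤ R) :
    pup R = pup S := by
  have hlowR : plow S ≤ R := (plow_le_pup S).trans hLR
  -- `(plow S, pup S)` is a closed pair for `R`
  have h1 : LL R (pup S) = plow S := by
    apply le_antisymm
    · rw [← LL_pup S]; exact LL_mono hRS
    · rw [← LL_pup S]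
      apply LL_le_of_forall
      intro A hAS hA hX
      refine le_LL ?_ hA hX
      exact (le_LL hAS hA hX).trans ((LL_pup S).le.trans hlowR)
  have h2 : LL R (plow S) = pup S := by
    apply le_antisymm
    · rw [← LL_plow S]; exact LL_mono hRS
    · rw [← LL_plow S]
      apply LL_le_of_forall
      intro A hAS hA hX
      refine le_LL ?_ hA hX
      exact (le_LL hAS hA hX).trans ((LL_plow S).le.trans hLR)
  -- extremality
  have hext : ∀ i : ℕ, pseq R (2 * i) ≤ plow S ∧ pup S ≤ pseq R (2 * i + 1) := by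
    intro i
    induction i with
    | zero =>
      refine ⟨by rw [Nat.mul_zero, pseq_zero]; exact bot_le, ?_⟩
      rw [Nat.mul_zero, zero_add, pseq_succ, pseq_zero, ← h2]
      exact LL_antitone bot_le
    | succ i ih =>
      have e1 : 2 * (i + 1) = (2 * i + 1) + 1 := by ring
      have ha : pseq R (2 * (i + 1)) ≤ plow S := by
        rw [e1, pseq_succ, ← h1]
        exact LL_antitone ih.2
      refine ⟨ha, ?_⟩
      rw [pseq_succ, ← h2]
      exact LL_antitone ha
  -- the converse sandwich
  have hconv : ∀ i : ℕ, pseq S (2 * i) ≤ pseq R (2 * i) ∧ pseq R (2 * i + 1) ≤ pseq S (2 * i + 1) := by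
    intro i
    induction i with
    | zero =>
      refine ⟨by rw [Nat.mul_zero, pseq_zero]; exact bot_le, ?_⟩
      rw [Nat.mul_zero, zero_add, pseq_succ, pseq_succ]
      exact LL_mono hRS
    | succ i ih =>
      have e1 : 2 * (i + 1) = (2 * i + 1) + 1 := by ring
      have ha : pseq S (2 * (i + 1)) ≤ pseq R (2 * (i + 1)) := by
        rw [e1, pseq_succ, pseq_succ]
        apply LL_le_of_forall
        intro A hAS hA hX
        refine le_LL ?_ hA (ih.2.trans hX)
        have h3 : A ≤ pseq S (2 * (i + 1)) := by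
          rw [e1, pseq_succ]; exact le_LL hAS hA hX
        exact h3.trans ((pseq_even_le_plow S (i + 1)).trans hlowR)
      refine ⟨ha, ?_⟩
      rw [pseq_succ, pseq_succ]
      exact (LL_antitone ha).trans (LL_mono hRS)
  obtain ⟨k₁, hk₁⟩ := exists_pseq_stable R
  obtain ⟨k₂, hk₂⟩ := exists_pseq_stable S
  have a1 := (hk₁ (max k₁ k₂) (le_max_left _ _)).2
  have a2 := (hk₂ (max k₁ k₂) (le_max_right _ _)).2
  apply le_antisymm
  · rw [← a1, ← a2]; exact (hconv _).2
  · rw [← a1]; exact (hext _).2

end Cfsg.Agent.Lib.Helper33
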