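import Mathlib
import Cfsg.Prelude
import Cfsg.Agent.Lib.Helper33.PuigClosed

/-!
# Normalizers of the ambient Puig subgroups; the centre of `L(S)`
-/

namespace Cfsg.Agent.Lib.Helper33

open Cfsg

variable {G : Type*} [Group G]

theorem map_conj_eq_of_mem_normalizer {H : Subgroup G} {g : G}
    (hg : g ∈ Subgroup.normalizer (H : Set G)) : H.map (MulAut.conj g).toMonoidHom = H := by
  ext y
  constructor
  · rintro ⟨z, hz, rfl⟩
    exact (Subgroup.mem_normalizer_iff.mp hg z).mp hz
  · intro hy
    refine ⟨g⁻¹ * y * g, ?_, by simp [MulAut.conj_apply, mul_assoc]⟩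
    have := (Subgroup.mem_normalizer_iff.mp (Subgroup.inv_mem _ hg) y).mp hy
    simpa using this

theorem mem_normalizer_of_map_conj_eq {K : Subgroup G} {g : G}
    (h : K.map (MulAut.conj g).toMonoidHom = K) : g ∈ Subgroup.normalizer (K : Set G) := by
  rw [Subgroup.mem_normalizer_iff]
  intro x
  constructor
  · intro hx
    have : g * x * g⁻¹ ∈ K.map (MulAut.conj g).toMonoidHom := ⟨x, hx, rfl⟩
    rwa [h] at this
  · intro hx
    rw [← h] at hx
    obtain ⟨k, hk, hkx⟩ := hx
    have : k = x := by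
      have : g * k * g⁻¹ = g * x * g⁻¹ := hkx
      exact mul_left_cancel (mul_right_cancel this)
    rw [← this]; exact hk

theorem normalizer_le_normalizer_pseq (H : Subgroup G) (n : ℕ) :
    Subgroup.normalizer (H : Set G) ≤ Subgroup.normalizer (pseq H n : Set G) := by
  intro g hg
  apply mem_normalizer_of_map_conj_eq
  rw [pseq_map, map_conj_eq_of_mem_normalizer hg]

theorem normalizer_le_normalizer_pup [Finite G] (H : Subgroup G) :
    Subgroup.normalizer (H : Set G) ≤ Subgroup.normalizer (pup H : Set G) := by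
  obtain ⟨k, hk⟩ := exists_pseq_stable H
  rw [← (hk k le_rfl).2]
  exact normalizer_le_normalizer_pseq H _

/-- the centre of a subgroup, as a subgroup of the ambient group -/
def cen (L : Subgroup G) : Subgroup G := L ⊓ Subgroup.centralizer (L : Set G)

theorem normalizer_le_normalizer_cen (L : Subgroup G) :
    Subgroup.normalizer (L : Set G) ≤ Subgroup.normalizer (cen L : Set G) := by
  intro g hg
  have key : ∀ g : G, g ∈ Subgroup.normalizer (L : Set G) → ∀ z ∈ cen L, g * z * g⁻¹ ∈ cen L := by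
    intro g hg z hz
    obtain ⟨hzL, hzC⟩ := Subgroup.mem_inf.mp hz
    refine Subgroup.mem_inf.mpr ⟨(Subgroup.mem_normalizer_iff.mp hg z).mp hzL, ?_⟩
    rw [Subgroup.mem_centralizer_iff]
    intro l hl
    have hl' : g⁻¹ * l * g ∈ L := by
      have := (Subgroup.mem_normalizer_iff.mp (Subgroup.inv_mem _ hg) l).mp hl
      simpa using this
    have hc := Subgroup.mem_centralizer_iff.mp hzC _ hl'
    calc l * (g * z * g⁻¹) = g * ((g⁻¹ * l * g) * z) * g⁻¹ := by group
      _ = g * (z * (g⁻¹ * l * g)) * g⁻¹ := by rw [hc]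
      _ = g * z * g⁻¹ * l := by group
  rw [Subgroup.mem_normalizer_iff]
  intro z
  constructor
  · exact key g hg z
  · intro hz
    have := key g⁻¹ (Subgroup.inv_mem _ hg) _ hz
    simpa [mul_assoc] using this

theorem cen_isMulCommutative (L : Subgroup G) : IsMulCommutative (cen L) := by
  refine ⟨⟨fun a b => ?_⟩⟩
  apply Subtype.ext
  exact (Subgroup.mem_centralizer_iff.mp (Subgroup.mem_inf.mp a.2).2 b.1 (Subgroup.mem_inf.mp b.2).1).symm

theorem cen_le (L : Subgroup G) : cen L ≤ L := inf_le_left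

theorem le_normalizer_cen (L : Subgroup G) : L ≤ Subgroup.normalizer (cen L : Set G) :=
  Subgroup.le_normalizer.trans (normalizer_le_normalizer_cen L)

/-- the centre of `L(S)` as in the statement `S1469` -/
theorem center_puig_map (S : Subgroup G) :
    ((Subgroup.center ↥(puigSubgroup ↥S)).map (puigSubgroup ↥S).subtype).map S.subtype =
      cen (pup S) := by
  ext x
  constructor
  · rintro ⟨y, ⟨z, hz, rfl⟩, rfl⟩
    refine Subgroup.mem_inf.mpr ⟨⟨_, z.2, rfl⟩, ?_⟩
    rw [Subgroup.mem_centralizer_iff]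
    rintro _ ⟨l, hl, rfl⟩
    have := Subgroup.mem_center_iff.mp hz ⟨l, hl⟩
    have h2 := congrArg (fun t : ↥(puigSubgroup ↥S) => ((t : ↥S) : G)) this
    simpa using h2
  · intro hx
    obtain ⟨⟨y, hy, rfl⟩, hc⟩ := Subgroup.mem_inf.mp hx
    refine ⟨y, ⟨⟨y, hy⟩, ?_, rfl⟩, rfl⟩
    show _ ∈ Subgroup.center _
    rw [Subgroup.mem_center_iff]
    intro l
    apply Subtype.ext
    apply Subtype.ext
    have := Subgroup.mem_centralizer_iff.mp hc ((l : ↥S) : G) ⟨l, l.2, rfl⟩
    simpa using this

end Cfsg.Agent.Lib.Helper33
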