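import Mathlib

/-!
# A criterion for a finite group to have a normal Sylow `p`-subgroup

If in a finite group `H` every element `x` of order prime to `p` has the property that
`g x g⁻¹` commuting with `x` forces `g` to commute with `x`, then `H` has a normal
Sylow `p`-subgroup (Burnside transfer for every prime `r ≠ p`).
-/

namespace Cfsg.Agent.Lib.Helper33

open Subgroup
open scoped commutatorElement

/-- A nilpotent group in which `g x g⁻¹` commuting with `x` forces `g` to commute with `x`
is commutative. -/
theorem commute_of_conj_commute_of_nilpotent {R : Type*} [Group R] [Group.IsNilpotent R]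
    (h : ∀ x g : R, Commute (g * x * g⁻¹) x → Commute g x) (a b : R) : Commute a b := by
  have h21 : Subgroup.upperCentralSeries R 2 ≤ Subgroup.upperCentralSeries R 1 := by
    intro x hx
    rw [Subgroup.mem_upperCentralSeries_succ_iff] at hx
    rw [Subgroup.upperCentralSeries_one, Subgroup.mem_center_iff]
    intro y
    have hz := hx y
    rw [Subgroup.upperCentralSeries_one, Subgroup.mem_center_iff] at hz
    have hc : Commute (y * x * y⁻¹) x := by
      have e : y * x * y⁻¹ = ⁅x, y⁆⁻¹ * x := by
        rw [commutatorElement_def]; group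
      rw [e]
      have hzx : Commute ⁅x, y⁆ x := (hz x).symm
      exact (hzx.inv_left).mul_left (Commute.refl x)
    exact (h x y hc).eq
  have hall : ∀ n : ℕ, Subgroup.upperCentralSeries R (n + 1) ≤ Subgroup.upperCentralSeries R 1 := by
    intro n
    induction n with
    | zero => exact le_rfl
    | succ n ih =>
      intro x hx
      apply h21
      rw [Subgroup.mem_upperCentralSeries_succ_iff] at hx ⊢
      intro y
      exact ih (hx y)
  obtain ⟨n, hn⟩ := Group.IsNilpotent.nilpotent R
  have hb : b ∈ Subgroup.upperCentralSeries R 1 := by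
    apply hall n
    apply Subgroup.upperCentralSeries_mono R (Nat.le_succ n)
    rw [hn]; exact mem_top b
  rw [Subgroup.upperCentralSeries_one, Subgroup.mem_center_iff] at hb
  exact (hb a)

end Cfsg.Agent.Lib.Helper33

namespace Cfsg.Agent.Lib.Helper33

open Subgroup

/-- Under the conjugation-commutation hypothesis, Sylow `r`-subgroups for `r ≠ p` satisfy
Burnside's condition `N(R) ≤ C(R)`. -/
theorem sylow_normalizer_le_centralizer_of_conj_commute {H : Type*} [Group H] [Finite H]
    (p : ℕ) [Fact p.Prime]
    (hL : ∀ x g : H, (orderOf x).Coprime p → Commute (g * x * g⁻¹) x → Commute g x)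
    (r : ℕ) [Fact r.Prime] (hrp : r ≠ p) (R : Sylow r H) :
    normalizer (R : Set H) ≤ centralizer (R : Set H) := by
  have hcop : ∀ x : H, x ∈ (R : Subgroup H) → (orderOf x).Coprime p := by
    intro x hx
    obtain ⟨k, hk⟩ := (R.2.to_le le_rfl) ⟨x, hx⟩
    have hdvd : orderOf x ∣ r ^ k := by
      apply orderOf_dvd_of_pow_eq_one
      have := congrArg Subtype.val hk
      simpa using this
    have hcp : (r ^ k).Coprime p :=
      Nat.Coprime.pow_left k ((Nat.coprime_primes Fact.out Fact.out).2 hrp)
    exact Nat.Coprime.coprime_dvd_left hdvd hcp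
  haveI : Group.IsNilpotent (R : Subgroup H) := R.2.isNilpotent
  have hcomm : ∀ a b : (R : Subgroup H), Commute a b := by
    apply commute_of_conj_commute_of_nilpotent
    intro x g hc
    have h1 : Commute ((g : H) * (x : H) * (g : H)⁻¹) (x : H) := by
      have := congrArg Subtype.val hc.eq
      show _ * _ = _ * _
      simpa using this
    have h2 := hL (x : H) (g : H) (hcop _ x.2) h1
    exact Subtype.ext (by simpa using h2.eq)
  intro g hg
  rw [Subgroup.mem_centralizer_iff]
  intro x hx
  have hx' : x ∈ (R : Subgroup H) := hx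
  have hgx : g * x * g⁻¹ ∈ (R : Subgroup H) := (Subgroup.mem_normalizer_iff.mp hg x).mp hx'
  have h1 : Commute (g * x * g⁻¹) x := by
    have := hcomm ⟨g * x * g⁻¹, hgx⟩ ⟨x, hx'⟩
    have := congrArg Subtype.val this.eq
    show _ * _ = _ * _
    simpa using this
  exact (hL x g (hcop x hx') h1).eq.symm

/-- A finite group satisfying the conjugation-commutation hypothesis for `p'`-elements has a
normal `p`-subgroup containing all `p`-elements. -/
theorem exists_normal_pgroup_of_conj_commute {H : Type*} [Group H] [Finite H]
    (p : ℕ) [Fact p.Prime]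
    (hL : ∀ x g : H, (orderOf x).Coprime p → Commute (g * x * g⁻¹) x → Commute g x) :
    ∃ K : Subgroup H, K.Normal ∧ IsPGroup p K ∧ ∀ g : H, (∃ k : ℕ, g ^ p ^ k = 1) → g ∈ K := by
  classical
  -- `K` is the intersection of all normal subgroups of index prime to `p`
  let S : Set (Subgroup H) := {N | N.Normal ∧ (N.index).Coprime p}
  refine ⟨sInf S, ?_, ?_, ?_⟩
  · -- normal
    constructor
    intro n hn g
    rw [Subgroup.mem_sInf] at hn ⊢
    intro N hN
    exact hN.1.conj_mem n (hn N hN) g
  · -- p-group
    have hcard : ∀ r : ℕ, r.Prime → r ∣ Nat.card (sInf S : Subgroup H) → r = p := by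
      intro r hr hdvd
      by_contra hrp
      haveI : Fact r.Prime := ⟨hr⟩
      obtain ⟨R⟩ : Nonempty (Sylow r H) := inferInstance
      have hNC := sylow_normalizer_le_centralizer_of_conj_commute p hL r hrp R
      have hker : (MonoidHom.transferSylow R hNC).ker ∈ S := by
        refine ⟨inferInstance, ?_⟩
        have hcompl := MonoidHom.ker_transferSylow_isComplement' R hNC
        have hidx : (MonoidHom.transferSylow R hNC).ker.index = Nat.card (R : Subgroup H) :=
          hcompl.symm.index_eq_card
        rw [hidx]
        obtain ⟨k, hk⟩ := (IsPGroup.iff_card.mp R.2)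
        rw [hk]
        exact Nat.Coprime.pow_left k ((Nat.coprime_primes Fact.out Fact.out).2 hrp)
      have hle : sInf S ≤ (MonoidHom.transferSylow R hNC).ker := sInf_le hker
      have h1 : r ∣ Nat.card (MonoidHom.transferSylow R hNC).ker :=
        hdvd.trans (Subgroup.card_dvd_of_le hle)
      exact MonoidHom.not_dvd_card_ker_transferSylow R hNC h1
    have hne : Nat.card (sInf S : Subgroup H) ≠ 0 := Nat.card_pos.ne'
    have := Nat.eq_prime_pow_of_unique_prime_dvd hne (fun {d} hd hdd => hcard d hd hdd)
    exact IsPGroup.of_card this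
  · -- contains all p-elements
    rintro g ⟨k, hk⟩
    rw [Subgroup.mem_sInf]
    rintro N ⟨hNn, hNc⟩
    haveI := hNn
    rw [← QuotientGroup.eq_one_iff]
    have h1 : ((g : H ⧸ N)) ^ p ^ k = 1 := by
      rw [← QuotientGroup.mk_pow, hk]; rfl
    have h2 : ((g : H ⧸ N)) ^ N.index = 1 := by
      rw [Subgroup.index_eq_card]; exact pow_card_eq_one'
    have h3 : orderOf (g : H ⧸ N) ∣ Nat.gcd (p ^ k) N.index :=
      Nat.dvd_gcd (orderOf_dvd_of_pow_eq_one h1) (orderOf_dvd_of_pow_eq_one h2)
    have h4 : Nat.gcd (p ^ k) N.index = 1 := Nat.Coprime.pow_left k hNc.symm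
    rw [h4, Nat.dvd_one, orderOf_eq_one_iff] at h3
    exact h3

end Cfsg.Agent.Lib.Helper33
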