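import Mathlib
import Cfsg.Agent.Lib.Helper33.PClosed

/-!
# Odd order subgroups of `GL₂(F)` in characteristic `p`

A finite subgroup of odd order of `GL₂(F)`, `char F = p`, has a normal Sylow `p`-subgroup.
-/

namespace Cfsg.Agent.Lib.Helper33

open Matrix Polynomial

/-- Pure field algebra: a `2 × 2` matrix `Y` commuting with `X`, with the same trace and
determinant, where `X` has nonzero discriminant, is `X` or its adjugate. -/
theorem two_by_two_commuting_conj {F : Type*} [Field F] (h2 : (2 : F) ≠ 0)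
    (a b c d e f g h : F)
    (h11 : b * g = f * c) (h12 : a * f + b * h = e * b + f * d)
    (h21 : c * e + d * g = g * a + h * c)
    (htr : e + h = a + d) (hdet : e * h - f * g = a * d - b * c)
    (hδ : (a + d) ^ 2 ≠ 4 * (a * d - b * c)) :
    (e = a ∧ f = b ∧ g = c ∧ h = d) ∨ (e = d ∧ f = -b ∧ g = -c ∧ h = a) := by
  have hfw : f * (a - d) = b * (e - h) := by linear_combination h12
  have hgw : g * (a - d) = c * (e - h) := by linear_combination -h21
  have hδ' : (e - h) ^ 2 + 4 * f * g = (a - d) ^ 2 + 4 * b * c := by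
    linear_combination (e + h + a + d) * htr - 4 * hdet
  have hδne : (a - d) ^ 2 + 4 * b * c ≠ 0 := by
    intro h0
    apply hδ
    linear_combination h0
  have key : ((e - h) ^ 2 - (a - d) ^ 2) * ((a - d) ^ 2 + 4 * b * c) = 0 := by
    linear_combination (a - d) ^ 2 * hδ' - 4 * g * (a - d) * hfw - 4 * b * (e - h) * hgw
  have huw : (e - h - (a - d)) * (e - h + (a - d)) = 0 := by
    rcases mul_eq_zero.mp key with h0 | h0
    · linear_combination h0
    · exact absurd h0 hδne
  have h4 : (4 : F) ≠ 0 := by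
    have : (4 : F) = 2 * 2 := by norm_num
    rw [this]; exact mul_ne_zero h2 h2
  -- the degenerate case `a = d`
  have hdeg : a - d = 0 → e - h = 0 →
      (e = a ∧ f = b ∧ g = c ∧ h = d) ∨ (e = d ∧ f = -b ∧ g = -c ∧ h = a) := by
    intro hw hu
    have had : a = d := sub_eq_zero.mp hw
    have heh : e = h := sub_eq_zero.mp hu
    have hea : e = a := by
      have : 2 * e = 2 * a := by linear_combination htr + hu - hw
      exact mul_left_cancel₀ h2 this
    have hbc : b * c ≠ 0 := by
      intro h0
      apply hδne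
      rw [hw]; linear_combination 4 * h0
    have hb : b ≠ 0 := left_ne_zero_of_mul hbc
    have hc : c ≠ 0 := right_ne_zero_of_mul hbc
    have hfg : f * g = b * c := by
      have : 4 * (f * g) = 4 * (b * c) := by
        rw [hu, hw] at hδ'; linear_combination hδ'
      exact mul_left_cancel₀ h4 this
    have hgc : (g - c) * (g + c) = 0 := by
      have : b * ((g - c) * (g + c)) = 0 := by
        linear_combination g * h11 + c * hfg
      rcases mul_eq_zero.mp this with h0 | h0
      · exact absurd h0 hb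
      · exact h0
    rcases mul_eq_zero.mp hgc with h0 | h0
    · have hg : g = c := sub_eq_zero.mp h0
      have hf : f = b := by
        have : f * c = b * c := by rw [← h11, hg]
        exact mul_right_cancel₀ hc this
      left
      exact ⟨hea, hf, hg, by rw [← heh, hea, had]⟩
    · have hg : g = -c := eq_neg_of_add_eq_zero_left h0
      have hf : f = -b := by
        have : f * c = -b * c := by rw [← h11, hg]; ring
        exact mul_right_cancel₀ hc this
      right
      exact ⟨by rw [hea, had], hf, hg, by rw [← heh, hea]⟩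
  rcases mul_eq_zero.mp huw with h0 | h0
  · -- `e - h = a - d`
    have hu : e - h = a - d := sub_eq_zero.mp h0
    have hea : e = a := by
      have : 2 * e = 2 * a := by linear_combination htr + hu
      exact mul_left_cancel₀ h2 this
    have hhd : h = d := by linear_combination htr - hea
    by_cases hw : a - d = 0
    · exact hdeg hw (by rw [hu, hw])
    · left
      refine ⟨hea, ?_, ?_, hhd⟩
      · have : f * (a - d) = b * (a - d) := by rw [hfw, hu]
        exact mul_right_cancel₀ hw this
      · have : g * (a - d) = c * (a - d) := by rw [hgw, hu]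
        exact mul_right_cancel₀ hw this
  · have hu : e - h = -(a - d) := eq_neg_of_add_eq_zero_left h0
    have hed : e = d := by
      have : 2 * e = 2 * d := by linear_combination htr + hu
      exact mul_left_cancel₀ h2 this
    have hha : h = a := by linear_combination htr - hed
    by_cases hw : a - d = 0
    · exact hdeg hw (by rw [hu, hw, neg_zero])
    · right
      refine ⟨hed, ?_, ?_, hha⟩
      · have : f * (a - d) = -b * (a - d) := by rw [hfw, hu]; ring
        exact mul_right_cancel₀ hw this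
      · have : g * (a - d) = -c * (a - d) := by rw [hgw, hu]; ring
        exact mul_right_cancel₀ hw this

/-- A `2 × 2` matrix of finite order prime to the characteristic with zero discriminant is
scalar. -/
theorem scalar_of_disc_zero {F : Type*} [Field F] (h2 : (2 : F) ≠ 0)
    (X : Matrix (Fin 2) (Fin 2) F) (n : ℕ) (hn : (n : F) ≠ 0) (hX : X ^ n = 1)
    (hdisc : X.trace ^ 2 = 4 * X.det) : X = (X.trace / 2) • (1 : Matrix (Fin 2) (Fin 2) F) := by
  set s : F := X.trace / 2 with hs
  have hCH := Matrix.aeval_self_charpoly X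
  rw [Matrix.charpoly_fin_two] at hCH
  have hq : aeval X ((Polynomial.X - C s) ^ 2 : F[X]) = 0 := by
    have e : ((Polynomial.X - C s) ^ 2 : F[X]) = Polynomial.X ^ 2 - C X.trace * Polynomial.X + C X.det := by
      have h1 : X.det = s ^ 2 := by
        rw [hs, div_pow, hdisc]; field_simp; ring
      have h3 : X.trace = 2 * s := by rw [hs]; field_simp
      rw [h1, h3]
      simp only [map_mul, map_pow, map_ofNat]
      ring
    rw [e]; exact hCH
  have hd1 : minpoly F X ∣ (Polynomial.X - C s) ^ 2 := minpoly.dvd F X hq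
  have hd2 : minpoly F X ∣ Polynomial.X ^ n - C (1 : F) := by
    apply minpoly.dvd
    simp [hX]
  have hsep : (minpoly F X).Separable :=
    (separable_X_pow_sub_C (1 : F) hn one_ne_zero).of_dvd hd2
  have hd3 : minpoly F X ∣ Polynomial.X - C s := hsep.squarefree.isRadical 2 _ hd1
  obtain ⟨r, hr⟩ := hd3
  have h0 : aeval X (Polynomial.X - C s : F[X]) = 0 := by
    rw [hr, map_mul, minpoly.aeval, zero_mul]
  simp only [map_sub, aeval_X, aeval_C] at h0
  rw [sub_eq_zero] at h0
  rw [h0, Algebra.algebraMap_eq_smul_one]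

/-- In `GL₂(F)`: if `x` has order prime to the characteristic, `g` has odd order and
`g x g⁻¹` commutes with `x`, then `g` commutes with `x`. -/
theorem gl2_commute_of_commute_conj {F : Type*} [Field F] (h2 : (2 : F) ≠ 0)
    (x g : GL (Fin 2) F) (n : ℕ) (hn : (n : F) ≠ 0) (hx : x ^ n = 1)
    (m : ℕ) (hm : Odd m) (hg : g ^ m = 1)
    (hc : Commute (g * x * g⁻¹) x) : Commute g x := by
  by_cases hdisc : (x : Matrix (Fin 2) (Fin 2) F).trace ^ 2 = 4 * (x : Matrix (Fin 2) (Fin 2) F).det
  · -- scalar case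
    have hXn : (x : Matrix (Fin 2) (Fin 2) F) ^ n = 1 := by
      have := congrArg (fun u : GL (Fin 2) F => (u : Matrix (Fin 2) (Fin 2) F)) hx
      simpa using this
    have hs := scalar_of_disc_zero h2 _ n hn hXn hdisc
    show g * x = x * g
    apply Units.ext
    rw [Units.val_mul, Units.val_mul, hs]
    simp
  · -- regular case
    obtain ⟨X, hX⟩ : ∃ X : Matrix (Fin 2) (Fin 2) F, X = (x : Matrix (Fin 2) (Fin 2) F) := ⟨_, rfl⟩
    obtain ⟨Y, hY⟩ : ∃ Y : Matrix (Fin 2) (Fin 2) F,
      Y = ((g * x * g⁻¹ : GL (Fin 2) F) : Matrix (Fin 2) (Fin 2) F) := ⟨_, rfl⟩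
    have hYX : Y * X = X * Y := by
      have := congrArg (fun u : GL (Fin 2) F => (u : Matrix (Fin 2) (Fin 2) F)) hc.eq
      simp only [Units.val_mul] at this
      rw [hY, hX]; simpa only [Units.val_mul] using this
    have hYdef : Y = (g : Matrix (Fin 2) (Fin 2) F) * X * ((g⁻¹ : GL (Fin 2) F) : Matrix (Fin 2) (Fin 2) F) := by
      rw [hY, hX]; simp only [Units.val_mul]
    have htr : Y.trace = X.trace := by rw [hYdef]; exact Matrix.trace_units_conj g X
    have hdet : Y.det = X.det := by rw [hYdef]; exact Matrix.det_units_conj g X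
    rw [← hX] at hdisc
    rw [Matrix.trace_fin_two] at htr hdisc
    rw [Matrix.det_fin_two] at hdet hdisc
    rw [Matrix.trace_fin_two] at htr
    rw [Matrix.det_fin_two] at hdet
    have e11 := congrFun (congrFun hYX 0) 0
    have e12 := congrFun (congrFun hYX 0) 1
    have e21 := congrFun (congrFun hYX 1) 0
    simp only [Matrix.mul_apply, Fin.sum_univ_two] at e11 e12 e21
    have hM := two_by_two_commuting_conj h2 (X 0 0) (X 0 1) (X 1 0) (X 1 1)
      (Y 0 0) (Y 0 1) (Y 1 0) (Y 1 1)
      (by linear_combination -e11) (by linear_combination -e12) (by linear_combination -e21)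
      htr (by linear_combination hdet) hdisc
    rcases hM with ⟨h00, h01, h10, h11⟩ | ⟨h00, h01, h10, h11⟩
    · have hYX' : Y = X := by
        ext i j; fin_cases i <;> fin_cases j <;> simp [h00, h01, h10, h11]
      have : g * x * g⁻¹ = x := by
        apply Units.ext
        rw [← hY, ← hX, hYX']
      show g * x = x * g
      calc g * x = g * x * g⁻¹ * g := by group
        _ = x * g := by rw [this]
    · have hYX' : Y = (X.trace) • (1 : Matrix (Fin 2) (Fin 2) F) - X := by
        ext i j; fin_cases i <;> fin_cases j <;>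
          simp [h00, h01, h10, h11, Matrix.trace_fin_two]
      -- conjugate again
      have h2' : g * (g * x * g⁻¹) * g⁻¹ = x := by
        apply Units.ext
        have : ((g * (g * x * g⁻¹) * g⁻¹ : GL (Fin 2) F) : Matrix (Fin 2) (Fin 2) F)
            = (g : Matrix (Fin 2) (Fin 2) F) * Y * ((g⁻¹ : GL (Fin 2) F) : Matrix (Fin 2) (Fin 2) F) := by
          rw [hY]; simp only [Units.val_mul]
        rw [this, hYX', Matrix.mul_sub, Matrix.sub_mul, ← hYdef, hYX']
        have h1 : (g : Matrix (Fin 2) (Fin 2) F) * X.trace • (1 : Matrix (Fin 2) (Fin 2) F) *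
            ((g⁻¹ : GL (Fin 2) F) : Matrix (Fin 2) (Fin 2) F) = X.trace • (1 : Matrix (Fin 2) (Fin 2) F) := by
          rw [Matrix.mul_smul, Matrix.smul_mul, mul_one]
          congr 1
          rw [← Units.val_mul, mul_inv_cancel]; rfl
        rw [h1, ← hX]; abel
      have hc2 : Commute (g ^ 2) x := by
        show g ^ 2 * x = x * g ^ 2
        have : g ^ 2 * x * (g ^ 2)⁻¹ = x := by
          calc g ^ 2 * x * (g ^ 2)⁻¹ = g * (g * x * g⁻¹) * g⁻¹ := by
                rw [pow_two, _root_.mul_inv_rev]; simp only [mul_assoc]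
            _ = x := h2'
        calc g ^ 2 * x = g ^ 2 * x * (g ^ 2)⁻¹ * g ^ 2 := by
              rw [inv_mul_cancel_right]
          _ = x * g ^ 2 := by rw [this]
      obtain ⟨k, hk⟩ := hm
      have hgk : g = (g ^ 2) ^ (k + 1) := by
        rw [← pow_mul]
        have : 2 * (k + 1) = m + 1 := by omega
        rw [this, pow_succ, hg, one_mul]
      rw [hgk]
      exact hc2.pow_left _

/-- A finite subgroup of odd order of `GL₂(F)`, `char F = p` odd, has a normal `p`-subgroup
containing all its `p`-elements. -/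
theorem exists_normal_pgroup_gl2_odd {F : Type*} [Field F] (p : ℕ) [Fact p.Prime] [CharP F p]
    (hp : p ≠ 2) (H : Subgroup (GL (Fin 2) F)) [Finite H] (hodd : Odd (Nat.card H)) :
    ∃ K : Subgroup H, K.Normal ∧ IsPGroup p K ∧ ∀ g : H, (∃ k : ℕ, g ^ p ^ k = 1) → g ∈ K := by
  have h2 : (2 : F) ≠ 0 := by
    intro h
    have : ((2 : ℕ) : F) = 0 := by exact_mod_cast h
    rw [CharP.cast_eq_zero_iff F p 2] at this
    exact hp ((Nat.prime_dvd_prime_iff_eq Fact.out Nat.prime_two).mp this)
  apply exists_normal_pgroup_of_conj_commute p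
  intro x g hcop hc
  have hn : ((orderOf (x : GL (Fin 2) F) : ℕ) : F) ≠ 0 := by
    intro h
    rw [CharP.cast_eq_zero_iff F p] at h
    rw [Subgroup.orderOf_coe] at h
    have := Nat.Coprime.eq_one_of_dvd hcop.symm h
    exact (Fact.out : p.Prime).one_lt.ne' this
  have hm : Odd (orderOf (g : GL (Fin 2) F)) := by
    rw [Subgroup.orderOf_coe]
    exact hodd.of_dvd_nat (orderOf_dvd_natCard g)
  have hc' : Commute ((g : GL (Fin 2) F) * x * (g : GL (Fin 2) F)⁻¹) (x : GL (Fin 2) F) := by
    have := congrArg Subtype.val hc.eq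
    show _ * _ = _ * _
    simpa using this
  have := gl2_commute_of_commute_conj h2 (x : GL (Fin 2) F) (g : GL (Fin 2) F) _ hn
    (pow_orderOf_eq_one _) _ hm (pow_orderOf_eq_one _) hc'
  exact Subtype.ext this.eq

/-- The kernel of a nonzero `2 × 2` matrix with a nonzero kernel vector `v` is spanned by `v`. -/
theorem mem_span_of_mulVec_eq_zero {F : Type*} [Field F] (N : Matrix (Fin 2) (Fin 2) F)
    (hN : N ≠ 0) (v u : Fin 2 → F) (hv : v ≠ 0) (hNv : N *ᵥ v = 0) (hNu : N *ᵥ u = 0) :
    u ∈ Submodule.span F {v} := by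
  have hv0 := congrFun hNv 0
  have hv1 := congrFun hNv 1
  have hu0 := congrFun hNu 0
  have hu1 := congrFun hNu 1
  simp only [Matrix.mulVec, dotProduct, Fin.sum_univ_two, Pi.zero_apply] at hv0 hv1 hu0 hu1
  by_cases hD : v 0 * u 1 - v 1 * u 0 = 0
  · rw [Submodule.mem_span_singleton]
    by_cases h0 : v 0 = 0
    · have h1 : v 1 ≠ 0 := by
        intro h1; apply hv; ext i; fin_cases i <;> simp [h0, h1]
      refine ⟨u 1 / v 1, ?_⟩
      ext i; fin_cases i
      · simp only [Fin.zero_eta, Pi.smul_apply, smul_eq_mul]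
        have : v 1 * u 0 = 0 := by rw [h0] at hD; linear_combination -hD
        rcases mul_eq_zero.mp this with h | h
        · exact absurd h h1
        · rw [h0, h]; simp
      · simp only [Fin.mk_one, Pi.smul_apply, smul_eq_mul]
        field_simp
    · refine ⟨u 0 / v 0, ?_⟩
      ext i; fin_cases i
      · simp only [Fin.zero_eta, Pi.smul_apply, smul_eq_mul]
        field_simp
      · simp only [Fin.mk_one, Pi.smul_apply, smul_eq_mul]
        field_simp
        linear_combination -hD
  · exfalso
    apply hN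
    ext i j
    have hi0 : N i 0 * (v 0 * u 1 - v 1 * u 0) = 0 := by
      fin_cases i
      · simp only [Fin.zero_eta]; linear_combination u 1 * hv0 - v 1 * hu0
      · simp only [Fin.mk_one]; linear_combination u 1 * hv1 - v 1 * hu1
    have hi1 : N i 1 * (v 0 * u 1 - v 1 * u 0) = 0 := by
      fin_cases i
      · simp only [Fin.zero_eta]; linear_combination -u 0 * hv0 + v 0 * hu0
      · simp only [Fin.mk_one]; linear_combination -u 0 * hv1 + v 0 * hu1
    fin_cases j
    · simpa using (mul_eq_zero.mp hi0).resolve_right hD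
    · simpa using (mul_eq_zero.mp hi1).resolve_right hD

/-- A nontrivial normal `p`-subgroup of `H ≤ GL₂(F)`, `char F = p`, fixes a line, which is then
`H`-invariant. -/
theorem exists_invariant_line_of_normal_pgroup {F : Type*} [Field F] (p : ℕ) [Fact p.Prime]
    [CharP F p] (H : Subgroup (GL (Fin 2) F)) (K : Subgroup H) [Finite K] [hKn : K.Normal]
    (hK : IsPGroup p K) (hne : K ≠ ⊥) :
    ∃ v : Fin 2 → F, v ≠ 0 ∧
      ∀ h ∈ H, (h : Matrix (Fin 2) (Fin 2) F) *ᵥ v ∈ Submodule.span F {v} := by
  classical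
  -- the matrix of an element of `H`
  let M : H →* Matrix (Fin 2) (Fin 2) F := (Units.coeHom _).comp H.subtype
  have hMinj : Function.Injective M := by
    intro x y hxy
    apply Subtype.ext
    apply Units.ext
    exact hxy
  have hMapply : ∀ h : H, M h = ((h : GL (Fin 2) F) : Matrix (Fin 2) (Fin 2) F) := fun _ => rfl
  haveI : Nontrivial K := (Subgroup.nontrivial_iff_ne_bot K).mpr hne
  haveI := hK.center_nontrivial
  obtain ⟨⟨a, hac⟩, ha1⟩ := exists_ne (1 : Subgroup.center K)
  have ha1' : a ≠ 1 := fun h => ha1 (Subtype.ext h)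
  obtain ⟨k, hk⟩ := hK a
  set A : Matrix (Fin 2) (Fin 2) F := M (a : H) with hA
  have hApow : A ^ p ^ k = 1 := by
    rw [hA, ← map_pow]
    have : (a : H) ^ p ^ k = 1 := by
      have := congrArg Subtype.val hk
      simpa using this
    rw [this, map_one]
  have hA1 : A ≠ 1 := by
    intro h
    apply ha1'
    apply Subtype.ext
    apply hMinj
    rw [← hA, h, Subgroup.coe_one, map_one]
  set N : Matrix (Fin 2) (Fin 2) F := A - 1 with hN
  have hN0 : N ≠ 0 := by
    intro h; apply hA1; rw [hN, sub_eq_zero] at h; exact h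
  have hNpow : N ^ p ^ k = 0 := by
    rw [hN, sub_pow_char_pow_of_commute p k (Commute.one_right A), hApow, one_pow, sub_self]
  have hNN : N * N = 0 := by
    have hnil : IsNilpotent N := ⟨p ^ k, hNpow⟩
    have h1 := (Matrix.isNilpotent_charpoly_sub_pow_of_isNilpotent hnil).eq_zero
    rw [sub_eq_zero] at h1
    have h2 := Matrix.aeval_self_charpoly N
    rw [h1] at h2
    simpa [pow_two] using h2
  -- pick `v`
  obtain ⟨w, hw⟩ : ∃ w : Fin 2 → F, N *ᵥ w ≠ 0 := by
    by_contra hcon
    push Not at hcon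
    apply hN0
    ext i j
    have := congrFun (hcon (Pi.single j 1)) i
    simpa using this
  refine ⟨N *ᵥ w, hw, ?_⟩
  set v := N *ᵥ w with hv
  have hNv : N *ᵥ v = 0 := by
    rw [hv, Matrix.mulVec_mulVec, hNN, Matrix.zero_mulVec]
  have hAv : ∀ u : Fin 2 → F, N *ᵥ u = 0 ↔ A *ᵥ u = u := by
    intro u
    rw [hN, Matrix.sub_mulVec, Matrix.one_mulVec, sub_eq_zero]
  -- every element of `K` fixes `v`
  have hKv : ∀ b : K, M (b : H) *ᵥ v = v := by
    intro b
    have hcomm : M (b : H) * A = A * M (b : H) := by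
      rw [hA, ← map_mul, ← map_mul]
      congr 1
      have := (Subgroup.mem_center_iff.mp hac) b
      have := congrArg Subtype.val this
      simpa using this
    have hNB : N *ᵥ (M (b : H) *ᵥ v) = 0 := by
      rw [hAv, Matrix.mulVec_mulVec, ← hcomm, ← Matrix.mulVec_mulVec, (hAv v).mp hNv]
    have hmem := mem_span_of_mulVec_eq_zero N hN0 v _ hw hNv hNB
    rw [Submodule.mem_span_singleton] at hmem
    obtain ⟨c, hc⟩ := hmem
    have hpow : ∀ n : ℕ, (M (b : H)) ^ n *ᵥ v = c ^ n • v := by
      intro n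
      induction n with
      | zero => simp
      | succ n ih =>
        rw [pow_succ, ← Matrix.mulVec_mulVec, ← hc, Matrix.mulVec_smul, ih, smul_smul, pow_succ, mul_comm]
    obtain ⟨j, hj⟩ := hK b
    have hbj : (M (b : H)) ^ p ^ j = 1 := by
      rw [← map_pow]
      have : (b : H) ^ p ^ j = 1 := by
        have := congrArg Subtype.val hj
        simpa using this
      rw [this, map_one]
    have h1 := hpow (p ^ j)
    rw [hbj, Matrix.one_mulVec] at h1
    have hc1 : c ^ p ^ j = 1 := by
      by_contra hne1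
      apply hw
      have : (c ^ p ^ j - 1) • v = 0 := by rw [sub_smul, one_smul, ← h1, sub_self]
      rcases smul_eq_zero.mp this with h | h
      · exact absurd (sub_eq_zero.mp h) hne1
      · exact h
    have hc2 : (c - 1) ^ p ^ j = 0 := by
      rw [sub_pow_char_pow, hc1, one_pow, sub_self]
    have hc3 : c = 1 := sub_eq_zero.mp (pow_eq_zero_iff (pow_ne_zero _ (Fact.out : p.Prime).ne_zero) |>.mp hc2)
    rw [← hc, hc3, one_smul]
  intro h hh
  apply mem_span_of_mulVec_eq_zero N hN0 v _ hw hNv
  rw [hAv]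
  -- `h⁻¹ a h ∈ K`
  have hconj : (⟨h, hh⟩ : H)⁻¹ * (a : H) * (⟨h, hh⟩ : H) ∈ K := by
    have := hKn.conj_mem (a : H) a.2 (⟨h, hh⟩ : H)⁻¹
    simpa using this
  have h1 := hKv ⟨_, hconj⟩
  simp only [map_mul] at h1
  have hinv : M (⟨h, hh⟩ : H) * M ((⟨h, hh⟩ : H)⁻¹) = 1 := by
    rw [← map_mul, mul_inv_cancel, map_one]
  have hMh : M (⟨h, hh⟩ : H) = (h : Matrix (Fin 2) (Fin 2) F) := rfl
  rw [← hMh]
  calc A *ᵥ (M ⟨h, hh⟩ *ᵥ v)
      = (M ⟨h, hh⟩ * M ((⟨h, hh⟩ : H)⁻¹)) *ᵥ (A *ᵥ (M ⟨h, hh⟩ *ᵥ v)) := by
        rw [hinv, Matrix.one_mulVec]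
    _ = M ⟨h, hh⟩ *ᵥ ((M ((⟨h, hh⟩ : H)⁻¹) * A * M ⟨h, hh⟩) *ᵥ v) := by
        simp only [Matrix.mulVec_mulVec, Matrix.mul_assoc]
    _ = M ⟨h, hh⟩ *ᵥ v := by rw [h1]

end Cfsg.Agent.Lib.Helper33
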