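import Mathlib
import Cfsg.Agent.S1463

/-!
# Two quadratically acting elements of a group of odd order

`quadratic_pair_false`: in characteristic `p` odd, a finite group of odd order cannot contain two
elements `x`, `y` acting quadratically (`(x-1)² = 0 = (y-1)²`) on a nonzero finite dimensional
module with `C_V(x) ∩ C_V(y) = 0`.  (One produces a two dimensional module over an extension
field and applies `S1463`.)
-/

open Polynomial Matrix

namespace Cfsg.Agent.Lib.Helper33

/-- `a ∘ f(ab) = f(0) • a` when `a² = 0`. -/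
theorem mul_aeval_of_sq_zero {F : Type*} [Field F] {V : Type*} [AddCommGroup V] [Module F V]
    (a b : Module.End F V) (ha : a * a = 0) (f : F[X]) :
    a * aeval (a * b) f = f.coeff 0 • a := by
  induction f using Polynomial.induction_on' with
  | add f g hf hg => rw [map_add, mul_add, hf, hg, coeff_add, add_smul]
  | monomial n c =>
    rw [aeval_monomial]
    cases n with
    | zero => simp [Algebra.algebraMap_eq_smul_one]
    | succ n =>
      have : a * (a * b) ^ (n + 1) = 0 := by
        rw [pow_succ', ← mul_assoc, ← mul_assoc, ha, zero_mul, zero_mul]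
      rw [Algebra.algebraMap_eq_smul_one, smul_mul_assoc, one_mul, mul_smul_comm, this, smul_zero]
      simp [coeff_monomial]

/-- Existence of an irreducible polynomial killing a nonzero vector of `ker a`. -/
theorem exists_irreducible_aeval_eq_zero {F : Type*} [Field F] {V : Type*} [AddCommGroup V]
    [Module F V] [FiniteDimensional F V]
    (a b : Module.End F V) (ha : a * a = 0) (v₀ : V) (hv₀ : v₀ ≠ 0) (hav₀ : a v₀ = 0) :
    ∃ (m : F[X]) (u : V), Irreducible m ∧ u ≠ 0 ∧ a u = 0 ∧ aeval (a * b) m u = 0 := by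
  classical
  set T : Module.End F V := a * b with hT
  let J : Ideal F[X] :=
    { carrier := {f | aeval T f v₀ = 0}
      add_mem' := by
        intro f g hf hg
        simp only [Set.mem_ofPred_eq] at hf hg ⊢
        rw [map_add, LinearMap.add_apply, hf, hg, add_zero]
      zero_mem' := by simp
      smul_mem' := by
        intro c f hf
        simp only [Set.mem_ofPred_eq] at hf ⊢
        rw [smul_eq_mul, map_mul, Module.End.mul_apply, hf, map_zero] }
  have hJmem : ∀ f, f ∈ J ↔ aeval T f v₀ = 0 := fun f => Iff.rfl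
  have hmin : minpoly F T ∈ J := by rw [hJmem, minpoly.aeval]; rfl
  have hmin0 : minpoly F T ≠ 0 := minpoly.ne_zero (Algebra.IsIntegral.isIntegral T)
  set g := Submodule.IsPrincipal.generator J with hg
  have hgJ : g ∈ J := Submodule.IsPrincipal.generator_mem J
  have hg0 : g ≠ 0 := by
    intro h0
    have := (Submodule.IsPrincipal.mem_iff_generator_dvd J).mp hmin
    rw [← hg, h0, zero_dvd_iff] at this
    exact hmin0 this
  have hgu : ¬ IsUnit g := by
    intro hu
    have h1 : (1 : F[X]) ∈ J := by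
      rw [Submodule.IsPrincipal.mem_iff_generator_dvd J]
      exact hu.dvd
    rw [hJmem] at h1
    simp at h1
    exact hv₀ h1
  obtain ⟨m, hm, hmg⟩ := WfDvdMonoid.exists_irreducible_factor hgu hg0
  obtain ⟨q, hq⟩ := hmg
  refine ⟨m, aeval T q v₀, hm, ?_, ?_, ?_⟩
  · intro h0
    have hqJ : q ∈ J := h0
    rw [Submodule.IsPrincipal.mem_iff_generator_dvd J, ← hg, hq] at hqJ
    have hq0 : q ≠ 0 := by
      intro h; rw [h, mul_zero] at hq; exact hg0 hq
    obtain ⟨r, hr⟩ := hqJ
    have : q * 1 = q * (m * r) := by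
      rw [mul_one]
      calc q = m * q * r := hr
        _ = q * (m * r) := by ring
    have := mul_left_cancel₀ hq0 this
    exact hm.not_isUnit (IsUnit.of_mul_eq_one r this.symm)
  · have := mul_aeval_of_sq_zero a b ha q
    have h2 := congrArg (fun L : Module.End F V => L v₀) this
    simp only [Module.End.mul_apply, LinearMap.smul_apply] at h2
    rw [hav₀, smul_zero] at h2
    exact h2
  · rw [← Module.End.mul_apply, ← map_mul, ← hq]
    exact hgJ

set_option maxHeartbeats 800000 in
/-- **Two quadratic elements in a group of odd order**: the common fixed space is nonzero. -/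
theorem quadratic_pair_false {F : Type*} [Field F] (p : ℕ) [Fact p.Prime] [CharP F p] (hp : p ≠ 2)
    {V : Type*} [AddCommGroup V] [Module F V] [FiniteDimensional F V] [Nontrivial V]
    {H : Type*} [Group H] [Finite H] (hodd : Odd (Nat.card H))
    (ρ : H →* Module.End F V) (x y : H)
    (hx : (ρ x - 1) * (ρ x - 1) = 0) (hy : (ρ y - 1) * (ρ y - 1) = 0)
    (hker : ∀ v : V, ρ x v = v → ρ y v = v → v = 0) : False := by
  classical
  obtain ⟨a, ha⟩ : ∃ a : Module.End F V, a = ρ x - 1 := ⟨_, rfl⟩
  obtain ⟨b, hb⟩ : ∃ b : Module.End F V, b = ρ y - 1 := ⟨_, rfl⟩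
  rw [← ha] at hx
  rw [← hb] at hy
  have hρx : ∀ v, ρ x v = v + a v := by
    intro v; rw [ha, LinearMap.sub_apply, Module.End.one_apply]; abel
  have hρy : ∀ v, ρ y v = v + b v := by
    intro v; rw [hb, LinearMap.sub_apply, Module.End.one_apply]; abel
  have haa : ∀ v, a (a v) = 0 := fun v => by
    rw [← Module.End.mul_apply, hx, LinearMap.zero_apply]
  have hbb : ∀ v, b (b v) = 0 := fun v => by
    rw [← Module.End.mul_apply, hy, LinearMap.zero_apply]
  have hker' : ∀ v, a v = 0 → b v = 0 → v = 0 := by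
    intro v h1 h2
    apply hker v
    · rw [hρx, h1, add_zero]
    · rw [hρy, h2, add_zero]
  set T : Module.End F V := a * b with hT
  have hTinj : ∀ v, a v = 0 → T v = 0 → v = 0 := by
    intro v h1 h2
    have h3 : b v = 0 := hker' (b v) h2 (hbb v)
    exact hker' v h1 h3
  -- a nonzero vector of `ker a`
  obtain ⟨v₀, hv₀, hav₀⟩ : ∃ v₀ : V, v₀ ≠ 0 ∧ a v₀ = 0 := by
    obtain ⟨v, hv⟩ := exists_ne (0 : V)
    by_cases h : a v = 0
    · exact ⟨v, hv, h⟩
    · exact ⟨a v, h, haa v⟩
  obtain ⟨m, u, hm, hu, hau, hmu⟩ := exists_irreducible_aeval_eq_zero a b hx v₀ hv₀ hav₀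
  haveI : Fact (Irreducible m) := ⟨hm⟩
  -- the map `ι₀`
  have hkill : ∀ f : F[X], m ∣ f → aeval T f u = 0 := by
    rintro f ⟨r, rfl⟩
    rw [mul_comm, map_mul, Module.End.mul_apply, hmu, map_zero]
  have haι₀ : ∀ f : F[X], a (aeval T f u) = 0 := by
    intro f
    have := mul_aeval_of_sq_zero a b hx f
    have h2 := congrArg (fun L : Module.End F V => L u) this
    simp only [Module.End.mul_apply, LinearMap.smul_apply] at h2
    rw [hau, smul_zero] at h2
    exact h2
  let ιf : AdjoinRoot m → V := fun e =>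
    aeval T (Classical.choose (AdjoinRoot.mk_surjective (g := m) e)) u
  have hιmk : ∀ f : F[X], ιf (AdjoinRoot.mk m f) = aeval T f u := by
    intro f
    have h1 := Classical.choose_spec (AdjoinRoot.mk_surjective (g := m) (AdjoinRoot.mk m f))
    rw [AdjoinRoot.mk_eq_mk] at h1
    have h2 := hkill _ h1
    rw [map_sub, LinearMap.sub_apply, sub_eq_zero] at h2
    exact h2
  have hιadd : ∀ e₁ e₂, ιf (e₁ + e₂) = ιf e₁ + ιf e₂ := by
    intro e₁ e₂
    obtain ⟨f₁, rfl⟩ := AdjoinRoot.mk_surjective (g := m) e₁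
    obtain ⟨f₂, rfl⟩ := AdjoinRoot.mk_surjective (g := m) e₂
    rw [← map_add, hιmk, hιmk, hιmk, map_add, LinearMap.add_apply]
  let ι : AdjoinRoot m →+ V := AddMonoidHom.mk' ιf hιadd
  have hιT : ∀ e, ι (AdjoinRoot.root m * e) = T (ι e) := by
    intro e
    obtain ⟨f, rfl⟩ := AdjoinRoot.mk_surjective (g := m) e
    show ιf _ = T (ιf _)
    rw [← AdjoinRoot.mk_X, ← map_mul, hιmk, hιmk, map_mul, aeval_X, Module.End.mul_apply]
  have hιa : ∀ e, a (ι e) = 0 := by
    intro e
    obtain ⟨f, rfl⟩ := AdjoinRoot.mk_surjective (g := m) e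
    show a (ιf _) = 0
    rw [hιmk]; exact haι₀ f
  have hιinj : ∀ e, ι e = 0 → e = 0 := by
    intro e he
    by_contra hne
    obtain ⟨f, rfl⟩ := AdjoinRoot.mk_surjective (g := m) e
    obtain ⟨f', hf'⟩ := AdjoinRoot.mk_surjective (g := m) (AdjoinRoot.mk m f)⁻¹
    have h1 : AdjoinRoot.mk m (f' * f) = AdjoinRoot.mk m 1 := by
      rw [map_mul, hf', map_one, inv_mul_cancel₀ hne]
    rw [AdjoinRoot.mk_eq_mk] at h1
    have h2 := hkill _ h1
    rw [map_sub, map_mul, map_one, LinearMap.sub_apply, Module.End.mul_apply,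
      Module.End.one_apply] at h2
    have h3 : aeval T f u = 0 := by
      have : ιf (AdjoinRoot.mk m f) = 0 := he
      rwa [hιmk] at this
    rw [h3, map_zero, zero_sub, neg_eq_zero] at h2
    exact hu h2
  set lam : AdjoinRoot m := AdjoinRoot.root m with hlam
  have hlam0 : lam ≠ 0 := by
    intro h0
    have h1 := hιT 1
    rw [mul_one, h0, map_zero] at h1
    have h2 : ι 1 = u := by
      show ιf 1 = u
      rw [← map_one (AdjoinRoot.mk m), hιmk, map_one, Module.End.one_apply]
    rw [h2] at h1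
    exact hu (hTinj u hau h1.symm)
  -- the map `Φ`
  let Φ : (Fin 2 → AdjoinRoot m) → V := fun e => ι (e 0) + b (ι (e 1))
  have hΦsub : ∀ e e', Φ (e - e') = Φ e - Φ e' := by
    intro e e'
    simp only [Φ, Pi.sub_apply, map_sub]
    abel
  have haΦ : ∀ e, a (Φ e) = ι (lam * e 1) := by
    intro e
    simp only [Φ, map_add]
    rw [hιa, zero_add, hιT, hT, Module.End.mul_apply]
  have hΦinj : ∀ e e', Φ e = Φ e' → e = e' := by
    intro e e' h
    have h0 : Φ (e - e') = 0 := by rw [hΦsub, h, sub_self]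
    have h1 : (e - e') 1 = 0 := by
      have := haΦ (e - e')
      rw [h0, map_zero] at this
      have := hιinj _ this.symm
      exact (mul_eq_zero.mp this).resolve_left hlam0
    have h2 : (e - e') 0 = 0 := by
      have : Φ (e - e') = ι ((e - e') 0) + b (ι ((e - e') 1)) := rfl
      rw [h0, h1, map_zero, map_zero, add_zero] at this
      exact hιinj _ this.symm
    ext i
    fin_cases i
    · simpa [sub_eq_zero] using h2
    · simpa [sub_eq_zero] using h1
  -- the matrices
  have hdetX : (!![1, lam; 0, 1] : Matrix (Fin 2) (Fin 2) (AdjoinRoot m)).det ≠ 0 := by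
    simp [Matrix.det_fin_two]
  have hdetY : (!![1, 0; 1, 1] : Matrix (Fin 2) (Fin 2) (AdjoinRoot m)).det ≠ 0 := by
    simp [Matrix.det_fin_two]
  obtain ⟨X, hX⟩ : ∃ X : GL (Fin 2) (AdjoinRoot m),
      (X : Matrix (Fin 2) (Fin 2) (AdjoinRoot m)) = !![1, lam; 0, 1] :=
    ⟨Matrix.GeneralLinearGroup.mkOfDetNeZero _ hdetX, rfl⟩
  obtain ⟨Y, hY⟩ : ∃ Y : GL (Fin 2) (AdjoinRoot m),
      (Y : Matrix (Fin 2) (Fin 2) (AdjoinRoot m)) = !![1, 0; 1, 1] :=
    ⟨Matrix.GeneralLinearGroup.mkOfDetNeZero _ hdetY, rfl⟩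
  have hXΦ : ∀ e, ρ x (Φ e) = Φ ((X : Matrix (Fin 2) (Fin 2) (AdjoinRoot m)) *ᵥ e) := by
    intro e
    rw [hρx, haΦ, hX]
    simp only [Φ, Matrix.mulVec, dotProduct, Fin.sum_univ_two, Matrix.of_apply,
      Matrix.cons_val', Matrix.cons_val_zero, Matrix.cons_val_one, Matrix.cons_val_fin_one,
      one_mul, zero_mul, zero_add, map_add]
    abel
  have hYΦ : ∀ e, ρ y (Φ e) = Φ ((Y : Matrix (Fin 2) (Fin 2) (AdjoinRoot m)) *ᵥ e) := by
    intro e
    rw [hρy, hY]
    simp only [Φ, Matrix.mulVec, dotProduct, Fin.sum_univ_two, Matrix.of_apply,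
      Matrix.cons_val', Matrix.cons_val_zero, Matrix.cons_val_one, Matrix.cons_val_fin_one,
      one_mul, zero_mul, add_zero, map_add, hbb]
    abel
  -- the subgroup `S` of `H × GL₂`
  let S : Subgroup (H × GL (Fin 2) (AdjoinRoot m)) := Subgroup.closure {(x, X), (y, Y)}
  have hS : ∀ s ∈ S, ∀ e, ρ s.1 (Φ e) =
      Φ ((s.2 : Matrix (Fin 2) (Fin 2) (AdjoinRoot m)) *ᵥ e) := by
    intro s hs
    induction hs using Subgroup.closure_induction with
    | mem z hz =>
      rcases hz with rfl | rfl
      · exact hXΦ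
      · exact hYΦ
    | one => intro e; simp
    | mul s₁ s₂ _ _ h₁ h₂ =>
      intro e
      rw [Prod.fst_mul, Prod.snd_mul, map_mul, Module.End.mul_apply, h₂, h₁, Units.val_mul,
        Matrix.mulVec_mulVec]
    | inv s _ h₁ =>
      intro e
      have h2 := h₁ ((s⁻¹.2 : Matrix (Fin 2) (Fin 2) (AdjoinRoot m)) *ᵥ e)
      rw [Matrix.mulVec_mulVec, Prod.snd_inv, ← Units.val_mul, mul_inv_cancel, Units.val_one,
        Matrix.one_mulVec] at h2
      rw [← h2, Prod.fst_inv, ← Module.End.mul_apply, ← map_mul, inv_mul_cancel, map_one,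
        Module.End.one_apply, Prod.snd_inv]
  have hXS : ((x, X) : H × GL (Fin 2) (AdjoinRoot m)) ∈ S :=
    Subgroup.subset_closure (by simp)
  have hYS : ((y, Y) : H × GL (Fin 2) (AdjoinRoot m)) ∈ S :=
    Subgroup.subset_closure (by simp)
  -- the first projection is injective on `S`
  let f₁ : S →* H := (MonoidHom.fst H (GL (Fin 2) (AdjoinRoot m))).comp S.subtype
  have hf₁ : Function.Injective f₁ := by
    intro s s' hss
    have h1 : (s : H × GL (Fin 2) (AdjoinRoot m)).1 = (s' : H × GL (Fin 2) (AdjoinRoot m)).1 := hss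
    apply Subtype.ext
    apply Prod.ext h1
    apply Units.ext
    ext i j
    have h2 := hS s s.2 (Pi.single j 1)
    have h3 := hS s' s'.2 (Pi.single j 1)
    rw [h1, h3] at h2
    have h4 := hΦinj _ _ h2
    have h5 := congrFun h4 i
    simpa using h5.symm
  haveI : Finite S := Finite.of_injective f₁ hf₁
  have hSodd : Odd (Nat.card S) := by
    have h1 : Nat.card S = Nat.card f₁.range :=
      Nat.card_congr (MonoidHom.ofInjective hf₁).toEquiv
    have h2 : Nat.card f₁.range ∣ Nat.card H := Subgroup.card_subgroup_dvd_card _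
    rw [h1]
    exact hodd.of_dvd_nat h2
  let L : Subgroup (GL (Fin 2) (AdjoinRoot m)) :=
    S.map (MonoidHom.snd H (GL (Fin 2) (AdjoinRoot m)))
  have hXL : X ∈ L := ⟨(x, X), hXS, rfl⟩
  have hYL : Y ∈ L := ⟨(y, Y), hYS, rfl⟩
  haveI : Finite L := by
    have : Function.Surjective
        (fun s : S => (⟨(s : H × GL (Fin 2) (AdjoinRoot m)).2, ⟨s, s.2, rfl⟩⟩ : L)) := by
      rintro ⟨_, ⟨s, hs, rfl⟩⟩
      exact ⟨⟨s, hs⟩, rfl⟩
    exact Finite.of_surjective _ this
  have hLodd : Odd (Nat.card L) :=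
    hSodd.of_dvd_nat (Subgroup.card_map_dvd S _)
  haveI : CharP (AdjoinRoot m) p :=
    charP_of_injective_algebraMap (algebraMap F (AdjoinRoot m)).injective p
  have hirr : ∀ v : Fin 2 → AdjoinRoot m, v ≠ 0 → ∃ g ∈ L,
      (g : Matrix (Fin 2) (Fin 2) (AdjoinRoot m)).mulVec v ∉ Submodule.span (AdjoinRoot m) {v} := by
    intro v hv
    by_cases h1 : v 1 = 0
    · refine ⟨Y, hYL, ?_⟩
      rw [Submodule.mem_span_singleton]
      rintro ⟨c, hc⟩
      have h0 := congrFun hc 0
      have h1' := congrFun hc 1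
      rw [hY] at h0 h1'
      simp [Matrix.mulVec, dotProduct, Fin.sum_univ_two, h1] at h0 h1'
      apply hv
      ext i; fin_cases i
      · simpa using h1'.symm
      · simpa using h1
    · refine ⟨X, hXL, ?_⟩
      rw [Submodule.mem_span_singleton]
      rintro ⟨c, hc⟩
      have h0 := congrFun hc 0
      have h1' := congrFun hc 1
      rw [hX] at h0 h1'
      simp [Matrix.mulVec, dotProduct, Fin.sum_univ_two] at h0 h1'
      have hc1 : c = 1 := by
        have : (c - 1) * v 1 = 0 := by rw [sub_mul, one_mul, h1', sub_self]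
        exact sub_eq_zero.mp ((mul_eq_zero.mp this).resolve_right h1)
      rw [hc1, one_mul] at h0
      have : lam * v 1 = 0 := by linear_combination -h0
      rcases mul_eq_zero.mp this with h | h
      · exact hlam0 h
      · exact h1 h
  have hpL : p ∣ Nat.card L := by
    have hXp : X ^ p = 1 := by
      apply Units.ext
      rw [Units.val_pow_eq_pow_val, Units.val_one]
      have hN : ((X : Matrix (Fin 2) (Fin 2) (AdjoinRoot m)) - 1) *
          ((X : Matrix (Fin 2) (Fin 2) (AdjoinRoot m)) - 1) = 0 := by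
        rw [hX]
        ext i j; fin_cases i <;> fin_cases j <;> simp [Matrix.mul_apply, Fin.sum_univ_two]
      have h1 : ((X : Matrix (Fin 2) (Fin 2) (AdjoinRoot m)) - 1) ^ p = 0 := by
        have hp2 : 2 ≤ p := (Fact.out : p.Prime).two_le
        obtain ⟨k, rfl⟩ := Nat.exists_eq_add_of_le hp2
        rw [pow_add, pow_two, hN, zero_mul]
      rw [sub_pow_char_of_commute p (Commute.one_right _), one_pow, sub_eq_zero] at h1
      exact h1
    have hX1 : X ≠ 1 := by
      intro h
      have := congrArg (fun u : GL (Fin 2) (AdjoinRoot m) =>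
        (u : Matrix (Fin 2) (Fin 2) (AdjoinRoot m)) 0 1) h
      simp only [hX, Units.val_one] at this
      simp at this
      exact hlam0 this
    have hord : orderOf X = p := orderOf_eq_prime hXp hX1
    have h1 : orderOf (⟨X, hXL⟩ : L) = p := by
      rw [← hord, ← Subgroup.orderOf_coe]
    rw [← h1]
    exact orderOf_dvd_natCard _
  exact Cfsg.Agent.S1463.result p hp L hLodd hirr hpL

end Cfsg.Agent.Lib.Helper33
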