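import Mathlib
import Cfsg.Agent.Lib.Helper33.QuadPair

/-!
# Quadratic pairs in groups of odd order acting on `p`-groups

* `quadratic_pair_false_mul`: multiplicative form of `quadratic_pair_false`.
* `quad_pprime_trivial`: if `H = ⟨x, y⟩` has odd order and acts on a finite `p`-group `P` with
  `x`, `y` acting quadratically, then the `p'`-elements of `H` act trivially on `P`.
-/

namespace Cfsg.Agent.Lib.Helper33

theorem quadratic_pair_false_mul_aux (p : ℕ) [Fact p.Prime] (hp : p ≠ 2)
    {Z : Type*} [CommGroup Z] [Finite Z] [Nontrivial Z] [Module (ZMod p) (Additive Z)]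
    {H : Type*} [Group H] [Finite H] (hodd : Odd (Nat.card H))
    (φ : H →* MulAut Z) (x y : H)
    (hx : ∀ z : Z, φ x (φ x z * z⁻¹) = φ x z * z⁻¹)
    (hy : ∀ z : Z, φ y (φ y z * z⁻¹) = φ y z * z⁻¹)
    (hker : ∀ z : Z, φ x z = z → φ y z = z → z = 1) : False := by
  let ρ : H →* Module.End (ZMod p) (Additive Z) :=
    { toFun := fun g => AddMonoidHom.toZModLinearMap p (MonoidHom.toAdditive (φ g).toMonoidHom)
      map_one' := by
        apply LinearMap.ext
        intro v
        rw [map_one, Module.End.one_apply]
        rfl
      map_mul' := by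
        intro g h
        apply LinearMap.ext
        intro v
        rw [map_mul, Module.End.mul_apply]
        rfl }
  have hρ : ∀ g (v : Additive Z), ρ g v = Additive.ofMul (φ g (Additive.toMul v)) := fun g v => rfl
  haveI : Finite (Additive Z) := inferInstanceAs (Finite Z)
  haveI : Nontrivial (Additive Z) := inferInstanceAs (Nontrivial Z)
  haveI : FiniteDimensional (ZMod p) (Additive Z) := Module.Finite.of_finite
  refine quadratic_pair_false (F := ZMod p) p hp hodd ρ x y ?_ ?_ ?_
  · apply LinearMap.ext
    intro v
    simp only [Module.End.mul_apply, LinearMap.sub_apply, Module.End.one_apply, hρ,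
      LinearMap.zero_apply]
    have := hx (Additive.toMul v)
    rw [sub_eq_zero]
    apply Additive.toMul.injective
    simp only [toMul_sub, toMul_ofMul, div_eq_mul_inv]
    exact this
  · apply LinearMap.ext
    intro v
    simp only [Module.End.mul_apply, LinearMap.sub_apply, Module.End.one_apply, hρ,
      LinearMap.zero_apply]
    have := hy (Additive.toMul v)
    rw [sub_eq_zero]
    apply Additive.toMul.injective
    simp only [toMul_sub, toMul_ofMul, div_eq_mul_inv]
    exact this
  · intro v h1 h2
    rw [hρ] at h1 h2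
    have := hker (Additive.toMul v) (by
      have := congrArg Additive.toMul h1; simpa using this) (by
      have := congrArg Additive.toMul h2; simpa using this)
    apply Additive.toMul.injective
    rw [this]; rfl

theorem quadratic_pair_false_mul (p : ℕ) [Fact p.Prime] (hp : p ≠ 2)
    {Z : Type*} [CommGroup Z] [Finite Z] [Nontrivial Z] (hZ : ∀ z : Z, z ^ p = 1)
    {H : Type*} [Group H] [Finite H] (hodd : Odd (Nat.card H))
    (φ : H →* MulAut Z) (x y : H)
    (hx : ∀ z : Z, φ x (φ x z * z⁻¹) = φ x z * z⁻¹)
    (hy : ∀ z : Z, φ y (φ y z * z⁻¹) = φ y z * z⁻¹)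
    (hker : ∀ z : Z, φ x z = z → φ y z = z → z = 1) : False := by
  letI : Module (ZMod p) (Additive Z) := AddCommGroup.zmodModule (n := p) (fun v => by
    show Additive.ofMul (Additive.toMul v ^ p) = 0
    rw [hZ]; rfl)
  exact quadratic_pair_false_mul_aux p hp hodd φ x y hx hy hker

/-- `Ω₁(Z(P))`: central elements of order dividing `p`. -/
def omegaCenter (p : ℕ) (P : Type*) [Group P] : Subgroup P where
  carrier := {z | z ∈ Subgroup.center P ∧ z ^ p = 1}
  mul_mem' := by
    rintro a b ⟨ha, hap⟩ ⟨hb, hbp⟩
    refine ⟨Subgroup.mul_mem _ ha hb, ?_⟩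
    have hc : Commute a b := (Subgroup.mem_center_iff.mp hb a)
    rw [hc.mul_pow, hap, hbp, one_mul]
  one_mem' := ⟨Subgroup.one_mem _, one_pow _⟩
  inv_mem' := by
    rintro a ⟨ha, hap⟩
    exact ⟨Subgroup.inv_mem _ ha, by rw [inv_pow, hap, inv_one]⟩

theorem mem_omegaCenter {p : ℕ} {P : Type*} [Group P] {z : P} :
    z ∈ omegaCenter p P ↔ z ∈ Subgroup.center P ∧ z ^ p = 1 := Iff.rfl

instance omegaCenterCommGroup (p : ℕ) (P : Type*) [Group P] : CommGroup (omegaCenter p P) :=
  { (inferInstance : Group (omegaCenter p P)) with
    mul_comm := fun a b => Subtype.ext (Subgroup.mem_center_iff.mp b.2.1 a) }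

theorem map_mem_omegaCenter {p : ℕ} {P : Type*} [Group P] (α : MulAut P) {z : P}
    (hz : z ∈ omegaCenter p P) : α z ∈ omegaCenter p P := by
  refine ⟨?_, by rw [← map_pow, hz.2, map_one]⟩
  rw [Subgroup.mem_center_iff]
  intro g
  have h1 := Subgroup.mem_center_iff.mp hz.1 (α.symm g)
  have h2 := congrArg α h1
  simpa using h2

/-- restriction of an automorphism to `Ω₁(Z(P))` -/
def omegaCenterAut (p : ℕ) {P : Type*} [Group P] (α : MulAut P) : MulAut (omegaCenter p P) where
  toFun z := ⟨α z, map_mem_omegaCenter α z.2⟩
  invFun z := ⟨α.symm z, map_mem_omegaCenter α.symm z.2⟩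
  left_inv z := by simp
  right_inv z := by simp
  map_mul' a b := by
    apply Subtype.ext
    simp

/-- restriction of an action to `Ω₁(Z(P))` -/
def omegaCenterHom (p : ℕ) {P : Type*} [Group P] {H : Type*} [Group H] (ρ : H →* MulAut P) :
    H →* MulAut (omegaCenter p P) where
  toFun g := omegaCenterAut p (ρ g)
  map_one' := by
    ext z
    simp [omegaCenterAut]
  map_mul' g h := by
    ext z
    simp [omegaCenterAut]

theorem omegaCenterHom_apply (p : ℕ) {P : Type*} [Group P] {H : Type*} [Group H]
    (ρ : H →* MulAut P) (g : H) (z : omegaCenter p P) :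
    ((omegaCenterHom p ρ g z : omegaCenter p P) : P) = ρ g z := rfl

/-- the `H`-fixed points in `Ω₁(Z(P))` -/
def fixedOmega (p : ℕ) {P : Type*} [Group P] {H : Type*} [Group H] (ρ : H →* MulAut P) :
    Subgroup P where
  carrier := {z | z ∈ omegaCenter p P ∧ ∀ g, ρ g z = z}
  mul_mem' := by
    rintro a b ⟨ha, hag⟩ ⟨hb, hbg⟩
    exact ⟨Subgroup.mul_mem _ ha hb, fun g => by rw [map_mul, hag, hbg]⟩
  one_mem' := ⟨Subgroup.one_mem _, fun g => map_one _⟩
  inv_mem' := by
    rintro a ⟨ha, hag⟩
    exact ⟨Subgroup.inv_mem _ ha, fun g => by rw [map_inv, hag]⟩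

theorem mem_fixedOmega {p : ℕ} {P : Type*} [Group P] {H : Type*} [Group H] {ρ : H →* MulAut P}
    {z : P} : z ∈ fixedOmega p ρ ↔ z ∈ omegaCenter p P ∧ ∀ g, ρ g z = z := Iff.rfl

instance fixedOmega_normal (p : ℕ) {P : Type*} [Group P] {H : Type*} [Group H]
    (ρ : H →* MulAut P) : (fixedOmega p ρ).Normal := by
  constructor
  intro n hn g
  have : g * n * g⁻¹ = n := by
    have := Subgroup.mem_center_iff.mp hn.1.1 g
    rw [this, mul_inv_cancel_right]
  rw [this]; exact hn

theorem fixedOmega_map (p : ℕ) {P : Type*} [Group P] {H : Type*} [Group H]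
    (ρ : H →* MulAut P) (g : H) :
    (fixedOmega p ρ).map ((ρ g : P ≃* P) : P →* P) = fixedOmega p ρ := by
  ext z
  constructor
  · rintro ⟨w, hw, rfl⟩
    have : (ρ g) w = w := hw.2 g
    show (ρ g) w ∈ _
    rw [this]; exact hw
  · intro hz
    exact ⟨z, hz, hz.2 g⟩

/-- the induced action on `P / fixedOmega` -/
noncomputable def quotFixedHom (p : ℕ) {P : Type*} [Group P] {H : Type*} [Group H]
    (ρ : H →* MulAut P) : H →* MulAut (P ⧸ fixedOmega p ρ) where
  toFun g := QuotientGroup.congr (fixedOmega p ρ) (fixedOmega p ρ) (ρ g) (fixedOmega_map p ρ g)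
  map_one' := by
    ext u
    induction u using QuotientGroup.induction_on with
    | H u => simp [QuotientGroup.congr]
  map_mul' g h := by
    ext u
    induction u using QuotientGroup.induction_on with
    | H u => simp [QuotientGroup.congr]

theorem quotFixedHom_mk (p : ℕ) {P : Type*} [Group P] {H : Type*} [Group H]
    (ρ : H →* MulAut P) (g : H) (u : P) :
    quotFixedHom p ρ g (QuotientGroup.mk u) = QuotientGroup.mk (ρ g u) := rfl


universe u

/-- **Quadratic pairs in groups of odd order** (abstract form).  `H = ⟨x, y⟩` finite of odd order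
acting on a finite `p`-group `P`, `x` and `y` acting quadratically.  Then every `p'`-element of `H`
acts trivially. -/
theorem quad_pprime_trivial {H : Type*} [Group H] [Finite H] (hodd : Odd (Nat.card H)) (p : ℕ)
    [Fact p.Prime] (hp2 : p ≠ 2) (x y : H) (hgen : Subgroup.closure {x, y} = ⊤) :
    ∀ (n : ℕ) (P : Type u) [Group P] [Finite P], IsPGroup p P → Nat.card P ≤ n →
      ∀ (ρ : H →* MulAut P),
      (∀ u : P, ρ x (ρ x u * u⁻¹) = ρ x u * u⁻¹) → (∀ u : P, ρ y (ρ y u * u⁻¹) = ρ y u * u⁻¹) →
      ∀ h : H, (orderOf h).Coprime p → ρ h = 1 := by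
  intro n
  induction n with
  | zero =>
    intro P _ _ hP hn
    have := Nat.card_pos (α := P)
    omega
  | succ n ih =>
    intro P _ _ hP hn ρ hx hy h hh
    by_cases htriv : Subsingleton P
    · ext u; exact Subsingleton.elim _ _
    rw [not_subsingleton_iff_nontrivial] at htriv
    by_cases hU : fixedOmega p ρ = ⊥
    · -- contradiction from the quadratic pair lemma
      exfalso
      haveI : Nontrivial (omegaCenter p P) := by
        haveI := hP.center_nontrivial
        have hdvd : p ∣ Nat.card (Subgroup.center P) := by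
          obtain ⟨k, hk⟩ := IsPGroup.iff_card.mp (hP.to_subgroup (Subgroup.center P))
          have hk0 : k ≠ 0 := by
            intro h0
            rw [h0, pow_zero] at hk
            have := Finite.one_lt_card (α := Subgroup.center P)
            omega
          rw [hk]; exact dvd_pow_self p hk0
        obtain ⟨z, hz⟩ := exists_prime_orderOf_dvd_card' p hdvd
        have hz1 : z ≠ 1 := by
          intro h1; rw [h1, orderOf_one] at hz
          exact (Fact.out : p.Prime).one_lt.ne' hz.symm
        have hzp : (z : P) ^ p = 1 := by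
          have : z ^ p = 1 := by rw [← hz]; exact pow_orderOf_eq_one z
          have := congrArg Subtype.val this
          simpa using this
        refine ⟨⟨⟨(z : P), z.2, hzp⟩, 1, ?_⟩⟩
        intro h
        apply hz1
        have := congrArg Subtype.val h
        exact Subtype.ext this
      have hZp : ∀ z : omegaCenter p P, z ^ p = 1 := fun z => Subtype.ext (by simpa using z.2.2)
      refine quadratic_pair_false_mul p hp2 hZp hodd (omegaCenterHom p ρ) x y ?_ ?_ ?_
      · intro z
        apply Subtype.ext
        exact hx z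
      · intro z
        apply Subtype.ext
        exact hy z
      · intro z h1 h2
        have h1' : ρ x z = z := congrArg Subtype.val h1
        have h2' : ρ y z = z := congrArg Subtype.val h2
        have hall : ∀ g : H, ρ g z = z := by
          intro g
          have hg : g ∈ Subgroup.closure {x, y} := by rw [hgen]; exact Subgroup.mem_top g
          induction hg using Subgroup.closure_induction with
          | mem w hw =>
            rcases hw with rfl | rfl
            · exact h1'
            · exact h2'
          | one => simp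
          | mul a b _ _ ha hb => rw [map_mul, MulAut.mul_apply, hb, ha]
          | inv a _ ha =>
            rw [map_inv]
            conv_lhs => rw [← ha]
            simp
        have : (z : P) ∈ fixedOmega p ρ := ⟨z.2, hall⟩
        rw [hU, Subgroup.mem_bot] at this
        exact Subtype.ext this
    · -- induction through the quotient
      have hlt : Nat.card (P ⧸ fixedOmega p ρ) ≤ n := by
        have h1 := Subgroup.card_eq_card_quotient_mul_card_subgroup (fixedOmega p ρ)
        have h2 : 1 < Nat.card (fixedOmega p ρ) := by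
          rw [Subgroup.one_lt_card_iff_ne_bot]; exact hU
        have h3 := Nat.card_pos (α := P ⧸ fixedOmega p ρ)
        nlinarith
      have hq := ih (P ⧸ fixedOmega p ρ) (hP.to_quotient _) hlt (quotFixedHom p ρ)
        (by
          intro u
          induction u using QuotientGroup.induction_on with
          | H u =>
            rw [quotFixedHom_mk, ← QuotientGroup.mk_inv, ← QuotientGroup.mk_mul, quotFixedHom_mk, hx])
        (by
          intro u
          induction u using QuotientGroup.induction_on with
          | H u =>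
            rw [quotFixedHom_mk, ← QuotientGroup.mk_inv, ← QuotientGroup.mk_mul, quotFixedHom_mk, hy])
        h hh
      ext u
      rw [MulAut.one_apply]
      have h1 : (QuotientGroup.mk (ρ h u) : P ⧸ fixedOmega p ρ) = QuotientGroup.mk u := by
        rw [← quotFixedHom_mk, hq, MulAut.one_apply]
      rw [QuotientGroup.eq] at h1
      -- `z = (ρ h u)⁻¹ * u` is fixed
      obtain ⟨z, hz⟩ : ∃ z, z = (ρ h u)⁻¹ * u := ⟨_, rfl⟩
      rw [← hz] at h1
      have hu : u = ρ h u * z := by rw [hz]; group
      have hzfix : ρ h z = z := h1.2 h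
      have hzp : z ^ p = 1 := h1.1.2
      have hpow : ∀ k : ℕ, u = (ρ h ^ k) u * z ^ k := by
        intro k
        induction k with
        | zero => simp
        | succ k ihk =>
          have h2 : (ρ h ^ (k + 1)) u = ρ h ((ρ h ^ k) u) := by
            rw [pow_succ', MulAut.mul_apply]
          have h3 : ρ h u = ρ h ((ρ h ^ k) u) * z ^ k := by
            conv_lhs => rw [ihk]
            rw [map_mul, map_pow, hzfix]
          rw [h2, pow_succ, ← mul_assoc, ← h3, ← hu]
      have hm := hpow (orderOf h)
      rw [← map_pow, pow_orderOf_eq_one, map_one, MulAut.one_apply] at hm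
      have hz1 : z ^ orderOf h = 1 := by
        have : u * 1 = u * z ^ orderOf h := by rw [mul_one]; exact hm
        exact (mul_left_cancel this).symm
      have hz2 : orderOf z ∣ Nat.gcd (orderOf h) p :=
        Nat.dvd_gcd (orderOf_dvd_of_pow_eq_one hz1) (orderOf_dvd_of_pow_eq_one hzp)
      rw [hh, Nat.dvd_one, orderOf_eq_one_iff] at hz2
      rw [hz2, mul_one] at hu
      exact hu.symm

end Cfsg.Agent.Lib.Helper33
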