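import Mathlib
import Cfsg.Prelude
import Cfsg.Agent.Lib.Helper33.QuadAction
import Cfsg.Agent.Lib.Helper06.BaerSuzuki

/-!
# p-stability in groups of odd order (Bender–Glauberman Theorem 6.2)
-/

open scoped commutatorElement

namespace Cfsg.Agent.Lib.Helper33

section
variable {G : Type*} [Group G]

/-- the conjugation action of `N_G(P)` on `P` -/
def normalizerAut (P : Subgroup G) : ↥(Subgroup.normalizer (P : Set G)) →* MulAut ↥P where
  toFun n :=
    { toFun := fun u => ⟨n * u * (n : G)⁻¹, (Subgroup.mem_normalizer_iff.mp n.2 u).mp u.2⟩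
      invFun := fun u => ⟨(n : G)⁻¹ * u * n, by
        have := (Subgroup.mem_normalizer_iff.mp (Subgroup.inv_mem _ n.2) u).mp u.2
        simpa using this⟩
      left_inv := fun u => by apply Subtype.ext; simp [mul_assoc]
      right_inv := fun u => by apply Subtype.ext; simp [mul_assoc]
      map_mul' := fun u v => by apply Subtype.ext; simp [mul_assoc] }
  map_one' := by ext u; simp
  map_mul' a b := by ext u; simp [mul_assoc]

theorem normalizerAut_apply (P : Subgroup G) (n : ↥(Subgroup.normalizer (P : Set G))) (u : ↥P) :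
    ((normalizerAut P n u : ↥P) : G) = n * u * (n : G)⁻¹ := rfl

/-- `x` acts quadratically on `P`. -/
def QuadOn (P : Subgroup G) (x : G) : Prop :=
  ∀ u ∈ P, Commute x (x * u * x⁻¹ * u⁻¹)

theorem quadOn_of_commutator (P A : Subgroup G) (hquad : ⁅⁅P, A⁆, A⁆ = ⊥) (a : G) (ha : a ∈ A) :
    QuadOn P a := by
  intro u hu
  have h1 : ⁅⁅u, a⁆, a⁆ ∈ ⁅⁅P, A⁆, A⁆ :=
    Subgroup.commutator_mem_commutator (Subgroup.commutator_mem_commutator hu ha) ha
  rw [hquad, Subgroup.mem_bot] at h1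
  -- `⁅u,a⁆` commutes with `a`
  have h2 : Commute ⁅u, a⁆ a := by
    rw [commutatorElement_def] at h1
    rw [mul_inv_eq_one, mul_inv_eq_iff_eq_mul] at h1
    exact h1
  have h3 : a * u * a⁻¹ * u⁻¹ = ⁅u, a⁆⁻¹ := by rw [commutatorElement_def]; group
  rw [h3]
  exact (h2.inv_left).symm

theorem quadOn_conj (P : Subgroup G) (x n : G) (hn : n ∈ Subgroup.normalizer (P : Set G))
    (hx : QuadOn P x) : QuadOn P (n * x * n⁻¹) := by
  intro u hu
  have hu' : n⁻¹ * u * n ∈ P := by
    have := (Subgroup.mem_normalizer_iff.mp (Subgroup.inv_mem _ hn) u).mp hu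
    simpa using this
  have h1 := hx _ hu'
  have e1 : n * x * n⁻¹ * u * (n * x * n⁻¹)⁻¹ * u⁻¹ =
      n * (x * (n⁻¹ * u * n) * x⁻¹ * (n⁻¹ * u * n)⁻¹) * n⁻¹ := by group
  rw [e1]
  show n * x * n⁻¹ * _ = _ * (n * x * n⁻¹)
  have h2 := h1.eq
  calc n * x * n⁻¹ * (n * (x * (n⁻¹ * u * n) * x⁻¹ * (n⁻¹ * u * n)⁻¹) * n⁻¹)
      = n * (x * (x * (n⁻¹ * u * n) * x⁻¹ * (n⁻¹ * u * n)⁻¹)) * n⁻¹ := by group
    _ = n * ((x * (n⁻¹ * u * n) * x⁻¹ * (n⁻¹ * u * n)⁻¹) * x) * n⁻¹ := by rw [h2]
    _ = _ := by group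

end

/-- **p-stability in groups of odd order** (Bender–Glauberman Theorem 6.2, without solvability). -/
theorem quad_le_pCore {G : Type*} [Group G] [Finite G] (hodd : Odd (Nat.card G)) (p : ℕ)
    [Fact p.Prime] (hp : p ≠ 2) (P A : Subgroup G) (hP : IsPGroup p P)
    (hquad : ⁅⁅P, A⁆, A⁆ = ⊥) :
    (A.subgroupOf (Subgroup.normalizer (P : Set G))).map
        (QuotientGroup.mk' ((Subgroup.centralizer (P : Set G)).subgroupOf
          (Subgroup.normalizer (P : Set G))))
      ≤ Cfsg.pCore p _ := by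
  classical
  -- the conjugation-invariant set
  let K : Set (↥(Subgroup.normalizer (P : Set G)) ⧸
      ((Subgroup.centralizer (P : Set G)).subgroupOf (Subgroup.normalizer (P : Set G)))) :=
    {q | ∃ n a : ↥(Subgroup.normalizer (P : Set G)), (a : G) ∈ A ∧
      q = QuotientGroup.mk (n * a * n⁻¹)}
  have hKconj : ∀ g k, k ∈ K → g * k * g⁻¹ ∈ K := by
    intro g k hk
    induction g using QuotientGroup.induction_on with
    | H g =>
      obtain ⟨n, a, ha, rfl⟩ := hk
      refine ⟨g * n, a, ha, ?_⟩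
      rw [← QuotientGroup.mk_inv, ← QuotientGroup.mk_mul, ← QuotientGroup.mk_mul]
      congr 1
      group
  have hKp : ∀ a ∈ K, ∀ b ∈ K, IsPGroup p (Subgroup.closure ({a, b} : Set _)) := by
    rintro _ ⟨n₁, a₁, ha₁, rfl⟩ _ ⟨n₂, a₂, ha₂, rfl⟩
    obtain ⟨x, hx⟩ : ∃ x : ↥(Subgroup.normalizer (P : Set G)), x = n₁ * a₁ * n₁⁻¹ := ⟨_, rfl⟩
    obtain ⟨y, hy⟩ : ∃ y : ↥(Subgroup.normalizer (P : Set G)), y = n₂ * a₂ * n₂⁻¹ := ⟨_, rfl⟩
    rw [← hx, ← hy]
    have hqx : QuadOn P (x : G) := by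
      rw [hx]
      exact quadOn_conj P _ _ n₁.2 (quadOn_of_commutator P A hquad _ ha₁)
    have hqy : QuadOn P (y : G) := by
      rw [hy]
      exact quadOn_conj P _ _ n₂.2 (quadOn_of_commutator P A hquad _ ha₂)
    let H₀ : Subgroup ↥(Subgroup.normalizer (P : Set G)) := Subgroup.closure {x, y}
    have hcl : Subgroup.closure ({(QuotientGroup.mk x : _ ⧸
        ((Subgroup.centralizer (P : Set G)).subgroupOf (Subgroup.normalizer (P : Set G)))),
        QuotientGroup.mk y} : Set _) =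
        H₀.map (QuotientGroup.mk' ((Subgroup.centralizer (P : Set G)).subgroupOf
          (Subgroup.normalizer (P : Set G)))) := by
      rw [MonoidHom.map_closure, Set.image_pair]
      rfl
    rw [hcl]
    -- set up the abstract action
    have hxH : x ∈ H₀ := Subgroup.subset_closure (by simp)
    have hyH : y ∈ H₀ := Subgroup.subset_closure (by simp)
    have hgen : Subgroup.closure {(⟨x, hxH⟩ : H₀), ⟨y, hyH⟩} = ⊤ := by
      have h1 := Subgroup.closure_closure_coe_preimage (k := ({x, y} : Set _))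
      convert h1 using 2
      ext z
      constructor
      · rintro (rfl | rfl)
        · left; rfl
        · right; rfl
      · rintro (h | h)
        · left; exact Subtype.ext h
        · right; exact Subtype.ext h
    have hoddH : Odd (Nat.card H₀) := by
      have h1 : Nat.card H₀ ∣ Nat.card ↥(Subgroup.normalizer (P : Set G)) :=
        Subgroup.card_subgroup_dvd_card _
      have h2 : Nat.card ↥(Subgroup.normalizer (P : Set G)) ∣ Nat.card G :=
        Subgroup.card_subgroup_dvd_card _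
      exact hodd.of_dvd_nat (h1.trans h2)
    let ρ : H₀ →* MulAut ↥P := (normalizerAut P).comp H₀.subtype
    have hρ : ∀ (h : H₀) (u : ↥P), ((ρ h u : ↥P) : G) = (h : G) * u * (h : G)⁻¹ := fun h u => rfl
    have hkey := quad_pprime_trivial hoddH p hp ⟨x, hxH⟩ ⟨y, hyH⟩ hgen (Nat.card ↥P) ↥P hP le_rfl ρ
      (by
        intro u
        apply Subtype.ext
        have := hqx u u.2
        simp only [Subgroup.coe_mul, hρ, InvMemClass.coe_inv]
        have h2 := this.eq
        calc (x : G) * ((x : G) * u * (x : G)⁻¹ * (u : G)⁻¹) * (x : G)⁻¹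
            = ((x : G) * u * (x : G)⁻¹ * (u : G)⁻¹) * x * (x : G)⁻¹ := by rw [h2]
          _ = _ := by group)
      (by
        intro u
        apply Subtype.ext
        have := hqy u u.2
        simp only [Subgroup.coe_mul, hρ, InvMemClass.coe_inv]
        have h2 := this.eq
        calc (y : G) * ((y : G) * u * (y : G)⁻¹ * (u : G)⁻¹) * (y : G)⁻¹
            = ((y : G) * u * (y : G)⁻¹ * (u : G)⁻¹) * y * (y : G)⁻¹ := by rw [h2]
          _ = _ := by group)
    -- every element of the image has `p`-power order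
    rintro ⟨q, h, hh, rfl⟩
    obtain ⟨k, m, hm, hkm⟩ := Nat.exists_eq_pow_mul_and_not_dvd
      (orderOf_pos (⟨h, hh⟩ : H₀)).ne' p (Fact.out : p.Prime).ne_one
    refine ⟨k, ?_⟩
    apply Subtype.ext
    rw [Subgroup.coe_pow, Subgroup.coe_one]
    show (QuotientGroup.mk h : _ ⧸ _) ^ p ^ k = 1
    rw [← QuotientGroup.mk_pow, QuotientGroup.eq_one_iff, Subgroup.mem_subgroupOf,
      Subgroup.mem_centralizer_iff]
    intro u hu
    have hcop : (orderOf ((⟨h, hh⟩ : H₀) ^ p ^ k)).Coprime p := by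
      have h1 : ((⟨h, hh⟩ : H₀) ^ p ^ k) ^ m = 1 := by
        rw [← pow_mul, ← hkm, pow_orderOf_eq_one]
      have h2 : orderOf ((⟨h, hh⟩ : H₀) ^ p ^ k) ∣ m := orderOf_dvd_of_pow_eq_one h1
      have h3 : m.Coprime p := ((Nat.Prime.coprime_iff_not_dvd Fact.out).mpr hm).symm
      exact Nat.Coprime.coprime_dvd_left h2 h3
    have h4 := hkey _ hcop
    have h5 := congrArg (fun α : MulAut ↥P => ((α ⟨u, hu⟩ : ↥P) : G)) h4
    simp only [hρ, MulAut.one_apply, SubgroupClass.coe_pow] at h5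
    rw [Subgroup.coe_pow]
    calc u * (h : G) ^ p ^ k = ((h : G) ^ p ^ k * u * ((h : G) ^ p ^ k)⁻¹) * (h : G) ^ p ^ k := by
          rw [h5]
      _ = (h : G) ^ p ^ k * u := by group
  obtain ⟨M, hMn, hMp, hKM⟩ := Cfsg.Agent.Lib.Helper06.baer_suzuki_set (p := p) K hKconj hKp
  have hMle : M ≤ Cfsg.pCore p _ := le_sSup ⟨hMn, hMp⟩
  rintro _ ⟨a, ha, rfl⟩
  apply hMle
  apply hKM
  refine ⟨1, a, Subgroup.mem_subgroupOf.mp ha, ?_⟩
  simp

end Cfsg.Agent.Lib.Helper33
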