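import Mathlib
import Cfsg.Prelude
import Cfsg.Agent.Lib.Helper65.Hall

/-!
# Finite solvable groups are `p`-solvable (`Cfsg.IsPSolvable`)
-/

namespace Cfsg.Agent.Lib.Helper33

universe u

/-- A finite solvable group is `p`-solvable (in the sense of `Cfsg.IsPSolvable`). -/
theorem isPSolvable_of_isSolvable_aux (p : ℕ) (hp : p.Prime) :
    ∀ (n : ℕ) (G : Type u) [Group G] [Finite G] [Group.IsSolvable G], Nat.card G ≤ n →
      Cfsg.IsPSolvable p G := by
  intro n
  induction n with
  | zero =>
    intro G _ _ _ hn
    have := Nat.card_pos (α := G)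
    omega
  | succ n ih =>
    intro G _ _ _ hn
    by_cases htriv : Subsingleton G
    · refine ⟨0, fun _ => ⊥, rfl, ?_, fun _ _ _ => le_rfl, fun _ => inferInstance, fun i => i.elim0⟩
      exact Subsingleton.elim _ _
    rw [not_subsingleton_iff_nontrivial] at htriv
    obtain ⟨q, A, hq, hAn, hAne, hAq, -⟩ := Cfsg.Agent.Lib.Helper65.exists_normal_abelian_pgroup G
    haveI := hAn
    have hcard : Nat.card (G ⧸ A) ≤ n := by
      have h1 := Subgroup.card_eq_card_quotient_mul_card_subgroup A
      have h2 : 1 < Nat.card A := by
        rw [Subgroup.one_lt_card_iff_ne_bot]; exact hAne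
      have h3 := Nat.card_pos (α := G ⧸ A)
      nlinarith
    obtain ⟨m, K, hK0, hKlast, hKmono, hKn, hKstep⟩ := ih (G ⧸ A) hcard
    have hsurj : Function.Surjective (QuotientGroup.mk' A) := QuotientGroup.mk'_surjective A
    refine ⟨m + 1, Fin.cons ⊥ (fun i => (K i).comap (QuotientGroup.mk' A)), ?_, ?_, ?_, ?_, ?_⟩
    · rfl
    · rw [← Fin.succ_last, Fin.cons_succ, hKlast, Subgroup.comap_top]
    · intro i j hij
      induction i using Fin.cases with
      | zero => rw [Fin.cons_zero]; exact bot_le
      | succ i =>
        induction j using Fin.cases with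
        | zero => exact absurd hij (by simp)
        | succ j =>
          rw [Fin.cons_succ, Fin.cons_succ]
          exact Subgroup.comap_mono (hKmono (Fin.succ_le_succ_iff.mp hij))
    · intro i
      induction i using Fin.cases with
      | zero => rw [Fin.cons_zero]; infer_instance
      | succ i =>
        rw [Fin.cons_succ]
        haveI := hKn i
        infer_instance
    · intro i
      induction i using Fin.cases with
      | zero =>
        have e1 : (Fin.cons ⊥ (fun i => (K i).comap (QuotientGroup.mk' A)) :
            Fin (m + 1 + 1) → Subgroup G) (Fin.castSucc 0) = ⊥ := rfl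
        have e2 : (Fin.cons ⊥ (fun i => (K i).comap (QuotientGroup.mk' A)) :
            Fin (m + 1 + 1) → Subgroup G) (Fin.succ 0) = A := by
          rw [Fin.cons_succ, hK0, MonoidHom.comap_bot, QuotientGroup.ker_mk']
        rw [e1, e2, Subgroup.relIndex_bot_left]
        haveI : Fact q.Prime := ⟨hq⟩
        obtain ⟨k, hk⟩ := IsPGroup.iff_card.mp hAq
        by_cases hqp : q = p
        · left; exact ⟨k, by rw [hk, hqp]⟩
        · right
          rw [hk]
          exact Nat.Coprime.pow_left k ((Nat.coprime_primes hq hp).2 hqp)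
      | succ i =>
        have e1 : (Fin.cons ⊥ (fun i => (K i).comap (QuotientGroup.mk' A)) :
            Fin (m + 1 + 1) → Subgroup G) (Fin.castSucc (Fin.succ i)) =
            (K (Fin.castSucc i)).comap (QuotientGroup.mk' A) := by
          rw [← Fin.succ_castSucc, Fin.cons_succ]
        have e2 : (Fin.cons ⊥ (fun i => (K i).comap (QuotientGroup.mk' A)) :
            Fin (m + 1 + 1) → Subgroup G) (Fin.succ (Fin.succ i)) =
            (K (Fin.succ i)).comap (QuotientGroup.mk' A) := by
          rw [Fin.cons_succ]
        rw [e1, e2, Subgroup.relIndex_comap, Subgroup.map_comap_eq_self_of_surjective hsurj]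
        exact hKstep i

theorem isPSolvable_of_isSolvable (p : ℕ) [hp : Fact p.Prime] (G : Type u) [Group G] [Finite G]
    [Group.IsSolvable G] : Cfsg.IsPSolvable p G :=
  isPSolvable_of_isSolvable_aux p hp.out _ G le_rfl

end Cfsg.Agent.Lib.Helper33
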