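import Mathlib
import Cfsg.Prelude
import Cfsg.Agent.Lib.Helper33.OddPStable
import Cfsg.Agent.Lib.Helper33.SolvPSolv
import Cfsg.Agent.Lib.Helper15.PSolv
import Cfsg.Agent.Lib.Helper81.PSolvable

/-!
# p-stability in groups of odd order: the case of a normal `p`-subgroup
-/

open scoped commutatorElement

namespace Cfsg.Agent.Lib.Helper33

/-- p-stability in odd order groups, for a normal `p`-subgroup `P`. -/
theorem quad_le_pCore_normal {G : Type*} [Group G] [Finite G] (hodd : Odd (Nat.card G)) (p : ℕ)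
    [Fact p.Prime] (hp : p ≠ 2) (P A : Subgroup G) [P.Normal] (hP : IsPGroup p P)
    (hquad : ⁅⁅P, A⁆, A⁆ = ⊥) :
    A.map (QuotientGroup.mk' (Subgroup.centralizer (P : Set G))) ≤
      Cfsg.pCore p (G ⧸ Subgroup.centralizer (P : Set G)) := by
  have hN : Subgroup.normalizer (P : Set G) = ⊤ := Subgroup.normalizer_eq_top_iff.mpr inferInstance
  have h1 := quad_le_pCore hodd p hp P A hP hquad
  -- the comparison map
  let g : (↥(Subgroup.normalizer (P : Set G)) ⧸
      ((Subgroup.centralizer (P : Set G)).subgroupOf (Subgroup.normalizer (P : Set G)))) →*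
      G ⧸ Subgroup.centralizer (P : Set G) :=
    QuotientGroup.map _ _ (Subgroup.normalizer (P : Set G)).subtype (fun x hx => hx)
  have hg : Function.Surjective g := by
    intro q
    induction q using QuotientGroup.induction_on with
    | H x =>
      exact ⟨QuotientGroup.mk ⟨x, by rw [hN]; exact Subgroup.mem_top x⟩, rfl⟩
  have hMn : ((Cfsg.pCore p (↥(Subgroup.normalizer (P : Set G)) ⧸
      ((Subgroup.centralizer (P : Set G)).subgroupOf (Subgroup.normalizer (P : Set G))))).map g).Normal :=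
    Subgroup.Normal.map (Cfsg.Agent.Lib.Helper81.pCore_normal p) g hg
  have hMp : IsPGroup p ((Cfsg.pCore p (↥(Subgroup.normalizer (P : Set G)) ⧸
      ((Subgroup.centralizer (P : Set G)).subgroupOf (Subgroup.normalizer (P : Set G))))).map g) :=
    (Cfsg.Agent.Lib.Helper81.isPGroup_pCore p).map g
  have hMle := Cfsg.Agent.Lib.Helper81.le_pCore hMn hMp
  rintro _ ⟨a, ha, rfl⟩
  apply hMle
  have haN : a ∈ Subgroup.normalizer (P : Set G) := by rw [hN]; exact Subgroup.mem_top a
  refine ⟨QuotientGroup.mk ⟨a, haN⟩, ?_, rfl⟩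
  apply h1
  exact ⟨⟨a, haN⟩, Subgroup.mem_subgroupOf.mpr ha, rfl⟩

end Cfsg.Agent.Lib.Helper33
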