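import Mathlib
import Cfsg.Prelude
import Cfsg.Agent.Lib.Helper33.PuigAmb
import Cfsg.Agent.Lib.Helper01.PCore
import Cfsg.Agent.S1465
import Cfsg.Agent.S1466

/-!
# Puig's sandwich `L_*(S) ≤ L_*(T) ≤ L(T) ≤ L(S)` for `T = O_p(G)` (Bender–Glauberman 6.5)
-/

namespace Cfsg.Agent.Lib.Helper33

open Cfsg

variable {G : Type*} [Group G]

/-- In a finite `p`-group `T ≤ G`, the ambient Puig terms `L_j(T)`, `j > 0`, contain their
centralizers in `T`. -/
theorem inf_centralizer_pseq_le [Finite G] (p : ℕ) [Fact p.Prime] (T : Subgroup G)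
    (hT : IsPGroup p T) (j : ℕ) (hj : 0 < j) :
    T ⊓ Subgroup.centralizer (pseq T j : Set G) ≤ pseq T j := by
  intro g hg
  rw [Subgroup.mem_inf] at hg
  by_cases htriv : Subsingleton T
  · have : (⟨g, hg.1⟩ : T) = 1 := Subsingleton.elim _ _
    have hg1 : g = 1 := congrArg Subtype.val this
    rw [hg1]; exact Subgroup.one_mem _
  rw [not_subsingleton_iff_nontrivial] at htriv
  have h1 := ((Cfsg.Agent.S1466.result (R := T) p hT).1 j hj).2
  have h2 : (⟨g, hg.1⟩ : T) ∈ Subgroup.centralizer ((puigSeq T j : Subgroup T) : Set T) := by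
    rw [Subgroup.mem_centralizer_iff]
    intro y hy
    have hy' : (y : G) ∈ pseq T j := by
      rw [← map_puigSeq]; exact ⟨y, hy, rfl⟩
    have := Subgroup.mem_centralizer_iff.mp hg.2 (y : G) hy'
    exact Subtype.ext this
  have h3 := h1 h2
  rw [← map_puigSeq]
  exact ⟨⟨g, hg.1⟩, h3, rfl⟩

/-- **Puig's sandwich** (Bender–Glauberman Theorem 6.5), for the ambient Puig series. -/
theorem puig_sandwich [Finite G] [Group.IsSolvable G] (hodd : Odd (Nat.card G)) (p : ℕ)
    [Fact p.Prime] (hp : p ≠ 2) (hO : pPrimeCore p G = ⊥) (S : Sylow p G) (i : ℕ) :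
    pseq (S : Subgroup G) (2 * i) ≤ pseq (pCore p G) (2 * i) ∧
      pseq (pCore p G) (2 * i + 1) ≤ pseq (S : Subgroup G) (2 * i + 1) := by
  have hTS : pCore p G ≤ (S : Subgroup G) := Cfsg.Agent.Lib.Helper01.pCore_le_sylow S
  haveI hTn : (pCore p G).Normal := Cfsg.Agent.Lib.Helper01.pCore_normal p
  have hTp : IsPGroup p (pCore p G) := Cfsg.Agent.Lib.Helper01.pCore_isPGroup p
  induction i with
  | zero =>
    refine ⟨by rw [Nat.mul_zero, pseq_zero]; exact bot_le, ?_⟩
    rw [Nat.mul_zero, zero_add, pseq_succ, pseq_succ]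
    exact LL_mono hTS
  | succ i ih =>
    obtain ⟨iha, ihb⟩ := ih
    have e1 : 2 * (i + 1) = (2 * i + 1) + 1 := by ring
    have e2 : 2 * (i + 1) + 1 = (2 * i + 2) + 1 := by ring
    have e3 : 2 * i + 2 = (2 * i + 1) + 1 := by ring
    have ha : pseq (S : Subgroup G) (2 * i + 2) ≤ pseq (pCore p G) (2 * i + 2) := by
      rw [e3, pseq_succ, pseq_succ]
      refine le_trans (LL_antitone ihb) ?_
      apply LL_le_of_forall
      intro A hAS hA hQ
      refine le_LL ?_ hA hQ
      -- `A ≤ O_p(G)` by p-stability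
      haveI : (pseq (pCore p G) (2 * i + 1)).Normal := pseq_normal _ _
      have hQp : IsPGroup p (pseq (pCore p G) (2 * i + 1)) := hTp.to_le (pseq_le _ _)
      have h := (Cfsg.Agent.S1465.result hodd p hp (pseq (pCore p G) (2 * i + 1)) hQp {A}
        (by
          intro B hB
          rw [Set.mem_singleton_iff] at hB
          subst hB
          exact ⟨hA, S.2.to_le hAS, hQ⟩)).2 hO
        (inf_centralizer_pseq_le p _ hTp _ (Nat.succ_pos _))
      simpa using h
    refine ⟨by rw [e1, ← e3]; exact ha, ?_⟩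
    rw [e2, pseq_succ, pseq_succ]
    exact le_trans (LL_antitone ha) (LL_mono hTS)

end Cfsg.Agent.Lib.Helper33
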