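import Mathlib
import Cfsg.Prelude
import Cfsg.Agent.Lib.Helper33.PuigCen
import Cfsg.Agent.Lib.Helper33.PuigSandwich
import Cfsg.Agent.Lib.Helper16.ZJ3

/-!
# Puig's theorem: `Z(L(S))` is normal when `O_{p'}(G) = 1` (Bender–Glauberman 6.6)
-/

namespace Cfsg.Agent.Lib.Helper33

open Cfsg

variable {G : Type*} [Group G]

/-- **Puig's theorem** (Bender–Glauberman 6.6), case `O_{p'}(G) = 1`: `Z(L(S))` is normal. -/
theorem cen_pup_normal [Finite G] [Group.IsSolvable G] (hodd : Odd (Nat.card G)) (p : ℕ)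
    [Fact p.Prime] (hp : p ≠ 2) (hO : pPrimeCore p G = ⊥) (S : Sylow p G) :
    (cen (pup (S : Subgroup G))).Normal := by
  have hTS : pCore p G ≤ (S : Subgroup G) := Cfsg.Agent.Lib.Helper01.pCore_le_sylow S
  haveI hTn : (pCore p G).Normal := Cfsg.Agent.Lib.Helper01.pCore_normal p
  have hTp : IsPGroup p (pCore p G) := Cfsg.Agent.Lib.Helper01.pCore_isPGroup p
  -- the sandwich, in the limit
  obtain ⟨k₁, hk₁⟩ := exists_pseq_stable (S : Subgroup G)
  obtain ⟨k₂, hk₂⟩ := exists_pseq_stable (pCore p G)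
  have a1 := hk₁ (max k₁ k₂) (le_max_left _ _)
  have a2 := hk₂ (max k₁ k₂) (le_max_right _ _)
  have hs := puig_sandwich hodd p hp hO S (max k₁ k₂)
  rw [a1.1, a1.2, a2.1, a2.2] at hs
  obtain ⟨hlow, hup⟩ := hs
  -- `Y = Z(L(T))` is normal
  haveI hLTn : (pup (pCore p G)).Normal := by rw [← a2.2]; exact pseq_normal _ _
  haveI hYn : (cen (pup (pCore p G))).Normal := by
    rw [← Subgroup.normalizer_eq_top_iff, eq_top_iff]
    refine le_trans ?_ (normalizer_le_normalizer_cen _)
    rw [Subgroup.normalizer_eq_top_iff.mpr hLTn]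
  have hYT : cen (pup (pCore p G)) ≤ pCore p G := (cen_le _).trans (pup_le _)
  have hYp : IsPGroup p (cen (pup (pCore p G))) := hTp.to_le hYT
  -- `Z ≤ Y`
  have hZlow : cen (pup (S : Subgroup G)) ≤ plow (S : Subgroup G) := by
    rw [← LL_pup]
    exact le_LL ((cen_le _).trans (pup_le _)) (cen_isMulCommutative _) (le_normalizer_cen _)
  have hZY : cen (pup (S : Subgroup G)) ≤ cen (pup (pCore p G)) := by
    apply le_inf
    · exact hZlow.trans (hlow.trans (plow_le_pup _))
    · exact le_trans inf_le_right (Subgroup.centralizer_le hup)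
  -- `Y ≤ L_*(S)`
  have hYlow : cen (pup (pCore p G)) ≤ plow (S : Subgroup G) := by
    rw [← LL_pup]
    refine le_LL (hYT.trans hTS) (cen_isMulCommutative _) ?_
    rw [Subgroup.normalizer_eq_top_iff.mpr hYn]
    exact le_top
  -- `L(S) ≤ K`
  haveI hVn : (pCore p (G ⧸ Subgroup.centralizer (cen (pup (pCore p G)) : Set G))).Normal :=
    Cfsg.Agent.Lib.Helper01.pCore_normal p
  have hVp : IsPGroup p (pCore p (G ⧸ Subgroup.centralizer (cen (pup (pCore p G)) : Set G))) :=
    Cfsg.Agent.Lib.Helper01.pCore_isPGroup p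
  have hLK : pup (S : Subgroup G) ≤
      (pCore p (G ⧸ Subgroup.centralizer (cen (pup (pCore p G)) : Set G))).comap
        (QuotientGroup.mk' (Subgroup.centralizer (cen (pup (pCore p G)) : Set G))) := by
    rw [← LL_plow]
    apply LL_le_of_forall
    intro A _ hA hX
    rw [← Subgroup.map_le_iff_le_comap]
    exact quad_le_pCore_normal hodd p hp _ A hYp
      (Cfsg.Agent.S1465.quad_of_abelian_normalized _ A hA (hYlow.trans hX))
  -- the closed pair lemma for `S₁ = S ∩ K`
  have hpup : pup ((S : Subgroup G) ⊓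
      (pCore p (G ⧸ Subgroup.centralizer (cen (pup (pCore p G)) : Set G))).comap
        (QuotientGroup.mk' (Subgroup.centralizer (cen (pup (pCore p G)) : Set G)))) =
      pup (S : Subgroup G) :=
    pup_eq_of_le inf_le_left (le_inf (pup_le _) hLK)
  -- conclusion
  rw [← Subgroup.normalizer_eq_top_iff, eq_top_iff]
  intro g _
  obtain ⟨n, hn, c, hc, rfl⟩ := Cfsg.Agent.Lib.Helper16.ZJ.factor_of_normal_pgroup S
    (Subgroup.centralizer (cen (pup (pCore p G)) : Set G)) _ hVp g
  apply Subgroup.mul_mem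
  · have h1 := normalizer_le_normalizer_pup _ hn
    rw [hpup] at h1
    exact normalizer_le_normalizer_cen _ h1
  · apply Subgroup.centralizer_le_normalizer
    exact Subgroup.centralizer_le hZY hc

end Cfsg.Agent.Lib.Helper33
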