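import Mathlib
import Cfsg.Prelude
import Cfsg.Agent.Lib.Helper33.PuigNormal
import Cfsg.Agent.Lib.Helper81.PSolvable

/-!
# Puig's factorization `G = O_{p'}(G) N_G(Z(L(S)))` (Bender–Glauberman 6.6)
-/

namespace Cfsg.Agent.Lib.Helper33

open Cfsg

variable {G : Type*} [Group G] {G' : Type*} [Group G']

theorem LL_map_hom_le (f : G →* G') (H X : Subgroup G) :
    (LL H X).map f ≤ LL (H.map f) (X.map f) := by
  rw [Subgroup.map_le_iff_le_comap]
  apply LL_le_of_forall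
  intro A hAH hA hX
  rw [← Subgroup.map_le_iff_le_comap]
  refine le_LL (Subgroup.map_mono hAH) inferInstance ?_
  exact le_trans (Subgroup.map_mono hX) (Subgroup.le_normalizer_map _)

theorem LL_map_of_inf_ker (f : G →* G') {S X : Subgroup G} (hinj : S ⊓ f.ker = ⊥) (hXS : X ≤ S) :
    (LL S X).map f = LL (S.map f) (X.map f) := by
  apply le_antisymm (LL_map_hom_le f S X)
  apply LL_le_of_forall
  intro A' hA'S hA' hX'
  have hmap : (A'.comap f ⊓ S).map f = A' :=
    Cfsg.Agent.Lib.Helper16.ZJ.map_comap_inf_of_le f hA'S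
  have hcomm : IsMulCommutative ↥(A'.comap f ⊓ S) :=
    Cfsg.Agent.Lib.Helper16.ZJ.comm_of_map_comm f hinj inf_le_right (by rw [hmap]; exact hA')
  have hnorm : X ≤ Subgroup.normalizer ((A'.comap f ⊓ S : Subgroup G) : Set G) := by
    have key : ∀ x ∈ X, ∀ a ∈ A'.comap f ⊓ S, x * a * x⁻¹ ∈ A'.comap f ⊓ S := by
      intro x hx a ha
      obtain ⟨ha1, ha2⟩ := Subgroup.mem_inf.mp ha
      refine Subgroup.mem_inf.mpr ⟨?_, S.mul_mem (S.mul_mem (hXS hx) ha2) (S.inv_mem (hXS hx))⟩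
      rw [Subgroup.mem_comap, map_mul, map_mul, map_inv]
      have hfx : f x ∈ Subgroup.normalizer (A' : Set G') := hX' ⟨x, hx, rfl⟩
      exact (Subgroup.mem_normalizer_iff.mp hfx (f a)).mp ha1
    intro x hx
    rw [Subgroup.mem_normalizer_iff]
    intro a
    constructor
    · exact key x hx a
    · intro ha
      have := key x⁻¹ (X.inv_mem hx) _ ha
      simpa [mul_assoc] using this
  rw [← hmap]
  exact Subgroup.map_mono (le_LL inf_le_right hcomm hnorm)

theorem pseq_map_of_inf_ker (f : G →* G') {S : Subgroup G} (hinj : S ⊓ f.ker = ⊥) (n : ℕ) :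
    (pseq S n).map f = pseq (S.map f) n := by
  induction n with
  | zero => simp [pseq]
  | succ n ih => rw [pseq_succ, LL_map_of_inf_ker f hinj (pseq_le S n), ih, pseq_succ]

theorem pup_map_of_inf_ker [Finite G] [Finite G'] (f : G →* G') {S : Subgroup G}
    (hinj : S ⊓ f.ker = ⊥) : (pup S).map f = pup (S.map f) := by
  obtain ⟨k₁, hk₁⟩ := exists_pseq_stable S
  obtain ⟨k₂, hk₂⟩ := exists_pseq_stable (S.map f)
  rw [← (hk₁ (max k₁ k₂) (le_max_left _ _)).2, ← (hk₂ (max k₁ k₂) (le_max_right _ _)).2]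
  exact pseq_map_of_inf_ker f hinj _

theorem cen_map_of_inf_ker (f : G →* G') {S L : Subgroup G} (hinj : S ⊓ f.ker = ⊥)
    (hLS : L ≤ S) : (cen L).map f = cen (L.map f) := by
  ext y
  constructor
  · rintro ⟨z, hz, rfl⟩
    obtain ⟨hz1, hz2⟩ := Subgroup.mem_inf.mp hz
    refine Subgroup.mem_inf.mpr ⟨⟨z, hz1, rfl⟩, ?_⟩
    rw [Subgroup.mem_centralizer_iff]
    rintro _ ⟨l, hl, rfl⟩
    rw [← map_mul, ← map_mul, Subgroup.mem_centralizer_iff.mp hz2 l hl]
  · intro hy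
    obtain ⟨⟨z, hz, rfl⟩, hc⟩ := Subgroup.mem_inf.mp hy
    refine ⟨z, Subgroup.mem_inf.mpr ⟨hz, ?_⟩, rfl⟩
    rw [Subgroup.mem_centralizer_iff]
    intro l hl
    have h1 := Subgroup.mem_centralizer_iff.mp hc (f l) ⟨l, hl, rfl⟩
    rw [← map_mul, ← map_mul] at h1
    exact Cfsg.Agent.Lib.Helper16.ZJ.injOn_of_inf_ker f hinj
      (S.mul_mem (hLS hl) (hLS hz)) (S.mul_mem (hLS hz) (hLS hl)) h1

/-- **Puig's factorization** `G = O_{p'}(G) N_G(Z(L(S)))` (Bender–Glauberman 6.6). -/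
theorem puig_factorization [Finite G] [Group.IsSolvable G] (hodd : Odd (Nat.card G)) (p : ℕ)
    [Fact p.Prime] (hp : p ≠ 2) (S : Sylow p G) :
    pPrimeCore p G ⊔ Subgroup.normalizer (cen (pup (S : Subgroup G)) : Set G) = ⊤ := by
  haveI hNn : (pPrimeCore p G).Normal := Cfsg.Agent.Lib.Helper81.pPrimeCore_normal p
  have hsurj := QuotientGroup.mk'_surjective (pPrimeCore p G)
  have hinj : (S : Subgroup G) ⊓ (QuotientGroup.mk' (pPrimeCore p G)).ker = ⊥ := by
    rw [QuotientGroup.ker_mk']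
    exact Cfsg.Agent.Lib.Helper16.ZJ.pgroup_inf_pPrimeCore S.2
  have hoddq : Odd (Nat.card (G ⧸ pPrimeCore p G)) :=
    hodd.of_dvd_nat (Subgroup.card_quotient_dvd_card _)
  have hOq : pPrimeCore p (G ⧸ pPrimeCore p G) = ⊥ :=
    Cfsg.Agent.Lib.Helper81.pPrimeCore_quotient_eq_bot p
  have hA := cen_pup_normal hoddq p hp hOq (S.mapSurjective hsurj)
  rw [Sylow.coe_mapSurjective, ← pup_map_of_inf_ker _ hinj,
    ← cen_map_of_inf_ker _ hinj (pup_le _)] at hA
  haveI hMn : (((cen (pup (S : Subgroup G))).map (QuotientGroup.mk' (pPrimeCore p G))).comap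
      (QuotientGroup.mk' (pPrimeCore p G))).Normal := hA.comap _
  have hZS : cen (pup (S : Subgroup G)) ≤ S := (cen_le _).trans (pup_le _)
  have hSM : (S : Subgroup G) ⊓ ((cen (pup (S : Subgroup G))).map
      (QuotientGroup.mk' (pPrimeCore p G))).comap (QuotientGroup.mk' (pPrimeCore p G)) =
      cen (pup (S : Subgroup G)) := by
    apply le_antisymm
    · intro x hx
      obtain ⟨hxS, hxM⟩ := Subgroup.mem_inf.mp hx
      obtain ⟨z, hz, hzx⟩ := hxM
      have : z = x := Cfsg.Agent.Lib.Helper16.ZJ.injOn_of_inf_ker _ hinj (hZS hz) hxS hzx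
      rw [← this]; exact hz
    · exact le_inf hZS (fun z hz => Subgroup.mem_map_of_mem _ hz)
  rw [eq_top_iff]
  intro g _
  obtain ⟨n, hn, m, hm, rfl⟩ := Cfsg.Agent.Lib.Helper16.ZJ.frattini_inf_normal S
    (((cen (pup (S : Subgroup G))).map (QuotientGroup.mk' (pPrimeCore p G))).comap
      (QuotientGroup.mk' (pPrimeCore p G))) g
  rw [hSM] at hn
  obtain ⟨z, hz, hzm⟩ := hm
  have hk : z⁻¹ * m ∈ pPrimeCore p G := QuotientGroup.eq.mp hzm
  have h1 : n * z ∈ Subgroup.normalizer (cen (pup (S : Subgroup G)) : Set G) :=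
    Subgroup.mul_mem _ hn (Subgroup.le_normalizer hz)
  have e2 : n * m = (n * z) * (z⁻¹ * m) := by group
  rw [e2, sup_comm]
  exact Subgroup.mul_mem_sup h1 hk

end Cfsg.Agent.Lib.Helper33
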