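import Mathlib
import Cfsg.Agent.Lib.Helper04.Eigen

set_option autoImplicit false

namespace Cfsg.Agent.Lib.Helper33

open Module Cfsg.Agent.Lib.Helper04

variable {V : Type*} [AddCommGroup V] [Module ℂ V] [FiniteDimensional ℂ V]

/-- The trace of an endomorphism of finite order is an algebraic integer. -/
theorem isIntegral_trace_of_pow_eq_one (g : End ℂ V) (m : ℕ) (hm : m ≠ 0) (hg : g ^ m = 1) :
    IsIntegral ℤ (LinearMap.trace ℂ V g) := by
  rw [trace_eq_sum_eig g m hm hg]
  apply IsIntegral.sum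
  intro ν hν
  apply IsIntegral.mul
  · have h1 := eig_pow_eq_one g m hg hν
    refine IsIntegral.of_pow (n := m) (Nat.pos_of_ne_zero hm) ?_
    rw [h1]
    exact isIntegral_one
  · exact isIntegral_natCast _

/-- For commuting endomorphisms `f`, `h` of finite order with `f ^ p = 1` and a primitive `p`-th
root of unity `ζ`: `tr (f h) - tr h` is `(1 - ζ)` times an algebraic integer. -/
theorem trace_mul_sub_trace (f h : End ℂ V) (p m : ℕ) (hp : p ≠ 0) (hm : m ≠ 0)
    (hf : f ^ p = 1) (hh : h ^ m = 1) (hcomm : f * h = h * f) {ζ : ℂ} (hζ : IsPrimitiveRoot ζ p) :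
    ∃ ω : ℂ, IsIntegral ℤ ω ∧
      LinearMap.trace ℂ V (f * h) - LinearMap.trace ℂ V h = (1 - ζ) * ω := by
  classical
  have hint := isInternal_eigenspace_of_pow_eq_one f p hp hf
  have hN : {μ : ℂ | f.eigenspace μ ≠ ⊥}.Finite := by
    have := f.finite_hasEigenvalue
    simpa [End.hasEigenvalue_iff] using this
  -- `h` preserves the eigenspaces of `f`
  have hmaps : ∀ μ : ℂ, Set.MapsTo h (f.eigenspace μ) (f.eigenspace μ) := by
    intro μ v hv
    have hv' : f v = μ • v := End.mem_eigenspace_iff.mp hv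
    apply End.mem_eigenspace_iff.mpr
    have : f (h v) = h (f v) := by
      have := congrArg (fun T : End ℂ V => T v) hcomm
      simpa using this
    rw [this, hv', map_smul]
  have hmaps' : ∀ μ : ℂ, Set.MapsTo (f * h) (f.eigenspace μ) (f.eigenspace μ) := by
    intro μ v hv
    have h1 := hmaps μ hv
    have h2 : f (h v) = μ • h v := End.mem_eigenspace_iff.mp h1
    change f (h v) ∈ f.eigenspace μ
    rw [h2]
    exact Submodule.smul_mem _ _ h1
  have hrestr : ∀ μ : ℂ, (f * h).restrict (hmaps' μ) = μ • h.restrict (hmaps μ) := by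
    intro μ
    ext ⟨v, hv⟩
    have h1 := hmaps μ hv
    have h2 : f (h v) = μ • h v := End.mem_eigenspace_iff.mp h1
    exact h2
  have htr1 := LinearMap.trace_eq_sum_trace_restrict' hint hN hmaps'
  have htr2 := LinearMap.trace_eq_sum_trace_restrict' hint hN hmaps
  -- integrality of the partial traces
  have hpart : ∀ μ : ℂ, IsIntegral ℤ (LinearMap.trace ℂ (f.eigenspace μ) (h.restrict (hmaps μ))) := by
    intro μ
    apply isIntegral_trace_of_pow_eq_one _ m hm
    rw [Module.End.pow_restrict m (hmaps μ), ]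
    ext v
    simp [LinearMap.restrict_apply, hh]
  -- eigenvalues are powers of `ζ`
  have hζint : IsIntegral ℤ ζ := hζ.isIntegral (Nat.pos_of_ne_zero hp)
  have hc : ∀ μ ∈ hN.toFinset, ∃ c : ℂ, IsIntegral ℤ c ∧ μ - 1 = (1 - ζ) * c := by
    intro μ hμ
    have hμ' : μ ∈ eigFinset f := by
      rw [mem_eigFinset]
      simpa using hμ
    have hμp : μ ^ p = 1 := eig_pow_eq_one f p hf hμ'
    have : NeZero p := ⟨hp⟩
    obtain ⟨j, -, rfl⟩ := hζ.eq_pow_of_pow_eq_one hμp
    refine ⟨-∑ k ∈ Finset.range j, ζ ^ k, ?_, ?_⟩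
    · apply IsIntegral.neg
      apply IsIntegral.sum
      intro k _
      exact hζint.pow k
    · have := mul_geom_sum ζ j
      rw [mul_neg, ← neg_mul, neg_sub, this]
  choose! c hcint hceq using hc
  refine ⟨∑ μ ∈ hN.toFinset, c μ * LinearMap.trace ℂ (f.eigenspace μ) (h.restrict (hmaps μ)), ?_, ?_⟩
  · apply IsIntegral.sum
    intro μ hμ
    exact (hcint μ hμ).mul (hpart μ)
  · rw [htr1, htr2, ← Finset.sum_sub_distrib, Finset.mul_sum]
    apply Finset.sum_congr rfl
    intro μ hμ
    rw [hrestr μ, map_smul, smul_eq_mul, ← mul_assoc, ← hceq μ hμ]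
    ring

end Cfsg.Agent.Lib.Helper33
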