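import Cfsg.Prelude.Def_Characters
import Cfsg.Agent.Lib.Helper05.CharBasic

set_option autoImplicit false

namespace Cfsg.Agent.Lib.Helper33

open Cfsg

/-- Pulling an irreducible character back along a surjective homomorphism keeps it irreducible. -/
theorem isIrrCharacter_comp_of_surjective {G H : Type*} [Group G] [Group H] (f : H →* G)
    (hf : Function.Surjective f) {χ : G → ℂ} (hχ : IsIrrCharacter G χ) :
    IsIrrCharacter H (fun h => χ (f h)) := by
  obtain ⟨n, ρ, hρ, rfl⟩ := hχ
  refine ⟨n, ρ.comp f, ?_, rfl⟩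
  rw [Cfsg.Agent.Lib.Helper05.isIrreducible_iff] at hρ ⊢
  refine ⟨hρ.1, fun U hU => hρ.2 U ?_⟩
  intro g v hv
  obtain ⟨h, rfl⟩ := hf g
  exact hU h v hv

/-- The conjugate of an irreducible character of a normal subgroup is irreducible. -/
theorem isIrrCharacter_conj_normal {G : Type*} [Group G] (H : Subgroup G) [hN : H.Normal]
    {θ : H → ℂ} (hθ : IsIrrCharacter H θ) (g : G) :
    IsIrrCharacter H (fun h : H => θ ⟨g * h * g⁻¹, hN.conj_mem h h.2 g⟩) := by
  have := isIrrCharacter_comp_of_surjective (MulAut.conjNormal g : H ≃* H).toMonoidHom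
    (MulAut.conjNormal g : H ≃* H).surjective hθ
  convert this using 2
  rename_i h
  congr 1

end Cfsg.Agent.Lib.Helper33
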