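import Cfsg.Prelude.Def_Characters
import Mathlib

set_option autoImplicit false

namespace Cfsg.Agent.Lib.Helper33

open Cfsg

variable {G : Type*} [Group G]

theorem extendByZero_of_mem (H : Subgroup G) (θ : H → ℂ) {z : G} (hz : z ∈ H) :
    extendByZero H θ z = θ ⟨z, hz⟩ := by
  unfold extendByZero
  have : z = ((⟨z, hz⟩ : H) : G) := rfl
  conv_lhs => rw [this]
  exact Subtype.val_injective.extend_apply θ 0 ⟨z, hz⟩

theorem extendByZero_of_not_mem (H : Subgroup G) (θ : H → ℂ) {z : G} (hz : z ∉ H) :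
    extendByZero H θ z = 0 := by
  unfold extendByZero
  rw [Function.extend_apply' _ _ _ (by rintro ⟨a, rfl⟩; exact hz a.2)]
  rfl

theorem extendByZero_coe (H : Subgroup G) (θ : H → ℂ) (z : H) :
    extendByZero H θ (z : G) = θ z :=
  extendByZero_of_mem H θ z.2

/-- Summing a function of the coset over the group. -/
theorem sum_comp_mk [Fintype G] (A : Subgroup G) [A.Normal] [Fintype (G ⧸ A)]
    (F : G ⧸ A → ℂ) :
    ∑ x : G, F (QuotientGroup.mk' A x) = (Nat.card A : ℂ) * ∑ q : G ⧸ A, F q := by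
  classical
  rw [← Fintype.sum_fiberwise (fun x : G => QuotientGroup.mk' A x)
    (fun x => F (QuotientGroup.mk' A x)), Finset.mul_sum]
  apply Finset.sum_congr rfl
  intro q _
  have h1 : ∀ i : {x : G // QuotientGroup.mk' A x = q}, F (QuotientGroup.mk' A i) = F q :=
    fun i => by rw [i.2]
  rw [Finset.sum_congr rfl (fun i _ => h1 i), Finset.sum_const, Finset.card_univ, nsmul_eq_mul]
  congr 1
  have h2 := QuotientGroup.card_preimage_mk A ({q} : Set (G ⧸ A))
  have h3 : Nat.card (({q} : Set (G ⧸ A))) = 1 := by simp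
  rw [h3, mul_one] at h2
  rw [← h2, ← Nat.card_eq_fintype_card]
  rfl

end Cfsg.Agent.Lib.Helper33
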