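import Mathlib
import Cfsg.Prelude.Def_Characters
import Cfsg.Agent.Lib.Helper05.CharDecomp
import Cfsg.Agent.Lib.Helper04.CharScalar
import Cfsg.Agent.Lib.Helper84.Schur
import Cfsg.Agent.Lib.Helper33.IndFun

set_option autoImplicit false

namespace Cfsg.Agent.Lib.Helper33

open Cfsg Module
open scoped ComplexConjugate

section

variable {G : Type*} [Group G]

/-- character values have real part at most the degree -/
theorem char_re_le [Finite G] {φ : G → ℂ} (hφ : IsCharacter G φ) (g : G) :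
    (φ g).re ≤ (φ 1).re := by
  obtain ⟨n, ρ, rfl⟩ := hφ
  have h1 := Cfsg.Agent.Lib.Helper04.norm_char_le ρ g
  have h2 : (ρ.character 1).re = (finrank ℂ (Fin n → ℂ) : ℝ) := by
    rw [ρ.char_one]; simp
  rw [h2]
  exact (Complex.re_le_norm _).trans h1

theorem char_eq_of_re_eq [Finite G] {φ : G → ℂ} (hφ : IsCharacter G φ) {g : G}
    (h : (φ g).re = (φ 1).re) : φ g = φ 1 := by
  obtain ⟨n, ρ, rfl⟩ := hφ
  have h1 := Cfsg.Agent.Lib.Helper04.norm_char_le ρ g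
  have h2 : ρ.character 1 = ((finrank ℂ (Fin n → ℂ) : ℕ) : ℂ) := ρ.char_one
  rw [h2] at h ⊢
  simp only [Complex.natCast_re] at h
  set z := ρ.character g with hz
  set d : ℝ := (finrank ℂ (Fin n → ℂ) : ℝ) with hd
  have h3 : z.re ^ 2 + z.im ^ 2 = ‖z‖ ^ 2 := by
    rw [Complex.sq_norm, Complex.normSq_apply]; ring
  have h0 : 0 ≤ ‖z‖ := norm_nonneg z
  have hd0 : 0 ≤ d := h0.trans h1
  have h4 : ‖z‖ ^ 2 ≤ d ^ 2 := by nlinarith
  have h5 : z.im ^ 2 ≤ 0 := by rw [h] at h3; nlinarith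
  have h6 : z.im = 0 := by nlinarith [sq_nonneg z.im]
  apply Complex.ext
  · simp [h, hd]
  · simp [h6]

/-- value of an induced function at the identity -/
theorem indFun_one [Fintype G] (H : Subgroup G) (θ : H → ℂ) :
    indFun H θ 1 = (H.index : ℂ) * θ 1 := by
  unfold indFun
  have : ∀ x : G, extendByZero H θ (x⁻¹ * 1 * x) = θ 1 := by
    intro x
    have h1 : x⁻¹ * 1 * x = ((1 : H) : G) := by simp
    rw [h1, extendByZero_coe]
  rw [Finset.sum_congr rfl (fun x _ => this x), Finset.sum_const, Finset.card_univ, nsmul_eq_mul,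
    ← Nat.card_eq_fintype_card, ← H.card_mul_index]
  have hH : (Nat.card H : ℂ) ≠ 0 := by exact_mod_cast Nat.card_pos.ne'
  push_cast
  field_simp

end

section

variable {G : Type*} [Group G] [Fintype G]

/-- A character with nonzero degree has an irreducible constituent. -/
theorem exists_irr_constituent [Fintype (IrrCharacter G)] {χ : G → ℂ} (hχ : IsCharacter G χ)
    (h1 : χ ≠ 0) : ∃ φ : IrrCharacter G, classInner χ (φ : G → ℂ) ≠ 0 := by
  by_contra hall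
  push Not at hall
  apply h1
  have := Cfsg.Agent.Lib.Helper05.eq_sum_classInner_smul hχ
  rw [this]
  apply Finset.sum_eq_zero
  intro ψ _
  rw [hall ψ, zero_smul]

/-- If the irreducible `ψ` is a constituent of the character `Χ` then `ψ 1 ≤ Χ 1`. -/
theorem degree_le_of_constituent {Χ ψ : G → ℂ} (hΧ : IsCharacter G Χ) (hψ : IsIrrCharacter G ψ)
    (h : classInner Χ ψ ≠ 0) : (ψ 1).re ≤ (Χ 1).re := by
  classical
  haveI := Cfsg.Agent.Lib.Helper05.finite_irrCharacter (G := G)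
  haveI : Fintype (IrrCharacter G) := Fintype.ofFinite _
  obtain ⟨m, hm⟩ := Cfsg.Agent.Lib.Helper05.exists_nat_coeff hΧ
  have hmψ : classInner Χ ψ = m ⟨ψ, hψ⟩ := by
    rw [hm]
    exact Cfsg.Agent.Lib.Helper05.classInner_sum_irr_left (fun φ => (m φ : ℂ)) ⟨ψ, hψ⟩
  have hm1 : 1 ≤ m ⟨ψ, hψ⟩ := by
    rcases Nat.eq_zero_or_pos (m ⟨ψ, hψ⟩) with h0 | h0
    · exfalso; apply h; rw [hmψ, h0]; simp
    · exact h0
  have hdeg : ∀ φ : IrrCharacter G, 0 ≤ ((φ : G → ℂ) 1).re := by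
    intro φ
    obtain ⟨n, _, hn⟩ := Cfsg.Agent.Lib.Helper05.exists_pos_degree φ.2
    rw [hn]; simp
  have hX1 : (Χ 1).re = ∑ φ : IrrCharacter G, (m φ : ℝ) * ((φ : G → ℂ) 1).re := by
    rw [hm]
    simp only [Finset.sum_apply, Pi.smul_apply, smul_eq_mul, Complex.re_sum, Complex.mul_re,
      Complex.natCast_re, Complex.natCast_im, zero_mul, sub_zero]
  rw [hX1]
  have hle : (m ⟨ψ, hψ⟩ : ℝ) * (ψ 1).re ≤ ∑ φ : IrrCharacter G, (m φ : ℝ) * ((φ : G → ℂ) 1).re := by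
    have := Finset.single_le_sum (f := fun φ : IrrCharacter G => (m φ : ℝ) * ((φ : G → ℂ) 1).re)
      (fun φ _ => mul_nonneg (Nat.cast_nonneg _) (hdeg φ)) (Finset.mem_univ ⟨ψ, hψ⟩)
    exact this
  refine le_trans ?_ hle
  have h0 := hdeg ⟨ψ, hψ⟩
  have : (1 : ℝ) ≤ (m ⟨ψ, hψ⟩ : ℝ) := by exact_mod_cast hm1
  nlinarith

/-- If a character takes its degree at `b`, so does each irreducible constituent. -/
theorem constituent_apply_eq {χ ψ : G → ℂ} (hχ : IsCharacter G χ) (hψ : IsIrrCharacter G ψ)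
    (h : classInner χ ψ ≠ 0) {b : G} (hb : χ b = χ 1) : ψ b = ψ 1 := by
  classical
  haveI := Cfsg.Agent.Lib.Helper05.finite_irrCharacter (G := G)
  haveI : Fintype (IrrCharacter G) := Fintype.ofFinite _
  obtain ⟨m, hm⟩ := Cfsg.Agent.Lib.Helper05.exists_nat_coeff hχ
  have hmψ : classInner χ ψ = m ⟨ψ, hψ⟩ := by
    rw [hm]
    exact Cfsg.Agent.Lib.Helper05.classInner_sum_irr_left (fun φ => (m φ : ℂ)) ⟨ψ, hψ⟩
  have hm1 : m ⟨ψ, hψ⟩ ≠ 0 := by
    intro h0; apply h; rw [hmψ, h0]; simp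
  have hre : ∀ g : G, (χ g).re = ∑ φ : IrrCharacter G, (m φ : ℝ) * ((φ : G → ℂ) g).re := by
    intro g
    rw [hm]
    simp only [Finset.sum_apply, Pi.smul_apply, smul_eq_mul, Complex.re_sum, Complex.mul_re,
      Complex.natCast_re, Complex.natCast_im, zero_mul, sub_zero]
  have hsum : ∑ φ : IrrCharacter G, (m φ : ℝ) * ((φ : G → ℂ) b).re =
      ∑ φ : IrrCharacter G, (m φ : ℝ) * ((φ : G → ℂ) 1).re := by
    rw [← hre, ← hre, hb]
  have hall := (Finset.sum_eq_sum_iff_of_le (fun φ _ => mul_le_mul_of_nonneg_left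
    (char_re_le (Cfsg.Agent.Lib.Helper05.IsIrrCharacter.isCharacter φ.2) b)
    (Nat.cast_nonneg (m φ)))).mp hsum ⟨ψ, hψ⟩ (Finset.mem_univ _)
  have hm1' : (m ⟨ψ, hψ⟩ : ℝ) ≠ 0 := by exact_mod_cast hm1
  have := mul_left_cancel₀ hm1' hall
  exact char_eq_of_re_eq (Cfsg.Agent.Lib.Helper05.IsIrrCharacter.isCharacter hψ) this

/-- sum of squared norms of an irreducible character -/
theorem sum_norm_sq_irr {φ : G → ℂ} (hφ : IsIrrCharacter G φ) :
    ∑ g : G, ‖φ g‖ ^ 2 = (Nat.card G : ℝ) := by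
  have h1 := Cfsg.Agent.Lib.Helper05.classInner_irr_self hφ
  unfold classInner at h1
  have hG : (Nat.card G : ℂ) ≠ 0 := by exact_mod_cast Nat.card_pos.ne'
  have h2 : ∑ g : G, φ g * conj (φ g) = (Nat.card G : ℂ) := by
    field_simp at h1
    exact h1
  have h3 : ∀ g : G, φ g * conj (φ g) = ((‖φ g‖ ^ 2 : ℝ) : ℂ) := by
    intro g
    rw [Complex.mul_conj, Complex.normSq_eq_norm_sq]
  rw [Finset.sum_congr rfl (fun g _ => h3 g), ← Complex.ofReal_sum] at h2
  exact_mod_cast h2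

/-- An element whose commutators with everything lie in the kernel of the irreducible `φ`
has `‖φ d‖ = φ 1`. -/
theorem norm_eq_degree_of_commutator_ker {φ : G → ℂ} (hφ : IsIrrCharacter G φ) {d : G}
    (hd : ∀ c : G, φ (d * c * d⁻¹ * c⁻¹) = φ 1) : ‖φ d‖ = (φ 1).re := by
  obtain ⟨n, ρ, hirr, rfl⟩ := hφ
  haveI := hirr
  have h1 : ρ.character 1 = ((finrank ℂ (Fin n → ℂ) : ℕ) : ℂ) := ρ.char_one
  have hcomm : ∀ c : G, ρ d ∘ₗ ρ c = ρ c ∘ₗ ρ d := by
    intro c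
    have h2 := hd c
    rw [h1] at h2
    have h3 := (Cfsg.Agent.Lib.Helper04.char_eq_finrank_iff ρ _).mp h2
    have h4 : ρ (d * c) = ρ (d * c * d⁻¹ * c⁻¹) * ρ (c * d) := by
      rw [← map_mul]; congr 1; group
    rw [h3] at h4
    have h5 : ρ d * ρ c = ρ c * ρ d := by
      rw [← map_mul, ← map_mul, h4]; rfl
    exact h5
  have h6 := Cfsg.Agent.Lib.Helper84.schur_scalar ρ (ρ d) hcomm
  have h7 := (Cfsg.Agent.Lib.Helper04.norm_char_eq_iff ρ d).mpr ⟨_, h6⟩
  rw [h7, h1]; simp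

end

end Cfsg.Agent.Lib.Helper33
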