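import Cfsg.Prelude.Def_OddOrderChar
import Mathlib

set_option autoImplicit false

namespace Cfsg.Agent.Lib.Helper33

open Cfsg

variable {G : Type*} [Group G]

/-- If `C = N ⊔ M` with `N` normalised by `C`, then an element of `C` killed by an exponent
coprime to the order of `M` lies in `N`. -/
theorem mem_of_sup_eq_of_coprime [Finite G] {N M C : Subgroup G} (hNC : N ≤ C)
    (hnorm : ∀ c ∈ C, ∀ u ∈ N, c * u * c⁻¹ ∈ N) (hsup : N ⊔ M = C)
    {k : G} (hk : k ∈ C) {n : ℕ} (hkn : k ^ n = 1) (hcop : Nat.Coprime n (Nat.card M)) :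
    k ∈ N := by
  have hMC : M ≤ C := hsup ▸ le_sup_right
  have hN' : (N.subgroupOf C).Normal := by
    constructor
    intro u hu c
    rw [Subgroup.mem_subgroupOf] at hu ⊢
    simpa using hnorm c c.2 u hu
  have hsup' : N.subgroupOf C ⊔ M.subgroupOf C = ⊤ := by
    rw [← Subgroup.subgroupOf_sup hNC hMC, hsup]
    exact Subgroup.subgroupOf_self C
  have hkmem : (⟨k, hk⟩ : C) ∈ N.subgroupOf C ⊔ M.subgroupOf C := by rw [hsup']; trivial
  obtain ⟨y, hy, z, hz, hyz⟩ := Subgroup.mem_sup_of_normal_left.mp hkmem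
  -- image in the quotient
  set π := QuotientGroup.mk' (N.subgroupOf C) with hπ
  have h1 : π ⟨k, hk⟩ = π z := by
    rw [← hyz, map_mul]
    have : π y = 1 := (QuotientGroup.eq_one_iff y).mpr hy
    rw [this, one_mul]
  have h2 : (π z) ^ (Nat.card M) = 1 := by
    rw [← map_pow]
    have hzM : (z : G) ∈ M := Subgroup.mem_subgroupOf.mp hz
    have hz0 : (⟨(z : G), hzM⟩ : M) ^ Nat.card M = 1 := pow_card_eq_one'
    have hz1 : (z : G) ^ Nat.card M = 1 := by
      have h5 := congrArg Subtype.val hz0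
      rw [Subgroup.coe_pow, Subgroup.coe_one] at h5
      exact h5
    have : z ^ Nat.card M = 1 := by
      ext
      simpa using hz1
    rw [this, map_one]
  have h3 : (π z) ^ n = 1 := by
    rw [← h1, ← map_pow]
    have : (⟨k, hk⟩ : C) ^ n = 1 := by
      ext
      simpa using hkn
    rw [this, map_one]
  have h4 : π z = 1 := by
    have h6 : (π z) ^ (Nat.gcd n (Nat.card M)) = 1 := pow_gcd_eq_one.mpr ⟨h3, h2⟩
    rw [Nat.Coprime] at hcop
    rwa [hcop, pow_one] at h6
  rw [← h1] at h4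
  have := (QuotientGroup.eq_one_iff (⟨k, hk⟩ : C)).mp h4
  exact Subgroup.mem_subgroupOf.mp this

/-- Under the Dade hypothesis, an element of `C_G(a)` of order prime to `|C_L(a)|` lies in `H a`. -/
theorem dade_mem_H_of_coprime [Finite G] {A : Set G} {L : Subgroup G}
    {H : G → Subgroup G} (hD : DadeHypothesis A L H) {a : G} (ha : a ∈ A) {k : G}
    (hk : k ∈ Subgroup.centralizer ({a} : Set G)) {n : ℕ} (hkn : k ^ n = 1)
    (hcop : Nat.Coprime n (Nat.card ↥(L ⊓ Subgroup.centralizer ({a} : Set G)))) : k ∈ H a :=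
  mem_of_sup_eq_of_coprime (hD.le_centralizer a ha) (hD.conj_mem_H a ha) (hD.sup_eq a ha) hk hkn hcop

theorem pow_card_subgroup_eq_one [Finite G] {K : Subgroup G} {u : G} (hu : u ∈ K) :
    u ^ Nat.card K = 1 := by
  have h0 : (⟨u, hu⟩ : K) ^ Nat.card K = 1 := pow_card_eq_one'
  have h5 := congrArg Subtype.val h0
  rw [Subgroup.coe_pow, Subgroup.coe_one] at h5
  exact h5

theorem conj_mem_centralizer_singleton {a u x : G} (hu : u ∈ Subgroup.centralizer ({a} : Set G)) :
    x * u * x⁻¹ ∈ Subgroup.centralizer ({x * a * x⁻¹} : Set G) := by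
  rw [Subgroup.mem_centralizer_iff] at hu ⊢
  intro y hy
  rw [Set.mem_singleton_iff] at hy
  subst hy
  have := hu a rfl
  calc x * a * x⁻¹ * (x * u * x⁻¹) = x * (a * u) * x⁻¹ := by group
    _ = x * (u * a) * x⁻¹ := by rw [this]
    _ = x * u * x⁻¹ * (x * a * x⁻¹) := by group

/-- Under the Dade hypothesis the conjugate of `H a` by `x ∈ L` lies in `H (x a x⁻¹)`. -/
theorem dade_map_conj_le [Finite G] {A : Set G} {L : Subgroup G}
    {H : G → Subgroup G} (hD : DadeHypothesis A L H) {a : G} (ha : a ∈ A) {x : G} (hx : x ∈ L) :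
    (H a).map (MulAut.conj x).toMonoidHom ≤ H (x * a * x⁻¹) := by
  have hb : x * a * x⁻¹ ∈ A := hD.conj_mem x hx a ha
  rintro k ⟨u, hu, rfl⟩
  change x * u * x⁻¹ ∈ H (x * a * x⁻¹)
  apply dade_mem_H_of_coprime hD hb (conj_mem_centralizer_singleton (hD.le_centralizer a ha hu))
    (n := Nat.card (H a))
  · rw [conj_pow, pow_card_subgroup_eq_one hu]; simp
  · exact hD.coprime a ha _ hb

theorem dade_map_conj_eq [Finite G] {A : Set G} {L : Subgroup G}
    {H : G → Subgroup G} (hD : DadeHypothesis A L H) {a : G} (ha : a ∈ A) {x : G} (hx : x ∈ L) :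
    H (x * a * x⁻¹) = (H a).map (MulAut.conj x).toMonoidHom := by
  apply le_antisymm _ (dade_map_conj_le hD ha hx)
  have hb : x * a * x⁻¹ ∈ A := hD.conj_mem x hx a ha
  intro v hv
  have h1 := dade_map_conj_le hD hb (L.inv_mem hx)
  have e : x⁻¹ * (x * a * x⁻¹) * x⁻¹⁻¹ = a := by group
  rw [e] at h1
  have h2 : x⁻¹ * v * x ∈ H a := by
    apply h1
    refine ⟨v, hv, ?_⟩
    simp
  refine ⟨x⁻¹ * v * x, h2, ?_⟩
  simp [MulAut.conj_apply, mul_assoc]

end Cfsg.Agent.Lib.Helper33

namespace Cfsg.Agent.Lib.Helper33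

open Cfsg

variable {G : Type*} [Group G]

/-- CRT exponent: for coprime `n`, `m` with `1 < m` there is `k = n * c = 1 + m * t`. -/
theorem exists_crt_exponent {n m : ℕ} (h : Nat.Coprime n m) (hm : 1 < m) :
    ∃ c t : ℕ, n * c = 1 + m * t := by
  obtain ⟨c, -, hc⟩ := Nat.exists_mul_mod_eq_one_of_coprime h hm
  refine ⟨c, n * c / m, ?_⟩
  have := Nat.div_add_mod (n * c) m
  rw [hc] at this
  omega

theorem mem_centralizer_singleton_self (a : G) : a ∈ Subgroup.centralizer ({a} : Set G) := by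
  rw [Subgroup.mem_centralizer_iff]
  intro y hy
  rw [Set.mem_singleton_iff] at hy
  subst hy
  rfl

/-- Under the Dade hypothesis, `a` is recovered from `a * u` (`u ∈ H a`) as a fixed power, the same
power working for `b * v`. -/
theorem dade_conj_eq [Finite G] {A : Set G} {L : Subgroup G}
    {H : G → Subgroup G} (hD : DadeHypothesis A L H) {a b : G} (ha : a ∈ A) (hb : b ∈ A)
    {u v g : G} (hu : u ∈ H a) (hv : v ∈ H b) (h : g * (a * u) * g⁻¹ = b * v) :
    g * a * g⁻¹ = b := by
  set n := Nat.card (H a) * Nat.card (H b) with hn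
  set m := Nat.card ↥(L ⊓ Subgroup.centralizer ({a} : Set G)) *
    Nat.card ↥(L ⊓ Subgroup.centralizer ({b} : Set G)) with hm
  have hcop : Nat.Coprime n m := by
    apply Nat.Coprime.mul_left <;> apply Nat.Coprime.mul_right
    · exact hD.coprime a ha a ha
    · exact hD.coprime a ha b hb
    · exact hD.coprime b hb a ha
    · exact hD.coprime b hb b hb
  have haL : a ∈ L ⊓ Subgroup.centralizer ({a} : Set G) :=
    ⟨hD.subset ha, mem_centralizer_singleton_self a⟩
  have hbL : b ∈ L ⊓ Subgroup.centralizer ({b} : Set G) :=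
    ⟨hD.subset hb, mem_centralizer_singleton_self b⟩
  have ham : a ^ m = 1 := by
    rw [hm, pow_mul, pow_card_subgroup_eq_one haL, one_pow]
  have hbm : b ^ m = 1 := by
    rw [hm, mul_comm, pow_mul, pow_card_subgroup_eq_one hbL, one_pow]
  have hun : u ^ n = 1 := by
    rw [hn, pow_mul, pow_card_subgroup_eq_one hu, one_pow]
  have hvn : v ^ n = 1 := by
    rw [hn, mul_comm, pow_mul, pow_card_subgroup_eq_one hv, one_pow]
  have hm1 : 1 < m := by
    by_contra hle
    have hm0 : m ≠ 0 := by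
      rw [hm]
      exact Nat.mul_ne_zero Nat.card_pos.ne' Nat.card_pos.ne'
    have : m = 1 := by omega
    rw [this, pow_one] at ham
    exact hD.one_not_mem (ham ▸ ha)
  obtain ⟨c, t, hct⟩ := exists_crt_exponent hcop hm1
  have hua : Commute a u := by
    have := hD.le_centralizer a ha hu
    rw [Subgroup.mem_centralizer_iff] at this
    exact this a rfl
  have hvb : Commute b v := by
    have := hD.le_centralizer b hb hv
    rw [Subgroup.mem_centralizer_iff] at this
    exact this b rfl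
  have e1 : (a * u) ^ (n * c) = a := by
    rw [hua.mul_pow]
    have : u ^ (n * c) = 1 := by rw [pow_mul, hun, one_pow]
    rw [this, mul_one, hct, pow_add, pow_one, pow_mul, ham, one_pow, mul_one]
  have e2 : (b * v) ^ (n * c) = b := by
    rw [hvb.mul_pow]
    have : v ^ (n * c) = 1 := by rw [pow_mul, hvn, one_pow]
    rw [this, mul_one, hct, pow_add, pow_one, pow_mul, hbm, one_pow, mul_one]
  rw [← e1, ← conj_pow, h, e2]

end Cfsg.Agent.Lib.Helper33
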