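import Mathlib

/-!
The twisted exchange condition modulo `H` for a class of one, two or three commuting
fundamental reflections permuted cyclically by the twisting automorphism.
-/

set_option autoImplicit false

namespace Cfsg.Agent.Lib.Helper33.TwBN

/-- the part of the setting used for the exchange condition -/
structure Core (Γ : Type*) [Group Γ] where
  B : Subgroup Γ
  N : Subgroup Γ
  H : Subgroup Γ
  σ : Γ ≃* Γ
  hNH : ∀ n ∈ N, ∀ h ∈ H, n * h * n⁻¹ ∈ H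
  σH : ∀ h ∈ H, σ h ∈ H
  bruhat : ∀ n ∈ N, ∀ n' ∈ N, ∀ b₁ ∈ B, ∀ b₂ ∈ B, ∀ b₁' ∈ B, ∀ b₂' ∈ B,
    b₁ * n * b₂ = b₁' * n' * b₂' → n⁻¹ * n' ∈ H

variable {Γ : Type*} [Group Γ] (C : Core Γ)

namespace Core

/-- double cosets of `B` -/
def DC (m g : Γ) : Prop := ∃ β₁ ∈ C.B, ∃ β₂ ∈ C.B, g = β₁ * m * β₂

/-- the exchange condition of the ambient group for the element `a` -/
def Ex (a : Γ) : Prop := ∀ n ∈ C.N, ∀ β ∈ C.B, C.DC (a * n) (a * β * n) ∨ C.DC n (a * β * n)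

theorem ex_step {a : Γ} (ha : C.Ex a) {m g : Γ} (hm : m ∈ C.N) (h : C.DC m g) :
    C.DC (a * m) (a * g) ∨ C.DC m (a * g) := by
  obtain ⟨β₁, h1, β₂, h2, rfl⟩ := h
  have e : a * (β₁ * m * β₂) = (a * β₁ * m) * β₂ := by group
  rw [e]
  rcases ha m hm β₁ h1 with ⟨γ₁, g1, γ₂, g2, e'⟩ | ⟨γ₁, g1, γ₂, g2, e'⟩
  · left; exact ⟨γ₁, g1, γ₂ * β₂, C.B.mul_mem g2 h2, by rw [e']; group⟩
  · right; exact ⟨γ₁, g1, γ₂ * β₂, C.B.mul_mem g2 h2, by rw [e']; group⟩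

theorem dc_bruhat {m g n' β₁ β₂ : Γ} (h : C.DC m g) (hm : m ∈ C.N) (hn' : n' ∈ C.N)
    (h1 : β₁ ∈ C.B) (h2 : β₂ ∈ C.B) (e : g = β₁ * n' * β₂) : m⁻¹ * n' ∈ C.H := by
  obtain ⟨γ₁, g1, γ₂, g2, e'⟩ := h
  exact C.bruhat m hm n' hn' γ₁ g1 γ₂ g2 β₁ h1 β₂ h2 (by rw [← e', e])

/-- a representative `m' n` of the double coset of a fixed element, with `n` fixed, has `m'` fixed
modulo `H` -/
theorem sigma_trick {m' n n' g β₁ β₂ : Γ} (hm' : m' ∈ C.N) (hn : n ∈ C.N) (hn' : n' ∈ C.N)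
    (hσn : C.σ n = n) (hσn' : C.σ n' = n') (h : C.DC (m' * n) g)
    (h1 : β₁ ∈ C.B) (h2 : β₂ ∈ C.B) (e : g = β₁ * n' * β₂) : (C.σ m')⁻¹ * m' ∈ C.H := by
  have hk := C.dc_bruhat h (C.N.mul_mem hm' hn) hn' h1 h2 e
  set k := (m' * n)⁻¹ * n' with hkdef
  have e1 : n' = m' * n * k := by rw [hkdef]; group
  have e2 : n' = C.σ m' * n * C.σ k := by
    have := congrArg C.σ e1
    rwa [map_mul, map_mul, hσn, hσn'] at this
  have e3 : (C.σ m')⁻¹ * m' = n * (C.σ k * k⁻¹) * n⁻¹ := by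
    have e4 : m' * n * k = C.σ m' * n * C.σ k := by rw [← e1, ← e2]
    have e5 : m' = C.σ m' * n * C.σ k * k⁻¹ * n⁻¹ := by
      rw [← e4]; group
    calc (C.σ m')⁻¹ * m' = (C.σ m')⁻¹ * (C.σ m' * n * C.σ k * k⁻¹ * n⁻¹) := by rw [← e5]
      _ = n * (C.σ k * k⁻¹) * n⁻¹ := by group
  rw [e3]
  exact C.hNH n hn _ (C.H.mul_mem (C.σH k hk) (C.H.inv_mem hk))

/-- classes of size one -/
theorem exch_one {a : Γ} (ha : C.Ex a) (haN : a ∈ C.N) :
    ∀ b ∈ C.B, ∀ n ∈ C.N, C.σ n = n → ∀ n' ∈ C.N, C.σ n' = n' → ∀ β₁ ∈ C.B, ∀ β₂ ∈ C.B,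
      a * b * n = β₁ * n' * β₂ → n⁻¹ * n' ∈ C.H ∨ (a * n)⁻¹ * n' ∈ C.H := by
  intro b hb n hn _ n' hn' _ β₁ h1 β₂ h2 e
  have h0 : C.DC n (b * n) := ⟨b, hb, 1, C.B.one_mem, by group⟩
  have e' : a * (b * n) = β₁ * n' * β₂ := by rw [← e]; group
  rcases C.ex_step ha hn h0 with h | h
  · right; exact C.dc_bruhat h (C.N.mul_mem haN hn) hn' h1 h2 e'
  · left; exact C.dc_bruhat h hn hn' h1 h2 e'

/-- classes of size two -/
theorem exch_two {a b₀ : Γ} (ha : C.Ex a) (hb₀ : C.Ex b₀) (haN : a ∈ C.N) (hbN : b₀ ∈ C.N)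
    (hσa : C.σ a = b₀) (hσb : C.σ b₀ = a) (hne : a⁻¹ * b₀ ∉ C.H) :
    ∀ b ∈ C.B, ∀ n ∈ C.N, C.σ n = n → ∀ n' ∈ C.N, C.σ n' = n' → ∀ β₁ ∈ C.B, ∀ β₂ ∈ C.B,
      (a * b₀) * b * n = β₁ * n' * β₂ → n⁻¹ * n' ∈ C.H ∨ ((a * b₀) * n)⁻¹ * n' ∈ C.H := by
  intro b hb n hn hσn n' hn' hσn' β₁ h1 β₂ h2 e
  have h0 : C.DC n (b * n) := ⟨b, hb, 1, C.B.one_mem, by group⟩
  have e' : a * (b₀ * (b * n)) = β₁ * n' * β₂ := by rw [← e]; group
  have hne' : b₀⁻¹ * a ∉ C.H := fun h => hne (by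
    have := C.H.inv_mem h
    rwa [mul_inv_rev, inv_inv] at this)
  rcases C.ex_step hb₀ hn h0 with hB | hB
  · rcases C.ex_step ha (C.N.mul_mem hbN hn) hB with h | h
    · right
      have := C.dc_bruhat h (C.N.mul_mem haN (C.N.mul_mem hbN hn)) hn' h1 h2 e'
      rwa [← mul_assoc] at this
    · exfalso
      have := C.sigma_trick hbN hn hn' hσn hσn' h h1 h2 e'
      rw [hσb] at this
      exact hne this
  · rcases C.ex_step ha hn hB with h | h
    · exfalso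
      have := C.sigma_trick haN hn hn' hσn hσn' h h1 h2 e'
      rw [hσa] at this
      exact hne' this
    · left; exact C.dc_bruhat h hn hn' h1 h2 e'

/-- classes of size three -/
theorem exch_three {a b₀ c : Γ} (ha : C.Ex a) (hb₀ : C.Ex b₀) (hc : C.Ex c)
    (haN : a ∈ C.N) (hbN : b₀ ∈ C.N) (hcN : c ∈ C.N)
    (hab : Commute a b₀) (hac : Commute a c) (hbc : Commute b₀ c)
    (hσa : C.σ a = b₀) (hσb : C.σ b₀ = c) (hσc : C.σ c = a)
    (hne1 : a⁻¹ * b₀ ∉ C.H) (hne2 : b₀⁻¹ * c ∉ C.H) (hne3 : a⁻¹ * c ∉ C.H) :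
    ∀ b ∈ C.B, ∀ n ∈ C.N, C.σ n = n → ∀ n' ∈ C.N, C.σ n' = n' → ∀ β₁ ∈ C.B, ∀ β₂ ∈ C.B,
      (a * (b₀ * c)) * b * n = β₁ * n' * β₂ →
        n⁻¹ * n' ∈ C.H ∨ ((a * (b₀ * c)) * n)⁻¹ * n' ∈ C.H := by
  intro b hb n hn hσn n' hn' hσn' β₁ h1 β₂ h2 e
  have h0 : C.DC n (b * n) := ⟨b, hb, 1, C.B.one_mem, by group⟩
  have e' : a * (b₀ * (c * (b * n))) = β₁ * n' * β₂ := by rw [← e]; group
  have inv_of : ∀ x y : Γ, x⁻¹ * y ∉ C.H → y⁻¹ * x ∉ C.H := fun x y hxy h => hxy (by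
    have := C.H.inv_mem h
    rwa [mul_inv_rev, inv_inv] at this)
  have hne1' := inv_of _ _ hne1
  have hne2' := inv_of _ _ hne2
  have hne3' := inv_of _ _ hne3
  have trick : ∀ m' : Γ, m' ∈ C.N → C.DC (m' * n) (a * (b₀ * (c * (b * n)))) →
      (C.σ m')⁻¹ * m' ∈ C.H := fun m' hm' h =>
    C.sigma_trick hm' hn hn' hσn hσn' h h1 h2 e'
  rcases C.ex_step hc hn h0 with hC | hC
  · rcases C.ex_step hb₀ (C.N.mul_mem hcN hn) hC with hB | hB
    · rcases C.ex_step ha (C.N.mul_mem hbN (C.N.mul_mem hcN hn)) hB with h | h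
      · right
        have := C.dc_bruhat h (C.N.mul_mem haN (C.N.mul_mem hbN (C.N.mul_mem hcN hn))) hn' h1 h2 e'
        have e2 : a * (b₀ * (c * n)) = a * (b₀ * c) * n := by group
        rwa [e2] at this
      · -- `m' = b₀ * c`
        exfalso
        have e2 : b₀ * (c * n) = (b₀ * c) * n := by group
        rw [e2] at h
        have := trick (b₀ * c) (C.N.mul_mem hbN hcN) h
        rw [map_mul, hσb, hσc, hbc.eq] at this
        have e3 : (c * a)⁻¹ * (c * b₀) = a⁻¹ * b₀ := by group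
        rw [e3] at this
        exact hne1 this
    · rcases C.ex_step ha (C.N.mul_mem hcN hn) hB with h | h
      · -- `m' = a * c`
        exfalso
        have e2 : a * (c * n) = (a * c) * n := by group
        rw [e2] at h
        have := trick (a * c) (C.N.mul_mem haN hcN) h
        rw [map_mul, hσa, hσc, ← hab.eq] at this
        have e3 : (a * b₀)⁻¹ * (a * c) = b₀⁻¹ * c := by group
        rw [e3] at this
        exact hne2 this
      · -- `m' = c`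
        exfalso
        have := trick c hcN h
        rw [hσc] at this
        exact hne3 this
  · rcases C.ex_step hb₀ hn hC with hB | hB
    · rcases C.ex_step ha (C.N.mul_mem hbN hn) hB with h | h
      · -- `m' = a * b₀`
        exfalso
        have e2 : a * (b₀ * n) = (a * b₀) * n := by group
        rw [e2] at h
        have := trick (a * b₀) (C.N.mul_mem haN hbN) h
        rw [map_mul, hσa, hσb, hab.eq] at this
        have e3 : (b₀ * c)⁻¹ * (b₀ * a) = c⁻¹ * a := by group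
        rw [e3] at this
        exact hne3' this
      · -- `m' = b₀`
        exfalso
        have := trick b₀ hbN h
        rw [hσb] at this
        exact hne2' this
    · rcases C.ex_step ha hn hB with h | h
      · -- `m' = a`
        exfalso
        have := trick a haN h
        rw [hσa] at this
        exact hne1' this
      · left; exact C.dc_bruhat h hn hn' h1 h2 e'

end Core

end Cfsg.Agent.Lib.Helper33.TwBN
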