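import Cfsg.Agent.Lib.Helper24.TwGen
import Cfsg.Agent.Lib.Helper24.TwCount
import Cfsg.Agent.Lib.Helper24.Bruhat
import Cfsg.Agent.Lib.Helper24.BNPair
import Cfsg.Agent.Lib.Helper24.CellsB
import Cfsg.Agent.Lib.Helper33.TwBNAbs
import Cfsg.Agent.Lib.Helper33.TwBNExch

/-!
The `(B, N)`-pair of a twisted group `G¹ = ⟨U¹, V¹⟩` inside a Chevalley group, with
`B¹ = B ∩ G¹` and `N¹ = N ∩ G¹`, on top of the library of helper24 (`Tw`, `TwG`, `TwU`, `Env`).
-/

set_option autoImplicit false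
set_option linter.unusedSimpArgs false
set_option linter.unusedVariables false

namespace Cfsg.Agent.Lib.Helper33.TwBN

open Cfsg.Lie Cfsg.Agent.Lib.Helper24

section chev

variable {F : Type*} [Field F] {D : ChevalleyDatum} {tab : List ℕ} {orb : List (ℕ × ℕ × ℕ)}

/-! ### the twisting automorphism on `N` and `H` -/

theorem map_nGL (E : Env D F tab orb) (T : Tw D F E.hF) (s : ℕ) (hs : s < D.nroots) (u : F) :
    T.σ (E.hF.nGL s u) = E.hF.nGL (T.R s) ((T.η s : F) * T.f u) := by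
  obtain ⟨_, hlt, _⟩ := rootTableOK_spec D E.hR s hs
  rw [E.hF.nGL_def, E.hF.nGL_def, map_mul, map_mul, T.hx s hs, T.hx _ hlt, T.hRn s hs, T.hηn s hs]
  have e : (T.η s : F) * T.f (-u⁻¹) = -((T.η s : F) * T.f u)⁻¹ := by
    rw [map_neg, map_inv₀, mul_inv]
    rcases T.hη s hs with h | h <;> rw [h] <;> simp
  rw [e]

theorem hWordGL (hF : Facts D) (r : ℕ) (t : F) :
    hF.wordGL (D.hWord r t) = hF.nGL r t * hF.nGL r (-1) := by
  simp [Facts.nGL, Facts.wordGL, ChevalleyDatum.hWord, List.map_append, List.prod_append]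

theorem map_diagonal (E : Env D F tab orb) (T : Tw D F E.hF) :
    ∀ h ∈ D.diagonalSubgroup F, T.σ h ∈ D.diagonalSubgroup F := by
  intro h hh
  unfold ChevalleyDatum.diagonalSubgroup at hh
  induction hh using Subgroup.closure_induction with
  | mem x hx =>
    obtain ⟨r, t, hr, ht, hxe⟩ := hx
    rw [E.hF.eq_wordGL x (D.hWord r t) hxe, hWordGL, map_mul, map_nGL E T r hr, map_nGL E T r hr]
    have hRr := T.hRlt r hr
    have hft : T.f t ≠ 0 := by
      intro h0
      apply ht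
      have := congrArg T.f.symm h0
      simpa using this
    rcases T.hη r hr with h | h
    · rw [h]
      simp only [Int.cast_one, one_mul, map_neg, map_one]
      exact E.hF.hGL_mem _ hRr _ hft
    · rw [h]
      simp only [Int.cast_neg, Int.cast_one, neg_mul, one_mul, map_neg, map_one, neg_neg]
      have h1 := E.hF.hGL_mem _ hRr (-(T.f t)) (neg_ne_zero.mpr hft)
      have h2 := E.hF.nGL_sq_mem (F := F) _ hRr
      have e : E.hF.nGL (T.R r) (-(T.f t)) * E.hF.nGL (T.R r) 1 =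
          (E.hF.nGL (T.R r) (-(T.f t)) * E.hF.nGL (T.R r) (-1)) *
            (E.hF.nGL (T.R r) 1 * E.hF.nGL (T.R r) 1) := by
        rw [E.hF.nGL_neg_one_eq_inv]; group
      rw [e]
      exact Subgroup.mul_mem _ h1 h2
  | one => rw [map_one]; exact Subgroup.one_mem _
  | mul x y _ _ hx hy => rw [map_mul]; exact Subgroup.mul_mem _ hx hy
  | inv x _ hx => rw [map_inv]; exact Subgroup.inv_mem _ hx

theorem map_monomial (E : Env D F tab orb) (T : Tw D F E.hF) :
    ∀ n ∈ D.monomialSubgroup F, T.σ n ∈ D.monomialSubgroup F := by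
  have hle : D.monomialSubgroup F ≤ (D.monomialSubgroup F).comap T.σ.toMonoidHom := by
    have : D.monomialSubgroup F = D.diagonalSubgroup F ⊔
        Subgroup.closure {g : GL D.Idx F | ∃ r : ℕ, r < D.nroots ∧
          (g : Matrix D.Idx D.Idx F) = D.nMat F r 1} := rfl
    rw [this]
    apply sup_le
    · intro h hh
      rw [← this]
      exact diagonal_le_monomial D F (map_diagonal E T h hh)
    · rw [Subgroup.closure_le]
      rintro g ⟨r, hr, hg⟩
      rw [← this]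
      show T.σ g ∈ D.monomialSubgroup F
      have e : g = E.hF.nGL r 1 := E.hF.eq_wordGL g (D.nWord r 1) hg
      rw [e, map_nGL E T r hr]
      apply E.hF.nGL_mem_monomial _ (T.hRlt r hr)
      rw [map_one, mul_one]
      rcases T.hη r hr with h | h <;> rw [h] <;> simp
  intro n hn
  exact hle hn

/-- the subgroup `U_n⁻` of the normal form -/
def Un (D : ChevalleyDatum) (F : Type*) [Field F] (n : GL D.Idx F) : Subgroup (GL D.Idx F) :=
  rootClosure D F (fun r => D.IsPosRoot r ∧ NegSet D F n r)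

theorem Un_le (n : GL D.Idx F) : Un D F n ≤ D.posUnipotent F :=
  rootClosure_pos_le D F _ (fun r hr => hr.1)

theorem Un_H (hF : Facts D) (h : GL D.Idx F) (hh : h ∈ D.diagonalSubgroup F) (n : GL D.Idx F) :
    Un D F n ≤ Un D F (h * n) := by
  apply rootClosure_mono
  rintro s ⟨hs, hneg⟩
  refine ⟨hs, ?_⟩
  rintro y ⟨z, hz, rfl⟩
  have h1 : n * z * n⁻¹ ∈ D.negUnipotent F := hneg ⟨z, hz, by simp [MulAut.conj_apply]⟩
  have h2 := (Subgroup.mem_normalizer_iff.mp (hF.diagonal_le_normalizer_neg hh) _).mp h1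
  have e : (MulAut.conj (h * n)).toMonoidHom z = h * (n * z * n⁻¹) * h⁻¹ := by
    simp only [MulEquiv.coe_toMonoidHom, MulAut.conj_apply]; group
  rw [e]
  exact h2

theorem map_Un (E : Env D F tab orb) (T : Tw D F E.hF) (n : GL D.Idx F) (u : GL D.Idx F)
    (hu : u ∈ Un D F n) : T.σ u ∈ Un D F (T.σ n) := by
  apply T.map_rootClosure _ _ _ u hu
  rintro s hs ⟨hpos, hneg⟩
  refine ⟨(T.hRpos s hs).mpr hpos, ?_⟩
  have hle : D.rootSubgroup F (T.R s) ≤ (D.rootSubgroup F s).map T.σ.toMonoidHom := by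
    unfold ChevalleyDatum.rootSubgroup
    rw [Subgroup.closure_le]
    rintro g ⟨t, hg⟩
    rw [E.hF.eq_xGL g _ t hg, T.xGL_eq_map s hs]
    exact ⟨_, Subgroup.subset_closure ⟨_, E.hF.xGL_val _ _⟩, rfl⟩
  rintro y ⟨z, hz, rfl⟩
  obtain ⟨z', hz', rfl⟩ := hle hz
  have h1 : n * z' * n⁻¹ ∈ D.negUnipotent F := hneg ⟨z', hz', by simp [MulAut.conj_apply]⟩
  have e : (MulAut.conj (T.σ n)).toMonoidHom (T.σ.toMonoidHom z') = T.σ (n * z' * n⁻¹) := by
    simp only [MulEquiv.coe_toMonoidHom, MulAut.conj_apply, map_mul, map_inv]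
  rw [e]
  exact T.map_neg _ h1

/-! ### the classes of fundamental reflections -/

theorem nS_eq (hF : Facts D) (i : ℕ) :
    hF.nS (F := F) i = hF.xGL (D.simple i) 1 * hF.xGL (D.neg (D.simple i)) (-1) *
      hF.xGL (D.simple i) 1 := by
  unfold Facts.nS
  rw [hF.nGL_def]
  simp

theorem commute_nS (hF : Facts D) (i j : ℕ)
    (h : Commute (hF.xGL (D.simple i) (1 : F)) (hF.xGL (D.simple j) 1) ∧
      Commute (hF.xGL (D.simple i) (1 : F)) (hF.xGL (D.neg (D.simple j)) (-1)) ∧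
      Commute (hF.xGL (D.neg (D.simple i)) (-1 : F)) (hF.xGL (D.simple j) 1) ∧
      Commute (hF.xGL (D.neg (D.simple i)) (-1 : F)) (hF.xGL (D.neg (D.simple j)) (-1))) :
    Commute (hF.nS (F := F) i) (hF.nS j) := by
  obtain ⟨h1, h2, h3, h4⟩ := h
  rw [nS_eq, nS_eq]
  have cA := (h1.mul_right h2).mul_right h1
  have cB := (h3.mul_right h4).mul_right h3
  exact (cA.mul_left cB).mul_left cA

theorem map_nS (E : Env D F tab orb) (T : Tw D F E.hF) (i j : ℕ) (hi : D.simple i < D.nroots)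
    (hR : T.R (D.simple i) = D.simple j) (hη : T.η (D.simple i) = 1) :
    T.σ (E.hF.nS i) = E.hF.nS j := by
  unfold Facts.nS
  rw [map_nGL E T _ hi, hR, hη]
  simp

/-- the part of the setting used for the exchange condition -/
def coreOf (E : Env D F tab orb) (T : Tw D F E.hF) : Core (GL D.Idx F) where
  B := D.borelSubgroup F
  N := D.monomialSubgroup F
  H := D.diagonalSubgroup F
  σ := T.σ
  hNH := fun n hn h hh =>
    (Subgroup.mem_normalizer_iff.mp (E.hF.monomial_le_normalizer E.hN E.hH hn) h).mp hh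
  σH := map_diagonal E T
  bruhat := fun n hn n' hn' b₁ h1 b₂ h2 b₁' h1' b₂' h2' e =>
    E.hF.bruhat_unique E.P E.hB E.hN' E.hBN n n' hn hn' b₁ b₂ b₁' b₂' h1 h2 h1' h2' e

theorem ex_nS (E : Env D F tab orb) (T : Tw D F E.hF) (i : ℕ) (hi : i < D.rank) :
    (coreOf E T).Ex (E.hF.nS i) := fun n hn β hβ =>
  E.hF.bn_axiom E.hN E.hH E.hR i hi (E.hRefl i hi) (E.hUp i hi).1 (E.hUp i hi).2 n hn β hβ

theorem nS_ne (E : Env D F tab orb) (hSR : simpleReflNeOK D = true) (i j : ℕ) (hi : i < D.rank)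
    (hj : j < D.rank) (hij : i ≠ j) : (E.hF.nS (F := F) i)⁻¹ * E.hF.nS j ∉ D.diagonalSubgroup F :=
  fun h => hij (E.hF.nS_inj E.hN E.hH E.hR E.hNe E.hU.unit E.hBN hSR i j hi hj
    (diagonal_le_borel D F h))

/-- the shape of a class of fundamental reflections -/
def ClassOK (E : Env D F tab orb) (T : Tw D F E.hF) (s : GL D.Idx F) : Prop :=
  (∃ i, i < D.rank ∧ s = E.hF.nS i) ∨
  (∃ i j, i < D.rank ∧ j < D.rank ∧ i ≠ j ∧ s = E.hF.nS i * E.hF.nS j ∧
    Commute (E.hF.nS (F := F) i) (E.hF.nS j) ∧ T.σ (E.hF.nS i) = E.hF.nS j ∧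
    T.σ (E.hF.nS j) = E.hF.nS i) ∨
  (∃ i j k, i < D.rank ∧ j < D.rank ∧ k < D.rank ∧ i ≠ j ∧ j ≠ k ∧ i ≠ k ∧
    s = E.hF.nS i * (E.hF.nS j * E.hF.nS k) ∧
    Commute (E.hF.nS (F := F) i) (E.hF.nS j) ∧ Commute (E.hF.nS (F := F) i) (E.hF.nS k) ∧
    Commute (E.hF.nS (F := F) j) (E.hF.nS k) ∧ T.σ (E.hF.nS i) = E.hF.nS j ∧
    T.σ (E.hF.nS j) = E.hF.nS k ∧ T.σ (E.hF.nS k) = E.hF.nS i)

theorem class_ok (E : Env D F tab orb) (T : Tw D F E.hF) {Fd : List (ℕ × ℕ × List ℕ)}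
    (hG : TwG E T Fd) (x : ℕ × ℕ × List ℕ) (hx : x ∈ Fd)
    (hsh : x.2.2.length = x.2.1 ∧ 1 ≤ x.2.1 ∧ x.2.1 ≤ 3 ∧ x.2.2.Nodup) :
    ClassOK E T (E.hF.nW x.2.2) := by
  obtain ⟨hjx, hrk⟩ := hG.jx x hx
  have heta := hG.eta1 x hx
  have hcross := E.pairwise_of_crossOK _ (hG.cross x hx)
  have hfund := List.all_eq_true.mp hG.fund (x.1, x.2.1)
    (List.mem_append_left _ (List.mem_map.mpr ⟨x, hx, rfl⟩))
  simp only [Bool.and_eq_true, Nat.blt_eq, nbeq_true, List.all_eq_true, List.mem_range,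
    Bool.or_eq_true] at hfund
  obtain ⟨⟨⟨hlt, _⟩, hcl⟩, _⟩ := hfund
  obtain ⟨r, k, L⟩ := x
  obtain ⟨hlen, hk1, hk3, hnd⟩ := hsh
  dsimp only at hjx hrk heta hcross hlt hcl hlen hk1 hk3 hnd ⊢
  rw [← hjx] at hcross
  rcases L with _ | ⟨i, _ | ⟨j, _ | ⟨l, _ | ⟨m, L⟩⟩⟩⟩
  · simp at hlen; omega
  · -- one reflection
    left
    exact ⟨i, hrk i (by simp), by simp [Facts.nW]⟩
  · -- two reflections
    right; left
    have hk : k = 2 := by simp at hlen; omega
    subst hk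
    simp only [List.map_cons, List.map_nil, orbitL, List.cons.injEq, and_true] at hjx
    obtain ⟨e1, e2⟩ := hjx
    have hi := hrk i (by simp)
    have hj := hrk j (by simp)
    have hij : i ≠ j := by
      intro h; subst h; simp at hnd
    have hRR : T.R (T.R r) = r := hcl
    have h0 : T.η r = 1 := heta 0 (by omega)
    have h1 : T.η (T.R r) = 1 := heta 1 (by omega)
    have hc := (List.pairwise_cons.mp hcross).1 (D.simple j) (by simp)
    refine ⟨i, j, hi, hj, hij, by simp [Facts.nW], commute_nS E.hF i j hc, ?_, ?_⟩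
    · exact map_nS E T i j (by rw [e1]; exact hlt) (by rw [e1, e2]) (by rw [e1]; exact h0)
    · exact map_nS E T j i (by rw [e2]; exact T.hRlt r hlt) (by rw [e2, e1]; exact hRR)
        (by rw [e2]; exact h1)
  · -- three reflections
    right; right
    have hk : k = 3 := by simp at hlen; omega
    subst hk
    simp only [List.map_cons, List.map_nil, orbitL, List.cons.injEq, and_true] at hjx
    obtain ⟨e1, e2, e3⟩ := hjx
    have hi := hrk i (by simp)
    have hj := hrk j (by simp)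
    have hl := hrk l (by simp)
    have hij : i ≠ j := by
      intro h; subst h; simp at hnd
    have hjl : j ≠ l := by
      intro h; subst h; simp at hnd
    have hil : i ≠ l := by
      intro h; subst h; simp at hnd
    have hRR : T.R (T.R (T.R r)) = r := hcl
    have h0 : T.η r = 1 := heta 0 (by omega)
    have h1 : T.η (T.R r) = 1 := heta 1 (by omega)
    have h2 : T.η (T.R (T.R r)) = 1 := heta 2 (by omega)
    have hc1 := (List.pairwise_cons.mp hcross).1 (D.simple j) (by simp)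
    have hc2 := (List.pairwise_cons.mp hcross).1 (D.simple l) (by simp)
    have hc3 := (List.pairwise_cons.mp (List.pairwise_cons.mp hcross).2).1 (D.simple l) (by simp)
    refine ⟨i, j, l, hi, hj, hl, hij, hjl, hil, by simp [Facts.nW], commute_nS E.hF i j hc1,
      commute_nS E.hF i l hc2, commute_nS E.hF j l hc3, ?_, ?_, ?_⟩
    · exact map_nS E T i j (by rw [e1]; exact hlt) (by rw [e1, e2]) (by rw [e1]; exact h0)
    · exact map_nS E T j l (by rw [e2]; exact T.hRlt r hlt) (by rw [e2, e3]) (by rw [e2]; exact h1)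
    · exact map_nS E T l i (by rw [e3]; exact T.hRlt _ (T.hRlt r hlt)) (by rw [e3, e1]; exact hRR)
        (by rw [e3]; exact h2)
  · simp at hlen; omega

theorem nS_mem_N (E : Env D F tab orb) (i : ℕ) (hi : i < D.rank) :
    E.hF.nS (F := F) i ∈ D.monomialSubgroup F :=
  E.hF.nS_mem_monomial i (Facts.simple_lt E.hH i hi)

theorem nS_sq (E : Env D F tab orb) (i : ℕ) (hi : i < D.rank) :
    E.hF.nS (F := F) i * E.hF.nS i ∈ D.diagonalSubgroup F :=
  E.hF.nGL_sq_mem _ (Facts.simple_lt E.hH i hi)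

theorem ClassOK.sq_mem {E : Env D F tab orb} {T : Tw D F E.hF} {s : GL D.Idx F}
    (h : ClassOK E T s) : s * s ∈ D.diagonalSubgroup F := by
  rcases h with ⟨i, hi, rfl⟩ | ⟨i, j, hi, hj, _, rfl, hc, _, _⟩ |
    ⟨i, j, k, hi, hj, hk, _, _, _, rfl, hij, hik, hjk, _, _, _⟩
  · exact nS_sq E i hi
  · rw [hc.symm.mul_mul_mul_comm]
    exact Subgroup.mul_mem _ (nS_sq E i hi) (nS_sq E j hj)
  · have hc : Commute (E.hF.nS (F := F) j * E.hF.nS k) (E.hF.nS i) :=
      (hij.mul_right hik).symm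
    rw [hc.mul_mul_mul_comm, hjk.symm.mul_mul_mul_comm]
    exact Subgroup.mul_mem _ (nS_sq E i hi)
      (Subgroup.mul_mem _ (nS_sq E j hj) (nS_sq E k hk))

theorem ClassOK.exch {E : Env D F tab orb} {T : Tw D F E.hF} {s : GL D.Idx F}
    (h : ClassOK E T s) (hSR : simpleReflNeOK D = true) :
    ∀ b ∈ D.borelSubgroup F, ∀ n ∈ D.monomialSubgroup F, T.σ n = n →
      ∀ n' ∈ D.monomialSubgroup F, T.σ n' = n' → ∀ β₁ ∈ D.borelSubgroup F,
      ∀ β₂ ∈ D.borelSubgroup F, s * b * n = β₁ * n' * β₂ →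
        n⁻¹ * n' ∈ D.diagonalSubgroup F ∨ (s * n)⁻¹ * n' ∈ D.diagonalSubgroup F := by
  rcases h with ⟨i, hi, rfl⟩ | ⟨i, j, hi, hj, hij, rfl, hc, h1, h2⟩ |
    ⟨i, j, k, hi, hj, hk, hij, hjk, hik, rfl, cij, cik, cjk, h1, h2, h3⟩
  · exact (coreOf E T).exch_one (ex_nS E T i hi) (nS_mem_N E i hi)
  · exact (coreOf E T).exch_two (ex_nS E T i hi) (ex_nS E T j hj) (nS_mem_N E i hi)
      (nS_mem_N E j hj) h1 h2 (nS_ne E hSR i j hi hj hij)
  · exact (coreOf E T).exch_three (ex_nS E T i hi) (ex_nS E T j hj) (ex_nS E T k hk)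
      (nS_mem_N E i hi) (nS_mem_N E j hj) (nS_mem_N E k hk) cij cik cjk h1 h2 h3
      (nS_ne E hSR i j hi hj hij) (nS_ne E hSR j k hj hk hjk) (nS_ne E hSR i k hi hk hik)

end chev

end Cfsg.Agent.Lib.Helper33.TwBN
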