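import Cfsg.Agent.Lib.Helper33.F4Defs
import Cfsg.Agent.Lib.Helper24.CellsF
import Cfsg.Agent.Lib.Helper33.TwBNChev

/-!
The twisting automorphism of `F₄(K)` extended (by the identity) to a function on the general linear
group, the verified facts `envF4` on `F₄(K)`, the generators of `²F₄` and the representatives `s1F`, `s2F`.
-/

set_option autoImplicit false
set_option linter.unusedSimpArgs false
set_option maxRecDepth 100000

namespace Cfsg.Agent.Lib.Helper33.F4

open Cfsg.Lie Cfsg.Agent.Lib.Helper24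

theorem f4_mem : chevF4 ∈ [chevG2, chevB2, chevD4, chevF4, chevE6, chevE7, chevE8] := by simp

/-- the verified facts on the Chevalley group of type `F₄` -/
noncomputable def envF4 (F : Type*) [Field F] : Env chevF4 F nTabF4 orbTabF4 :=
  Classical.choice (env_of_facts (F := F) chevF4 f4_mem nTabF4 orbTabF4 nfacts_F4 hnfacts_F4 cfacts_F4)

variable {K : Type*} [Field K] {e : ℕ}

/-- `x_r(t)` as an element of the general linear group -/
noncomputable abbrev xF (K : Type*) [Field K] (r : ℕ) (t : K) : GL chevF4.Idx K := (envF4 K).hF.xGL r t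

/-- `σ`, extended by the identity outside `F₄(K)` -/
noncomputable def SigmaF.ext (S : SigmaF K e) (g : GL chevF4.Idx K) : GL chevF4.Idx K := by
  classical
  exact if h : g ∈ chevF4.group K then (S.σ ⟨g, h⟩ : GL chevF4.Idx K) else g

theorem SigmaF.ext_of_mem (S : SigmaF K e) {g : GL chevF4.Idx K} (h : g ∈ chevF4.group K) :
    S.ext g = (S.σ ⟨g, h⟩ : GL chevF4.Idx K) := by
  unfold SigmaF.ext
  rw [dif_pos h]

theorem SigmaF.ext_mem (S : SigmaF K e) {g : GL chevF4.Idx K} (h : g ∈ chevF4.group K) :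
    S.ext g ∈ chevF4.group K := by
  rw [S.ext_of_mem h]
  exact (S.σ ⟨g, h⟩).2

theorem SigmaF.ext_mul (S : SigmaF K e) {a b : GL chevF4.Idx K} (ha : a ∈ chevF4.group K)
    (hb : b ∈ chevF4.group K) : S.ext (a * b) = S.ext a * S.ext b := by
  rw [S.ext_of_mem ha, S.ext_of_mem hb, S.ext_of_mem (Subgroup.mul_mem _ ha hb)]
  have : (⟨a * b, Subgroup.mul_mem _ ha hb⟩ : ↥(chevF4.group K)) = ⟨a, ha⟩ * ⟨b, hb⟩ := rfl
  rw [this, map_mul]
  rfl

theorem SigmaF.ext_one (S : SigmaF K e) : S.ext (1 : GL chevF4.Idx K) = 1 := by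
  rw [S.ext_of_mem (Subgroup.one_mem _)]
  have : (⟨1, Subgroup.one_mem _⟩ : ↥(chevF4.group K)) = 1 := rfl
  rw [this, map_one]
  rfl

theorem SigmaF.ext_inv (S : SigmaF K e) {a : GL chevF4.Idx K} (ha : a ∈ chevF4.group K) :
    S.ext a⁻¹ = (S.ext a)⁻¹ := by
  rw [S.ext_of_mem ha, S.ext_of_mem (Subgroup.inv_mem _ ha)]
  have : (⟨a⁻¹, Subgroup.inv_mem _ ha⟩ : ↥(chevF4.group K)) = (⟨a, ha⟩ : ↥(chevF4.group K))⁻¹ := rfl
  rw [this, map_inv]
  rfl

theorem xF_mem (r : ℕ) (t : K) : xF K r t ∈ chevF4.group K :=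
  (envF4 K).hF.xGL_mem_group r t

/-- `σ (x_r(t)) = x_{r̄}(t ^ (λ(r) e))` -/
theorem SigmaF.ext_xF (S : SigmaF K e) (r : ℕ) (hr : r < 48) (t : K) :
    S.ext (xF K r t) = xF K (barF r) (t ^ (lamF r * e)) := by
  rw [S.ext_of_mem (xF_mem r t)]
  apply Units.ext
  rw [S.map_x r hr t ⟨xF K r t, xF_mem r t⟩ (by simp [xF])]
  simp [xF]

/-- `σ` of a word in root elements -/
theorem SigmaF.ext_wordGL (S : SigmaF K e) (w : List (ℕ × K)) (hw : ∀ p ∈ w, p.1 < 48) :
    S.ext ((envF4 K).hF.wordGL w) =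
      (envF4 K).hF.wordGL (w.map fun p => (barF p.1, p.2 ^ (lamF p.1 * e))) := by
  induction w with
  | nil =>
    simp only [Facts.wordGL, List.map_nil, List.prod_nil]
    exact S.ext_one
  | cons p w ih =>
    have e1 : (envF4 K).hF.wordGL (p :: w) = xF K p.1 p.2 * (envF4 K).hF.wordGL w := by
      simp [Facts.wordGL, xF]
    rw [e1, S.ext_mul (xF_mem _ _) ((envF4 K).hF.wordGL_mem_group _),
      S.ext_xF p.1 (hw p List.mem_cons_self), ih (fun q hq => hw q (List.mem_cons_of_mem _ hq))]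
    simp [Facts.wordGL, xF]

/-- the generator `x_{p₁}(t^θ) x_{p₄}(t)` -/
noncomputable def pGL (K : Type*) [Field K] (e : ℕ) (t : K) : GL chevF4.Idx K :=
  (envF4 K).hF.wordGL (f4PairWord e f4p1 f4p4 t)

/-- the generator `x_{-p₁}(t^θ) x_{-p₄}(t)` -/
noncomputable def pGLn (K : Type*) [Field K] (e : ℕ) (t : K) : GL chevF4.Idx K :=
  (envF4 K).hF.wordGL (f4PairWord e f4m1 f4m4 t)

/-- the generator `x_a(t^θ) x_b(t) x_{a+b}(t^{θ+1} + u) x_{2a+b}(u^{2θ})`, `a = p₂`, `b = p₃` -/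
noncomputable def bGL (K : Type*) [Field K] (e : ℕ) (t u : K) : GL chevF4.Idx K :=
  (envF4 K).hF.wordGL (b2ClassWord e f4a f4b f4ab f4aab t u)

/-- the same for the negative roots -/
noncomputable def bGLn (K : Type*) [Field K] (e : ℕ) (t u : K) : GL chevF4.Idx K :=
  (envF4 K).hF.wordGL (b2ClassWord e f4ma f4mb f4mab f4maab t u)

/-- the set of generators of `²F₄` -/
def genF (K : Type*) [Field K] (e : ℕ) : Set (GL chevF4.Idx K) :=
  {g | (∃ t : K, g = pGL K e t) ∨ (∃ t u : K, g = bGL K e t u)} ∪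
  {g | (∃ t : K, g = pGLn K e t) ∨ (∃ t u : K, g = bGLn K e t u)}

theorem twistedF4_eq_closure : twistedF4 K e = Subgroup.closure (genF K e) := by
  apply le_antisymm
  · unfold twistedF4 ChevalleyDatum.genSubgroup
    rw [Subgroup.closure_le]
    rintro g ⟨w, hw, hg⟩
    apply Subgroup.subset_closure
    rcases hw with ⟨t, hw | hw⟩ | ⟨t, u, hw | hw⟩
    · left; left
      exact ⟨t, Units.ext (by rw [hg, hw]; simp [pGL, Facts.wordGL_val])⟩
    · right; left
      exact ⟨t, Units.ext (by rw [hg, hw]; simp [pGLn, Facts.wordGL_val])⟩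
    · left; right
      exact ⟨t, u, Units.ext (by rw [hg, hw]; simp [bGL, Facts.wordGL_val])⟩
    · right; right
      exact ⟨t, u, Units.ext (by rw [hg, hw]; simp [bGLn, Facts.wordGL_val])⟩
  · rw [Subgroup.closure_le]
    unfold twistedF4 ChevalleyDatum.genSubgroup
    rintro g ((⟨t, rfl⟩ | ⟨t, u, rfl⟩) | (⟨t, rfl⟩ | ⟨t, u, rfl⟩))
    · exact Subgroup.subset_closure ⟨_, Or.inl ⟨t, Or.inl rfl⟩, by simp [pGL, Facts.wordGL_val]⟩
    · exact Subgroup.subset_closure ⟨_, Or.inr ⟨t, u, Or.inl rfl⟩, by simp [bGL, Facts.wordGL_val]⟩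
    · exact Subgroup.subset_closure ⟨_, Or.inl ⟨t, Or.inr rfl⟩, by simp [pGLn, Facts.wordGL_val]⟩
    · exact Subgroup.subset_closure ⟨_, Or.inr ⟨t, u, Or.inr rfl⟩, by simp [bGLn, Facts.wordGL_val]⟩

theorem twistedF4_le_group : twistedF4 K e ≤ chevF4.group K := by
  rw [twistedF4_eq_closure, Subgroup.closure_le]
  rintro g ((⟨t, rfl⟩ | ⟨t, u, rfl⟩) | (⟨t, rfl⟩ | ⟨t, u, rfl⟩)) <;>
    exact (envF4 K).hF.wordGL_mem_group _

/-- the representative of the class `{p₁, p₄}` of fundamental reflections: `n_{p₁}(1) n_{p₄}(1)` -/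
noncomputable def s1F (K : Type*) [Field K] : GL chevF4.Idx K := (envF4 K).hF.nW [0, 3]

/-- the representative of the class `{p₂, p₃}`: `n_{p₂} n_{p₃} n_{p₂} n_{p₃}` -/
noncomputable def s2F (K : Type*) [Field K] : GL chevF4.Idx K := (envF4 K).hF.nW [1, 2, 1, 2]

/-- the 8 classes of positive roots, in the angular order from `J₁ = {p₁, p₄}` (index 0) to
`J₂ = {p₂, p₃, p₂+p₃, 2p₂+p₃}` (index 7); pairs are (short, long), quadruples are `(a', b', a'+b', 2a'+b')` -/
def classesF : List (List ℕ) :=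
  [[33, 24], [34, 26, 36, 42], [38, 43], [29, 41, 44, 47], [39, 45], [35, 31, 40, 46], [37, 32], [27, 25, 28, 30]]

/-- words in the fundamental reflections: `rhoW chevF4 (wordsF[k])` maps the fundamental class `J₁ = [33, 24]`
(`k` even) resp. `J₂ = [27, 25, 28, 30]` (`k` odd) onto `classesF[k]`, as lists; every word is a product of
blocks `[0, 3]` (`s1F`) and `[1, 2, 1, 2]` (`s2F`) -/
def wordsF : List (List ℕ) :=
  [[], [0, 3], [0, 3, 1, 2, 1, 2], [0, 3, 1, 2, 1, 2, 0, 3], [1, 2, 1, 2, 0, 3, 1, 2, 1, 2], [1, 2, 1, 2, 0, 3],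
   [1, 2, 1, 2], []]

/-- the fundamental class of the same type as `classesF[k]` -/
def fundF (k : ℕ) : List ℕ := if k % 2 = 0 then [33, 24] else [27, 25, 28, 30]

theorem wordsF_spec : ∀ k < 8, (fundF k).map (rhoW chevF4 (wordsF.getD k [])) = classesF.getD k [] := by
  decide

end Cfsg.Agent.Lib.Helper33.F4
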