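import Cfsg.Agent.Lib.Helper33.ReeDefs
import Cfsg.Agent.Lib.Helper37.GraphAutG2
import Cfsg.Agent.Lib.Helper24.FactsAll
import Cfsg.Agent.Lib.Helper24.TwInst
import Cfsg.Agent.S1055

/-!
The twisting automorphism `σ` of `G₂(K)` for a finite field `K` of characteristic 3:
the graph automorphism (helper37) composed with the field automorphism `t ↦ t ^ (3 ^ m)`.
-/

set_option autoImplicit false
set_option linter.unusedSimpArgs false

namespace Cfsg.Agent.Lib.Helper33.Ree

open Cfsg.Lie Cfsg.Agent.Lib.Helper24 Cfsg.Agent.Lib.Helper37.GraphAut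

theorem g2_mem_list : chevG2 ∈ [chevG2, chevB2, chevD4, chevF4, chevE6, chevE7, chevE8] := by simp

theorem factsG2 : Facts chevG2 := facts_all chevG2 g2_mem_list

theorem sigmaR_val : ∀ r : Fin chevG2.nroots, (dataG2.σR r).val = bar r.val := by decide

theorem ex_pow : ∀ r : Fin chevG2.nroots, (if dataG2.ex r then dataG2.p else 1) = lam r.val := by decide

/-- the graph automorphism of `G₂(K)` in characteristic 3, on all root elements -/
theorem exists_graphAut {K : Type*} [Field K] [CharP K 3] (hperf : ∀ x : K, ∃ y : K, y ^ 3 = x) :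
    ∃ α : ↥(chevG2.group K) ≃* ↥(chevG2.group K), ∀ r < 12, ∀ (t : K) (g : ↥(chevG2.group K)),
      ((g : GL chevG2.Idx K) : Matrix chevG2.Idx chevG2.Idx K) = chevG2.x K r t →
      ((α g : GL chevG2.Idx K) : Matrix chevG2.Idx chevG2.Idx K) = chevG2.x K (bar r) (t ^ lam r) := by
  classical
  have hF := factsG2
  have h3 : (3 : K) = 0 := by
    have := CharP.cast_eq_zero K 3
    exact_mod_cast this
  have hK : ∃ a : K, a ≠ 0 ∧ a ≠ 1 := by
    refine ⟨-1, by simp, ?_⟩
    intro h
    have h2 : (2 : K) = 0 := by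
      have : (1 : K) + 1 = 0 := by nth_rewrite 1 [← h]; simp
      rw [← this]; norm_num
    have : (1 : K) = 0 := by
      have e : (1 : K) = 3 - 2 := by norm_num
      rw [e, h3, h2, sub_zero]
    exact one_ne_zero this
  have hsimple : IsSimpleGroup ↥(chevG2.group K) := (Cfsg.Agent.S1055.result hK).1
  have : CharP K (dataG2).p := (inferInstance : CharP K 3)
  have hfaith := faithful_of_simple' (K := K) dataG2 hF chkAll_G2 chkB_G2 hsimple ⟨7, by decide⟩ ⟨4, by decide⟩
    (by decide) (by decide) (by decide) (by decide)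
  obtain ⟨α, hsurj, hα⟩ := exists_graph_hom (K := K) dataG2 hF (Or.inr rfl) chkAll_G2 chkB_G2 chkR_G2 hperf hfaith
  have hinj : Function.Injective α := injective_of_simple hsimple α hsurj
  refine ⟨MulEquiv.ofBijective α ⟨hinj, hsurj⟩, ?_⟩
  intro r hr t g hg
  have h1 := hα g ⟨r, hr⟩ t (by rw [← x_of_fin]; exact hg)
  show ((α g : GL chevG2.Idx K) : Matrix chevG2.Idx chevG2.Idx K) = _
  rw [h1, ← x_of_fin, sigmaR_val, ex_pow]

/-- the field automorphism of `G₂(K)` -/
theorem exists_fieldAut {K : Type*} [Field K] (f : K ≃+* K) :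
    ∃ φ : ↥(chevG2.group K) ≃* ↥(chevG2.group K), ∀ (g : ↥(chevG2.group K)),
      ((φ g : GL chevG2.Idx K) : Matrix chevG2.Idx chevG2.Idx K) =
        ((g : GL chevG2.Idx K) : Matrix chevG2.Idx chevG2.Idx K).map f := by
  have hF := factsG2
  have hgen : ∀ (f' : K ≃+* K) (g : GL chevG2.Idx K), g ∈ chevG2.group K → glAutF chevG2 f' g ∈ chevG2.group K := by
    intro f' g hg
    have hle : chevG2.group K ≤ (chevG2.group K).comap (glAutF chevG2 f').toMonoidHom := by
      unfold ChevalleyDatum.group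
      rw [Subgroup.closure_le]
      rintro x ⟨r, t, hx⟩
      show glAutF chevG2 f' x ∈ Subgroup.closure _
      have : x = hF.xGL r.val t := Units.ext (by rw [hx, Facts.xGL_val, x_of_fin])
      rw [this, glAutF_xGL]
      exact Subgroup.subset_closure ⟨r, f' t, by rw [Facts.xGL_val, x_of_fin]⟩
    exact hle hg
  refine ⟨{ toFun := fun g => ⟨glAutF chevG2 f g.1, hgen f g.1 g.2⟩
            invFun := fun g => ⟨glAutF chevG2 f.symm g.1, hgen f.symm g.1 g.2⟩
            left_inv := ?_
            right_inv := ?_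
            map_mul' := ?_ }, ?_⟩
  · intro g
    apply Subtype.ext
    apply Units.ext
    ext i j
    show f.symm (f ((g.1 : Matrix chevG2.Idx chevG2.Idx K) i j)) = _
    simp
  · intro g
    apply Subtype.ext
    apply Units.ext
    ext i j
    show f (f.symm ((g.1 : Matrix chevG2.Idx chevG2.Idx K) i j)) = _
    simp
  · intro a b
    apply Subtype.ext
    show glAutF chevG2 f (a.1 * b.1) = glAutF chevG2 f a.1 * glAutF chevG2 f b.1
    exact map_mul _ _ _
  · intro g
    rfl

/-- the twisting automorphism of `G₂(K)`, `K` finite of characteristic 3 -/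
theorem exists_sigma {K : Type*} [Field K] [Finite K] [CharP K 3] (m : ℕ) : Nonempty (Sigma K (3 ^ m)) := by
  haveI : Fact (Nat.Prime 3) := ⟨by norm_num⟩
  have hperf : ∀ x : K, ∃ y : K, y ^ 3 = x := by
    intro x
    have hs : Function.Surjective (frobenius K 3) :=
      Finite.injective_iff_surjective.mp (frobenius_inj K 3)
    obtain ⟨y, hy⟩ := hs x
    exact ⟨y, hy⟩
  obtain ⟨α, hα⟩ := exists_graphAut hperf
  obtain ⟨φ, hφ⟩ := exists_fieldAut (iterateFrobeniusEquiv K 3 m)
  refine ⟨⟨φ.trans α, ?_⟩⟩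
  intro r hr t g hg
  show ((α (φ g) : GL chevG2.Idx K) : Matrix chevG2.Idx chevG2.Idx K) = _
  have h1 : ((φ g : GL chevG2.Idx K) : Matrix chevG2.Idx chevG2.Idx K) = chevG2.x K r (t ^ 3 ^ m) := by
    rw [hφ g, hg]
    have := x_mapF chevG2 (iterateFrobeniusEquiv K 3 m : K →+* K) r t
    rw [show ((chevG2.x K r t).map (iterateFrobeniusEquiv K 3 m)) =
      (chevG2.x K r t).map ((iterateFrobeniusEquiv K 3 m : K →+* K)) from rfl, this]
    congr 1
  rw [hα r hr _ _ h1, ← pow_mul, mul_comm]

end Cfsg.Agent.Lib.Helper33.Ree
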