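import Cfsg.Agent.Lib.Helper33.ReeDefs
import Cfsg.Agent.Lib.Helper24.CellsF
import Cfsg.Agent.Lib.Helper37.GraphAutMain

/-!
The twisting automorphism of `G₂(K)` extended (by the identity) to a function on the general linear
group, the verified facts `envG2` on `G₂(K)`, and the distinguished elements `sGL`, `h1GL`.
-/

set_option autoImplicit false
set_option linter.unusedSimpArgs false

namespace Cfsg.Agent.Lib.Helper33.Ree

open Cfsg.Lie Cfsg.Agent.Lib.Helper24

theorem g2_mem : chevG2 ∈ [chevG2, chevB2, chevD4, chevF4, chevE6, chevE7, chevE8] := by simp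

/-- the verified facts on the Chevalley group of type `G₂` -/
noncomputable def envG2 (F : Type*) [Field F] : Env chevG2 F nTabG2 orbTabG2 :=
  Classical.choice (env_of_facts (F := F) chevG2 g2_mem nTabG2 orbTabG2 nfacts_G2 hnfacts_G2 cfacts_G2)

variable {K : Type*} [Field K] {e : ℕ}

/-- `x_r(t)` as an element of the general linear group -/
noncomputable abbrev xG (K : Type*) [Field K] (r : ℕ) (t : K) : GL chevG2.Idx K := (envG2 K).hF.xGL r t

/-- `σ`, extended by the identity outside `G₂(K)` -/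
noncomputable def Sigma.ext (S : Sigma K e) (g : GL chevG2.Idx K) : GL chevG2.Idx K := by
  classical
  exact if h : g ∈ chevG2.group K then (S.σ ⟨g, h⟩ : GL chevG2.Idx K) else g

theorem Sigma.ext_of_mem (S : Sigma K e) {g : GL chevG2.Idx K} (h : g ∈ chevG2.group K) :
    S.ext g = (S.σ ⟨g, h⟩ : GL chevG2.Idx K) := by
  unfold Sigma.ext
  rw [dif_pos h]

theorem Sigma.ext_mem (S : Sigma K e) {g : GL chevG2.Idx K} (h : g ∈ chevG2.group K) :
    S.ext g ∈ chevG2.group K := by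
  rw [S.ext_of_mem h]
  exact (S.σ ⟨g, h⟩).2

theorem Sigma.ext_mul (S : Sigma K e) {a b : GL chevG2.Idx K} (ha : a ∈ chevG2.group K)
    (hb : b ∈ chevG2.group K) : S.ext (a * b) = S.ext a * S.ext b := by
  rw [S.ext_of_mem ha, S.ext_of_mem hb, S.ext_of_mem (Subgroup.mul_mem _ ha hb)]
  have : (⟨a * b, Subgroup.mul_mem _ ha hb⟩ : ↥(chevG2.group K)) = ⟨a, ha⟩ * ⟨b, hb⟩ := rfl
  rw [this, map_mul]
  rfl

theorem Sigma.ext_one (S : Sigma K e) : S.ext (1 : GL chevG2.Idx K) = 1 := by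
  rw [S.ext_of_mem (Subgroup.one_mem _)]
  have : (⟨1, Subgroup.one_mem _⟩ : ↥(chevG2.group K)) = 1 := rfl
  rw [this, map_one]
  rfl

theorem Sigma.ext_inv (S : Sigma K e) {a : GL chevG2.Idx K} (ha : a ∈ chevG2.group K) :
    S.ext a⁻¹ = (S.ext a)⁻¹ := by
  rw [S.ext_of_mem ha, S.ext_of_mem (Subgroup.inv_mem _ ha)]
  have : (⟨a⁻¹, Subgroup.inv_mem _ ha⟩ : ↥(chevG2.group K)) = (⟨a, ha⟩ : ↥(chevG2.group K))⁻¹ := rfl
  rw [this, map_inv]
  rfl

theorem xG_mem (r : ℕ) (t : K) : xG K r t ∈ chevG2.group K :=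
  (envG2 K).hF.xGL_mem_group r t

/-- `σ (x_r(t)) = x_{r̄}(t ^ (λ(r) e))` -/
theorem Sigma.ext_xG (S : Sigma K e) (r : ℕ) (hr : r < 12) (t : K) :
    S.ext (xG K r t) = xG K (bar r) (t ^ (lam r * e)) := by
  rw [S.ext_of_mem (xG_mem r t)]
  apply Units.ext
  rw [S.map_x r hr t ⟨xG K r t, xG_mem r t⟩ (by simp [xG])]
  simp [xG]

theorem Sigma.mem_Fx_iff_ext (S : Sigma K e) (g : GL chevG2.Idx K) :
    g ∈ S.Fx ↔ g ∈ chevG2.group K ∧ S.ext g = g := by
  constructor
  · rintro ⟨h, e1⟩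
    refine ⟨h, ?_⟩
    rw [S.ext_of_mem h, e1]
  · rintro ⟨h, e1⟩
    refine ⟨h, ?_⟩
    apply Subtype.ext
    rw [S.ext_of_mem h] at e1
    exact e1

theorem Sigma.mem_Fx_iff (S : Sigma K e) (g : GL chevG2.Idx K) :
    g ∈ S.Fx ↔ g ∈ chevG2.group K ∧ S.ext g = g := S.mem_Fx_iff_ext g

/-- `σ` is an involution when `t ^ (3 e²) = t` -/
theorem Sigma.ext_ext_xG (S : Sigma K e) (hθ : ∀ t : K, t ^ (3 * e * e) = t) (r : ℕ) (hr : r < 12) (t : K) :
    S.ext (S.ext (xG K r t)) = xG K r t := by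
  rw [S.ext_xG r hr, S.ext_xG (bar r) (bar_lt r hr), bar_bar r hr, ← pow_mul]
  have : lam r * e * (lam (bar r) * e) = 3 * e * e := by
    have := lam_mul_lam r hr
    calc lam r * e * (lam (bar r) * e) = (lam r * lam (bar r)) * e * e := by ring
      _ = 3 * e * e := by rw [this]
  rw [this, hθ]

/-- the representative `n_{a+b}(1) n_{3a+b}(1)` of the longest element of the Weyl group -/
noncomputable def sGL (K : Type*) [Field K] : GL chevG2.Idx K :=
  (envG2 K).hF.nGL 8 1 * (envG2 K).hF.nGL 10 1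

/-- the torus element `h_{a+b}(t ^ e) h_{3a+b}(t)`: `n(t) n(1)⁻¹` with `n(t) = n_{a+b}(t ^ e) n_{3a+b}(t)` -/
noncomputable def h1GL (K : Type*) [Field K] (e : ℕ) (t : K) : GL chevG2.Idx K :=
  (envG2 K).hF.nGL 8 (t ^ e) * (envG2 K).hF.nGL 10 t * (sGL K)⁻¹

/-- the element `u(t, u, v)` of `U¹` -/
noncomputable def uGL (K : Type*) [Field K] (e : ℕ) (t u v : K) : GL chevG2.Idx K :=
  (envG2 K).hF.wordGL (reeWordU e t u v)

/-- the element `v(t, u, v)` of `V¹` -/
noncomputable def vGL (K : Type*) [Field K] (e : ℕ) (t u v : K) : GL chevG2.Idx K :=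
  (envG2 K).hF.wordGL (reeWordV e t u v)

theorem uGL_mem_twisted (t u v : K) : uGL K e t u v ∈ twistedG2 K e := by
  apply Subgroup.subset_closure
  exact ⟨reeWordU e t u v, ⟨t, u, v, Or.inl rfl⟩, by simp [uGL, Facts.wordGL_val]⟩

theorem vGL_mem_twisted (t u v : K) : vGL K e t u v ∈ twistedG2 K e := by
  apply Subgroup.subset_closure
  exact ⟨reeWordV e t u v, ⟨t, u, v, Or.inr rfl⟩, by simp [vGL, Facts.wordGL_val]⟩

theorem twisted_eq_closure :
    twistedG2 K e = Subgroup.closure ({g | ∃ t u v : K, g = uGL K e t u v} ∪ {g | ∃ t u v : K, g = vGL K e t u v}) := by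
  apply le_antisymm
  · unfold twistedG2 ChevalleyDatum.genSubgroup
    rw [Subgroup.closure_le]
    rintro g ⟨w, ⟨t, u, v, hw | hw⟩, hg⟩
    · apply Subgroup.subset_closure
      left
      refine ⟨t, u, v, ?_⟩
      apply Units.ext
      rw [hg, hw]
      simp [uGL, Facts.wordGL_val]
    · apply Subgroup.subset_closure
      right
      refine ⟨t, u, v, ?_⟩
      apply Units.ext
      rw [hg, hw]
      simp [vGL, Facts.wordGL_val]
  · rw [Subgroup.closure_le]
    rintro g (⟨t, u, v, rfl⟩ | ⟨t, u, v, rfl⟩)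
    · exact uGL_mem_twisted t u v
    · exact vGL_mem_twisted t u v

end Cfsg.Agent.Lib.Helper33.Ree
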