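import Cfsg.Agent.Lib.Helper33.ReeBN

/-!
The torus `H ⊓ G¹` of the Ree group: cyclic of order `q - 1`, from the leaves E, F of the keystone pack K-Ree.
-/

set_option autoImplicit false
set_option linter.unusedSimpArgs false
set_option linter.unusedVariables false

namespace Cfsg.Agent.Lib.Helper33.Ree

open Cfsg.Lie Cfsg.Agent.Lib.Helper24 Cfsg.Agent.Lib.Helper33.TwBN

variable {K : Type*} [Field K] {e : ℕ}

/-- the leaves of the keystone pack used for the torus -/
structure TorLeaves (S : Sigma K e) : Prop where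
  G1_fix : ∀ g : GL chevG2.Idx K, g ∈ twistedG2 K e → S.ext g = g
  tor_mem : ∀ μ : Kˣ, torG K e μ ∈ twistedG2 K e
  torG_inj : Function.Injective (torG K e)
  fix_diag : ∀ h : GL chevG2.Idx K, h ∈ chevG2.diagonalSubgroup K → S.ext h = h → ∃ μ : Kˣ, h = torG K e μ

variable {S : Sigma K e} (T : TorLeaves S)
include T

theorem TorLeaves.inf_eq_range : chevG2.diagonalSubgroup K ⊓ twistedG2 K e = (torG K e).range := by
  apply le_antisymm
  · rintro h ⟨hH, hG⟩
    obtain ⟨μ, rfl⟩ := T.fix_diag h hH (T.G1_fix h hG)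
    exact ⟨μ, rfl⟩
  · rintro h ⟨μ, rfl⟩
    exact ⟨torG_mem_diag e μ, T.tor_mem μ⟩

theorem TorLeaves.card_eq [Fintype K] :
    Nat.card ↥(chevG2.diagonalSubgroup K ⊓ twistedG2 K e) = Fintype.card K - 1 := by
  rw [T.inf_eq_range]
  have h1 : Nat.card ↥(torG K e).range = Nat.card Kˣ :=
    (Nat.card_congr (MonoidHom.ofInjective T.torG_inj).toEquiv).symm
  rw [h1, Nat.card_units, Nat.card_eq_fintype_card]

theorem TorLeaves.isCyclic [Finite K] : IsCyclic ↥(chevG2.diagonalSubgroup K ⊓ twistedG2 K e) := by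
  rw [T.inf_eq_range]
  exact isCyclic_of_surjective (torG K e).rangeRestrict (torG K e).rangeRestrict_surjective

end Cfsg.Agent.Lib.Helper33.Ree
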