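import Cfsg.Agent.Lib.Helper33.ReeCore
import Cfsg.Agent.Lib.Helper33.ReeTorus

/-!
The Ree groups `²G₂(q)`, `q > 3`, are perfect: a generator of the torus acts without fixed points on `U¹`.
-/

set_option autoImplicit false
set_option linter.unusedSimpArgs false
set_option linter.unusedVariables false
set_option maxRecDepth 100000

namespace Cfsg.Agent.Lib.Helper33.Ree

open Cfsg.Lie Cfsg.Agent.Lib.Helper24 Cfsg.Agent.Lib.Helper33.TwBN

variable {K : Type*} [Field K] {e : ℕ}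

/-- the character of the torus element `torusHom c` at the root `r` -/
def chi (c : Fin 2 → Kˣ) (r : ℕ) : Kˣ := c 0 ^ chevG2.cartan 0 r * c 1 ^ chevG2.cartan 1 r

/-- the coordinates of a torus element, as a function on `ℕ` -/
def cfun (c : Fin 2 → Kˣ) : ℕ → K := fun i => if h : i < 2 then ((c ⟨i, h⟩ : Kˣ) : K) else 1

theorem cfun_ne (c : Fin 2 → Kˣ) (i : ℕ) : cfun c i ≠ 0 := by
  unfold cfun
  split_ifs
  · exact Units.ne_zero _
  · exact one_ne_zero

theorem torusHom_diag (c : Fin 2 → Kˣ) :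
    ((torusHom chevG2 2 K c : GL chevG2.Idx K) : Matrix chevG2.Idx chevG2.Idx K) =
      Matrix.diagonal (fun idx : chevG2.Idx =>
        torusEntry chevG2 (List.range chevG2.rank) (cfun c) (enc chevG2 idx)) := by
  rw [torusHom_val]
  congr 1
  funext idx
  unfold torusEntry zpowMap
  rw [show chevG2.rank = 2 from rfl, Cfsg.Agent.Lib.Helper24.list_range_prod, Units.coe_prod]
  apply Finset.prod_congr rfl
  intro i _
  have hi : (i : ℕ) < 2 := i.isLt
  simp [torusExp, cfun, hi]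

theorem torusEntry_root (c : Fin 2 → Kˣ) (r : ℕ) :
    torusEntry chevG2 (List.range chevG2.rank) (cfun c) (chevG2.rank + r) = ((chi c r : Kˣ) : K) := by
  unfold torusEntry
  rw [show chevG2.rank = 2 from rfl]
  simp [List.range_succ, cfun, chi]
  have h0 := Eexp_root chevG2 0 r
  have h1 := Eexp_root chevG2 1 r
  rw [show chevG2.rank = 2 from rfl] at h0 h1
  rw [h0, h1]

theorem torusHom_conj (c : Fin 2 → Kˣ) (r : ℕ) (hr : r < 12) (t : K) :
    torusHom chevG2 2 K c * xG K r t * (torusHom chevG2 2 K c)⁻¹ = xG K r (((chi c r : Kˣ) : K) * t) := by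
  rw [mul_inv_eq_iff_eq_mul]
  apply Units.ext
  rw [Units.val_mul, Units.val_mul, torusHom_diag, Facts.xGL_val, Facts.xGL_val]
  unfold ChevalleyDatum.x
  have hr' : r < chevG2.nroots := hr
  rw [dif_pos hr', dif_pos hr', ← torusEntry_root]
  exact (envG2 K).hF.torus_mul_xMat (cfun c) (cfun_ne c) ⟨r, hr'⟩ t

theorem uGL_eq_ordProd (t u v : K) : uGL K e t u v =
    (envG2 K).hF.ordProd reeL
      (reeC (t ^ e) t (t ^ (e + 1) + u ^ e) (t ^ (2 * e + 1) + v ^ e) u v) := by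
  rw [ordProd_reeC]
  rfl

section leaves

variable {S : Sigma K e} (L : Leaves S) (T : TorLeaves S)
include L T

/-- conjugation of the generators of `U¹` by the torus elements -/
theorem torG_conj_uGL (μ : Kˣ) (t u v : K) :
    torG K e μ * uGL K e t u v * (torG K e μ)⁻¹ =
      uGL K e (((chi (torParam K e μ) 6 : Kˣ) : K) * t) (((chi (torParam K e μ) 10 : Kˣ) : K) * u)
        (((chi (torParam K e μ) 11 : Kˣ) : K) * v) := by
  have hH : torG K e μ ∈ chevG2.diagonalSubgroup K := torG_mem_diag e μ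
  have hU : torG K e μ * uGL K e t u v * (torG K e μ)⁻¹ ∈ chevG2.posUnipotent K :=
    (Subgroup.mem_normalizer_iff.mp ((envG2 K).hF.diagonal_le_normalizer_pos hH) _).mp (uGL_mem_pos t u v)
  have hG : torG K e μ * uGL K e t u v * (torG K e μ)⁻¹ ∈ twistedG2 K e :=
    Subgroup.mul_mem _ (Subgroup.mul_mem _ (T.tor_mem μ) (uGL_mem_twisted t u v))
      (Subgroup.inv_mem _ (T.tor_mem μ))
  obtain ⟨t', u', v', e1⟩ := L.fix_pos _ hU (L.G1_fix _ hG)
  have e2 : torG K e μ * uGL K e t u v * (torG K e μ)⁻¹ =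
      (envG2 K).hF.ordProd reeL
        (fun r => ((chi (torParam K e μ) r : Kˣ) : K) *
          reeC (t ^ e) t (t ^ (e + 1) + u ^ e) (t ^ (2 * e + 1) + v ^ e) u v r) := by
    rw [uGL_eq_ordProd, ordProd_eq_prod, conj_list_prod, ordProd_eq_prod, List.map_map]
    congr 1
    apply List.map_congr_left
    intro r hr
    simp only [Function.comp_apply]
    exact torusHom_conj (torParam K e μ) r (reeL_pos r hr).1 _
  have e3 := e1
  rw [e2, uGL_eq_ordProd] at e3
  have h4 := ree_ordProd_inj _ _ e3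
  have h6 := h4 6 (by decide)
  have h10 := h4 10 (by decide)
  have h11 := h4 11 (by decide)
  simp only [reeC] at h6 h10 h11
  norm_num at h6 h10 h11
  rw [e1, ← h6, ← h10, ← h11]

/-- the Ree group is perfect, given a torus element acting without fixed points on `U¹` -/
theorem perfect_of_fpf [Finite K] (μ : Kˣ)
    (h6 : ((chi (torParam K e μ) 6 : Kˣ) : K) ≠ 1) (h10 : ((chi (torParam K e μ) 10 : Kˣ) : K) ≠ 1)
    (h11 : ((chi (torParam K e μ) 11 : Kˣ) : K) ≠ 1) :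
    commutator ↥(twistedG2 K e) = ⊤ := by
  classical
  set C : Subgroup (GL chevG2.Idx K) := (commutator ↥(twistedG2 K e)).map (twistedG2 K e).subtype with hC
  have hCnorm : ∀ g ∈ twistedG2 K e, ∀ c ∈ C, g * c * g⁻¹ ∈ C := by
    rintro g hg c ⟨c', hc', rfl⟩
    refine ⟨⟨g, hg⟩ * c' * ⟨g, hg⟩⁻¹, ?_, ?_⟩
    · exact (inferInstance : (commutator ↥(twistedG2 K e)).Normal).conj_mem c' hc' ⟨g, hg⟩
    · simp only [Subgroup.subtype_apply, Subgroup.coe_mul, Subgroup.coe_inv]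
  have hcomm : ∀ a ∈ twistedG2 K e, ∀ b ∈ twistedG2 K e, a * b * a⁻¹ * b⁻¹ ∈ C := by
    intro a ha b hb
    refine ⟨(⟨a, ha⟩ : ↥(twistedG2 K e)) * ⟨b, hb⟩ * (⟨a, ha⟩ : ↥(twistedG2 K e))⁻¹ *
      (⟨b, hb⟩ : ↥(twistedG2 K e))⁻¹, ?_, ?_⟩
    · rw [commutator_def]
      have := Subgroup.commutator_mem_commutator (g₁ := (⟨a, ha⟩ : ↥(twistedG2 K e))) (g₂ := ⟨b, hb⟩)
        (Subgroup.mem_top _) (Subgroup.mem_top _)
      rwa [commutatorElement_def] at this
    · simp only [Subgroup.subtype_apply, Subgroup.coe_mul, Subgroup.coe_inv]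
  set h := torG K e μ with hh
  have hhG : h ∈ twistedG2 K e := T.tor_mem μ
  have hhH : h ∈ chevG2.diagonalSubgroup K := torG_mem_diag e μ
  have hconjU : ∀ x ∈ chevG2.posUnipotent K ⊓ twistedG2 K e,
      h * x * h⁻¹ ∈ chevG2.posUnipotent K ⊓ twistedG2 K e := by
    rintro x ⟨hxU, hxG⟩
    exact ⟨(Subgroup.mem_normalizer_iff.mp ((envG2 K).hF.diagonal_le_normalizer_pos hhH) _).mp hxU,
      Subgroup.mul_mem _ (Subgroup.mul_mem _ hhG hxG) (Subgroup.inv_mem _ hhG)⟩
  -- fixed points of `h` on `U¹`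
  have hfix : ∀ z ∈ chevG2.posUnipotent K ⊓ twistedG2 K e, h * z * h⁻¹ = z → z = 1 := by
    rintro z ⟨hzU, hzG⟩ hz
    obtain ⟨a, b, c, rfl⟩ := L.fix_pos z hzU (L.G1_fix z hzG)
    rw [hh, torG_conj_uGL L T μ a b c] at hz
    obtain ⟨ha, hb, hc⟩ := L.uGL_inj _ _ _ _ _ _ hz
    have ha0 : a = 0 := by
      by_contra hne
      exact h6 (mul_right_cancel₀ hne (by rw [ha, one_mul]))
    have hb0 : b = 0 := by
      by_contra hne
      exact h10 (mul_right_cancel₀ hne (by rw [hb, one_mul]))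
    have hc0 : c = 0 := by
      by_contra hne
      exact h11 (mul_right_cancel₀ hne (by rw [hc, one_mul]))
    rw [ha0, hb0, hc0, uGL_zero L.e_ne]
  -- the commutator map on `U¹`
  let f : ↥(chevG2.posUnipotent K ⊓ twistedG2 K e) → ↥(chevG2.posUnipotent K ⊓ twistedG2 K e) :=
    fun x => ⟨h * (x : GL chevG2.Idx K) * h⁻¹ * (x : GL chevG2.Idx K)⁻¹,
      Subgroup.mul_mem _ (hconjU _ x.2) (Subgroup.inv_mem _ x.2)⟩
  have hfinj : Function.Injective f := by
    intro x y hxy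
    have h1 : h * (x : GL chevG2.Idx K) * h⁻¹ * (x : GL chevG2.Idx K)⁻¹ =
        h * (y : GL chevG2.Idx K) * h⁻¹ * (y : GL chevG2.Idx K)⁻¹ := congrArg Subtype.val hxy
    have h2 : h * ((y : GL chevG2.Idx K)⁻¹ * x) * h⁻¹ = (y : GL chevG2.Idx K)⁻¹ * x := by
      have e1 : h * ((y : GL chevG2.Idx K)⁻¹ * x) * h⁻¹ =
          (h * (y : GL chevG2.Idx K) * h⁻¹)⁻¹ *
            ((h * (x : GL chevG2.Idx K) * h⁻¹ * (x : GL chevG2.Idx K)⁻¹) * x) := by group
      rw [e1, h1]; group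
    have h3 := hfix _ (Subgroup.mul_mem _ (Subgroup.inv_mem _ y.2) x.2) h2
    apply Subtype.ext
    have : (x : GL chevG2.Idx K) = y * ((y : GL chevG2.Idx K)⁻¹ * x) := by group
    rw [this, h3, mul_one]
  have hfsurj : Function.Surjective f := Finite.injective_iff_surjective.mp hfinj
  have hU : ∀ t u v : K, uGL K e t u v ∈ C := by
    intro t u v
    obtain ⟨y, hy⟩ := hfsurj ⟨uGL K e t u v, uGL_mem_pos t u v, uGL_mem_twisted t u v⟩
    have h1 : h * (y : GL chevG2.Idx K) * h⁻¹ * (y : GL chevG2.Idx K)⁻¹ = uGL K e t u v :=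
      congrArg Subtype.val hy
    rw [← h1]
    exact hcomm h hhG y y.2.2
  have hV : ∀ t u v : K, vGL K e t u v ∈ C := by
    intro t u v
    have h1 := L.s_conj_neg _ (vGL_mem_neg (e := e) t u v)
    have h2 : sGL K * vGL K e t u v * (sGL K)⁻¹ ∈ twistedG2 K e :=
      Subgroup.mul_mem _ (Subgroup.mul_mem _ L.sGL_mem (vGL_mem_twisted t u v))
        (Subgroup.inv_mem _ L.sGL_mem)
    obtain ⟨a, b, c, e1⟩ := L.fix_pos _ h1 (L.G1_fix _ h2)
    have e2 : vGL K e t u v = (sGL K)⁻¹ * (sGL K * vGL K e t u v * (sGL K)⁻¹) * (sGL K)⁻¹⁻¹ := by group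
    rw [e2, e1]
    exact hCnorm _ (Subgroup.inv_mem _ L.sGL_mem) _ (hU a b c)
  have hle : twistedG2 K e ≤ C := by
    rw [twisted_eq_closure, Subgroup.closure_le]
    rintro g (⟨t, u, v, rfl⟩ | ⟨t, u, v, rfl⟩)
    · exact hU t u v
    · exact hV t u v
  rw [eq_top_iff]
  rintro g _
  obtain ⟨c, hc, e1⟩ := hle g.2
  have : c = g := Subtype.ext e1
  rw [← this]
  exact hc

end leaves

end Cfsg.Agent.Lib.Helper33.Ree
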