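import Cfsg.Agent.Lib.Helper33.ReeAll
import Cfsg.Agent.Lib.Helper33.ReePerf
import Cfsg.Agent.Lib.Helper76.ReeEF

/-!
The Ree groups `²G₂(3 ^ (2 m + 1))`, `m ≥ 1`, are perfect.
-/

set_option autoImplicit false
set_option linter.unusedSimpArgs false
set_option linter.unusedVariables false
set_option maxRecDepth 100000

namespace Cfsg.Agent.Lib.Helper33.Ree

open Cfsg.Lie Cfsg.Agent.Lib.Helper24 Cfsg.Agent.Lib.Helper33.TwBN

variable {K : Type*} [Field K] {e : ℕ}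

/-- the leaves on the torus -/
theorem torLeaves_of [CharP K 3] (S : Sigma K e) (he : Odd e) (hθ : ∀ t : K, t ^ (3 * e * e) = t)
    (hsq : ∀ μ : K, μ ≠ 0 → IsSquare μ ∨ IsSquare (-μ)) (L : Leaves S) : TorLeaves S where
  G1_fix := L.G1_fix
  tor_mem := Cfsg.Agent.Lib.Helper76.ReeEF.tor_mem he hθ hsq
  torG_inj := Cfsg.Agent.Lib.Helper76.ReeEF.torG_inj
  fix_diag := Cfsg.Agent.Lib.Helper76.ReeEF.fix_diag S he hθ
    (fun r hr t ht => Cfsg.Agent.Lib.Helper24.Ree.ext_nGL S he r hr t ht)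

/-- all the leaves for the field of `3 ^ (2 m + 1)` elements -/
theorem exists_leaves2 [Fintype K] {m : ℕ} (hK : Fintype.card K = 3 ^ (2 * m + 1)) :
    ∃ S : Sigma K (3 ^ m), Leaves S ∧ TorLeaves S := by
  haveI := charP_three_of_card hK
  obtain ⟨S⟩ := exists_sigma (K := K) m
  have L := leaves_of S (odd_three_pow m) (pow_theta hK)
  exact ⟨S, L, torLeaves_of S (odd_three_pow m) (pow_theta hK) (isSquare_or_neg hK) L⟩

theorem chi_six (μ : Kˣ) : chi (torParam K e μ) 6 = μ ^ ((2 : ℤ) - 3 * (e : ℤ)) := by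
  have h0 : chevG2.cartan 0 6 = -3 := by decide
  have h1 : chevG2.cartan 1 6 = 2 := by decide
  unfold chi
  rw [h0, h1]
  show (μ ^ e) ^ (-3 : ℤ) * μ ^ (2 : ℤ) = _
  rw [← zpow_natCast, ← zpow_mul, ← zpow_add]
  congr 1
  ring

theorem chi_ten (μ : Kˣ) : chi (torParam K e μ) 10 = μ ^ (3 * (e : ℤ) - 1) := by
  have h0 : chevG2.cartan 0 10 = 3 := by decide
  have h1 : chevG2.cartan 1 10 = -1 := by decide
  unfold chi
  rw [h0, h1]
  show (μ ^ e) ^ (3 : ℤ) * μ ^ (-1 : ℤ) = _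
  rw [← zpow_natCast, ← zpow_mul, ← zpow_add]
  congr 1
  ring

theorem chi_eleven (μ : Kˣ) : chi (torParam K e μ) 11 = μ := by
  have h0 : chevG2.cartan 0 11 = 0 := by decide
  have h1 : chevG2.cartan 1 11 = 1 := by decide
  unfold chi
  rw [h0, h1]
  show (μ ^ e) ^ (0 : ℤ) * μ ^ (1 : ℤ) = _
  simp

/-- the Ree groups `²G₂(3 ^ (2 m + 1))`, `m ≥ 1`, are perfect -/
theorem perfect_ree [Fintype K] {m : ℕ} (hK : Fintype.card K = 3 ^ (2 * m + 1)) (hm : 1 ≤ m) :
    commutator ↥(twistedG2 K (3 ^ m)) = ⊤ := by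
  obtain ⟨S, L, T⟩ := exists_leaves2 hK
  obtain ⟨μ, hμ⟩ := IsCyclic.exists_generator (α := Kˣ)
  have hord : orderOf μ = 3 ^ (2 * m + 1) - 1 := by
    rw [orderOf_eq_card_of_forall_mem_zpowers hμ, Nat.card_units, Nat.card_eq_fintype_card, hK]
  set e := 3 ^ m with he
  have he3 : 3 ≤ e := by
    calc 3 = 3 ^ 1 := by norm_num
      _ ≤ 3 ^ m := Nat.pow_le_pow_right (by norm_num) hm
  have hq : 3 ^ (2 * m + 1) = 3 * e * e := by rw [he]; ring
  have hlt : ∀ k : ℤ, k ≠ 0 → k.natAbs < 3 * e * e - 1 → μ ^ k ≠ 1 := by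
    intro k hk0 hk h1
    have h2 := (orderOf_dvd_iff_zpow_eq_one).mpr h1
    rw [hord, hq] at h2
    have h3 := Int.natAbs_dvd_natAbs.mpr h2
    rw [Int.natAbs_natCast] at h3
    have h4 := Nat.le_of_dvd (Int.natAbs_pos.mpr hk0) h3
    omega
  have hee : 9 * e ≤ 3 * e * e := by nlinarith
  generalize 3 * e * e = Q at hq hlt hee
  apply perfect_of_fpf L T μ
  · rw [chi_six, Ne, Units.val_eq_one]
    apply hlt
    · omega
    · have : ((2 : ℤ) - 3 * (e : ℤ)).natAbs = 3 * e - 2 := by omega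
      rw [this]
      omega
  · rw [chi_ten, Ne, Units.val_eq_one]
    apply hlt
    · omega
    · have : (3 * (e : ℤ) - 1).natAbs = 3 * e - 1 := by omega
      rw [this]
      omega
  · rw [chi_eleven, Ne, Units.val_eq_one]
    have := hlt 1 one_ne_zero (by simp; omega)
    simpa using this

end Cfsg.Agent.Lib.Helper33.Ree
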