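import Cfsg.Agent.Lib.Helper33.TwBNMain
import Cfsg.Agent.S0319

/-!
Simplicity of a twisted group from its `(B, N)`-pair (Tits): irreducibility of the twisted Weyl group,
solvability of `B¹`, and the assembly.
-/

set_option autoImplicit false
set_option linter.unusedSimpArgs false
set_option linter.unusedVariables false

namespace Cfsg.Agent.Lib.Helper33.TwBN

open Cfsg.Lie Cfsg.Agent.Lib.Helper24

section abs

/-- in a list whose consecutive elements are related, a set meeting the list and missing an element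
of the list separates two consecutive elements -/
theorem exists_consecutive {G : Type*} (L : List G) (p : G → Prop) (h1 : ∃ s ∈ L, p s) (h2 : ∃ s ∈ L, ¬ p s) :
    ∃ q ∈ L.zip L.tail, (p q.1 ∧ ¬ p q.2) ∨ (¬ p q.1 ∧ p q.2) := by
  induction L with
  | nil => obtain ⟨s, hs, _⟩ := h1; exact absurd hs List.not_mem_nil
  | cons t L ih =>
    rcases L with _ | ⟨u, L⟩
    · obtain ⟨s, hs, hps⟩ := h1
      obtain ⟨s', hs', hps'⟩ := h2
      rw [List.mem_singleton] at hs hs'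
      subst hs; subst hs'
      exact absurd hps hps'
    · by_cases hpt : p t
      · by_cases hpu : p u
        · -- both in: recurse
          have h1' : ∃ s ∈ u :: L, p s := ⟨u, List.mem_cons_self, hpu⟩
          have h2' : ∃ s ∈ u :: L, ¬ p s := by
            obtain ⟨s', hs', hps'⟩ := h2
            rcases List.mem_cons.mp hs' with rfl | hs'
            · exact absurd hpt hps'
            · exact ⟨s', hs', hps'⟩
          obtain ⟨q, hq, hqq⟩ := ih h1' h2'
          exact ⟨q, by simp only [List.tail_cons, List.zip_cons_cons] at hq ⊢; exact List.mem_cons_of_mem _ hq, hqq⟩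
        · exact ⟨(t, u), by simp, Or.inl ⟨hpt, hpu⟩⟩
      · by_cases hpu : p u
        · exact ⟨(t, u), by simp, Or.inr ⟨hpt, hpu⟩⟩
        · have h2' : ∃ s ∈ u :: L, ¬ p s := ⟨u, List.mem_cons_self, hpu⟩
          have h1' : ∃ s ∈ u :: L, p s := by
            obtain ⟨s, hs, hps⟩ := h1
            rcases List.mem_cons.mp hs with rfl | hs
            · exact absurd hps hpt
            · exact ⟨s, hs, hps⟩
          obtain ⟨q, hq, hqq⟩ := ih h1' h2'
          exact ⟨q, by simp only [List.tail_cons, List.zip_cons_cons] at hq ⊢; exact List.mem_cons_of_mem _ hq, hqq⟩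

variable {G : Type*} [Group G]

/-- irreducibility of a `(B, N)`-pair whose distinguished generators form a chain of
non-commuting consecutive elements -/
theorem irreducible_of_chain (P : Cfsg.BNPair G) (L : List G) (hL : ∀ s, s ∈ P.S ↔ s ∈ L)
    (hchain : ∀ q ∈ L.zip L.tail, q.1 * q.2 * q.1⁻¹ * q.2⁻¹ ∉ P.B) : P.Irreducible := by
  intro J hJ hJne hJc
  obtain ⟨s, hs⟩ := hJne
  obtain ⟨s', hs'S, hs'J⟩ := hJc
  obtain ⟨q, hq, hqq⟩ := exists_consecutive L (· ∈ J) ⟨s, (hL s).1 (hJ hs), hs⟩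
    ⟨s', (hL s').1 hs'S, hs'J⟩
  have hq1 : q.1 ∈ L := (List.of_mem_zip hq).1
  have hq2 : q.2 ∈ L := List.mem_of_mem_tail (List.of_mem_zip hq).2
  rcases hqq with ⟨h1, h2⟩ | ⟨h1, h2⟩
  · exact ⟨q.1, h1, q.2, ⟨(hL _).2 hq2, h2⟩, hchain q hq⟩
  · refine ⟨q.2, h2, q.1, ⟨(hL _).2 hq1, h1⟩, ?_⟩
    intro h
    apply hchain q hq
    have := P.B.inv_mem h
    have e : (q.2 * q.1 * q.2⁻¹ * q.1⁻¹)⁻¹ = q.1 * q.2 * q.1⁻¹ * q.2⁻¹ := by group
    rwa [e] at this

end abs

section chev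

variable {F : Type*} [Field F] {D : ChevalleyDatum} {tab : List ℕ} {orb : List (ℕ × ℕ × ℕ)}

/-- the commutator of the representatives of two classes moving a root differently is not in `B` -/
theorem comm_not_borel_tw (E : Env D F tab orb) (w w' : List ℕ) (hw : ∀ i ∈ w, i < D.rank)
    (hw' : ∀ i ∈ w', i < D.rank) (r : ℕ) (hr : r < D.nroots)
    (hne : rhoW D (w ++ w') r ≠ rhoW D (w' ++ w) r) :
    E.hF.nW (F := F) w * E.hF.nW w' * (E.hF.nW w)⁻¹ * (E.hF.nW w')⁻¹ ∉ D.borelSubgroup F := by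
  intro hB
  have hsN := E.nW_mem (F := F) w hw
  have hsN' := E.nW_mem (F := F) w' hw'
  have hH : E.hF.nW (F := F) w * E.hF.nW w' * (E.hF.nW w)⁻¹ * (E.hF.nW w')⁻¹ ∈
      D.diagonalSubgroup F := by
    rw [← E.hBN]
    exact ⟨hB, Subgroup.mul_mem _ (Subgroup.mul_mem _ (Subgroup.mul_mem _ hsN hsN')
      (Subgroup.inv_mem _ hsN)) (Subgroup.inv_mem _ hsN')⟩
  have hww : ∀ i ∈ w ++ w', i < D.rank := fun i hi => by
    rcases List.mem_append.mp hi with h | h
    · exact hw i h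
    · exact hw' i h
  have hww' : ∀ i ∈ w' ++ w, i < D.rank := fun i hi => by
    rcases List.mem_append.mp hi with h | h
    · exact hw' i h
    · exact hw i h
  obtain ⟨η₁, hη₁, e₁⟩ := E.hF.nW_conj (F := F) E.hN (w ++ w') hww r hr
  obtain ⟨η₂, hη₂, e₂⟩ := E.hF.nW_conj (F := F) E.hN (w' ++ w) hww' r hr
  have hlt₂ : rhoW D (w' ++ w) r < D.nroots := E.hN.rhoW_lt _ hww' r hr
  have hlt₁ : rhoW D (w ++ w') r < D.nroots := E.hN.rhoW_lt _ hww r hr
  obtain ⟨c, hc, ec⟩ := E.hF.diag_conj _ hH (rhoW D (w' ++ w) r) hlt₂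
  rw [E.hF.nW_app] at e₁ e₂
  generalize hs : E.hF.nW (F := F) w = s at *
  generalize hs' : E.hF.nW (F := F) w' = s' at *
  have e3 : (s * s') * E.hF.xGL r (1 : F) * (s * s')⁻¹ =
      (s * s' * s⁻¹ * s'⁻¹) * ((s' * s) * E.hF.xGL r (1 : F) * (s' * s)⁻¹) *
        (s * s' * s⁻¹ * s'⁻¹)⁻¹ := by group
  rw [e₁ 1, e₂ 1, ec] at e3
  have h0 := E.hF.xGL_eq_xGL E.hR E.hNe E.hU.unit _ _ hlt₁ hlt₂ hne _ _ e3
  rw [mul_one] at h0
  rcases hη₁ with h | h <;> rw [h] at h0 <;> simp at h0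

/-- `B ⊓ G¹` is solvable -/
theorem isSolvable_borel_inf (hF : Facts D) (G1 : Subgroup (GL D.Idx F)) :
    Group.IsSolvable ↥((D.borelSubgroup F ⊓ G1).subgroupOf G1) := by
  have := hF.borel_isSolvable (F := F)
  let f : ↥((D.borelSubgroup F ⊓ G1).subgroupOf G1) →* ↥(D.borelSubgroup F) :=
    { toFun := fun x => ⟨((x : ↥G1) : GL D.Idx F), (Subgroup.mem_subgroupOf.mp x.2).1⟩
      map_one' := rfl
      map_mul' := fun _ _ => rfl }
  refine Group.isSolvable_of_isSolvable_injective (f := f) ?_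
  intro x y h
  have := congrArg (fun z : ↥(D.borelSubgroup F) => (z : GL D.Idx F)) h
  exact Subtype.ext (Subtype.ext this)

/-- Tits' simplicity criterion for a twisted group -/
theorem simple_tw (E : Env D F tab orb) (T : Tw D F E.hF) {Fd : List (ℕ × ℕ × List ℕ)}
    (hG : TwG E T Fd)
    (P : Cfsg.BNPair ↥(T.G1 (fundOf D Fd)))
    (hB : P.B = (D.borelSubgroup F ⊓ T.G1 (fundOf D Fd)).subgroupOf (T.G1 (fundOf D Fd)))
    (hS : P.S = {s : ↥(T.G1 (fundOf D Fd)) | ∃ x ∈ Fd, (s : GL D.Idx F) = E.hF.nW x.2.2})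
    (chainL : List (ℕ × ℕ × List ℕ)) (hchainL : ∀ x, x ∈ chainL ↔ x ∈ Fd)
    (hchain : ∀ q ∈ chainL.zip chainL.tail, ∃ r < D.nroots,
      rhoW D (q.1.2.2 ++ q.2.2.2) r ≠ rhoW D (q.2.2.2 ++ q.1.2.2) r)
    (hperf : commutator ↥(T.G1 (fundOf D Fd)) = ⊤)
    (hcore : ((D.borelSubgroup F ⊓ T.G1 (fundOf D Fd)).subgroupOf
      (T.G1 (fundOf D Fd))).normalCore = ⊥)
    (hnt : Nontrivial ↥(T.G1 (fundOf D Fd))) :
    IsSimpleGroup ↥(T.G1 (fundOf D Fd)) ∧ ¬ IsMulCommutative ↥(T.G1 (fundOf D Fd)) := by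
  -- the list of representatives
  have hmemG : ∀ x ∈ Fd, E.hF.nW (F := F) x.2.2 ∈ T.G1 (fundOf D Fd) := fun x hx => hG.nW_mem x hx
  let rep : {x // x ∈ chainL} → ↥(T.G1 (fundOf D Fd)) := fun x =>
    ⟨E.hF.nW x.1.2.2, hmemG x.1 ((hchainL x.1).1 x.2)⟩
  let L : List ↥(T.G1 (fundOf D Fd)) := chainL.attach.map rep
  have hL : ∀ s, s ∈ P.S ↔ s ∈ L := by
    intro s
    rw [hS]
    constructor
    · rintro ⟨x, hx, hsx⟩
      exact List.mem_map.mpr ⟨⟨x, (hchainL x).2 hx⟩, List.mem_attach _ _, Subtype.ext hsx.symm⟩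
    · intro hs
      obtain ⟨x, _, rfl⟩ := List.mem_map.mp hs
      exact ⟨x.1, (hchainL x.1).1 x.2, rfl⟩
  have hzip : ∀ q ∈ L.zip L.tail, ∃ q' ∈ chainL.zip chainL.tail,
      (q.1 : GL D.Idx F) = E.hF.nW q'.1.2.2 ∧ (q.2 : GL D.Idx F) = E.hF.nW q'.2.2.2 := by
    intro q hq
    have e1 : L.tail = chainL.attach.tail.map rep := by
      simp only [L, List.map_tail]
    rw [e1, List.zip_map] at hq
    obtain ⟨⟨a, b⟩, hab, rfl⟩ := List.mem_map.mp hq
    refine ⟨(a.1, b.1), ?_, rfl, rfl⟩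
    have h2 : (chainL.attach.zip chainL.attach.tail).map (Prod.map Subtype.val Subtype.val) =
        chainL.zip chainL.tail := by
      rw [← List.zip_map, List.attach_map_subtype_val, List.map_tail,
        List.attach_map_subtype_val]
    rw [← h2]
    exact List.mem_map.mpr ⟨(a, b), hab, rfl⟩
  have hirr : P.Irreducible := by
    apply irreducible_of_chain P L hL
    intro q hq
    obtain ⟨q', hq', e1, e2⟩ := hzip q hq
    obtain ⟨r, hr, hne⟩ := hchain q' hq'
    have hx1 : q'.1 ∈ Fd := (hchainL _).1 (List.of_mem_zip hq').1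
    have hx2 : q'.2 ∈ Fd := (hchainL _).1 (List.mem_of_mem_tail (List.of_mem_zip hq').2)
    have := comm_not_borel_tw E q'.1.2.2 q'.2.2.2 (hG.jx _ hx1).2 (hG.jx _ hx2).2 r hr hne
    rw [hB, Subgroup.mem_subgroupOf, Subgroup.mem_inf]
    intro h
    apply this
    have h' := h.1
    simp only [Subgroup.coe_mul, Subgroup.coe_inv] at h'
    rw [e1, e2] at h'
    exact h'
  have hsolv : Group.IsSolvable P.B := by
    rw [hB]; exact isSolvable_borel_inf E.hF _
  have hcore' : P.B.normalCore = ⊥ := by rw [hB]; exact hcore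
  refine ⟨Cfsg.Agent.S0319.result P hirr hsolv hperf hcore', ?_⟩
  intro hcomm
  have : commutator ↥(T.G1 (fundOf D Fd)) = ⊥ := by
    rw [commutator_eq_bot_iff_center_eq_top]
    rw [eq_top_iff]
    intro x _
    rw [Subgroup.mem_center_iff]
    intro y
    exact (hcomm.is_comm.comm y x)
  rw [this] at hperf
  exact bot_ne_top hperf

end chev

end Cfsg.Agent.Lib.Helper33.TwBN
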