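import Cfsg.Agent.Lib.Helper33.ReeAll2
import Cfsg.Agent.Lib.Helper33.TwSimple

/-!
The Ree groups `²G₂(3 ^ (2 m + 1))`, `m ≥ 1`, are simple (Tits' criterion).
-/

set_option autoImplicit false
set_option linter.unusedSimpArgs false
set_option linter.unusedVariables false

namespace Cfsg.Agent.Lib.Helper33.Ree

open Cfsg.Lie Cfsg.Agent.Lib.Helper24 Cfsg.Agent.Lib.Helper33.TwBN

variable {K : Type*} [Field K] {e : ℕ}

/-- Tits' criterion for the Ree group -/
theorem Leaves.simple_of_perfect {S : Sigma K e} (L : Leaves S)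
    (hperf : commutator ↥(twistedG2 K e) = ⊤) :
    IsSimpleGroup ↥(twistedG2 K e) ∧ ¬ IsMulCommutative ↥(twistedG2 K e) := by
  obtain ⟨P, hB, hN, hS⟩ := L.exists_bnPair
  have hnt : Nontrivial ↥(twistedG2 K e) := by
    refine ⟨⟨⟨sGL K, L.sGL_mem⟩, 1, ?_⟩⟩
    intro h
    apply L.s_not_mem
    have h1 : sGL K = 1 := congrArg Subtype.val h
    rw [h1]
    exact Subgroup.one_mem _
  have hirr : P.Irreducible := by
    apply irreducible_of_chain P [⟨sGL K, L.sGL_mem⟩]
    · intro s
      rw [hS]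
      constructor
      · intro hs
        have h1 : (s : GL chevG2.Idx K) = sGL K := hs
        exact List.mem_singleton.mpr (Subtype.ext h1)
      · intro hs
        rw [List.mem_singleton.mp hs]
        rfl
    · intro q hq
      simp at hq
  have hsolv : Group.IsSolvable P.B := by
    rw [hB]; exact isSolvable_borel_inf (envG2 K).hF _
  have hcore' : P.B.normalCore = ⊥ := by rw [hB]; exact L.core_eq_bot
  refine ⟨Cfsg.Agent.S0319.result P hirr hsolv hperf hcore', ?_⟩
  intro hcomm
  have : commutator ↥(twistedG2 K e) = ⊥ := by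
    rw [commutator_eq_bot_iff_center_eq_top]
    rw [eq_top_iff]
    intro x _
    rw [Subgroup.mem_center_iff]
    intro y
    exact (hcomm.is_comm.comm y x)
  rw [this] at hperf
  exact bot_ne_top hperf

/-- the Ree groups `²G₂(3 ^ (2 m + 1))`, `m ≥ 1`, are simple -/
theorem simple_ree [Fintype K] {m : ℕ} (hK : Fintype.card K = 3 ^ (2 * m + 1)) (hm : 1 ≤ m) :
    IsSimpleGroup ↥(twistedG2 K (3 ^ m)) ∧ ¬ IsMulCommutative ↥(twistedG2 K (3 ^ m)) := by
  obtain ⟨S, L⟩ := exists_leaves hK
  exact L.simple_of_perfect (perfect_ree hK hm)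

end Cfsg.Agent.Lib.Helper33.Ree
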