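import Cfsg.Prelude.Def_LieTwisted
import Cfsg.Prelude.Def_ChevStructure

/-!
Shared definitions for the Ree groups `²G₂(3^(2m+1))` inside the Chevalley group `G₂(K)`:
the root permutation `r ↦ r̄`, the exponents `λ(r)`, and the interface `Sigma` of a twisting
automorphism `σ` of `G₂(K)` with `σ (x_r(t)) = x_{r̄}(t ^ (λ(r) e))`.
-/

set_option autoImplicit false

namespace Cfsg.Agent.Lib.Helper33.Ree

open Cfsg.Lie

/-- the permutation `r ↦ r̄` of the 12 roots of `G₂` (indices of `Def_ChevG2`):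
long `→` short: `0 ↦ 2, 1 ↦ 3, 5 ↦ 4, 6 ↦ 7, 10 ↦ 8, 11 ↦ 9`, and back. -/
def bar (r : ℕ) : ℕ := [2, 3, 0, 1, 5, 4, 7, 6, 10, 11, 8, 9].getD r 0

/-- `λ(r) = 3` for a short root `r` (then `r̄` is long) and `1` for a long root -/
def lam (r : ℕ) : ℕ := [1, 1, 3, 3, 3, 1, 1, 3, 3, 3, 1, 1].getD r 1

theorem bar_lt : ∀ r < 12, bar r < 12 := by decide
theorem bar_bar : ∀ r < 12, bar (bar r) = r := by decide
theorem lam_mul_lam : ∀ r < 12, lam r * lam (bar r) = 3 := by decide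
theorem bar_neg : ∀ r < 12, bar (chevG2.neg r) = chevG2.neg (bar r) := by decide
theorem lam_neg : ∀ r < 12, lam (chevG2.neg r) = lam r := by decide
theorem bar_pos : ∀ r < 12, chevG2.IsPosRoot r → chevG2.IsPosRoot (bar r) := by decide

/-- a twisting automorphism of `G₂(K)`: `σ (x_r(t)) = x_{r̄}(t ^ (λ(r) e))` for all roots `r` -/
structure Sigma (K : Type*) [Field K] (e : ℕ) where
  σ : ↥(chevG2.group K) ≃* ↥(chevG2.group K)
  map_x : ∀ r < 12, ∀ (t : K) (g : ↥(chevG2.group K)),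
    ((g : GL chevG2.Idx K) : Matrix chevG2.Idx chevG2.Idx K) = chevG2.x K r t →
    ((σ g : GL chevG2.Idx K) : Matrix chevG2.Idx chevG2.Idx K) = chevG2.x K (bar r) (t ^ (lam r * e))

/-- the subgroup of the fixed points of `σ`, as a subgroup of the general linear group -/
def Sigma.Fx {K : Type*} [Field K] {e : ℕ} (S : Sigma K e) : Subgroup (GL chevG2.Idx K) where
  carrier := {g | ∃ h : g ∈ chevG2.group K, S.σ ⟨g, h⟩ = ⟨g, h⟩}
  one_mem' := ⟨Subgroup.one_mem _, map_one S.σ⟩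
  mul_mem' := by
    rintro a b ⟨ha, ea⟩ ⟨hb, eb⟩
    refine ⟨Subgroup.mul_mem _ ha hb, ?_⟩
    have : (⟨a * b, Subgroup.mul_mem _ ha hb⟩ : ↥(chevG2.group K)) = ⟨a, ha⟩ * ⟨b, hb⟩ := rfl
    rw [this, map_mul, ea, eb]
  inv_mem' := by
    rintro a ⟨ha, ea⟩
    refine ⟨Subgroup.inv_mem _ ha, ?_⟩
    have : (⟨a⁻¹, Subgroup.inv_mem _ ha⟩ : ↥(chevG2.group K)) = (⟨a, ha⟩ : ↥(chevG2.group K))⁻¹ := rfl
    rw [this, map_inv, ea]

theorem Sigma.mem_Fx {K : Type*} [Field K] {e : ℕ} (S : Sigma K e) (g : GL chevG2.Idx K) :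
    g ∈ S.Fx ↔ ∃ h : g ∈ chevG2.group K, S.σ ⟨g, h⟩ = ⟨g, h⟩ := Iff.rfl

theorem Sigma.Fx_le {K : Type*} [Field K] {e : ℕ} (S : Sigma K e) : S.Fx ≤ chevG2.group K :=
  fun _ h => h.1

/-- the representative `n_{a+b}(1) n_{3a+b}(1)` of the longest element of the Weyl group -/
noncomputable def sMat (K : Type*) [Field K] : Matrix chevG2.Idx chevG2.Idx K :=
  chevG2.nMat K 8 1 * chevG2.nMat K 10 1

/-- the torus element `h_{a+b}(t ^ e) h_{3a+b}(t)` -/
noncomputable def hMat1 (K : Type*) [Field K] (e : ℕ) (t : K) : Matrix chevG2.Idx chevG2.Idx K :=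
  chevG2.hMat K 8 (t ^ e) * chevG2.hMat K 10 t

end Cfsg.Agent.Lib.Helper33.Ree
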