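import Mathlib
import Cfsg.Agent.Lib.Helper72.A4ODefs

/-! K-A4O leaf L1b (S4068): four automorphism orbits + three primes => every nonidentity element has prime order. -/

set_option autoImplicit false

namespace Cfsg.Agent.Lib.Helper33.A4O

open Cfsg.Agent.Lib.Helper72.A4O

universe u

theorem epo_of_four_orbits {G : Type u} [Group G] [Finite G]
    (h3 : 3 ≤ (Nat.card G).primeFactors.card)
    (h4 : Nat.card (MulAction.orbitRel.Quotient (MulAut G) G) = 4) : EPO G := by
  classical
  obtain ⟨p1, p2, p3, hp1, hp2, hp3, h12, h13, h23⟩ :=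
    Finset.two_lt_card_iff.mp (Nat.lt_of_succ_le h3)
  have hpr : ∀ p ∈ (Nat.card G).primeFactors, p.Prime ∧ ∃ x : G, orderOf x = p := by
    intro p hp
    have hpp := Nat.prime_of_mem_primeFactors hp
    haveI : Fact p.Prime := ⟨hpp⟩
    exact ⟨hpp, exists_prime_orderOf_dvd_card' p (Nat.dvd_of_mem_primeFactors hp)⟩
  obtain ⟨hq1, x1, hx1⟩ := hpr p1 hp1
  obtain ⟨hq2, x2, hx2⟩ := hpr p2 hp2
  obtain ⟨hq3, x3, hx3⟩ := hpr p3 hp3
  haveI : Finite (MulAction.orbitRel.Quotient (MulAut G) G) :=
    Nat.finite_of_card_ne_zero (by rw [h4]; norm_num)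
  haveI : Fintype (MulAction.orbitRel.Quotient (MulAut G) G) := Fintype.ofFinite _
  let ord : MulAction.orbitRel.Quotient (MulAut G) G → ℕ :=
    Quotient.lift (fun g : G => orderOf g) (by
      intro a b h
      obtain ⟨φ, rfl⟩ := MulAction.orbitRel_apply.mp h
      exact MulEquiv.orderOf_eq φ b)
  have hord : ∀ g : G, ord (Quotient.mk'' g) = orderOf g := fun g => rfl
  have c3 : ({p3} : Finset ℕ).card = 1 := Finset.card_singleton _
  have c2 : ({p2, p3} : Finset ℕ).card = 2 := by
    rw [Finset.card_insert_of_notMem (by simp [h23]), c3]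
  have c1 : ({p1, p2, p3} : Finset ℕ).card = 3 := by
    rw [Finset.card_insert_of_notMem (by simp [h12, h13]), c2]
  have c0 : ({1, p1, p2, p3} : Finset ℕ).card = 4 := by
    have e1 := hq1.one_lt
    have e2 := hq2.one_lt
    have e3 := hq3.one_lt
    rw [Finset.card_insert_of_notMem (by
      simp only [Finset.mem_insert, Finset.mem_singleton]; omega), c1]
  have hsub : ({1, p1, p2, p3} : Finset ℕ) ⊆ Finset.univ.image ord := by
    intro n hn
    simp only [Finset.mem_insert, Finset.mem_singleton] at hn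
    rw [Finset.mem_image]
    rcases hn with rfl | rfl | rfl | rfl
    · exact ⟨Quotient.mk'' 1, Finset.mem_univ _, by rw [hord, orderOf_one]⟩
    · exact ⟨Quotient.mk'' x1, Finset.mem_univ _, by rw [hord, hx1]⟩
    · exact ⟨Quotient.mk'' x2, Finset.mem_univ _, by rw [hord, hx2]⟩
    · exact ⟨Quotient.mk'' x3, Finset.mem_univ _, by rw [hord, hx3]⟩
  have hle : (Finset.univ.image ord).card ≤ 4 := by
    calc (Finset.univ.image ord).card ≤ (Finset.univ : Finset (MulAction.orbitRel.Quotient (MulAut G) G)).card :=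
          Finset.card_image_le
      _ = 4 := by rw [Finset.card_univ, ← Nat.card_eq_fintype_card, h4]
  have hEq : ({1, p1, p2, p3} : Finset ℕ) = Finset.univ.image ord :=
    Finset.eq_of_subset_of_card_le hsub (by rw [c0]; exact hle)
  intro g hg
  have hmem : orderOf g ∈ ({1, p1, p2, p3} : Finset ℕ) := by
    rw [hEq, Finset.mem_image]
    exact ⟨Quotient.mk'' g, Finset.mem_univ _, hord g⟩
  simp only [Finset.mem_insert, Finset.mem_singleton] at hmem
  rcases hmem with h | h | h | h
  · exact absurd (orderOf_eq_one_iff.mp h) hg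
  · rw [h]; exact hq1
  · rw [h]; exact hq2
  · rw [h]; exact hq3

end Cfsg.Agent.Lib.Helper33.A4O
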