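import Mathlib
import Cfsg.Prelude.Def_OddOrderLocal

/-!
# Structure of CA-groups (helper33)

A CA-group is a group in which the centraliser of every non-identity element is abelian.
-/

set_option autoImplicit false
set_option linter.unusedSectionVars false
set_option linter.style.haveILetI false

namespace Cfsg.Agent.Lib.Helper33.CAOdd

open Cfsg

variable {G : Type*} [Group G]

/-- the CA property -/
def IsCA (G : Type*) [Group G] : Prop :=
  ∀ x : G, x ≠ 1 → ∀ a ∈ Subgroup.centralizer ({x} : Set G),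
    ∀ b ∈ Subgroup.centralizer ({x} : Set G), a * b = b * a

/-- centraliser of an element -/
abbrev Cz (x : G) : Subgroup G := Subgroup.centralizer ({x} : Set G)

theorem mem_Cz {x a : G} : a ∈ Cz x ↔ x * a = a * x := by
  rw [Subgroup.mem_centralizer_iff]
  constructor
  · intro h; exact h x (Set.mem_singleton x)
  · intro h y hy
    rw [Set.mem_singleton_iff] at hy
    subst hy; exact h

theorem self_mem_Cz (x : G) : x ∈ Cz x := mem_Cz.mpr rfl

theorem mem_Cz_symm {x a : G} (h : a ∈ Cz x) : x ∈ Cz a := mem_Cz.mpr (mem_Cz.mp h).symm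

/-- conjugation of centralisers -/
theorem conj_mem_Cz {x a : G} (g : G) : g * a * g⁻¹ ∈ Cz (g * x * g⁻¹) ↔ a ∈ Cz x := by
  rw [mem_Cz, mem_Cz]
  constructor
  · intro h
    have h1 : g * (x * a) * g⁻¹ = g * (a * x) * g⁻¹ := by
      calc g * (x * a) * g⁻¹ = g * x * g⁻¹ * (g * a * g⁻¹) := by group
        _ = g * a * g⁻¹ * (g * x * g⁻¹) := h
        _ = g * (a * x) * g⁻¹ := by group
    exact mul_left_cancel (mul_right_cancel h1)
  · intro h
    calc g * x * g⁻¹ * (g * a * g⁻¹) = g * (x * a) * g⁻¹ := by group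
      _ = g * (a * x) * g⁻¹ := by rw [h]
      _ = g * a * g⁻¹ * (g * x * g⁻¹) := by group

section CA

variable (hCA : IsCA G)

include hCA in
/-- commuting non-identity elements have the same centraliser -/
theorem Cz_eq {x y : G} (hx : x ≠ 1) (hy : y ≠ 1) (hyx : y ∈ Cz x) : Cz y = Cz x := by
  have hxy : x ∈ Cz y := mem_Cz_symm hyx
  apply le_antisymm
  · intro b hb
    rw [mem_Cz]
    exact hCA y hy x hxy b hb
  · intro a ha
    rw [mem_Cz]
    exact hCA x hx y hyx a ha

include hCA in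
/-- centralisers of non-identity elements are TI-subsets -/
theorem Cz_TI {x : G} (hx : x ≠ 1) : IsTISubset ((Cz x : Subgroup G) : Set G) := by
  intro g hg a ha hga
  by_contra ha1
  apply hg
  have hga1 : g * a * g⁻¹ ≠ 1 := by
    intro h
    apply ha1
    have : a = g⁻¹ * (g * a * g⁻¹) * g := by group
    rw [this, h]; group
  have e1 : Cz a = Cz x := Cz_eq hCA hx ha1 ha
  have e2 : Cz (g * a * g⁻¹) = Cz x := Cz_eq hCA hx hga1 hga
  rw [Subgroup.mem_set_normalizer_iff]
  intro n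
  show n ∈ Cz x ↔ g * n * g⁻¹ ∈ Cz x
  have h3 : g * n * g⁻¹ ∈ Cz (g * a * g⁻¹) ↔ n ∈ Cz a := conj_mem_Cz g
  rw [e2, e1] at h3
  exact h3.symm

include hCA in
/-- a conjugate of `x` inside `Cz y` forces equal centralisers -/
theorem Cz_conj_eq {x y : G} (hx : x ≠ 1) (hy : y ≠ 1) {g : G} (h : g * x * g⁻¹ ∈ Cz y) :
    Cz (g * x * g⁻¹) = Cz y := by
  apply Cz_eq hCA hy _ h
  intro h1
  apply hx
  have : x = g⁻¹ * (g * x * g⁻¹) * g := by group
  rw [this, h1]; group

include hCA in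
/-- a Sylow subgroup through an element of prime order of `Cz x` lies in `Cz x` -/
theorem exists_sylow_le [Finite G] {x a : G} (hx : x ≠ 1) (p : ℕ) [hp : Fact p.Prime]
    (ha : a ∈ Cz x) (hap : orderOf a = p) :
    ∃ P : Sylow p G, a ∈ (P : Subgroup G) ∧ (P : Subgroup G) ≤ Cz x := by
  have ha1 : a ≠ 1 := by
    intro h
    rw [h, orderOf_one] at hap
    exact hp.out.one_lt.ne hap
  have hpg : IsPGroup p (Subgroup.zpowers a) := by
    apply IsPGroup.of_card (n := 1)
    rw [Nat.card_zpowers, hap, pow_one]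
  obtain ⟨P, hP⟩ := hpg.exists_le_sylow
  have haP : a ∈ (P : Subgroup G) := hP (Subgroup.mem_zpowers a)
  refine ⟨P, haP, ?_⟩
  haveI : Nontrivial (P : Subgroup G) :=
    ⟨⟨⟨a, haP⟩, 1, fun h => ha1 (congrArg Subtype.val h)⟩⟩
  haveI : Nontrivial (Subgroup.center (P : Subgroup G)) := P.2.center_nontrivial
  obtain ⟨z, hz⟩ := exists_ne (1 : Subgroup.center (P : Subgroup G))
  have hzc : ∀ w : (P : Subgroup G), w * (z : (P : Subgroup G)) = (z : (P : Subgroup G)) * w :=
    fun w => (Subgroup.mem_center_iff.mp z.2 w)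
  set z' : G := ((z : (P : Subgroup G)) : G) with hz'
  have hz'1 : z' ≠ 1 := by
    intro h
    apply hz
    apply Subtype.ext
    apply Subtype.ext
    exact h
  have hza : z' ∈ Cz a := by
    rw [mem_Cz]
    exact congrArg Subtype.val (hzc ⟨a, haP⟩)
  have e1 : Cz a = Cz x := Cz_eq hCA hx ha1 ha
  have hz'x : z' ∈ Cz x := e1 ▸ hza
  have e2 : Cz z' = Cz x := Cz_eq hCA hx hz'1 hz'x
  intro y hy
  rw [← e2, mem_Cz]
  exact (congrArg Subtype.val (hzc ⟨y, hy⟩)).symm

include hCA in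
/-- centralisers whose orders share a prime are conjugate -/
theorem conj_of_common_prime [Finite G] {x y : G} (hx : x ≠ 1) (hy : y ≠ 1) (p : ℕ)
    (hp : p.Prime) (hpx : p ∣ Nat.card (Cz x)) (hpy : p ∣ Nat.card (Cz y)) :
    ∃ g : G, g * x * g⁻¹ ∈ Cz y := by
  haveI := Fact.mk hp
  obtain ⟨a, hap⟩ := exists_prime_orderOf_dvd_card' p hpx
  obtain ⟨b, hbp⟩ := exists_prime_orderOf_dvd_card' p hpy
  rw [← Subgroup.orderOf_coe] at hap hbp
  obtain ⟨P, haP, hPx⟩ := exists_sylow_le hCA hx p a.2 hap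
  obtain ⟨Q, hbQ, hQy⟩ := exists_sylow_le hCA hy p b.2 hbp
  obtain ⟨g, hg⟩ := MulAction.exists_smul_eq G P Q
  have ha1 : (a : G) ≠ 1 := by
    intro h
    rw [h, orderOf_one] at hap
    exact hp.one_lt.ne hap
  have h1 : g * (a : G) * g⁻¹ ∈ (Q : Subgroup G) := by
    rw [← hg, Sylow.coe_subgroup_smul]
    have := Subgroup.smul_mem_pointwise_smul (a : G) (MulAut.conj g) (P : Subgroup G) haP
    simpa [MulAut.smul_def, MulAut.conj_apply] using this
  have h2 : g * (a : G) * g⁻¹ ∈ Cz y := hQy h1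
  have e1 : Cz (g * (a : G) * g⁻¹) = Cz y := Cz_conj_eq hCA ha1 hy h2
  have hxa : x ∈ Cz (a : G) := mem_Cz_symm a.2
  refine ⟨g, ?_⟩
  rw [← e1, conj_mem_Cz]
  exact hxa

end CA

end Cfsg.Agent.Lib.Helper33.CAOdd
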