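import Mathlib

/-!
# Arithmetic core of the "partition by Frobenius kernels" theorem (helper33)

`col_orth` : a square rational matrix whose rows are orthogonal for a weighted form has orthogonal
columns for the dual weighted form.

`part_arith` : the closing arithmetic contradiction of Peterfalvi (7.1) / Suzuki's CA argument.
-/

set_option autoImplicit false

namespace Cfsg.Agent.Lib.Helper33.PartArith

open Finset

/-- rows orthogonal (weights `μ`, norms `ν`) ⇒ columns orthogonal (weights `ν⁻¹`, norms `μ⁻¹`). -/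
theorem col_orth {κ : Type*} [Fintype κ] [DecidableEq κ] (M : κ → κ → ℚ) (μ ν : κ → ℚ)
    (hμ : ∀ k, μ k ≠ 0) (hν : ∀ k, ν k ≠ 0)
    (hrow : ∀ r s, ∑ k, M r k * μ k * M s k = if r = s then ν r else 0) (k l : κ) :
    ∑ r, M r k * (ν r)⁻¹ * M r l = if k = l then (μ k)⁻¹ else 0 := by
  have h1 : (Matrix.of fun r k => M r k * μ k) * (Matrix.of fun k s => M s k * (ν s)⁻¹)
      = (1 : Matrix κ κ ℚ) := by
    ext r s
    simp only [Matrix.mul_apply, Matrix.of_apply, Matrix.one_apply]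
    calc ∑ k, M r k * μ k * (M s k * (ν s)⁻¹) = (∑ k, M r k * μ k * M s k) * (ν s)⁻¹ := by
          rw [Finset.sum_mul]; apply Finset.sum_congr rfl; intro k _; ring
      _ = _ := by
          rw [hrow r s]; split_ifs with h
          · subst h; exact mul_inv_cancel₀ (hν r)
          · simp
  have h2 := mul_eq_one_comm.mp h1
  have h3 := congrFun (congrFun h2 k) l
  simp only [Matrix.mul_apply, Matrix.of_apply, Matrix.one_apply] at h3
  have h4 : (∑ r, M r k * (ν r)⁻¹ * M r l) * μ l = if k = l then 1 else 0 := by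
    rw [← h3, Finset.sum_mul]; apply Finset.sum_congr rfl; intro r _; ring
  have h5 : ∑ r, M r k * (ν r)⁻¹ * M r l = (if k = l then 1 else 0) * (μ l)⁻¹ := by
    rw [← h4, mul_assoc, mul_inv_cancel₀ (hμ l), mul_one]
  rw [h5]
  split_ifs with h
  · subst h; simp
  · simp

/-- for integers, `t a² - 2 ε a ≥ 0` when `t ≥ 2` and `ε = ±1`. -/
theorem A_nonneg (t a ε : ℤ) (ht : 2 ≤ t) (hε : ε = 1 ∨ ε = -1) : 0 ≤ t * a ^ 2 - 2 * ε * a := by
  have h1 : 0 ≤ a * (a - 1) := by
    rcases le_or_gt a 0 with h | h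
    · nlinarith
    · nlinarith
  have h2 : 0 ≤ a * (a + 1) := by
    rcases le_or_gt a (-1) with h | h
    · nlinarith
    · nlinarith
  have h3 : 0 ≤ a ^ 2 := sq_nonneg a
  rcases hε with rfl | rfl
  · nlinarith
  · nlinarith

/-- sum of an `if i = k then A else if i = l then B else 0` -/
theorem sum_two {ι : Type*} [Fintype ι] [DecidableEq ι] {R : Type*} [AddCommMonoid R]
    (k l : ι) (hkl : k ≠ l) (A B : R) :
    ∑ i, (if i = k then A else if i = l then B else 0) = A + B := by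
  rw [← Finset.add_sum_erase Finset.univ _ (Finset.mem_univ k)]
  rw [if_pos rfl]
  congr 1
  rw [← Finset.add_sum_erase _ _ (Finset.mem_erase.mpr ⟨hkl.symm, Finset.mem_univ l⟩)]
  rw [if_neg hkl.symm, if_pos rfl]
  rw [Finset.sum_eq_zero, add_zero]
  intro i hi
  have h1 : i ≠ l := (Finset.mem_erase.mp hi).1
  have h2 : i ≠ k := (Finset.mem_erase.mp (Finset.mem_erase.mp hi).2).1
  rw [if_neg h2, if_neg h1]

section Main

variable {ι : Type*} [Fintype ι] [DecidableEq ι]
    (t e h x a ε : ι → ℤ) (b : ι → ι → ℤ) (g : ℤ) (W : ι → ι → ℤ)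

/-- the column relations obtained by inverting the row relations -/
theorem columns
    (ht2 : ∀ i, 2 ≤ t i) (he2 : ∀ i, 2 ≤ e i)
    (hh : ∀ i, h i = t i * e i + 1) (hg : 0 < g)
    (R0 : (1 : ℚ) / g + ∑ j, (t j : ℚ) / h j = 1)
    (R1 : ∀ i, ((t i : ℚ) * x i) / g + ∑ j, (t j : ℚ) / h j * W i j = 0)
    (R2 : ∀ i k, i ≠ k → ((t i : ℚ) * x i) * (t k * x k) / g
      + ∑ j, (t j : ℚ) / h j * (W i j * W k j) = 0)
    (R3 : ∀ i, ((t i : ℚ) * x i) ^ 2 / g + ∑ j, (t j : ℚ) / h j * (W i j : ℚ) ^ 2 = t i)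
    (k l : ι) :
    1 + ∑ i, (W i k : ℚ) * (t i : ℚ)⁻¹ * W i l = if k = l then (h k : ℚ) / t k else 0 := by
  have htpos : ∀ i, (0 : ℚ) < t i := fun i => by
    have : (0 : ℤ) < t i := by linarith [ht2 i]
    exact_mod_cast this
  have hhpos : ∀ i, (0 : ℚ) < h i := fun i => by
    have : (0 : ℤ) < h i := by
      rw [hh i]; nlinarith [ht2 i, he2 i]
    exact_mod_cast this
  have hgq : (0 : ℚ) < g := by exact_mod_cast hg
  let M : Option ι → Option ι → ℚ := fun r k =>
    match r, k with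
    | none, _ => 1
    | some i, none => (t i : ℚ) * x i
    | some i, some j => W i j
  let μ : Option ι → ℚ := fun k =>
    match k with
    | none => 1 / g
    | some j => (t j : ℚ) / h j
  let ν : Option ι → ℚ := fun r =>
    match r with
    | none => 1
    | some i => t i
  have hμ : ∀ k, μ k ≠ 0 := by
    intro k
    cases k with
    | none => exact (div_pos one_pos hgq).ne'
    | some j => exact (div_pos (htpos j) (hhpos j)).ne'
  have hν : ∀ k, ν k ≠ 0 := by
    intro k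
    cases k with
    | none => exact one_ne_zero
    | some j => exact (htpos j).ne'
  have hrow : ∀ r s, ∑ k, M r k * μ k * M s k = if r = s then ν r else 0 := by
    intro r s
    rw [Fintype.sum_option]
    cases r with
    | none =>
      cases s with
      | none =>
        simp only [M, μ, ν, if_true]
        have e1 : ∑ j, (1 : ℚ) * ((t j : ℚ) / h j) * 1 = ∑ j, (t j : ℚ) / h j :=
          Finset.sum_congr rfl (fun j _ => by ring)
        rw [e1]; linear_combination R0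
      | some i =>
        simp only [M, μ, ν, reduceCtorEq, if_false]
        have e1 : ∑ j, (1 : ℚ) * ((t j : ℚ) / h j) * (W i j : ℚ) = ∑ j, (t j : ℚ) / h j * W i j :=
          Finset.sum_congr rfl (fun j _ => by ring)
        rw [e1]; linear_combination R1 i
    | some i =>
      cases s with
      | none =>
        simp only [M, μ, ν, reduceCtorEq, if_false]
        have e1 : ∑ j, (W i j : ℚ) * ((t j : ℚ) / h j) * 1 = ∑ j, (t j : ℚ) / h j * W i j :=
          Finset.sum_congr rfl (fun j _ => by ring)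
        rw [e1]; linear_combination R1 i
      | some k =>
        by_cases hik : i = k
        · subst hik
          simp only [M, μ, ν, if_true]
          have e1 : ∑ j, (W i j : ℚ) * ((t j : ℚ) / h j) * (W i j : ℚ)
              = ∑ j, (t j : ℚ) / h j * (W i j : ℚ) ^ 2 :=
            Finset.sum_congr rfl (fun j _ => by ring)
          rw [e1]; linear_combination R3 i
        · have hne : (some i : Option ι) ≠ some k := fun h => hik (Option.some.inj h)
          simp only [M, μ, ν, hne, if_false]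
          have e1 : ∑ j, (W i j : ℚ) * ((t j : ℚ) / h j) * (W k j : ℚ)
              = ∑ j, (t j : ℚ) / h j * ((W i j : ℚ) * W k j) :=
            Finset.sum_congr rfl (fun j _ => by ring)
          rw [e1]; linear_combination R2 i k hik
  have hcol := col_orth M μ ν hμ hν hrow (some k) (some l)
  rw [Fintype.sum_option] at hcol
  simp only [M, μ, ν, Option.some.injEq] at hcol
  rw [inv_div] at hcol
  rw [← hcol]
  simp

/-- parity: for `k ≠ l`, `b k l` and `b l k` are not both zero -/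
theorem tournament
    (ht2 : ∀ i, 2 ≤ t i) (hteven : ∀ i, Even (t i)) (he2 : ∀ i, 2 ≤ e i)
    (hh : ∀ i, h i = t i * e i + 1) (hg : 0 < g)
    (hW : ∀ i k, W i k = if i = k then t k * a k - ε k else t i * b i k)
    (R0 : (1 : ℚ) / g + ∑ j, (t j : ℚ) / h j = 1)
    (R1 : ∀ i, ((t i : ℚ) * x i) / g + ∑ j, (t j : ℚ) / h j * W i j = 0)
    (R2 : ∀ i k, i ≠ k → ((t i : ℚ) * x i) * (t k * x k) / g
      + ∑ j, (t j : ℚ) / h j * (W i j * W k j) = 0)
    (R3 : ∀ i, ((t i : ℚ) * x i) ^ 2 / g + ∑ j, (t j : ℚ) / h j * (W i j : ℚ) ^ 2 = t i)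
    (k l : ι) (hkl : k ≠ l) (h0 : b k l = 0) : b l k ≠ 0 := by
  intro h1
  have htpos : ∀ i, (0 : ℚ) < t i := fun i => by
    have : (0 : ℤ) < t i := by linarith [ht2 i]
    exact_mod_cast this
  have hc := columns t e h x g W ht2 he2 hh hg R0 R1 R2 R3 k l
  rw [if_neg hkl] at hc
  choose r hr using hteven
  have hQ : ∀ i, (W i k : ℚ) * (t i : ℚ)⁻¹ * W i l
      = ((2 * (if i = k then 0 else if i = l then 0 else r i * b i k * b i l) : ℤ) : ℚ) := by
    intro i
    have hti : (t i : ℚ) ≠ 0 := (htpos i).ne'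
    by_cases hik : i = k
    · subst hik
      rw [if_pos rfl, hW i l, if_neg hkl, h0]; simp
    · by_cases hil : i = l
      · subst hil
        rw [if_neg hik, if_pos rfl, hW i k, if_neg hik, h1]; simp
      · rw [if_neg hik, if_neg hil, hW i k, if_neg hik, hW i l, if_neg hil]
        have h2 : (t i : ℚ) = 2 * r i := by rw [hr i]; push_cast; ring
        push_cast; field_simp; rw [h2]; ring
  rw [Finset.sum_congr rfl (fun i _ => hQ i)] at hc
  have hc' : (1 + ∑ i, 2 * (if i = k then 0 else if i = l then 0 else r i * b i k * b i l) : ℤ)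
      = 0 := by
    exact_mod_cast hc
  rw [← Finset.mul_sum] at hc'
  omega

/-- **The closing arithmetic.** -/
theorem part_arith [Nonempty ι]
    (ht2 : ∀ i, 2 ≤ t i) (hteven : ∀ i, Even (t i)) (he2 : ∀ i, 2 ≤ e i)
    (hh : ∀ i, h i = t i * e i + 1) (hinj : Function.Injective h)
    (hε : ∀ i, ε i = 1 ∨ ε i = -1) (hg : 0 < g) (hx : ∀ i, x i ≠ 0)
    (hW : ∀ i k, W i k = if i = k then t k * a k - ε k else t i * b i k)
    (R0 : (1 : ℚ) / g + ∑ j, (t j : ℚ) / h j = 1)
    (R1 : ∀ i, ((t i : ℚ) * x i) / g + ∑ j, (t j : ℚ) / h j * W i j = 0)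
    (R2 : ∀ i k, i ≠ k → ((t i : ℚ) * x i) * (t k * x k) / g
      + ∑ j, (t j : ℚ) / h j * (W i j * W k j) = 0)
    (R3 : ∀ i, ((t i : ℚ) * x i) ^ 2 / g + ∑ j, (t j : ℚ) / h j * (W i j : ℚ) ^ 2 = t i) :
    False := by
  classical
  have hnz := tournament t e h x a ε b g W ht2 hteven he2 hh hg hW R0 R1 R2 R3
  have hC := columns t e h x g W ht2 he2 hh hg R0 R1 R2 R3
  have htpos : ∀ i, (0 : ℚ) < t i := fun i => by
    have : (0 : ℤ) < t i := by linarith [ht2 i]
    exact_mod_cast this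
  have hhposZ : ∀ i, (0 : ℤ) < h i := fun i => by
    rw [hh i]; nlinarith [ht2 i, he2 i]
  have hhpos : ∀ i, (0 : ℚ) < h i := fun i => by exact_mod_cast hhposZ i
  have hgq : (0 : ℚ) < g := by exact_mod_cast hg
  obtain ⟨k, -, hk⟩ := Finset.exists_min_image Finset.univ h Finset.univ_nonempty
  have hklt : ∀ j, j ≠ k → (h k : ℚ) < h j := fun j hj => by
    have : h k < h j :=
      lt_of_le_of_ne (hk j (Finset.mem_univ j)) (fun heq => hj (hinj heq).symm)
    exact_mod_cast this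
  set A : ℤ := t k * a k ^ 2 - 2 * ε k * a k with hA
  have hA0 : 0 ≤ A := A_nonneg _ _ _ (ht2 k) (hε k)
  have hε2 : (ε k : ℚ) ^ 2 = 1 := by
    rcases hε k with h | h <;> rw [h] <;> norm_num
  have htk : (t k : ℚ) ≠ 0 := (htpos k).ne'
  have hhk : (h k : ℚ) ≠ 0 := (hhpos k).ne'
  have htu : (t k : ℚ) * (t k : ℚ)⁻¹ = 1 := mul_inv_cancel₀ htk
  have hH : (h k : ℚ) = t k * e k + 1 := by rw [hh k]; push_cast; ring
  have sq1 : ((t k : ℚ) * a k - ε k) ^ 2 = t k * A + 1 := by
    rw [hA]; push_cast; linear_combination hε2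
  -- column k
  have colk : ∑ i ∈ Finset.univ.erase k, (t i : ℚ) * (b i k : ℚ) ^ 2 = (e k : ℚ) - 1 - A := by
    have h1 := hC k k
    rw [if_pos rfl, ← Finset.add_sum_erase Finset.univ _ (Finset.mem_univ k)] at h1
    have e1 : ∑ i ∈ Finset.univ.erase k, (W i k : ℚ) * (t i : ℚ)⁻¹ * W i k
        = ∑ i ∈ Finset.univ.erase k, (t i : ℚ) * (b i k : ℚ) ^ 2 := by
      apply Finset.sum_congr rfl
      intro i hi
      have hik : i ≠ k := (Finset.mem_erase.mp hi).1
      have hti : (t i : ℚ) ≠ 0 := (htpos i).ne'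
      rw [hW i k, if_neg hik]; push_cast; field_simp
    rw [e1, hW k k, if_pos rfl] at h1
    push_cast at h1
    have key1 : ((t k : ℚ) * a k - ε k) * (t k : ℚ)⁻¹ * ((t k : ℚ) * a k - ε k)
        = (A : ℚ) + (t k : ℚ)⁻¹ := by
      have : ((t k : ℚ) * a k - ε k) * (t k : ℚ)⁻¹ * ((t k : ℚ) * a k - ε k)
          = ((t k : ℚ) * a k - ε k) ^ 2 * (t k : ℚ)⁻¹ := by ring
      rw [this, sq1]
      linear_combination (A : ℚ) * htu
    have key2 : (h k : ℚ) / t k = e k + (t k : ℚ)⁻¹ := by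
      rw [hH]; field_simp
    rw [key1, key2] at h1
    linear_combination h1
  -- row k
  have rowk : ∑ j ∈ Finset.univ.erase k, (t j : ℚ) / h j * (b k j : ℚ) ^ 2
      = (t k : ℚ)⁻¹ - (x k : ℚ) ^ 2 / g - ((A : ℚ) + (t k : ℚ)⁻¹) / h k := by
    have h1 := R3 k
    rw [← Finset.add_sum_erase Finset.univ _ (Finset.mem_univ k)] at h1
    have e1 : ∑ j ∈ Finset.univ.erase k, (t j : ℚ) / h j * (W k j : ℚ) ^ 2
        = (t k : ℚ) ^ 2 * ∑ j ∈ Finset.univ.erase k, (t j : ℚ) / h j * (b k j : ℚ) ^ 2 := by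
      rw [Finset.mul_sum]
      apply Finset.sum_congr rfl
      intro j hj
      have hjk : k ≠ j := fun h => (Finset.mem_erase.mp hj).1 h.symm
      rw [hW k j, if_neg hjk]; push_cast; ring
    rw [e1, hW k k, if_pos rfl] at h1
    push_cast at h1
    rw [sq1] at h1
    have h2 : (t k : ℚ) ^ 2 * ∑ j ∈ Finset.univ.erase k, (t j : ℚ) / h j * (b k j : ℚ) ^ 2
        = (t k : ℚ) ^ 2 * ((t k : ℚ)⁻¹ - (x k : ℚ) ^ 2 / g - ((A : ℚ) + (t k : ℚ)⁻¹) / h k) := by
      have h3 : (t k : ℚ) ^ 2 * ((t k : ℚ)⁻¹ - (x k : ℚ) ^ 2 / g - ((A : ℚ) + (t k : ℚ)⁻¹) / h k)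
          = (t k : ℚ) - ((t k : ℚ) * x k) ^ 2 / g - (t k : ℚ) / h k * (t k * A + 1) := by
        field_simp
      rw [h3]
      linear_combination h1
    exact mul_left_cancel₀ (pow_ne_zero 2 htk) h2
  -- the class equation
  have sumk : ∑ j ∈ Finset.univ.erase k, (t j : ℚ) / h j = 1 - 1 / g - (t k : ℚ) / h k := by
    have h1 := R0
    rw [← Finset.add_sum_erase Finset.univ _ (Finset.mem_univ k)] at h1
    linear_combination h1
  -- numerical facts
  have hT2 : (2 : ℚ) ≤ t k := by exact_mod_cast ht2 k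
  have hE2 : (2 : ℚ) ≤ e k := by exact_mod_cast he2 k
  have hAq : (0 : ℚ) ≤ A := by exact_mod_cast hA0
  have hX2 : (1 : ℚ) ≤ (x k : ℚ) ^ 2 := by
    have : (1 : ℤ) ≤ (x k) ^ 2 := by
      have := hx k
      have h2 : 0 < (x k) ^ 2 := by positivity
      linarith
    exact_mod_cast this
  have hH0 : (t k : ℚ) * e k + 1 ≠ 0 := by rw [← hH]; exact hhk
  have hgne : (g : ℚ) ≠ 0 := hgq.ne'
  have sqge : ∀ z : ℤ, z ≠ 0 → (1 : ℚ) ≤ (z : ℚ) ^ 2 := by
    intro z hz
    have : (1 : ℤ) ≤ z ^ 2 := by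
      have h2 : 0 < z ^ 2 := by positivity
      linarith
    exact_mod_cast this
  -- termwise
  have hterm : ∀ j ∈ Finset.univ.erase k, (t j : ℚ) / h j
      ≤ (t j : ℚ) / h j * (b k j : ℚ) ^ 2 + (t j : ℚ) * (b j k : ℚ) ^ 2 / h k := by
    intro j hj
    have hjk : j ≠ k := (Finset.mem_erase.mp hj).1
    have hμj : (0 : ℚ) < (t j : ℚ) / h j := div_pos (htpos j) (hhpos j)
    by_cases hb : b k j = 0
    · have hb' : b j k ≠ 0 := hnz k j hjk.symm hb
      have h1 := sqge _ hb'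
      rw [hb]
      have h2 : (t j : ℚ) / h j ≤ (t j : ℚ) / h k :=
        div_le_div_of_nonneg_left (htpos j).le (hhpos k) (hklt j hjk).le
      have h3 : (t j : ℚ) / h k ≤ (t j : ℚ) * (b j k : ℚ) ^ 2 / h k := by
        apply div_le_div_of_nonneg_right _ (hhpos k).le
        nlinarith [htpos j]
      push_cast
      linarith
    · have h1 := sqge _ hb
      have h2 : (0 : ℚ) ≤ (t j : ℚ) * (b j k : ℚ) ^ 2 / h k := by
        apply div_nonneg _ (hhpos k).le
        exact mul_nonneg (htpos j).le (sq_nonneg _)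
      nlinarith
  by_cases hex : ∃ j, j ≠ k ∧ b k j = 0
  · -- strict case
    obtain ⟨j₀, hj₀k, hj₀⟩ := hex
    have hstrict : ∑ j ∈ Finset.univ.erase k, (t j : ℚ) / h j
        < ∑ j ∈ Finset.univ.erase k, ((t j : ℚ) / h j * (b k j : ℚ) ^ 2
          + (t j : ℚ) * (b j k : ℚ) ^ 2 / h k) := by
      apply Finset.sum_lt_sum hterm
      refine ⟨j₀, Finset.mem_erase.mpr ⟨hj₀k, Finset.mem_univ _⟩, ?_⟩
      have hb' : b j₀ k ≠ 0 := hnz k j₀ hj₀k.symm hj₀
      have h1 := sqge _ hb'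
      rw [hj₀]
      have h2 : (t j₀ : ℚ) / h j₀ < (t j₀ : ℚ) / h k :=
        div_lt_div_of_pos_left (htpos j₀) (hhpos k) (hklt j₀ hj₀k)
      have h3 : (t j₀ : ℚ) / h k ≤ (t j₀ : ℚ) * (b j₀ k : ℚ) ^ 2 / h k := by
        apply div_le_div_of_nonneg_right _ (hhpos k).le
        nlinarith [htpos j₀]
      push_cast
      linarith
    rw [Finset.sum_add_distrib, rowk, ← Finset.sum_div, colk, sumk] at hstrict
    have hid : ((t k : ℚ)⁻¹ - (x k : ℚ) ^ 2 / g - ((A : ℚ) + (t k : ℚ)⁻¹) / h k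
        + ((e k : ℚ) - 1 - A) / h k) - (1 - 1 / g - (t k : ℚ) / h k)
        = -((((t k : ℚ) - 2) * ((e k : ℚ) - 1) + 2 * A) / h k) - ((x k : ℚ) ^ 2 - 1) / g := by
      rw [hH]; field_simp; ring
    have hp1 : 0 ≤ (((t k : ℚ) - 2) * ((e k : ℚ) - 1) + 2 * A) / h k := by
      apply div_nonneg _ (hhpos k).le
      nlinarith
    have hp2 : 0 ≤ ((x k : ℚ) ^ 2 - 1) / g := div_nonneg (by linarith) hgq.le
    linarith
  · -- non-strict case
    push Not at hex
    have hle : ∑ j ∈ Finset.univ.erase k, (t j : ℚ) / h j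
        ≤ ∑ j ∈ Finset.univ.erase k, (t j : ℚ) / h j * (b k j : ℚ) ^ 2 := by
      apply Finset.sum_le_sum
      intro j hj
      have hjk : j ≠ k := (Finset.mem_erase.mp hj).1
      have h1 := sqge _ (hex j hjk)
      have hμj : (0 : ℚ) < (t j : ℚ) / h j := div_pos (htpos j) (hhpos j)
      nlinarith
    rw [rowk, sumk] at hle
    have hid : ((t k : ℚ)⁻¹ - (x k : ℚ) ^ 2 / g - ((A : ℚ) + (t k : ℚ)⁻¹) / h k)
        - (1 - 1 / g - (t k : ℚ) / h k)
        = -((((t k : ℚ) - 1) * ((e k : ℚ) - 1) + A) / h k) - ((x k : ℚ) ^ 2 - 1) / g := by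
      rw [hH]; field_simp; ring
    have hp1 : 0 < (((t k : ℚ) - 1) * ((e k : ℚ) - 1) + A) / h k := by
      apply div_pos _ (hhpos k)
      nlinarith
    have hp2 : 0 ≤ ((x k : ℚ) ^ 2 - 1) / g := div_nonneg (by linarith) hgq.le
    linarith

end Main

end Cfsg.Agent.Lib.Helper33.PartArith
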