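import Mathlib
import Cfsg.Prelude.Def_OddOrderLocal
import Cfsg.Prelude.Def_Characters
import Cfsg.Agent.Lib.Helper34.Induction

/-!
# The inner product of class functions on a group partitioned by conjugates of TI-subgroups (helper33)

If every non-identity element of `G` is conjugate into exactly one of the TI-subgroups `H i`
(with normalisers `L i`), then for class functions `F, F'`

`⟨F, F'⟩ = F(1) conj F'(1) / |G| + ∑ i, |L i|⁻¹ ∑_{l ∈ H i ∖ 1} F(l) conj F'(l)`.
-/

set_option autoImplicit false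
set_option linter.unusedSectionVars false

namespace Cfsg.Agent.Lib.Helper33.PartSum

open Cfsg
open scoped ComplexConjugate
open Cfsg.Agent.Lib.Helper34

variable {G : Type*} [Group G] [Fintype G]

open Classical in
/-- indicator (on `L`) of the non-identity elements of `H` -/
noncomputable def ind1 (L H : Subgroup G) : L → ℂ :=
  fun l => if (l : G) ∈ H ∧ (l : G) ≠ 1 then 1 else 0

/-- `x` is a non-identity element conjugate into `H` -/
def ConjInto (H : Subgroup G) (x : G) : Prop := x ≠ 1 ∧ ∃ g : G, g * x * g⁻¹ ∈ H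

theorem ind1_conj (L H : Subgroup G) (l : L) : conj (ind1 L H l) = ind1 L H l := by
  unfold ind1
  split_ifs <;> simp

open Classical in
theorem extendByZero_ind1 (L H : Subgroup G) (hHL : H ≤ L) (z : G) :
    extendByZero L (ind1 L H) z = if z ∈ H ∧ z ≠ 1 then 1 else 0 := by
  by_cases hz : z ∈ L
  · rw [extendByZero_apply_mem L _ hz]
    rfl
  · rw [extendByZero_apply_not_mem L _ hz, if_neg]
    exact fun h => hz (hHL h.1)

open Classical in
/-- the function induced from the indicator of `H ∖ 1` is the indicator of the elements conjugate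
into `H ∖ 1` -/
theorem indFun_ind1 (L H : Subgroup G) (hHL : H ≤ L) (hTI : IsTISubset (H : Set G))
    (hN : Subgroup.normalizer (H : Set G) = L) (x : G) :
    indFun L (ind1 L H) x = if ConjInto H x then 1 else 0 := by
  rw [indFun_apply]
  simp only [extendByZero_ind1 L H hHL]
  by_cases hx : ConjInto H x
  · rw [if_pos hx]
    obtain ⟨hx1, g₀, hg₀⟩ := hx
    have hh1 : g₀ * x * g₀⁻¹ ≠ 1 := by
      intro h
      apply hx1
      have : x = g₀⁻¹ * (g₀ * x * g₀⁻¹) * g₀ := by group
      rw [this, h]; group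
    have key : ∀ y : G, (y⁻¹ * x * y ∈ H ∧ y⁻¹ * x * y ≠ 1) ↔ y⁻¹ * g₀⁻¹ ∈ L := by
      intro y
      have hy : y⁻¹ * x * y = (y⁻¹ * g₀⁻¹) * (g₀ * x * g₀⁻¹) * (y⁻¹ * g₀⁻¹)⁻¹ := by group
      constructor
      · rintro ⟨h1, -⟩
        by_contra hnot
        rw [← hN] at hnot
        rw [hy] at h1
        exact hh1 (hTI _ hnot _ hg₀ h1)
      · intro hL
        rw [← hN] at hL
        refine ⟨?_, ?_⟩
        · rw [hy]
          exact (Subgroup.mem_set_normalizer_iff.mp hL _).mp hg₀
        · intro h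
          apply hx1
          have : x = y * (y⁻¹ * x * y) * y⁻¹ := by group
          rw [this, h]; group
    simp only [key]
    have hsum : ∑ y : G, (if y⁻¹ * g₀⁻¹ ∈ L then (1 : ℂ) else 0)
        = ∑ u : G, (if u ∈ L then (1 : ℂ) else 0) := by
      apply Fintype.sum_equiv ((Equiv.inv G).trans (Equiv.mulRight g₀⁻¹))
      intro y
      simp
    rw [hsum, Finset.sum_boole]
    have hc : (Finset.univ.filter (fun u : G => u ∈ L)).card = Nat.card L := by
      rw [Nat.card_eq_fintype_card, Fintype.card_subtype]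
    rw [hc]
    have : (Nat.card L : ℂ) ≠ 0 := by exact_mod_cast Nat.card_pos.ne'
    field_simp
  · rw [if_neg hx]
    have : ∀ y : G, ¬ (y⁻¹ * x * y ∈ H ∧ y⁻¹ * x * y ≠ 1) := by
      rintro y ⟨h1, h2⟩
      apply hx
      refine ⟨?_, y⁻¹, by simpa using h1⟩
      intro h
      apply h2
      rw [h]; group
    simp [this]

section Family

variable {ι : Type*} [Fintype ι] (L H : ι → Subgroup G)

open Classical in
/-- partition of unity -/
theorem partition_unity
    (hdisj : ∀ i j, i ≠ j → ∀ x, ConjInto (H i) x → ¬ ConjInto (H j) x)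
    (hcover : ∀ g : G, g ≠ 1 → ∃ i, ∃ x : G, x * g * x⁻¹ ∈ H i) (x : G) :
    (if x = 1 then (1 : ℂ) else 0) + ∑ i, (if ConjInto (H i) x then (1 : ℂ) else 0) = 1 := by
  by_cases hx : x = 1
  · rw [if_pos hx]
    have : ∀ i, ¬ ConjInto (H i) x := fun i h => h.1 hx
    simp [this]
  · rw [if_neg hx, zero_add]
    obtain ⟨i₀, g, hg⟩ := hcover x hx
    have h0 : ConjInto (H i₀) x := ⟨hx, g, hg⟩
    rw [Finset.sum_eq_single i₀]
    · rw [if_pos h0]
    · intro j _ hj
      rw [if_neg (hdisj i₀ j hj.symm x h0)]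
    · intro h; exact absurd (Finset.mem_univ _) h

open Classical in
/-- summing a class function over the group -/
theorem sum_classFunction [∀ i, Fintype (L i)]
    (hHL : ∀ i, H i ≤ L i)
    (hTI : ∀ i, IsTISubset (H i : Set G) ∧ Subgroup.normalizer (H i : Set G) = L i)
    (hdisj : ∀ i j, i ≠ j → ∀ x, ConjInto (H i) x → ¬ ConjInto (H j) x)
    (hcover : ∀ g : G, g ≠ 1 → ∃ i, ∃ x : G, x * g * x⁻¹ ∈ H i)
    (Φ : G → ℂ) (hΦ : IsClassFunction G Φ) :
    (Nat.card G : ℂ)⁻¹ * ∑ x : G, Φ x = (Nat.card G : ℂ)⁻¹ * Φ 1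
      + ∑ i, (Nat.card (L i) : ℂ)⁻¹ * ∑ l : L i, ind1 (L i) (H i) l * Φ l := by
  have h1 : ∀ x : G, Φ x = Φ x * (if x = 1 then (1 : ℂ) else 0)
      + ∑ i, Φ x * conj (indFun (L i) (ind1 (L i) (H i)) x) := by
    intro x
    have hpu := partition_unity H hdisj hcover x
    have : ∀ i, conj (indFun (L i) (ind1 (L i) (H i)) x) = if ConjInto (H i) x then (1 : ℂ) else 0 := by
      intro i
      rw [indFun_ind1 (L i) (H i) (hHL i) (hTI i).1 (hTI i).2]
      split_ifs <;> simp
    simp only [this]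
    rw [← Finset.mul_sum, ← mul_add, hpu, mul_one]
  have h2 : ∑ x : G, Φ x = Φ 1 + ∑ i, ∑ x : G, Φ x * conj (indFun (L i) (ind1 (L i) (H i)) x) := by
    calc ∑ x : G, Φ x = ∑ x : G, (Φ x * (if x = 1 then (1 : ℂ) else 0)
          + ∑ i, Φ x * conj (indFun (L i) (ind1 (L i) (H i)) x)) :=
            Finset.sum_congr rfl (fun x _ => h1 x)
      _ = _ := by
          rw [Finset.sum_add_distrib, Finset.sum_comm]
          congr 1
          simp
  rw [h2, mul_add, Finset.mul_sum]
  congr 1
  apply Finset.sum_congr rfl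
  intro i _
  have h3 := classInner_indFun_right (L i) (ind1 (L i) (H i)) Φ hΦ
  rw [classInner_def, classInner_def] at h3
  rw [h3]
  congr 1
  apply Finset.sum_congr rfl
  intro l _
  rw [ind1_conj]; ring

/-- **the inner product formula** -/
theorem classInner_eq [∀ i, Fintype (L i)]
    (hHL : ∀ i, H i ≤ L i)
    (hTI : ∀ i, IsTISubset (H i : Set G) ∧ Subgroup.normalizer (H i : Set G) = L i)
    (hdisj : ∀ i j, i ≠ j → ∀ x, ConjInto (H i) x → ¬ ConjInto (H j) x)
    (hcover : ∀ g : G, g ≠ 1 → ∃ i, ∃ x : G, x * g * x⁻¹ ∈ H i)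
    (F F' : G → ℂ) (hF : IsClassFunction G F) (hF' : IsClassFunction G F') :
    classInner F F' = (Nat.card G : ℂ)⁻¹ * (F 1 * conj (F' 1))
      + ∑ i, (Nat.card (L i) : ℂ)⁻¹ * ∑ l : L i, ind1 (L i) (H i) l * (F l * conj (F' l)) := by
  rw [classInner_def]
  have hΦ : IsClassFunction G (fun x => F x * conj (F' x)) := by
    intro g h
    show F (h * g * h⁻¹) * conj (F' (h * g * h⁻¹)) = F g * conj (F' g)
    rw [hF g h, hF' g h]
  exact sum_classFunction L H hHL hTI hdisj hcover _ hΦ

end Family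

end Cfsg.Agent.Lib.Helper33.PartSum
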