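import Mathlib
import Cfsg.Agent.Lib.Helper34.FrobTI
import Cfsg.Agent.Lib.Helper05.CharOrtho
import Cfsg.Agent.Lib.Helper33.PartSum

/-!
# Frobenius-type pairs `K ⊴ L`: arithmetic and sums of a relevant character over `K ∖ 1` (helper33)
-/

set_option autoImplicit false
set_option linter.unusedSectionVars false
set_option linter.style.haveILetI false

namespace Cfsg.Agent.Lib.Helper33.PartFrob

open Cfsg
open scoped ComplexConjugate
open Cfsg.Agent.Lib.Helper34

section OrbitMod

open MulAction

/-- (copied from `Lib.Helper64.DerIndex`) If a group acts on a finite set with a fixed point `x₀`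
and every other orbit has size divisible by `k`, then `k ∣ |X| - 1`. -/
theorem card_sub_one_dvd {H X : Type*} [Group H] [MulAction H X] [Finite X] (k : ℕ) (x₀ : X)
    (hfix : ∀ h : H, h • x₀ = x₀) (hdiv : ∀ y : X, y ≠ x₀ → k ∣ Nat.card (orbit H y)) :
    k ∣ Nat.card X - 1 := by
  classical
  have := Fintype.ofFinite X
  have : Fintype (orbitRel.Quotient H X) := Fintype.ofFinite _
  have e := selfEquivSigmaOrbits H X
  have h1 : Nat.card X = ∑ q : orbitRel.Quotient H X, Nat.card (orbit H q.out) := by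
    rw [Nat.card_congr e, Nat.card_sigma]
  have horb : orbit H x₀ = {x₀} := by
    ext y
    constructor
    · rintro ⟨h, rfl⟩
      exact hfix h
    · rintro rfl
      exact mem_orbit_self _
  set q₀ : orbitRel.Quotient H X := Quotient.mk'' x₀ with hq₀
  have hout : orbit H q₀.out = orbit H x₀ := by
    apply orbit_eq_iff.mpr
    have : (Quotient.mk'' q₀.out : orbitRel.Quotient H X) = Quotient.mk'' x₀ := Quotient.out_eq' q₀
    exact Quotient.exact' this
  rw [h1, ← Finset.add_sum_erase _ _ (Finset.mem_univ q₀)]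
  have hone : Nat.card (orbit H q₀.out) = 1 := by
    rw [hout, horb]
    simp
  rw [hone, Nat.add_sub_cancel_left]
  apply Finset.dvd_sum
  intro q hq
  apply hdiv
  intro hq'
  apply (Finset.mem_erase.mp hq).1
  rw [hq₀, ← hq']
  exact (Quotient.out_eq' q).symm

end OrbitMod

/-- in a Frobenius-type pair, the index of the kernel divides its order minus one -/
theorem index_dvd_card_sub_one {L : Type*} [Group L] [Finite L] (K : Subgroup L) [hK : K.Normal]
    (hC : ∀ k ∈ K, k ≠ 1 → Subgroup.centralizer ({k} : Set L) ≤ K) :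
    K.index ∣ Nat.card K - 1 := by
  letI : MulAction L K := MulAction.compHom K (MulAut.conjNormal (H := K))
  have hsmul : ∀ (l : L) (k : K), ((l • k : K) : L) = l * k * l⁻¹ :=
    fun l k => MulAut.conjNormal_apply l k
  apply card_sub_one_dvd (H := L) (X := K) K.index 1
  · intro l
    apply Subtype.ext
    rw [hsmul]
    simp
  · intro k hk
    have h1 : (MulAction.stabilizer L k).index = Nat.card (MulAction.orbit L k) := by
      rw [MulAction.index_stabilizer, Nat.card_coe_set_eq]
    rw [← h1]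
    have hle : MulAction.stabilizer L k ≤ K := by
      intro l hl
      apply hC k k.2 (fun h => hk (Subtype.ext h))
      rw [Subgroup.mem_centralizer_iff]
      intro x hx
      rw [Set.mem_singleton_iff] at hx
      subst hx
      have h2 := congrArg Subtype.val (MulAction.mem_stabilizer_iff.mp hl)
      rw [hsmul] at h2
      calc (k : L) * l = (l * k * l⁻¹) * l := by rw [h2]
        _ = l * k := by group
    exact Subgroup.index_dvd_of_le hle

section Sums

variable {G : Type*} [Group G] [Fintype G] (L H : Subgroup G) [Fintype L]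

open Classical in
/-- summing against the indicator of `H ∖ 1` -/
theorem sum_ind1_mul (f : L → ℂ) [Fintype (H.subgroupOf L)] :
    ∑ l : L, PartSum.ind1 L H l * f l = ∑ k : H.subgroupOf L, f k - f 1 := by
  have h1 : ∑ k : H.subgroupOf L, f k = ∑ l : L, if l ∈ H.subgroupOf L then f l else 0 := by
    rw [← Finset.sum_filter]
    exact (Finset.sum_subtype (Finset.univ.filter (· ∈ H.subgroupOf L)) (by simp) f).symm
  rw [h1, eq_sub_iff_add_eq]
  have h2 : f 1 = ∑ l : L, if l = 1 then f l else 0 := by simp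
  rw [h2, ← Finset.sum_add_distrib]
  apply Finset.sum_congr rfl
  intro l _
  unfold PartSum.ind1
  by_cases hl1 : l = 1
  · subst hl1; simp
  · have hne : (l : G) ≠ 1 := fun h => hl1 (Subtype.ext h)
    by_cases hl : l ∈ H.subgroupOf L
    · have hl' : (l : G) ∈ H := Subgroup.mem_subgroupOf.mp hl
      simp [hl, hl1, hl', hne]
    · have hl' : (l : G) ∉ H := fun h => hl (Subgroup.mem_subgroupOf.mpr h)
      simp [hl, hl1, hl']

/-- values of functions only matter on `H ∖ 1` -/
theorem sum_ind1_congr (f f' : L → ℂ)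
    (h : ∀ l : L, (l : G) ∈ H → l ≠ 1 → f l = f' l) :
    ∑ l : L, PartSum.ind1 L H l * f l = ∑ l : L, PartSum.ind1 L H l * f' l := by
  classical
  apply Finset.sum_congr rfl
  intro l _
  unfold PartSum.ind1
  by_cases hl : (l : G) ∈ H ∧ (l : G) ≠ 1
  · rw [if_pos hl, h l hl.1 (fun h1 => hl.2 (by rw [h1]; rfl))]
  · rw [if_neg hl, zero_mul, zero_mul]

variable (hHL : H ≤ L) [hK : (H.subgroupOf L).Normal]
  (hC : ∀ k ∈ H.subgroupOf L, k ≠ 1 → Subgroup.centralizer ({k} : Set L) ≤ H.subgroupOf L)
  {χ₀ : L → ℂ} (hχ₀ : FrobRel (H.subgroupOf L) χ₀) (h₀ : χ₀ 1 = ((H.subgroupOf L).index : ℂ))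

include hHL in
theorem s0 : ∑ l : L, PartSum.ind1 L H l = (Nat.card H : ℂ) - 1 := by
  classical
  have h := sum_ind1_mul L H (fun _ => (1 : ℂ))
  simp only [mul_one, Finset.sum_const, Finset.card_univ, nsmul_eq_mul] at h
  rw [h, ← Nat.card_eq_fintype_card, Nat.card_congr (Subgroup.subgroupOfEquivOfLe hHL).toEquiv]

include hC hχ₀ h₀ in
theorem s1 : ∑ l : L, PartSum.ind1 L H l * χ₀ l = -((H.subgroupOf L).index : ℂ) := by
  classical
  rw [sum_ind1_mul L H χ₀, FrobRel.sum_eq_zero _ hC hχ₀, h₀, zero_sub]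

include hC hχ₀ h₀ in
theorem s1' : ∑ l : L, PartSum.ind1 L H l * conj (χ₀ l) = -((H.subgroupOf L).index : ℂ) := by
  have h := congrArg conj (s1 L H hC hχ₀ h₀)
  rw [map_sum] at h
  simp only [map_mul, PartSum.ind1_conj, map_neg, Complex.conj_natCast] at h
  exact h

include hC hχ₀ h₀ in
theorem s2 : ∑ l : L, PartSum.ind1 L H l * (χ₀ l * conj (χ₀ l))
    = (Nat.card L : ℂ) - ((H.subgroupOf L).index : ℂ) ^ 2 := by
  classical
  rw [sum_ind1_mul L H (fun l => χ₀ l * conj (χ₀ l)), h₀, Complex.conj_natCast]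
  have h1 : ∑ k : H.subgroupOf L, χ₀ k * conj (χ₀ k) = ∑ l : L, χ₀ l * conj (χ₀ l) := by
    have : ∑ l : L, χ₀ l * conj (χ₀ l)
        = ∑ l : L, if l ∈ H.subgroupOf L then χ₀ l * conj (χ₀ l) else 0 := by
      apply Finset.sum_congr rfl
      intro l _
      by_cases hl : l ∈ H.subgroupOf L
      · rw [if_pos hl]
      · rw [if_neg hl, FrobRel.vanish _ hC hχ₀ hl, zero_mul]
    rw [this, ← Finset.sum_filter]
    exact (Finset.sum_subtype (Finset.univ.filter (fun l : L => l ∈ H.subgroupOf L))
      (p := fun l : L => l ∈ H.subgroupOf L) (by simp)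
      (fun l => χ₀ l * conj (χ₀ l))).symm
  have h2 := Helper05.classInner_irr_self hχ₀.1
  rw [classInner_def] at h2
  have hL : (Nat.card L : ℂ) ≠ 0 := by exact_mod_cast Nat.card_pos.ne'
  have h3 : ∑ l : L, χ₀ l * conj (χ₀ l) = (Nat.card L : ℂ) := by
    field_simp at h2
    exact h2
  rw [h1, h3]
  ring

include hHL hC hχ₀ h₀ in
/-- the bilinear sum formula -/
theorem bilin (p c p' c' : ℂ) :
    ∑ l : L, PartSum.ind1 L H l * ((p * χ₀ l + c) * conj (p' * χ₀ l + c'))
      = p * conj p' * ((Nat.card L : ℂ) - ((H.subgroupOf L).index : ℂ) ^ 2)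
        - (p * conj c' + c * conj p') * ((H.subgroupOf L).index : ℂ)
        + c * conj c' * ((Nat.card H : ℂ) - 1) := by
  have e : ∀ l : L, PartSum.ind1 L H l * ((p * χ₀ l + c) * conj (p' * χ₀ l + c'))
      = (p * conj p') * (PartSum.ind1 L H l * (χ₀ l * conj (χ₀ l)))
        + (p * conj c') * (PartSum.ind1 L H l * χ₀ l)
        + (c * conj p') * (PartSum.ind1 L H l * conj (χ₀ l))
        + (c * conj c') * PartSum.ind1 L H l := by
    intro l
    simp only [map_add, map_mul]
    ring
  rw [Finset.sum_congr rfl (fun l _ => e l)]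
  simp only [Finset.sum_add_distrib, ← Finset.mul_sum]
  rw [s0 L H hHL, s1 L H hC hχ₀ h₀, s1' L H hC hχ₀ h₀, s2 L H hC hχ₀ h₀]
  ring

end Sums

end Cfsg.Agent.Lib.Helper33.PartFrob
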