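import Mathlib
import Cfsg.Agent.Lib.Helper34.FrobTI
import Cfsg.Agent.Lib.Helper05.CharOrtho
import Cfsg.Agent.S1529

/-!
# Exceptional characters attached to a coherent Frobenius-type subgroup (helper33)

`N ≤ G`, `K ⊴ N` containing the centralisers (in `N`) of its non-identity elements,
`S = {χ | FrobRel K χ}` coherent for induction.  We extract the isometry `τ₁`, the sign `ε`,
and prove: irreducible characters of `G` outside `ε τ₁(S)` are constant (integer) on `K ∖ 1`,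
and `ε τ₁ χ₀` is `ε χ₀ + a` on `K ∖ 1` when `χ₀(1) = [N : K]`.
-/

set_option autoImplicit false
set_option linter.unusedSectionVars false

namespace Cfsg.Agent.Lib.Helper33.PartLocal

open Cfsg
open scoped ComplexConjugate
open Cfsg.Agent.Lib.Helper34

variable {G : Type*} [Group G] [Fintype G] (N : Subgroup G) [Fintype N] (K : Subgroup N)
  [hK : K.Normal]

/-- the relevant set -/
def Rel : Set (N → ℂ) := {χ | FrobRel K χ}

/-- the data extracted from coherence -/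
structure LocalIso (τ₁ : (N → ℂ) → (G → ℂ)) (ε : ℂ) : Prop where
  lio : IsLinearIsometryOn (zspan (Rel N K)) τ₁
  ext : ∀ α ∈ zspanOn (Rel N K) ({1}ᶜ : Set N), τ₁ α = indFun N α
  eps : ε = 1 ∨ ε = -1
  irr : ∀ χ, FrobRel K χ → IsIrrCharacter G (ε • τ₁ χ)
  inj : ∀ χ ψ, FrobRel K χ → FrobRel K ψ → τ₁ χ = τ₁ ψ → χ = ψ
  two : ∃ χ ψ, FrobRel K χ ∧ FrobRel K ψ ∧ χ ≠ ψ

/-- a coherent set has at least two members -/
theorem two_of_coherent (hcoh : IsCoherent (Rel N K) ({1}ᶜ : Set N) (indFun N : (N → ℂ) → (G → ℂ))) :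
    ∃ χ ψ, FrobRel K χ ∧ FrobRel K ψ ∧ χ ≠ ψ := by
  obtain ⟨⟨α, hα, hα0⟩, -⟩ := hcoh
  by_contra hcon
  push Not at hcon
  apply hα0
  rw [mem_zspanOn_compl_one_iff] at hα
  obtain ⟨hαs, hα1⟩ := hα
  rw [mem_zspan_iff] at hαs
  by_cases hne : ∃ χ₀, FrobRel K χ₀
  · obtain ⟨χ₀, hχ₀⟩ := hne
    have hsub : Rel N K ⊆ {χ₀} := by
      intro χ hχ
      by_contra h
      exact h (hcon χ χ₀ hχ hχ₀)
    have h1 := Submodule.span_mono (R := ℤ) hsub hαs
    rw [Submodule.mem_span_singleton] at h1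
    obtain ⟨n, rfl⟩ := h1
    obtain ⟨d, hd, hd1⟩ := Helper05.exists_pos_degree hχ₀.1
    have h2 : (n : ℂ) * (d : ℂ) = 0 := by
      have := hα1
      rw [Pi.smul_apply, hd1, zsmul_eq_mul] at this
      exact this
    have hn : n = 0 := by
      have hd0 : (d : ℂ) ≠ 0 := by exact_mod_cast hd.ne'
      have := (mul_eq_zero.mp h2).resolve_right hd0
      exact_mod_cast this
    rw [hn, zero_smul]
  · push Not at hne
    have hemp : Rel N K = ∅ := Set.eq_empty_iff_forall_notMem.mpr (fun χ hχ => hne χ hχ)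
    rw [hemp, Submodule.span_empty] at hαs
    exact (Submodule.mem_bot ℤ).mp hαs

/-- extraction of the isometry and its sign -/
theorem exists_localIso
    (hcoh : IsCoherent (Rel N K) ({1}ᶜ : Set N) (indFun N : (N → ℂ) → (G → ℂ))) :
    ∃ (τ₁ : (N → ℂ) → (G → ℂ)) (ε : ℂ), LocalIso N K τ₁ ε := by
  have htwo := two_of_coherent N K hcoh
  obtain ⟨-, τ₁, hlio, hext⟩ := hcoh
  have h0 : ∀ α ∈ zspan (Rel N K), α 1 = 0 → τ₁ α 1 = 0 := by
    intro α hα h1
    have hmem : α ∈ zspanOn (Rel N K) ({1}ᶜ : Set N) :=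
      mem_zspanOn_compl_one_iff.mpr ⟨hα, h1⟩
    rw [hext α hmem, Helper83.indFun_one_eq, h1, mul_zero]
  obtain ⟨χ, ψ, hχ, hψ, hne⟩ := htwo
  obtain ⟨ε, hε, hirr, hinj⟩ := Cfsg.Agent.S1529.result N (Rel N K) (fun χ hχ => hχ.1)
    ⟨χ, hχ, ψ, hψ, hne⟩ τ₁ hlio h0
  exact ⟨τ₁, ε, hlio, hext, hε, fun χ hχ => hirr χ hχ, fun χ ψ hχ hψ => hinj χ hχ ψ hψ,
    χ, ψ, hχ, hψ, hne⟩

section Lemmas

variable {N K}
variable {τ₁ : (N → ℂ) → (G → ℂ)} {ε : ℂ}

theorem LocalIso.eps_mul_self (D : LocalIso N K τ₁ ε) : ε * ε = 1 := by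
  rcases D.eps with h | h <;> rw [h] <;> norm_num

theorem LocalIso.eps_conj (D : LocalIso N K τ₁ ε) : conj ε = ε := by
  rcases D.eps with h | h <;> rw [h] <;> simp

/-- `τ₁ χ = ε • (ε • τ₁ χ)` -/
theorem LocalIso.tau_eq (D : LocalIso N K τ₁ ε) (χ : N → ℂ) : τ₁ χ = ε • (ε • τ₁ χ) := by
  rw [smul_smul, D.eps_mul_self, one_smul]

/-- the exceptional characters -/
def Exc (τ₁ : (N → ℂ) → (G → ℂ)) (ε : ℂ) (η : G → ℂ) : Prop :=
  ∃ χ, FrobRel K χ ∧ η = ε • τ₁ χ

/-- inner product of an irreducible character with `τ₁ χ` -/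
theorem LocalIso.inner_tau (D : LocalIso N K τ₁ ε) {η : G → ℂ} (hη : IsIrrCharacter G η)
    {χ : N → ℂ} (hχ : FrobRel K χ) [Decidable (η = ε • τ₁ χ)] :
    classInner η (τ₁ χ) = if η = ε • τ₁ χ then ε else 0 := by
  have h0 : classInner η (τ₁ χ) = ε * classInner η (ε • τ₁ χ) := by
    conv_lhs => rw [D.tau_eq χ]
    rw [classInner_smul_right, D.eps_conj]
  rw [h0]
  split_ifs with h
  · rw [← h, Helper05.classInner_irr_self hη, mul_one]
  · rw [Helper05.classInner_irr_ne hη (D.irr χ hχ) h, mul_zero]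

/-- the basic cross relation: for a class function `η` of `G` and `χ, χ₀ ∈ S` of degrees `d, e` -/
theorem LocalIso.cross (D : LocalIso N K τ₁ ε) {η : G → ℂ} (hη : IsClassFunction G η)
    {χ χ₀ : N → ℂ} (hχ : FrobRel K χ) (hχ₀ : FrobRel K χ₀) (d e : ℕ) (hd : χ 1 = d)
    (he : χ₀ 1 = e) :
    (e : ℂ) * classInner (fun x : N => η x) χ - (d : ℂ) * classInner (fun x : N => η x) χ₀
      = (e : ℂ) * classInner η (τ₁ χ) - (d : ℂ) * classInner η (τ₁ χ₀) := by
  have hmem : ((e : ℤ) • χ - (d : ℤ) • χ₀) ∈ zspanOn (Rel N K) ({1}ᶜ : Set N) := by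
    apply cross_mem_zspanOn N (S := Rel N K) hχ hχ₀
    rw [hd, he]; push_cast; ring
  have h1 := star_restrict_inner N D.ext hη hmem
  rw [star_cross N D.lio hχ hχ₀] at h1
  rw [classInner_sub_right, classInner_sub_right] at h1
  have hz : ∀ (n : ℤ) (f g : N → ℂ), classInner f (n • g) = (n : ℂ) * classInner f g := by
    intro n f g
    have : n • g = (n : ℂ) • g := by
      funext x; simp [zsmul_eq_mul]
    rw [this, classInner_smul_right]; simp
  have hz' : ∀ (n : ℤ) (f g : G → ℂ), classInner f (n • g) = (n : ℂ) * classInner f g := by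
    intro n f g
    have : n • g = (n : ℂ) • g := by
      funext x; simp [zsmul_eq_mul]
    rw [this, classInner_smul_right]; simp
  rw [hz, hz, hz', hz'] at h1
  simpa using h1

variable (hC : ∀ k ∈ K, k ≠ 1 → Subgroup.centralizer ({k} : Set N) ≤ K)

include hC in
/-- an irreducible character of `G` which is not exceptional is a constant integer on `K ∖ 1` -/
theorem LocalIso.const_of_not_exc (D : LocalIso N K τ₁ ε) {χ₀ : N → ℂ} (hχ₀ : FrobRel K χ₀)
    (h₀ : χ₀ 1 = (K.index : ℂ)) {η : G → ℂ} (hη : IsIrrCharacter G η)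
    (hne : ¬ Exc (K := K) τ₁ ε η) :
    ∃ b : ℤ, ∀ k ∈ K, k ≠ 1 → η (k : G) = b := by
  classical
  set ψ : N → ℂ := fun x => η x with hψ
  have hηc : IsCharacter G η := Helper83.isCharacter_of_irr hη
  have hψc : IsCharacter N ψ := Helper83.isCharacter_restrict N hηc
  have hψcf : IsClassFunction N ψ := Helper83.char_isClassFunction hψc
  obtain ⟨m, hm⟩ := Helper05.exists_nat_classInner hψc hχ₀.1
  have he0 : (K.index : ℂ) ≠ 0 := by exact_mod_cast Subgroup.index_ne_zero_of_finite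
  have hu : ∀ χ, FrobRel K χ → classInner ψ χ = ((m : ℂ) / K.index) * χ 1 := by
    intro χ hχ
    obtain ⟨d, -, hd⟩ := Helper05.exists_pos_degree hχ.1
    have hcross := D.cross (Helper83.char_isClassFunction hηc) hχ hχ₀ d K.index hd h₀
    rw [D.inner_tau hη hχ, D.inner_tau hη hχ₀, if_neg (fun h => hne ⟨χ, hχ, h⟩),
      if_neg (fun h => hne ⟨χ₀, hχ₀, h⟩)] at hcross
    rw [hd]
    field_simp
    rw [hm] at hcross
    linear_combination hcross
  obtain ⟨W, hW, hWint⟩ := frob_const K hC ψ hψcf _ hu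
  obtain ⟨n, hn⟩ := hWint (fun χ hχ => by
    obtain ⟨q, hq⟩ := Helper05.exists_nat_classInner hψc hχ
    exact ⟨q, by rw [hq]; simp⟩)
  refine ⟨n - m, fun k hk hk1 => ?_⟩
  have h1 := hW k hk hk1
  show ψ k = _
  rw [h1, hn]
  push_cast
  field_simp

include hC in
/-- the exceptional character attached to a character of degree `[N : K]` is `ε χ₀ + a` on `K ∖ 1` -/
theorem LocalIso.exc_values (D : LocalIso N K τ₁ ε) {χ₀ : N → ℂ} (hχ₀ : FrobRel K χ₀)
    (h₀ : χ₀ 1 = (K.index : ℂ)) :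
    ∃ a : ℤ, ∀ k ∈ K, k ≠ 1 → (ε • τ₁ χ₀) (k : G) = ε * χ₀ k + a := by
  classical
  set η : G → ℂ := ε • τ₁ χ₀ with hηdef
  have hη : IsIrrCharacter G η := D.irr χ₀ hχ₀
  have hηc : IsCharacter G η := Helper83.isCharacter_of_irr hη
  set ρ : N → ℂ := fun x => η x with hρ
  have hρc : IsCharacter N ρ := Helper83.isCharacter_restrict N hηc
  have hρcf : IsClassFunction N ρ := Helper83.char_isClassFunction hρc
  have hχ₀cf : IsClassFunction N χ₀ :=
    Helper83.char_isClassFunction (Helper83.isCharacter_of_irr hχ₀.1)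
  set ψ : N → ℂ := ρ - ε • χ₀ with hψ
  have hψcf : IsClassFunction N ψ := by
    intro g h
    simp only [hψ, Pi.sub_apply, Pi.smul_apply, hρcf g h, hχ₀cf g h]
  obtain ⟨m, hm⟩ := Helper05.exists_nat_classInner hρc hχ₀.1
  have he0 : (K.index : ℂ) ≠ 0 := by exact_mod_cast Subgroup.index_ne_zero_of_finite
  obtain ⟨εz, hεz⟩ : ∃ z : ℤ, ε = z := by
    rcases D.eps with h | h
    · exact ⟨1, by rw [h]; simp⟩
    · exact ⟨-1, by rw [h]; simp⟩
  have hinner : ∀ χ, IsIrrCharacter N χ →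
      classInner ψ χ = classInner ρ χ - ε * (if χ₀ = χ then 1 else 0) := by
    intro χ hχ
    rw [hψ, classInner_sub_left, classInner_smul_left, Helper05.classInner_irr hχ₀.1 hχ]
  have hu : ∀ χ, FrobRel K χ → classInner ψ χ = (((m : ℂ) - ε) / K.index) * χ 1 := by
    intro χ hχ
    rw [hinner χ hχ.1]
    by_cases hχχ₀ : χ₀ = χ
    · subst hχχ₀
      rw [if_pos rfl, hm, h₀]
      field_simp
    · rw [if_neg hχχ₀]
      obtain ⟨d, -, hd⟩ := Helper05.exists_pos_degree hχ.1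
      have hcross := D.cross (Helper83.char_isClassFunction hηc) hχ hχ₀ d K.index hd h₀
      have hne : η ≠ ε • τ₁ χ := by
        intro h
        apply hχχ₀
        apply D.inj χ₀ χ hχ₀ hχ
        have := congrArg (fun f => ε • f) h
        simp only [hηdef, smul_smul, D.eps_mul_self, one_smul] at this
        exact this
      rw [D.inner_tau hη hχ, D.inner_tau hη hχ₀, if_neg hne, if_pos rfl] at hcross
      rw [hd]
      field_simp
      rw [hm] at hcross
      linear_combination hcross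
  obtain ⟨W, hW, hWint⟩ := frob_const K hC ψ hψcf _ hu
  obtain ⟨n, hn⟩ := hWint (fun χ hχ => by
    obtain ⟨q, hq⟩ := Helper05.exists_nat_classInner hρc hχ
    rw [hinner χ hχ, hq, hεz]
    by_cases h : χ₀ = χ
    · exact ⟨q - εz, by rw [if_pos h]; push_cast; ring⟩
    · exact ⟨q, by rw [if_neg h]; push_cast; ring⟩)
  refine ⟨n - m + εz, fun k hk hk1 => ?_⟩
  have h1 := hW k hk hk1
  have h2 : η (k : G) = ψ k + ε * χ₀ k := by
    simp only [hψ, hρ, Pi.sub_apply, Pi.smul_apply, smul_eq_mul]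
    ring
  rw [h2, h1, hn]
  push_cast
  rw [← hεz]
  field_simp
  ring

/-- a member of `S` other than a given one -/
theorem LocalIso.exists_ne (D : LocalIso N K τ₁ ε) (χ₁ : N → ℂ) :
    ∃ χ₂, FrobRel K χ₂ ∧ χ₂ ≠ χ₁ := by
  obtain ⟨χ, ψ, hχ, hψ, hne⟩ := D.two
  by_cases h : χ = χ₁
  · exact ⟨ψ, hψ, fun h' => hne (h.trans h'.symm)⟩
  · exact ⟨χ, hχ, h⟩

/-- `ε • τ₁` is injective on `S` -/
theorem LocalIso.smul_inj (D : LocalIso N K τ₁ ε) {χ ψ : N → ℂ} (hχ : FrobRel K χ)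
    (hψ : FrobRel K ψ) (h : ε • τ₁ χ = ε • τ₁ ψ) : χ = ψ := by
  apply D.inj χ ψ hχ hψ
  have := congrArg (fun f => ε • f) h
  simpa only [smul_smul, D.eps_mul_self, one_smul] using this

theorem frobRel_ne_one {χ : N → ℂ} (hχ : FrobRel K χ) : (fun _ : N => (1 : ℂ)) ≠ χ := by
  intro h
  obtain ⟨k, -, hk⟩ := hχ.2
  apply hk
  rw [← h]

/-- the principal character is not exceptional -/
theorem LocalIso.one_not_exc (D : LocalIso N K τ₁ ε) :
    ¬ Exc (K := K) τ₁ ε (fun _ : G => (1 : ℂ)) := by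
  classical
  rintro ⟨χ₁, hχ₁, h1⟩
  obtain ⟨χ₂, hχ₂, h21⟩ := D.exists_ne χ₁
  obtain ⟨d₁, -, hd₁⟩ := Helper05.exists_pos_degree hχ₁.1
  obtain ⟨d₂, hd₂pos, hd₂⟩ := Helper05.exists_pos_degree hχ₂.1
  have h1G : IsIrrCharacter G (fun _ : G => (1 : ℂ)) := Helper83.isIrrCharacter_one
  have h1N : IsIrrCharacter N (fun _ : N => (1 : ℂ)) := Helper83.isIrrCharacter_one
  have hcross := D.cross (η := fun _ : G => (1 : ℂ))
    (Helper83.char_isClassFunction (Helper83.isCharacter_of_irr h1G)) hχ₁ hχ₂ d₁ d₂ hd₁ hd₂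
  rw [D.inner_tau h1G hχ₁, D.inner_tau h1G hχ₂, if_pos h1] at hcross
  have hne2 : (fun _ : G => (1 : ℂ)) ≠ ε • τ₁ χ₂ := by
    intro h
    exact h21 (D.smul_inj hχ₂ hχ₁ (h.symm.trans h1))
  rw [if_neg hne2] at hcross
  have e1 : classInner (fun x : N => (fun _ : G => (1 : ℂ)) (x : G)) χ₁ = 0 :=
    Helper05.classInner_irr_ne h1N hχ₁.1 (frobRel_ne_one hχ₁)
  have e2 : classInner (fun x : N => (fun _ : G => (1 : ℂ)) (x : G)) χ₂ = 0 :=
    Helper05.classInner_irr_ne h1N hχ₂.1 (frobRel_ne_one hχ₂)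
  rw [e1, e2] at hcross
  have hε0 : ε ≠ 0 := by
    rcases D.eps with h | h <;> rw [h] <;> norm_num
  have hd0 : (d₂ : ℂ) ≠ 0 := by exact_mod_cast hd₂pos.ne'
  have : (d₂ : ℂ) * ε = 0 := by linear_combination -hcross
  exact (mul_ne_zero hd0 hε0) this

end Lemmas

section Disjoint

variable {N K}
variable {τ₁ : (N → ℂ) → (G → ℂ)} {ε : ℂ}
variable {N' : Subgroup G} [Fintype N'] {K' : Subgroup N'} [hK' : K'.Normal]
variable {τ₁' : (N' → ℂ) → (G → ℂ)} {ε' : ℂ}

/-- members of the integer span of `S` vanish off `K` -/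
theorem zspan_vanish (hC : ∀ k ∈ K, k ≠ 1 → Subgroup.centralizer ({k} : Set N) ≤ K)
    {α : N → ℂ} (hα : α ∈ zspan (Rel N K)) {x : N} (hx : x ∉ K) : α x = 0 := by
  refine zspan_induction (p := fun α => α x = 0) hα ?_ ?_ ?_ ?_
  · intro χ hχ
    exact FrobRel.vanish K hC hχ hx
  · rfl
  · intro a b ha hb
    simp only [Pi.add_apply, ha, hb, add_zero]
  · intro a ha
    simp only [Pi.neg_apply, ha, neg_zero]

/-- the exceptional sets of two families with non-conjugate supports are disjoint -/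
theorem exc_disjoint (D : LocalIso N K τ₁ ε) (D' : LocalIso N' K' τ₁' ε')
    (hC : ∀ k ∈ K, k ≠ 1 → Subgroup.centralizer ({k} : Set N) ≤ K)
    (hC' : ∀ k ∈ K', k ≠ 1 → Subgroup.centralizer ({k} : Set N') ≤ K')
    (hsupp : ∀ k : N, k ∈ K → k ≠ 1 → ∀ y : G, ∀ k' : N', k' ∈ K' → (k' : G) ≠ y⁻¹ * (k : G) * y)
    {η : G → ℂ} (h : Exc (K := K) τ₁ ε η) (h' : Exc (K := K') τ₁' ε' η) : False := by
  classical
  obtain ⟨χ, hχ, hηχ⟩ := h
  obtain ⟨ξ, hξ, hηξ⟩ := h'
  obtain ⟨χ', hχ', hχχ'⟩ := D.exists_ne χ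
  obtain ⟨ξ', hξ', hξξ'⟩ := D'.exists_ne ξ
  obtain ⟨d, hdpos, hd⟩ := Helper05.exists_pos_degree hχ.1
  obtain ⟨d', hd'pos, hd'⟩ := Helper05.exists_pos_degree hχ'.1
  obtain ⟨f, hfpos, hf⟩ := Helper05.exists_pos_degree hξ.1
  obtain ⟨f', hf'pos, hf'⟩ := Helper05.exists_pos_degree hξ'.1
  -- β and the class function η'' = τ₁' β = indFun N' β
  have hβ : ((f' : ℤ) • ξ - (f : ℤ) • ξ') ∈ zspanOn (Rel N' K') ({1}ᶜ : Set N') := by
    apply cross_mem_zspanOn N' (S := Rel N' K') hξ hξ'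
    rw [hf, hf']; push_cast; ring
  set β : N' → ℂ := (f' : ℤ) • ξ - (f : ℤ) • ξ' with hβdef
  have hβ1 : β 1 = 0 := (mem_zspanOn_compl_one_iff.mp hβ).2
  have hβK : ∀ x : N', x ∉ K' → β x = 0 :=
    fun x hx => zspan_vanish hC' (mem_zspanOn_compl_one_iff.mp hβ).1 hx
  have hη'' : τ₁' β = indFun N' β := D'.ext β hβ
  have hcf : IsClassFunction G (τ₁' β) := by
    rw [hη'']; exact indFun_isClassFunction N' β
  -- η'' vanishes on K
  have hvan : ∀ k : N, k ∈ K → τ₁' β (k : G) = 0 := by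
    intro k hk
    rw [hη'']
    by_cases hk1 : k = 1
    · rw [hk1]
      show indFun N' β 1 = 0
      rw [Helper83.indFun_one_eq, hβ1, mul_zero]
    · rw [indFun_apply]
      have : ∀ y : G, extendByZero N' β (y⁻¹ * (k : G) * y) = 0 := by
        intro y
        by_cases hy : y⁻¹ * (k : G) * y ∈ N'
        · rw [extendByZero_apply_mem N' β hy]
          apply hβK
          intro hmem
          exact hsupp k hk hk1 y ⟨_, hy⟩ hmem rfl
        · exact extendByZero_apply_not_mem N' β hy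
      simp [this]
  -- hence its restriction to `N` is orthogonal to all members of `S`
  have hres : ∀ χc, FrobRel K χc → classInner (fun x : N => τ₁' β (x : G)) χc = 0 := by
    intro χc hχc
    rw [classInner_def]
    rw [Finset.sum_eq_zero, mul_zero]
    intro x _
    by_cases hx : x ∈ K
    · rw [hvan x hx, zero_mul]
    · rw [FrobRel.vanish K hC hχc hx, map_zero, mul_zero]
  have hcross := D.cross hcf hχ hχ' d d' hd hd'
  rw [hres χ hχ, hres χ' hχ'] at hcross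
  -- expand τ₁' β
  have hexp : τ₁' β = (f' : ℤ) • τ₁' ξ - (f : ℤ) • τ₁' ξ' := star_cross N' D'.lio hξ hξ' _ _
  have hz : ∀ (n : ℤ) (u v : G → ℂ), classInner (n • u) v = (n : ℂ) * classInner u v := by
    intro n u v
    have : n • u = (n : ℂ) • u := by
      funext x; simp [zsmul_eq_mul]
    rw [this, classInner_smul_left]
  -- inner products of τ₁' ξc with τ₁ χc
  have hin : ∀ ξc χc, FrobRel K' ξc → FrobRel K χc →
      classInner (τ₁' ξc) (τ₁ χc) = ε' * (if ε' • τ₁' ξc = ε • τ₁ χc then ε else 0) := by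
    intro ξc χc hξc hχc
    have h0 : classInner (τ₁' ξc) (τ₁ χc) = ε' * classInner (ε' • τ₁' ξc) (τ₁ χc) := by
      conv_lhs => rw [D'.tau_eq ξc]
      rw [classInner_smul_left]
    rw [h0, D.inner_tau (D'.irr ξc hξc) hχc]
  have e1 : ε' • τ₁' ξ = ε • τ₁ χ := hηξ.symm.trans hηχ
  have e2 : ε' • τ₁' ξ ≠ ε • τ₁ χ' := by
    rw [e1]; intro h; exact hχχ' (D.smul_inj hχ' hχ h.symm)
  have e3 : ε' • τ₁' ξ' ≠ ε • τ₁ χ := by
    rw [← e1]; intro h; exact hξξ' (D'.smul_inj hξ' hξ h)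
  rw [hexp, classInner_sub_left, classInner_sub_left, hz, hz, hz, hz,
    hin ξ χ hξ hχ, hin ξ' χ hξ' hχ, hin ξ χ' hξ hχ', hin ξ' χ' hξ' hχ',
    if_pos e1, if_neg e2, if_neg e3] at hcross
  -- arithmetic
  have hεε : ε' * ε ≠ 0 := by
    rcases D.eps with h | h <;> rcases D'.eps with h' | h' <;> rw [h, h'] <;> norm_num
  have hpos : (0 : ℝ) < (d' : ℝ) * f' := by positivity
  by_cases hδ : ε' • τ₁' ξ' = ε • τ₁ χ'
  · rw [if_pos hδ] at hcross
    have h1 : (ε' * ε) * ((d' : ℂ) * f' + (d : ℂ) * f) = 0 := by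
      push_cast at hcross
      linear_combination -hcross
    have h2 : ((d' : ℂ) * f' + (d : ℂ) * f) = 0 := (mul_eq_zero.mp h1).resolve_left hεε
    have h3 : ((d' * f' + d * f : ℕ) : ℂ) = 0 := by push_cast; exact h2
    have h4 : d' * f' + d * f = 0 := by exact_mod_cast h3
    have : 0 < d' * f' := Nat.mul_pos hd'pos hf'pos
    omega
  · rw [if_neg hδ] at hcross
    have h1 : (ε' * ε) * ((d' : ℂ) * f') = 0 := by
      push_cast at hcross
      linear_combination -hcross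
    have h2 : ((d' : ℂ) * f') = 0 := (mul_eq_zero.mp h1).resolve_left hεε
    have h3 : ((d' * f' : ℕ) : ℂ) = 0 := by push_cast; exact h2
    have h4 : d' * f' = 0 := by exact_mod_cast h3
    have : 0 < d' * f' := Nat.mul_pos hd'pos hf'pos
    omega

end Disjoint

end Cfsg.Agent.Lib.Helper33.PartLocal
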