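import Mathlib
import Cfsg.Agent.Lib.Helper33.PartArith
import Cfsg.Agent.Lib.Helper33.PartSum
import Cfsg.Agent.Lib.Helper33.PartLocal
import Cfsg.Agent.Lib.Helper33.PartFrob

/-!
# No group of odd order is partitioned by coprime Frobenius kernels with coherent characters
(helper33; Peterfalvi (7.1), Suzuki's CA argument)
-/

set_option autoImplicit false
set_option linter.unusedSectionVars false
set_option linter.style.haveILetI false

namespace Cfsg.Agent.Lib.Helper33.PartMain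

open Cfsg
open scoped ComplexConjugate
open Cfsg.Agent.Lib.Helper34

variable {G : Type*} [Group G] [Fintype G]

/-- the set of characters in the coherence hypotheses -/
def relSet (L H : Subgroup G) : Set (L → ℂ) :=
  {χ | IsIrrCharacter L χ ∧ ∃ k : L, (k : G) ∈ H ∧ χ k ≠ χ 1}

theorem relSet_eq (L H : Subgroup G) [Fintype L] :
    relSet L H = PartLocal.Rel L (H.subgroupOf L) := by
  ext χ
  constructor
  · rintro ⟨h1, k, hk, hne⟩
    exact ⟨h1, k, Subgroup.mem_subgroupOf.mpr hk, hne⟩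
  · rintro ⟨h1, k, hk, hne⟩
    exact ⟨h1, k, Subgroup.mem_subgroupOf.mp hk, hne⟩

section Numeric

variable (L H : Subgroup G) [Fintype L]

theorem card_subgroupOf_eq (hHL : H ≤ L) : Nat.card (H.subgroupOf L) = Nat.card H :=
  Nat.card_congr (Subgroup.subgroupOfEquivOfLe hHL).toEquiv

theorem card_L (hHL : H ≤ L) : Nat.card L = (H.subgroupOf L).index * Nat.card H := by
  rw [← card_subgroupOf_eq L H hHL, mul_comm, Subgroup.card_mul_index]

theorem index_ge_two (hlt : H < L) : 2 ≤ (H.subgroupOf L).index := by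
  have h0 : (H.subgroupOf L).index ≠ 0 := Subgroup.index_ne_zero_of_finite
  have h1 : (H.subgroupOf L).index ≠ 1 := by
    intro h
    rw [Subgroup.index_eq_one, Subgroup.subgroupOf_eq_top] at h
    exact (not_le_of_gt hlt) h
  omega

theorem card_H_ge_two (hH1 : H ≠ ⊥) : 2 ≤ Nat.card H := by
  have := (Subgroup.one_lt_card_iff_ne_bot (H := H)).mpr hH1
  omega

/-- the numerical data of a Frobenius-type pair in a group of odd order -/
theorem exists_t (hodd : Odd (Nat.card G)) (hlt : H < L) (hH1 : H ≠ ⊥)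
    [hK : (H.subgroupOf L).Normal]
    (hC : ∀ k ∈ H.subgroupOf L, k ≠ 1 → Subgroup.centralizer ({k} : Set L) ≤ H.subgroupOf L) :
    ∃ t : ℕ, 2 ≤ t ∧ Even t ∧ Nat.card H = t * (H.subgroupOf L).index + 1 := by
  have hdvd := PartFrob.index_dvd_card_sub_one (H.subgroupOf L) hC
  rw [card_subgroupOf_eq L H hlt.le] at hdvd
  obtain ⟨t, ht⟩ := hdvd
  have h2 := card_H_ge_two H hH1
  have he2 := index_ge_two L H hlt
  have hHodd : Odd (Nat.card H) := by
    have : Nat.card H ∣ Nat.card G := Subgroup.card_subgroup_dvd_card H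
    exact Odd.of_dvd_nat hodd this
  have hLodd : Odd (Nat.card L) := by
    have : Nat.card L ∣ Nat.card G := Subgroup.card_subgroup_dvd_card L
    exact Odd.of_dvd_nat hodd this
  have heodd : Odd (H.subgroupOf L).index := by
    have : (H.subgroupOf L).index ∣ Nat.card L := Subgroup.index_dvd_card _
    exact Odd.of_dvd_nat hLodd this
  have hcard : Nat.card H = t * (H.subgroupOf L).index + 1 := by
    have : Nat.card H - 1 + 1 = Nat.card H := by omega
    rw [← this, ht, mul_comm]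
  have hteven : Even t := by
    by_contra hto
    rw [Nat.not_even_iff_odd] at hto
    have : Odd (t * (H.subgroupOf L).index) := hto.mul heodd
    have : Even (Nat.card H) := by
      rw [hcard]
      exact Odd.add_one this
    exact (Nat.not_even_iff_odd.mpr hHodd) this
  refine ⟨t, ?_, hteven, hcard⟩
  have ht0 : t ≠ 0 := by
    rintro rfl
    omega
  obtain ⟨r, hr⟩ := hteven
  omega

end Numeric

section Family

variable {ι : Type*} [Fintype ι] (L H : ι → Subgroup G) [∀ i, Fintype (L i)]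

/-- normality of the kernels -/
theorem normal_subgroupOf (hHn : ∀ i, ∀ x ∈ L i, ∀ h ∈ H i, x * h * x⁻¹ ∈ H i) (i : ι) :
    ((H i).subgroupOf (L i)).Normal := by
  constructor
  intro k hk l
  rw [Subgroup.mem_subgroupOf] at hk ⊢
  have := hHn i l l.2 k hk
  simpa using this

/-- the centraliser condition inside `L i` -/
theorem hC_subgroupOf
    (hfrob : ∀ i, ∀ h ∈ H i, h ≠ 1 → L i ⊓ Subgroup.centralizer ({h} : Set G) ≤ H i) (i : ι) :
    ∀ k ∈ (H i).subgroupOf (L i), k ≠ 1 →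
      Subgroup.centralizer ({k} : Set (L i)) ≤ (H i).subgroupOf (L i) := by
  intro k hk hk1 x hx
  rw [Subgroup.mem_subgroupOf]
  apply hfrob i (k : G) hk (fun h => hk1 (Subtype.ext h))
  refine Subgroup.mem_inf.mpr ⟨x.2, ?_⟩
  rw [Subgroup.mem_centralizer_iff]
  intro y hy
  rw [Set.mem_singleton_iff] at hy
  subst hy
  have := (Subgroup.mem_centralizer_iff.mp hx) k (Set.mem_singleton k)
  exact congrArg Subtype.val this

/-- elements of kernels of coprime orders are not conjugate -/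
theorem not_conj_of_coprime
    (hcop : ∀ i j, i ≠ j → Nat.Coprime (Nat.card (H i)) (Nat.card (H j)))
    (i j : ι) (hij : i ≠ j) (x : G) (hx : x ∈ H i) (y : G) (hy : y⁻¹ * x * y ∈ H j) : x = 1 := by
  have h1 : orderOf x ∣ Nat.card (H i) := by
    have := orderOf_dvd_natCard (⟨x, hx⟩ : H i)
    rwa [Subgroup.orderOf_mk] at this
  have h2 : orderOf x ∣ Nat.card (H j) := by
    have := orderOf_dvd_natCard (⟨y⁻¹ * x * y, hy⟩ : H j)
    rw [Subgroup.orderOf_mk] at this
    have h3 : orderOf (y⁻¹ * x * y) = orderOf x := by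
      have := MulEquiv.orderOf_eq (MulAut.conj y⁻¹) x
      simpa [MulAut.conj_apply] using this
    rwa [h3] at this
  have h3 : orderOf x ∣ 1 := by
    have := Nat.dvd_gcd h1 h2
    rwa [(hcop i j hij)] at this
  exact orderOf_eq_one_iff.mp (Nat.dvd_one.mp h3)

theorem conjInto_disjoint
    (hcop : ∀ i j, i ≠ j → Nat.Coprime (Nat.card (H i)) (Nat.card (H j)))
    (i j : ι) (hij : i ≠ j) (x : G) (h1 : PartSum.ConjInto (H i) x) :
    ¬ PartSum.ConjInto (H j) x := by
  rintro ⟨-, g', hg'⟩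
  obtain ⟨hx1, g, hg⟩ := h1
  have hz : (g * g'⁻¹)⁻¹ * (g * x * g⁻¹) * (g * g'⁻¹) ∈ H j := by
    have : (g * g'⁻¹)⁻¹ * (g * x * g⁻¹) * (g * g'⁻¹) = g' * x * g'⁻¹ := by group
    rw [this]; exact hg'
  have := not_conj_of_coprime H hcop i j hij _ hg _ hz
  apply hx1
  have h2 : x = g⁻¹ * (g * x * g⁻¹) * g := by group
  rw [h2, this]; group

/-- inner product of two class functions whose values on every `H j ∖ 1` are `p χ₀ + c` -/
theorem inner_formula
    (hHL : ∀ i, H i ≤ L i)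
    (hTI : ∀ i, IsTISubset (H i : Set G) ∧ Subgroup.normalizer (H i : Set G) = L i)
    (hdisj : ∀ i j, i ≠ j → ∀ x, PartSum.ConjInto (H i) x → ¬ PartSum.ConjInto (H j) x)
    (hcover : ∀ g : G, g ≠ 1 → ∃ i, ∃ x : G, x * g * x⁻¹ ∈ H i)
    [hKn : ∀ j, ((H j).subgroupOf (L j)).Normal]
    (hC : ∀ j, ∀ k ∈ (H j).subgroupOf (L j), k ≠ 1 →
      Subgroup.centralizer ({k} : Set (L j)) ≤ (H j).subgroupOf (L j))
    (χ₀ : ∀ j, L j → ℂ) (hχ₀ : ∀ j, FrobRel ((H j).subgroupOf (L j)) (χ₀ j))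
    (h₀ : ∀ j, χ₀ j 1 = (((H j).subgroupOf (L j)).index : ℂ))
    (F F' : G → ℂ) (hF : IsClassFunction G F) (hF' : IsClassFunction G F')
    (p c p' c' : ι → ℂ)
    (hFv : ∀ j, ∀ l : L j, (l : G) ∈ H j → l ≠ 1 → F l = p j * χ₀ j l + c j)
    (hF'v : ∀ j, ∀ l : L j, (l : G) ∈ H j → l ≠ 1 → F' l = p' j * χ₀ j l + c' j) :
    classInner F F' = (Nat.card G : ℂ)⁻¹ * (F 1 * conj (F' 1))
      + ∑ j, (Nat.card (L j) : ℂ)⁻¹ *
        (p j * conj (p' j) * ((Nat.card (L j) : ℂ) - (((H j).subgroupOf (L j)).index : ℂ) ^ 2)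
          - (p j * conj (c' j) + c j * conj (p' j)) * (((H j).subgroupOf (L j)).index : ℂ)
          + c j * conj (c' j) * ((Nat.card (H j) : ℂ) - 1)) := by
  rw [PartSum.classInner_eq L H hHL hTI hdisj hcover F F' hF hF']
  congr 1
  apply Finset.sum_congr rfl
  intro j _
  congr 1
  rw [PartFrob.sum_ind1_congr (L j) (H j) (fun l => F l * conj (F' l))
    (fun l => (p j * χ₀ j l + c j) * conj (p' j * χ₀ j l + c' j))
    (fun l hl hl1 => by rw [hFv j l hl hl1, hF'v j l hl hl1])]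
  exact PartFrob.bilin (L j) (H j) (hHL j) (hC j) (hχ₀ j) (h₀ j) _ _ _ _

/-- **Main theorem**: no group of odd order is partitioned by conjugates of TI Frobenius kernels
of pairwise coprime orders, provided the relevant characters of each normaliser are coherent and
contain a character of degree `[L i : H i]`. -/
theorem no_partition [Nonempty ι] (hodd : Odd (Nat.card G))
    (hHL : ∀ i, H i < L i) (hH1 : ∀ i, H i ≠ ⊥)
    (hHn : ∀ i, ∀ x ∈ L i, ∀ h ∈ H i, x * h * x⁻¹ ∈ H i)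
    (hfrob : ∀ i, ∀ h ∈ H i, h ≠ 1 → L i ⊓ Subgroup.centralizer ({h} : Set G) ≤ H i)
    (hcop : ∀ i j, i ≠ j → Nat.Coprime (Nat.card (H i)) (Nat.card (H j)))
    (hTI : ∀ i, IsTISubset (H i : Set G) ∧ Subgroup.normalizer (H i : Set G) = L i)
    (hcover : ∀ g : G, g ≠ 1 → ∃ i, ∃ x : G, x * g * x⁻¹ ∈ H i)
    (hcoh : ∀ i, IsCoherent (relSet (L i) (H i)) ({1}ᶜ : Set (L i))
      (indFun (L i) : (L i → ℂ) → (G → ℂ)))
    (hlin : ∀ i, ∃ χ : L i → ℂ, χ ∈ relSet (L i) (H i) ∧
      χ 1 = (((H i).subgroupOf (L i)).index : ℂ)) : False := by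
  classical
  haveI hKn : ∀ j, ((H j).subgroupOf (L j)).Normal := normal_subgroupOf L H hHn
  have hC := hC_subgroupOf L H hfrob
  have hdisj := conjInto_disjoint H hcop
  have hle : ∀ i, H i ≤ L i := fun i => (hHL i).le
  -- local isometries
  have hloc : ∀ i, ∃ (τ₁ : (L i → ℂ) → (G → ℂ)) (ε : ℂ),
      PartLocal.LocalIso (L i) ((H i).subgroupOf (L i)) τ₁ ε := by
    intro i
    apply PartLocal.exists_localIso
    rw [← relSet_eq]
    exact hcoh i
  choose τ₁ ε hD using hloc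
  choose χ₀ hχ₀mem h₀ using hlin
  have hχ₀ : ∀ i, FrobRel ((H i).subgroupOf (L i)) (χ₀ i) := by
    intro i
    have := hχ₀mem i
    rw [relSet_eq] at this
    exact this
  set ψ : ι → G → ℂ := fun i => ε i • τ₁ i (χ₀ i) with hψdef
  have hψirr : ∀ i, IsIrrCharacter G (ψ i) := fun i => (hD i).irr _ (hχ₀ i)
  have hψexc : ∀ i, PartLocal.Exc (K := (H i).subgroupOf (L i)) (τ₁ i) (ε i) (ψ i) :=
    fun i => ⟨χ₀ i, hχ₀ i, rfl⟩
  have hnotexc : ∀ i k, i ≠ k →
      ¬ PartLocal.Exc (K := (H k).subgroupOf (L k)) (τ₁ k) (ε k) (ψ i) := by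
    intro i k hik hexc
    refine PartLocal.exc_disjoint (hD i) (hD k) (hC i) (hC k) ?_ (hψexc i) hexc
    intro k₁ hk₁ hk₁1 y k' hk' heq
    have h1 : (k₁ : G) = 1 := by
      apply not_conj_of_coprime H hcop i k hik (k₁ : G) (Subgroup.mem_subgroupOf.mp hk₁) y
      rw [← heq]
      exact Subgroup.mem_subgroupOf.mp hk'
    exact hk₁1 (Subtype.ext h1)
  -- signs as integers
  have hεz : ∀ i, ∃ z : ℤ, (z = 1 ∨ z = -1) ∧ ε i = z := by
    intro i
    rcases (hD i).eps with h | h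
    · exact ⟨1, Or.inl rfl, by rw [h]; simp⟩
    · exact ⟨-1, Or.inr rfl, by rw [h]; simp⟩
  choose εz hεz1 hεz2 using hεz
  -- values on the own section
  have hA : ∀ i, ∃ a : ℤ, ∀ k ∈ (H i).subgroupOf (L i), k ≠ 1 →
      ψ i (k : G) = ε i * χ₀ i k + a := fun i => (hD i).exc_values (hC i) (hχ₀ i) (h₀ i)
  choose a ha using hA
  -- values on the other sections
  have hB : ∀ i k, ∃ b : ℤ, i ≠ k → ∀ l ∈ (H k).subgroupOf (L k), l ≠ 1 → ψ i (l : G) = b := by
    intro i k
    by_cases hik : i = k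
    · exact ⟨0, fun h => absurd hik h⟩
    · obtain ⟨b, hb⟩ := (hD k).const_of_not_exc (hC k) (hχ₀ k) (h₀ k) (hψirr i)
        (hnotexc i k hik)
      exact ⟨b, fun _ => hb⟩
  choose b hb using hB
  -- uniform description of the values
  set Pz : ι → ι → ℤ := fun i j => if i = j then εz i else 0 with hPz
  set Cz : ι → ι → ℤ := fun i j => if i = j then a i else b i j with hCz
  have hval : ∀ i j, ∀ l : L j, (l : G) ∈ H j → l ≠ 1 →
      ψ i l = ((Pz i j : ℤ) : ℂ) * χ₀ j l + ((Cz i j : ℤ) : ℂ) := by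
    intro i j l hl hl1
    by_cases hij : i = j
    · subst hij
      simp only [hPz, hCz, if_pos rfl]
      rw [ha i l (Subgroup.mem_subgroupOf.mpr hl) hl1, hεz2 i]
    · simp only [hPz, hCz, if_neg hij]
      rw [hb i j hij l (Subgroup.mem_subgroupOf.mpr hl) hl1]
      simp
  -- degrees
  have hdeg : ∀ i, ∃ n : ℕ, 0 < n ∧ ψ i 1 = n := fun i => Helper05.exists_pos_degree (hψirr i)
  choose xN hxpos hx using hdeg
  -- the principal character
  have h1irr : IsIrrCharacter G (fun _ : G => (1 : ℂ)) := Helper83.isIrrCharacter_one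
  have hψ1 : ∀ i, ψ i ≠ (fun _ : G => (1 : ℂ)) := by
    intro i h
    have := (hD i).one_not_exc
    rw [← h] at this
    exact this (hψexc i)
  have hψne : ∀ i k, i ≠ k → ψ i ≠ ψ k := by
    intro i k hik h
    apply hnotexc i k hik
    rw [h]
    exact hψexc k
  have hcf : ∀ i, IsClassFunction G (ψ i) :=
    fun i => Helper83.char_isClassFunction (Helper83.isCharacter_of_irr (hψirr i))
  have h1cf : IsClassFunction G (fun _ : G => (1 : ℂ)) := fun _ _ => rfl
  have h1val : ∀ j, ∀ l : L j, (l : G) ∈ H j → l ≠ 1 →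
      (fun _ : G => (1 : ℂ)) l = ((0 : ℤ) : ℂ) * χ₀ j l + ((1 : ℤ) : ℂ) := by
    intro j l _ _
    simp
  -- numerical data
  have hnum : ∀ j, ∃ t : ℕ, 2 ≤ t ∧ Even t ∧
      Nat.card (H j) = t * ((H j).subgroupOf (L j)).index + 1 :=
    fun j => exists_t (L j) (H j) hodd (hHL j) (hH1 j) (hC j)
  choose tN ht2 hteven hcardH using hnum
  set eN : ι → ℕ := fun j => ((H j).subgroupOf (L j)).index with heN
  have he2 : ∀ j, 2 ≤ eN j := fun j => index_ge_two (L j) (H j) (hHL j)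
  have hcardL : ∀ j, Nat.card (L j) = eN j * (tN j * eN j + 1) := by
    intro j
    rw [card_L (L j) (H j) (hle j), hcardH j]
  -- the general inner product formula with integer data
  have hform : ∀ (F F' : G → ℂ) (_ : IsClassFunction G F) (_ : IsClassFunction G F')
      (p c p' c' : ι → ℤ) (X X' : ℕ) (_ : F 1 = X) (_ : F' 1 = X')
      (_ : ∀ j, ∀ l : L j, (l : G) ∈ H j → l ≠ 1 →
        F l = ((p j : ℤ) : ℂ) * χ₀ j l + ((c j : ℤ) : ℂ))
      (_ : ∀ j, ∀ l : L j, (l : G) ∈ H j → l ≠ 1 →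
        F' l = ((p' j : ℤ) : ℂ) * χ₀ j l + ((c' j : ℤ) : ℂ)),
      classInner F F' = (((X : ℚ) * X' / (Nat.card G : ℚ)
        + ∑ j, ((eN j : ℚ) * (tN j * eN j + 1))⁻¹ *
          ((p j : ℚ) * p' j * ((eN j : ℚ) * (tN j * eN j + 1) - (eN j : ℚ) ^ 2)
            - ((p j : ℚ) * c' j + c j * p' j) * eN j
            + (c j : ℚ) * c' j * ((tN j : ℚ) * eN j)) : ℚ) : ℂ) := by
    intro F F' hF hF' p c p' c' X X' hX hX' hFv hF'v
    rw [inner_formula L H hle hTI hdisj hcover hC χ₀ hχ₀ h₀ F F' hF hF'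
      (fun j => ((p j : ℤ) : ℂ)) (fun j => ((c j : ℤ) : ℂ)) (fun j => ((p' j : ℤ) : ℂ))
      (fun j => ((c' j : ℤ) : ℂ)) hFv hF'v, hX, hX']
    push_cast
    congr 1
    · rw [Complex.conj_natCast]; ring
    · apply Finset.sum_congr rfl
      intro j _
      rw [hcardL j, hcardH j]
      simp only [map_intCast]
      push_cast
      ring
  -- positivity facts
  have htq : ∀ j, (0 : ℚ) < tN j := fun j => by
    have := ht2 j
    exact_mod_cast (by omega : 0 < tN j)
  have heq : ∀ j, (0 : ℚ) < eN j := fun j => by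
    have := he2 j
    exact_mod_cast (by omega : 0 < eN j)
  have hhq : ∀ j, (0 : ℚ) < (tN j : ℚ) * eN j + 1 := fun j => by
    have := htq j; have := heq j; positivity
  have hgq : (0 : ℚ) < (Nat.card G : ℚ) := by exact_mod_cast Nat.card_pos
  have hεsq : ∀ i, (εz i : ℚ) * εz i = 1 := by
    intro i
    rcases hεz1 i with h | h <;> rw [h] <;> norm_num
  -- integer data for the arithmetic lemma
  set t : ι → ℤ := fun j => (tN j : ℤ) with htdef
  set e : ι → ℤ := fun j => (eN j : ℤ) with hedef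
  set h : ι → ℤ := fun j => (tN j : ℤ) * (eN j : ℤ) + 1 with hhdef
  set x : ι → ℤ := fun j => (xN j : ℤ) with hxdef
  set g : ℤ := (Nat.card G : ℤ) with hgdef
  set W : ι → ι → ℤ := fun i k =>
    if i = k then t k * a k - εz k else t i * b i k with hWdef
  have htc : ∀ j, ((t j : ℤ) : ℚ) = (tN j : ℚ) := fun j => by simp [htdef]
  have hhc : ∀ j, ((h j : ℤ) : ℚ) = (tN j : ℚ) * eN j + 1 := fun j => by simp [hhdef]
  have hxc : ∀ j, ((x j : ℤ) : ℚ) = (xN j : ℚ) := fun j => by simp [hxdef]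
  have hgc : ((g : ℤ) : ℚ) = (Nat.card G : ℚ) := by simp [hgdef]
  -- the four families of relations, in `ℚ`
  have I0 : (1 : ℚ) = 1 / (Nat.card G : ℚ) + ∑ j, (tN j : ℚ) / ((tN j : ℚ) * eN j + 1) := by
    have h := hform _ _ h1cf h1cf (fun _ => 0) (fun _ => 1) (fun _ => 0) (fun _ => 1) 1 1
      (by simp) (by simp) h1val h1val
    rw [Helper05.classInner_irr_self h1irr] at h
    have h' : (1 : ℚ) = ((1 : ℕ) : ℚ) * ((1 : ℕ) : ℚ) / (Nat.card G : ℚ)
        + ∑ j, ((eN j : ℚ) * (tN j * eN j + 1))⁻¹ *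
          (((0 : ℤ) : ℚ) * ((0 : ℤ) : ℚ) * ((eN j : ℚ) * (tN j * eN j + 1) - (eN j : ℚ) ^ 2)
            - (((0 : ℤ) : ℚ) * ((1 : ℤ) : ℚ) + ((1 : ℤ) : ℚ) * ((0 : ℤ) : ℚ)) * eN j
            + ((1 : ℤ) : ℚ) * ((1 : ℤ) : ℚ) * ((tN j : ℚ) * eN j)) := by
      exact_mod_cast h
    have e0 : ∀ j ∈ Finset.univ, ((eN j : ℚ) * (tN j * eN j + 1))⁻¹ *
          (((0 : ℤ) : ℚ) * ((0 : ℤ) : ℚ) * ((eN j : ℚ) * (tN j * eN j + 1) - (eN j : ℚ) ^ 2)
            - (((0 : ℤ) : ℚ) * ((1 : ℤ) : ℚ) + ((1 : ℤ) : ℚ) * ((0 : ℤ) : ℚ)) * eN j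
            + ((1 : ℤ) : ℚ) * ((1 : ℤ) : ℚ) * ((tN j : ℚ) * eN j))
        = (tN j : ℚ) / ((tN j : ℚ) * eN j + 1) := by
      intro j _
      have := (heq j).ne'
      have := (hhq j).ne'
      push_cast
      field_simp
      ring
    rw [Finset.sum_congr rfl e0] at h'
    push_cast at h'
    linarith
  have R0 : (1 : ℚ) / g + ∑ j, (t j : ℚ) / h j = 1 := by
    simp only [htc, hhc, hgc]
    linarith
  have R1 : ∀ i, ((t i : ℚ) * x i) / g + ∑ j, (t j : ℚ) / h j * W i j = 0 := by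
    intro i
    have hh := hform _ _ (hcf i) h1cf (Pz i) (Cz i) (fun _ => 0) (fun _ => 1) (xN i) 1 (hx i)
      (by simp) (hval i) h1val
    have hin : classInner (ψ i) (fun _ : G => (1 : ℂ)) = 0 :=
      Helper05.classInner_irr_ne (hψirr i) h1irr (hψ1 i)
    rw [hin] at hh
    have h' : (0 : ℚ) = (xN i : ℚ) * ((1 : ℕ) : ℚ) / (Nat.card G : ℚ)
        + ∑ j, ((eN j : ℚ) * (tN j * eN j + 1))⁻¹ *
          ((Pz i j : ℚ) * ((0 : ℤ) : ℚ) * ((eN j : ℚ) * (tN j * eN j + 1) - (eN j : ℚ) ^ 2)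
            - ((Pz i j : ℚ) * ((1 : ℤ) : ℚ) + (Cz i j : ℚ) * ((0 : ℤ) : ℚ)) * eN j
            + (Cz i j : ℚ) * ((1 : ℤ) : ℚ) * ((tN j : ℚ) * eN j)) := by
      exact_mod_cast hh
    have e0 : ∀ j ∈ Finset.univ, (t j : ℚ) / h j * W i j = (tN i : ℚ) *
        (((eN j : ℚ) * (tN j * eN j + 1))⁻¹ *
          ((Pz i j : ℚ) * ((0 : ℤ) : ℚ) * ((eN j : ℚ) * (tN j * eN j + 1) - (eN j : ℚ) ^ 2)
            - ((Pz i j : ℚ) * ((1 : ℤ) : ℚ) + (Cz i j : ℚ) * ((0 : ℤ) : ℚ)) * eN j
            + (Cz i j : ℚ) * ((1 : ℤ) : ℚ) * ((tN j : ℚ) * eN j))) := by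
      intro j _
      have := (heq j).ne'
      have := (hhq j).ne'
      rw [htc, hhc, hWdef]
      by_cases hij : i = j
      · subst hij
        simp only [hPz, hCz, if_pos rfl]
        push_cast
        rw [htc]
        field_simp
        ring
      · simp only [hPz, hCz, if_neg hij]
        push_cast
        rw [htc]
        field_simp
        ring
    rw [Finset.sum_congr rfl e0, ← Finset.mul_sum, htc, hxc, hgc]
    linear_combination (-(tN i : ℚ)) * h'
  have R2 : ∀ i k, i ≠ k → ((t i : ℚ) * x i) * (t k * x k) / g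
      + ∑ j, (t j : ℚ) / h j * (W i j * W k j) = 0 := by
    intro i k hik
    have hh := hform _ _ (hcf i) (hcf k) (Pz i) (Cz i) (Pz k) (Cz k) (xN i) (xN k) (hx i) (hx k)
      (hval i) (hval k)
    have hin : classInner (ψ i) (ψ k) = 0 :=
      Helper05.classInner_irr_ne (hψirr i) (hψirr k) (hψne i k hik)
    rw [hin] at hh
    have h' : (0 : ℚ) = (xN i : ℚ) * (xN k : ℚ) / (Nat.card G : ℚ)
        + ∑ j, ((eN j : ℚ) * (tN j * eN j + 1))⁻¹ *
          ((Pz i j : ℚ) * (Pz k j : ℚ) * ((eN j : ℚ) * (tN j * eN j + 1) - (eN j : ℚ) ^ 2)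
            - ((Pz i j : ℚ) * (Cz k j : ℚ) + (Cz i j : ℚ) * (Pz k j : ℚ)) * eN j
            + (Cz i j : ℚ) * (Cz k j : ℚ) * ((tN j : ℚ) * eN j)) := by
      exact_mod_cast hh
    have e0 : ∀ j ∈ Finset.univ, (t j : ℚ) / h j * (W i j * W k j) = ((tN i : ℚ) * tN k) *
        (((eN j : ℚ) * (tN j * eN j + 1))⁻¹ *
          ((Pz i j : ℚ) * (Pz k j : ℚ) * ((eN j : ℚ) * (tN j * eN j + 1) - (eN j : ℚ) ^ 2)
            - ((Pz i j : ℚ) * (Cz k j : ℚ) + (Cz i j : ℚ) * (Pz k j : ℚ)) * eN j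
            + (Cz i j : ℚ) * (Cz k j : ℚ) * ((tN j : ℚ) * eN j))) := by
      intro j _
      have := (heq j).ne'
      have := (hhq j).ne'
      rw [htc, hhc, hWdef]
      by_cases hij : i = j
      · subst hij
        have hki : k ≠ i := fun h => hik h.symm
        simp only [hPz, hCz, if_pos rfl, if_neg hki]
        push_cast
        rw [htc, htc]
        field_simp
        ring
      · by_cases hkj : k = j
        · subst hkj
          simp only [hPz, hCz, if_pos rfl, if_neg hij]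
          push_cast
          rw [htc, htc]
          field_simp
          ring
        · simp only [hPz, hCz, if_neg hij, if_neg hkj]
          push_cast
          rw [htc, htc]
          field_simp
          ring
    rw [Finset.sum_congr rfl e0, ← Finset.mul_sum, htc, htc, hxc, hxc, hgc]
    linear_combination (-((tN i : ℚ) * tN k)) * h'
  have R3 : ∀ i, ((t i : ℚ) * x i) ^ 2 / g + ∑ j, (t j : ℚ) / h j * (W i j : ℚ) ^ 2 = t i := by
    intro i
    have hh := hform _ _ (hcf i) (hcf i) (Pz i) (Cz i) (Pz i) (Cz i) (xN i) (xN i) (hx i) (hx i)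
      (hval i) (hval i)
    rw [Helper05.classInner_irr_self (hψirr i)] at hh
    have h' : (1 : ℚ) = (xN i : ℚ) * (xN i : ℚ) / (Nat.card G : ℚ)
        + ∑ j, ((eN j : ℚ) * (tN j * eN j + 1))⁻¹ *
          ((Pz i j : ℚ) * (Pz i j : ℚ) * ((eN j : ℚ) * (tN j * eN j + 1) - (eN j : ℚ) ^ 2)
            - ((Pz i j : ℚ) * (Cz i j : ℚ) + (Cz i j : ℚ) * (Pz i j : ℚ)) * eN j
            + (Cz i j : ℚ) * (Cz i j : ℚ) * ((tN j : ℚ) * eN j)) := by
      exact_mod_cast hh
    have e0 : ∀ j ∈ Finset.univ, (t j : ℚ) / h j * (W i j : ℚ) ^ 2 = ((tN i : ℚ) ^ 2) *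
        (((eN j : ℚ) * (tN j * eN j + 1))⁻¹ *
          ((Pz i j : ℚ) * (Pz i j : ℚ) * ((eN j : ℚ) * (tN j * eN j + 1) - (eN j : ℚ) ^ 2)
            - ((Pz i j : ℚ) * (Cz i j : ℚ) + (Cz i j : ℚ) * (Pz i j : ℚ)) * eN j
            + (Cz i j : ℚ) * (Cz i j : ℚ) * ((tN j : ℚ) * eN j)))
        - (if j = i then (tN i : ℚ) ^ 2 * (1 - (eN i : ℚ) / ((tN i : ℚ) * eN i + 1))
            - (tN i : ℚ) / ((tN i : ℚ) * eN i + 1) else 0) := by
      intro j _
      have := (heq j).ne'
      have := (hhq j).ne'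
      rw [htc, hhc, hWdef]
      by_cases hij : i = j
      · subst hij
        simp only [hPz, hCz, if_pos rfl]
        push_cast
        rw [htc]
        rcases hεz1 i with hε | hε
        · rw [hε]
          push_cast
          field_simp
          ring
        · rw [hε]
          push_cast
          field_simp
          ring
      · have hji : j ≠ i := fun h => hij h.symm
        simp only [hPz, hCz, if_neg hij, if_neg hji]
        push_cast
        rw [htc]
        field_simp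
        ring
    rw [Finset.sum_congr rfl e0, Finset.sum_sub_distrib, ← Finset.mul_sum,
      Finset.sum_ite_eq' Finset.univ i, if_pos (Finset.mem_univ i), htc, hxc, hgc]
    have := (heq i).ne'
    have := (hhq i).ne'
    have hkey : (tN i : ℚ) ^ 2 * ((eN i : ℚ) / ((tN i : ℚ) * eN i + 1))
        + (tN i : ℚ) / ((tN i : ℚ) * eN i + 1) = tN i := by
      field_simp
    linear_combination (-((tN i : ℚ) ^ 2)) * h' + hkey
  -- apply the arithmetic lemma
  have ht2' : ∀ i, 2 ≤ t i := fun i => by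
    have := ht2 i
    simp only [htdef]
    exact_mod_cast this
  have hteven' : ∀ i, Even (t i) := fun i => by
    simp only [htdef]
    exact (Int.even_coe_nat _).mpr (hteven i)
  have he2' : ∀ i, 2 ≤ e i := fun i => by
    have := he2 i
    simp only [hedef]
    exact_mod_cast this
  have hh' : ∀ i, h i = t i * e i + 1 := fun i => rfl
  have hinj : Function.Injective h := by
    intro i k hik
    by_contra hne
    have h1 : Nat.card (H i) = Nat.card (H k) := by
      rw [hcardH i, hcardH k]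
      have : ((tN i * eN i + 1 : ℕ) : ℤ) = ((tN k * eN k + 1 : ℕ) : ℤ) := by
        push_cast
        exact hik
      exact_mod_cast this
    have h2 := hcop i k hne
    rw [h1, Nat.coprime_self] at h2
    have := card_H_ge_two (H k) (hH1 k)
    omega
  have hg' : 0 < g := by
    simp only [hgdef]
    exact_mod_cast Nat.card_pos
  have hx' : ∀ i, x i ≠ 0 := fun i => by
    simp only [hxdef]
    exact_mod_cast (hxpos i).ne'
  exact PartArith.part_arith t e h x a εz b g W ht2' hteven' he2' hh' hinj hεz1 hg' hx'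
    (fun i k => rfl) R0 R1 R2 R3


end Family

end Cfsg.Agent.Lib.Helper33.PartMain
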