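import Mathlib
import Cfsg.Agent.Lib.Helper33.PartMain
import Cfsg.Agent.Lib.Helper33.IrrComp
import Cfsg.Agent.Lib.Helper65.FrobCrit
import Cfsg.Agent.Lib.Helper83.CharMisc
import Cfsg.Agent.Lib.Helper83.Abelian
import Cfsg.Agent.S0042

/-!
# Supplying the hypotheses of `PartMain.no_partition` (helper33)
-/

set_option autoImplicit false
set_option linter.unusedSectionVars false
set_option linter.style.haveILetI false

namespace Cfsg.Agent.Lib.Helper33.PartApply

open Cfsg
open scoped ComplexConjugate
open Cfsg.Agent.Lib.Helper34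

/-- a nontrivial finite solvable group has a non-principal linear character -/
theorem exists_linear_nontrivial {K : Type*} [Group K] [Finite K] [Nontrivial K]
    [hs : Group.IsSolvable K] :
    ∃ φ : K → ℂ, IsIrrCharacter K φ ∧ φ ≠ (fun _ => 1) ∧ φ 1 = 1 := by
  have hlt : commutator K < ⊤ := Group.IsSolvable.commutator_lt_top_of_nontrivial K
  have hnt : Nontrivial (Abelianization K) := QuotientGroup.nontrivial_iff.mpr hlt.ne
  obtain ⟨z, hz⟩ := exists_ne (1 : Abelianization K)
  obtain ⟨ψ, hψ⟩ := Helper83.exists_irr_ne_of_ne_one hz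
  have hdeg : (ψ : Abelianization K → ℂ) 1 = 1 :=
    Helper83.irr_degree_one_of_comm (fun a b => mul_comm a b) ψ
  have hsurj : Function.Surjective (Abelianization.of : K →* Abelianization K) := by
    intro w
    induction w using QuotientGroup.induction_on with
    | H k => exact ⟨k, rfl⟩
  obtain ⟨k, rfl⟩ := hsurj z
  refine ⟨fun x => (ψ : Abelianization K → ℂ) (Abelianization.of x), ?_, ?_, ?_⟩
  · exact Cfsg.Agent.Lib.Helper33.isIrrCharacter_comp_of_surjective Abelianization.of hsurj ψ.2
  · intro h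
    apply hψ
    have := congrFun h k
    rw [hdeg]
    exact this
  · simp only [map_one]
    exact hdeg

/-- a relevant character of degree `[L : H]` -/
theorem exists_rel_degree {G : Type*} [Group G] [Fintype G] (L H : Subgroup G) [Fintype L]
    [hK : (H.subgroupOf L).Normal]
    (hC : ∀ k ∈ H.subgroupOf L, k ≠ 1 →
      Subgroup.centralizer ({k} : Set L) ≤ H.subgroupOf L)
    (hH1 : H.subgroupOf L ≠ ⊥) [Group.IsSolvable (H.subgroupOf L)] :
    ∃ χ : L → ℂ, χ ∈ PartMain.relSet L H ∧ χ 1 = ((H.subgroupOf L).index : ℂ) := by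
  haveI : Nontrivial (H.subgroupOf L) := (Subgroup.nontrivial_iff_ne_bot _).mpr hH1
  obtain ⟨φ, hφ, hne, h1⟩ := exists_linear_nontrivial (K := H.subgroupOf L)
  refine ⟨indFun (H.subgroupOf L) φ, ?_, ?_⟩
  · rw [PartMain.relSet_eq]
    exact ind_frobRel _ hC hφ hne
  · rw [Helper83.indFun_one_eq, h1, mul_one]

/-- a Frobenius kernel is nilpotent (Thompson, via `S0042`) -/
theorem nilpotent_kernel {X : Type*} [Group X] [Finite X] (N : Subgroup X) [N.Normal]
    (hbot : N ≠ ⊥) (htop : N ≠ ⊤)
    (hC : ∀ k ∈ N, k ≠ 1 → Subgroup.centralizer ({k} : Set X) ≤ N) : Group.IsNilpotent N := by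
  have hdvd := PartFrob.index_dvd_card_sub_one N hC
  have hcop : Nat.Coprime (Nat.card N) N.index := by
    have hpos : 0 < Nat.card N := Nat.card_pos
    obtain ⟨m, hm⟩ := hdvd
    have h1 : Nat.card N = N.index * m + 1 := by omega
    rw [h1]
    simp
  obtain ⟨T, hT, hker⟩ := Cfsg.Agent.Lib.Helper65.frobenius_of_normal_fpf N hbot htop hcop
    (fun n hn hn1 x hx => hC n hn hn1 (by
      rw [Subgroup.mem_centralizer_iff]
      intro y hy
      rw [Set.mem_singleton_iff] at hy
      subst hy
      exact hx))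
  obtain ⟨N', hN'eq, -, hnil⟩ := Cfsg.Agent.S0042.result T hT
  have : N' = N := SetLike.coe_injective (hN'eq.trans hker)
  rw [this] at hnil
  exact hnil

end Cfsg.Agent.Lib.Helper33.PartApply
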