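import Mathlib
import Cfsg.Agent.Lib.Helper33.PartApply
import Cfsg.Agent.S1534

/-!
# `no_partition_frobenius`: the statement of `S1526` with `[Nonempty ι]` (helper33)
-/

set_option autoImplicit false
set_option linter.unusedSectionVars false
set_option linter.style.haveILetI false

namespace Cfsg.Agent.Lib.Helper33.PartFinal

open Cfsg
open Cfsg.Agent.Lib.Helper33

/-- coherence in the normaliser of a nilpotent TI kernel in a group of odd order (from `S1534`) -/
theorem coherent_aux {G : Type*} [Group G] [Fintype G] (hodd : Odd (Nat.card G))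
    (H L : Subgroup G) [Fintype L]
    (hL : Subgroup.normalizer (H : Set G) = L) (hH1 : H ≠ ⊥) (hnil : Group.IsNilpotent H)
    (hTI : Cfsg.IsTISubset (H : Set G)) (hlt : H < L)
    (hC : ∀ k ∈ H, k ≠ 1 → Subgroup.centralizer ({k} : Set G) ≤ H) :
    Cfsg.IsCoherent (PartMain.relSet L H) ({1}ᶜ : Set L)
      (Cfsg.indFun L : (L → ℂ) → (G → ℂ)) := by
  subst hL
  have hHodd : Odd (Nat.card H) :=
    Odd.of_dvd_nat hodd (Subgroup.card_subgroup_dvd_card H)
  rcases Cfsg.Agent.S1534.result H hH1 hnil hTI hlt hC with h | h | h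
  · exfalso
    obtain ⟨-, hcard, -⟩ := h
    have hNodd : Odd (Nat.card (Subgroup.normalizer (H : Set G))) :=
      Odd.of_dvd_nat hodd (Subgroup.card_subgroup_dvd_card _)
    have hiodd : Odd (H.subgroupOf (Subgroup.normalizer (H : Set G))).index :=
      Odd.of_dvd_nat hNodd (Subgroup.index_dvd_card _)
    rw [hcard] at hHodd
    exact (Nat.not_even_iff_odd.mpr hHodd) (Odd.add_one hiodd)
  · exfalso
    obtain ⟨hcard, -⟩ := h
    have h0 : (Nat.card G).factorization 2 = 0 :=
      Nat.factorization_eq_zero_of_not_dvd hodd.not_two_dvd_nat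
    rw [h0, pow_zero] at hcard
    exact hH1 (Subgroup.card_eq_one.mp hcard)
  · exact h

/-- no group of odd order is partitioned by conjugates of TI Frobenius kernels of coprime orders -/
theorem no_partition_frobenius {G : Type*} [Group G] [Finite G] (hodd : Odd (Nat.card G))
    {ι : Type*} [Fintype ι] [Nonempty ι] (L H : ι → Subgroup G) (hHL : ∀ i, H i < L i)
    (hH1 : ∀ i, H i ≠ ⊥) (hHn : ∀ i, ∀ x ∈ L i, ∀ h ∈ H i, x * h * x⁻¹ ∈ H i)
    (hfrob : ∀ i, ∀ h ∈ H i, h ≠ 1 → L i ⊓ Subgroup.centralizer ({h} : Set G) ≤ H i)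
    (hcop : ∀ i j, i ≠ j → Nat.Coprime (Nat.card (H i)) (Nat.card (H j)))
    (hTI : ∀ i, Cfsg.IsTISubset (H i : Set G) ∧ Subgroup.normalizer (H i : Set G) = L i)
    (hcover : ∀ g : G, g ≠ 1 → ∃ i, ∃ x : G, x * g * x⁻¹ ∈ H i) : False := by
  classical
  letI : Fintype G := Fintype.ofFinite G
  letI : ∀ i, Fintype (L i) := fun i => Fintype.ofFinite _
  have hKn := PartMain.normal_subgroupOf L H hHn
  have hCl := PartMain.hC_subgroupOf L H hfrob
  have hKbot : ∀ i, (H i).subgroupOf (L i) ≠ ⊥ := by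
    intro i h
    rw [Subgroup.subgroupOf_eq_bot] at h
    exact hH1 i (h.eq_bot_of_le (hHL i).le)
  have hKtop : ∀ i, (H i).subgroupOf (L i) ≠ ⊤ := by
    intro i h
    rw [Subgroup.subgroupOf_eq_top] at h
    exact not_le_of_gt (hHL i) h
  have hnilK : ∀ i, Group.IsNilpotent ((H i).subgroupOf (L i)) := by
    intro i
    haveI := hKn i
    exact PartApply.nilpotent_kernel _ (hKbot i) (hKtop i) (hCl i)
  have hnil : ∀ i, Group.IsNilpotent (H i) := by
    intro i
    haveI := hnilK i
    exact Group.nilpotent_of_mulEquiv (Subgroup.subgroupOfEquivOfLe (hHL i).le)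
  have hCG : ∀ i, ∀ k ∈ H i, k ≠ 1 → Subgroup.centralizer ({k} : Set G) ≤ H i := by
    intro i k hk hk1 x hx
    have hcomm : k * x = x * k := (Subgroup.mem_centralizer_iff.mp hx) k (Set.mem_singleton k)
    have hxL : x ∈ L i := by
      rw [← (hTI i).2]
      by_contra hnot
      have hconj : x * k * x⁻¹ = k := by
        rw [← hcomm]; group
      exact hk1 ((hTI i).1 x hnot k hk (by rw [hconj]; exact hk))
    exact hfrob i k hk hk1 (Subgroup.mem_inf.mpr ⟨hxL, hx⟩)
  refine PartMain.no_partition L H hodd hHL hH1 hHn hfrob hcop hTI hcover ?_ ?_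
  · intro i
    exact coherent_aux hodd (H i) (L i) (hTI i).2 (hH1 i) (hnil i) (hTI i).1 (hHL i) (hCG i)
  · intro i
    haveI := hKn i
    haveI := hnilK i
    haveI : Group.IsSolvable ((H i).subgroupOf (L i)) := inferInstance
    exact PartApply.exists_rel_degree (L i) (H i) (hCl i) (hKbot i)

end Cfsg.Agent.Lib.Helper33.PartFinal
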