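import Mathlib
import Cfsg.Agent.Lib.Helper33.CAOdd
import Cfsg.Agent.Lib.Helper33.PartFinal

/-!
# Suzuki's CA-theorem for groups of odd order (helper33)
-/

set_option autoImplicit false
set_option linter.unusedSectionVars false
set_option linter.style.haveILetI false

namespace Cfsg.Agent.Lib.Helper33.CAOddMain

open Cfsg
open Cfsg.Agent.Lib.Helper33
open Cfsg.Agent.Lib.Helper33.CAOdd

universe u

variable {G : Type u} [Group G]

/-- subgroups of CA-groups are CA-groups -/
theorem isCA_subgroup (hCA : IsCA G) (K : Subgroup G) : IsCA K := by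
  intro x hx a ha b hb
  have hx' : (x : G) ≠ 1 := fun h => hx (Subtype.ext h)
  have ha' : (a : G) ∈ Cz (x : G) := by
    rw [mem_Cz]
    exact congrArg Subtype.val (mem_Cz.mp ha)
  have hb' : (b : G) ∈ Cz (x : G) := by
    rw [mem_Cz]
    exact congrArg Subtype.val (mem_Cz.mp hb)
  exact Subtype.ext (hCA (x : G) hx' (a : G) ha' (b : G) hb')

theorem Cz_conj_congr {u v : G} (k : G) (h : Cz u = Cz v) :
    Cz (k * u * k⁻¹) = Cz (k * v * k⁻¹) := by
  ext a
  have ha : a = k * (k⁻¹ * a * k) * k⁻¹ := by group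
  rw [ha, conj_mem_Cz, conj_mem_Cz, h]

/-- the conjugacy class of the centraliser of `x` -/
def orb (x : G) : Set (Subgroup G) := {B | ∃ g : G, B = Cz (g * x * g⁻¹)}

theorem orb_eq {x y : G} {g : G} (h : Cz (g * x * g⁻¹) = Cz y) : orb x = orb y := by
  ext B
  constructor
  · rintro ⟨k, rfl⟩
    refine ⟨k * g⁻¹, ?_⟩
    have := Cz_conj_congr (k * g⁻¹) h
    have e : k * g⁻¹ * (g * x * g⁻¹) * (k * g⁻¹)⁻¹ = k * x * k⁻¹ := by group
    rw [e] at this
    exact this
  · rintro ⟨k, rfl⟩
    refine ⟨k * g, ?_⟩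
    have := Cz_conj_congr k h
    have e : k * (g * x * g⁻¹) * k⁻¹ = k * g * x * (k * g)⁻¹ := by group
    rw [e] at this
    exact this.symm

/-- the case of a self-normalising centraliser: Burnside transfer -/
theorem solvable_of_self_normalizing [Finite G] (hCA : IsCA G)
    (IH : ∀ K : Subgroup G, Nat.card K < Nat.card G → Group.IsSolvable K)
    {x : G} (hx : x ≠ 1) (hN : Subgroup.normalizer ((Cz x : Subgroup G) : Set G) = Cz x) :
    Group.IsSolvable G := by
  have hA1 : Nat.card (Cz x) ≠ 1 := by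
    intro h
    have := Subgroup.card_eq_one.mp h
    have hx' : x ∈ (⊥ : Subgroup G) := this ▸ self_mem_Cz x
    exact hx (Subgroup.mem_bot.mp hx')
  obtain ⟨p, hp, hpx⟩ := Nat.exists_prime_and_dvd hA1
  haveI := Fact.mk hp
  obtain ⟨a, hap⟩ := exists_prime_orderOf_dvd_card' p hpx
  rw [← Subgroup.orderOf_coe] at hap
  obtain ⟨P, haP, hPx⟩ := exists_sylow_le hCA hx p a.2 hap
  have ha1 : (a : G) ≠ 1 := by
    intro h
    rw [h, orderOf_one] at hap
    exact hp.one_lt.ne hap
  have hP : Subgroup.normalizer ((P : Subgroup G) : Set G) ≤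
      Subgroup.centralizer ((P : Subgroup G) : Set G) := by
    intro n hn
    have hnA : n ∈ Cz x := by
      rw [← hN]
      by_contra hnot
      have h1 : n * (a : G) * n⁻¹ ∈ (P : Subgroup G) :=
        (Subgroup.mem_set_normalizer_iff.mp hn (a : G)).mp haP
      exact ha1 (Cz_TI hCA hx n hnot (a : G) a.2 (hPx h1))
    rw [Subgroup.mem_centralizer_iff]
    intro y hy
    exact hCA x hx y (hPx hy) n hnA
  have hcompl := MonoidHom.ker_transferSylow_isComplement' P hP
  set K : Subgroup G := (MonoidHom.transferSylow P hP).ker with hK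
  have hcard : Nat.card K * Nat.card (P : Subgroup G) = Nat.card G := hcompl.card_mul_card
  have hP1 : 1 < Nat.card (P : Subgroup G) := by
    rw [Subgroup.one_lt_card_iff_ne_bot]
    intro h
    have : (a : G) ∈ (⊥ : Subgroup G) := h ▸ haP
    exact ha1 (Subgroup.mem_bot.mp this)
  have hKlt : Nat.card K < Nat.card G := by
    have hK0 : 0 < Nat.card K := Nat.card_pos
    nlinarith
  haveI : Group.IsSolvable K := IH K hKlt
  haveI : Group.IsNilpotent (P : Subgroup G) := P.2.isNilpotent
  haveI : Group.IsSolvable (P : Subgroup G) := inferInstance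
  refine Group.isSolvable_of_ker_le_range K.subtype (MonoidHom.transferSylow P hP) ?_
  rw [Subgroup.range_subtype]

/-- the other case: every centraliser is properly contained in its normaliser -/
theorem false_of_not_self_normalizing [Finite G] (hodd : Odd (Nat.card G)) (hCA : IsCA G)
    (hnt : ∃ x : G, x ≠ 1)
    (hN : ∀ x : G, x ≠ 1 → Subgroup.normalizer ((Cz x : Subgroup G) : Set G) ≠ Cz x) : False := by
  classical
  let ι := {s : Set (Subgroup G) // ∃ x : G, x ≠ 1 ∧ s = orb x}
  letI : Fintype ι := Fintype.ofFinite ι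
  let rep : ι → G := fun i => Classical.choose i.2
  have hrep1 : ∀ i : ι, rep i ≠ 1 := fun i => (Classical.choose_spec i.2).1
  have hrep : ∀ i : ι, i.1 = orb (rep i) := fun i => (Classical.choose_spec i.2).2
  let H : ι → Subgroup G := fun i => Cz (rep i)
  let L : ι → Subgroup G := fun i => Subgroup.normalizer ((H i : Subgroup G) : Set G)
  haveI : Nonempty ι := by
    obtain ⟨x, hx⟩ := hnt
    exact ⟨⟨orb x, x, hx, rfl⟩⟩
  refine PartFinal.no_partition_frobenius hodd L H ?_ ?_ ?_ ?_ ?_ ?_ ?_
  · intro i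
    exact lt_of_le_of_ne Subgroup.le_normalizer (fun h => hN (rep i) (hrep1 i) h.symm)
  · intro i h
    have : rep i ∈ (⊥ : Subgroup G) := h ▸ self_mem_Cz (rep i)
    exact hrep1 i (Subgroup.mem_bot.mp this)
  · intro i n hn h hh
    exact (Subgroup.mem_set_normalizer_iff.mp hn h).mp hh
  · intro i h hh h1
    have : Cz h = Cz (rep i) := Cz_eq hCA (hrep1 i) h1 hh
    intro y hy
    have hy2 : y ∈ Cz h := (Subgroup.mem_inf.mp hy).2
    rw [this] at hy2
    exact hy2
  · intro i j hij
    by_contra hnc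
    obtain ⟨p, hp, hpi, hpj⟩ := Nat.Prime.not_coprime_iff_dvd.mp hnc
    obtain ⟨g, hg⟩ := conj_of_common_prime hCA (hrep1 i) (hrep1 j) p hp hpi hpj
    have e1 := Cz_conj_eq hCA (hrep1 i) (hrep1 j) hg
    apply hij
    apply Subtype.ext
    rw [hrep i, hrep j]
    exact orb_eq e1
  · intro i
    exact ⟨Cz_TI hCA (hrep1 i), rfl⟩
  · intro g hg
    let i : ι := ⟨orb g, g, hg, rfl⟩
    have h1 : Cz g ∈ orb g := ⟨1, by simp⟩
    have h2 : Cz g ∈ orb (rep i) := by
      rw [← hrep i]
      exact h1
    obtain ⟨k, hk⟩ := h2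
    refine ⟨i, k⁻¹, ?_⟩
    have hgk : g ∈ Cz (k * rep i * k⁻¹) := hk ▸ self_mem_Cz g
    have hg' : g = k * (k⁻¹ * g * k⁻¹⁻¹) * k⁻¹ := by group
    rw [hg', conj_mem_Cz] at hgk
    exact hgk

/-- **Suzuki's CA-theorem** for groups of odd order -/
theorem solvable_of_CA_odd : ∀ (n : ℕ) (G : Type u) [Group G] [Finite G], Nat.card G = n →
    Odd (Nat.card G) → IsCA G → Group.IsSolvable G := by
  intro n
  induction n using Nat.strong_induction_on with
  | _ n ih =>
    intro G _ _ hn hodd hCA
    by_cases hab : ∀ a b : G, a * b = b * a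
    · exact Group.isSolvable_of_comm hab
    · have hnt : ∃ x : G, x ≠ 1 := by
        by_contra h
        push Not at h
        apply hab
        intro a b
        rw [h a, h b]
      have IH : ∀ K : Subgroup G, Nat.card K < Nat.card G → Group.IsSolvable K := by
        intro K hK
        exact ih (Nat.card K) (hn ▸ hK) K rfl
          (Odd.of_dvd_nat hodd (Subgroup.card_subgroup_dvd_card K)) (isCA_subgroup hCA K)
      by_cases hN : ∃ x : G, x ≠ 1 ∧ Subgroup.normalizer ((Cz x : Subgroup G) : Set G) = Cz x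
      · obtain ⟨x, hx, hNx⟩ := hN
        exact solvable_of_self_normalizing hCA IH hx hNx
      · push Not at hN
        exact (false_of_not_self_normalizing hodd hCA hnt hN).elim

end Cfsg.Agent.Lib.Helper33.CAOddMain
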