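import Cfsg.Agent.Lib.Helper33.CTITab

/-!
# The "three concurrent lines and a transversal" configuration is impossible (helper33)
-/

set_option autoImplicit false
set_option linter.unusedSectionVars false
set_option linter.unusedVariables false

namespace Cfsg.Agent.Lib.Helper33.CTI

variable {Θ : Type*} [Fintype Θ] [DecidableEq Θ]

set_option maxHeartbeats 1600000 in
/-- the configuration with centre `z`, spokes `(xp, yp)`, `(xq, yq)`, `(xr, yr)` in the columns
`p, q, r` and the transversal `{xp, xq, xr}` in the column `s` is impossible, when the lower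
vector of the column `s` picks the spoke `p`. -/
theorem alpha_kill2 {T U : Fin 4 → Θ → ℤ} (h : Tab T U) {p q r s : Fin 4}
    (hpq : p ≠ q) (hpr : p ≠ r) (hps : p ≠ s) (hqr : q ≠ r) (hqs : q ≠ s) (hrs : r ≠ s)
    {z xp yp xq yq xr yr : Θ} (hnd : [z, xp, yp, xq, yq, xr, yr].Nodup)
    (hTp : T p = tri 1 z 1 xp 1 yp) (hTq : T q = tri 1 z 1 xq 1 yq)
    (hTr : T r = tri 1 z 1 xr 1 yr) (hTs : T s = tri 1 xp 1 xq 1 xr)
    (hU1 : U s xp = 1) (hU2 : U s yp = -1) : False := by
  have hnd' := hnd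
  simp only [List.nodup_cons, List.mem_cons, List.not_mem_nil, or_false, not_or,
    List.nodup_nil, and_true, not_false_eq_true] at hnd'
  obtain ⟨⟨n01, n02, n03, n04, n05, n06⟩, ⟨n12, n13, n14, n15, n16⟩, ⟨n23, n24, n25, n26⟩,
    ⟨n34, n35, n36⟩, ⟨n45, n46⟩, n56⟩ := hnd'
  -- inner products with the explicit upper vectors
  have eTp : ∀ j, dot (T p) (U j) = U j z + U j xp + U j yp := fun j => by
    rw [hTp, tri_dot]; ring
  have eTq : ∀ j, dot (T q) (U j) = U j z + U j xq + U j yq := fun j => by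
    rw [hTq, tri_dot]; ring
  have eTr : ∀ j, dot (T r) (U j) = U j z + U j xr + U j yr := fun j => by
    rw [hTr, tri_dot]; ring
  have eTs : ∀ j, dot (T s) (U j) = U j xp + U j xq + U j xr := fun j => by
    rw [hTs, tri_dot]; ring
  -- column signs
  have cp : ∀ θ, 0 ≤ U p θ * T p θ := fun θ => by rw [mul_comm]; exact h.posTU p θ
  have cq : ∀ θ, 0 ≤ U q θ * T q θ := fun θ => by rw [mul_comm]; exact h.posTU q θ
  have cr : ∀ θ, 0 ≤ U r θ * T r θ := fun θ => by rw [mul_comm]; exact h.posTU r θ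
  have cs : ∀ θ, 0 ≤ U s θ * T s θ := fun θ => by rw [mul_comm]; exact h.posTU s θ
  -- step 1: the lower vector of the column `s`
  have s1 := eTp s; rw [h.hTU' p s hps] at s1
  have s2 := eTq s; rw [h.hTU' q s hqs] at s2
  have s3 := eTr s; rw [h.hTU' r s hrs] at s3
  have s4 := eTs s; rw [h.hTU s] at s4
  have s5 := signs_tri cs hTs n13 n15 n35
  have k0 := pk (h.nU s) z
  have k1 := pk (h.nU s) xp
  have k2 := pk (h.nU s) yp
  have k3 := pk (h.nU s) xq
  have k4 := pk (h.nU s) yq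
  have k5 := pk (h.nU s) xr
  have k6 := pk (h.nU s) yr
  have kc := cap7 (h.nU s) hnd
  have v0 : U s z = 0 := by omega
  have v3 : U s xq = 0 := by omega
  have v4 : U s yq = 0 := by omega
  have v5 : U s xr = 0 := by omega
  have v6 : U s yr = 0 := by omega
  clear k0 k1 k2 k3 k4 k5 k6 kc s1 s2 s3 s4 s5
  -- the third symbol of that vector
  obtain ⟨t, ht1, ht2, htne, hsupp⟩ := exists_third (h.nU s) n12 (by rw [hU1]; decide)
    (by rw [hU2]; decide)
  have hUs : U s = tri 1 xp (-1) yp (U s t) t := by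
    have := eq_tri n12 (Ne.symm ht1) (Ne.symm ht2) hsupp
    rw [hU1, hU2] at this
    exact this
  have hσ : U s t = 1 ∨ U s t = -1 := by
    have := tern (h.nU s) t
    omega
  have t0 : t ≠ z := fun e => htne (e ▸ v0)
  have t3 : t ≠ xq := fun e => htne (e ▸ v3)
  have t4 : t ≠ yq := fun e => htne (e ▸ v4)
  have t5 : t ≠ xr := fun e => htne (e ▸ v5)
  have t6 : t ≠ yr := fun e => htne (e ▸ v6)
  have hnd8 : [t, z, xp, yp, xq, yq, xr, yr].Nodup := by
    rw [List.nodup_cons]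
    refine ⟨?_, hnd⟩
    simp only [List.mem_cons, List.not_mem_nil, or_false, not_or]
    exact ⟨t0, ht1, ht2, t3, t4, t5, t6⟩
  have eUs : ∀ j, dot (U j) (U s) = U j xp - U j yp + U s t * U j t := fun j => by
    rw [hUs, dot_tri, tri_self3 (Ne.symm ht1) (Ne.symm ht2)]; ring
  -- step 2: the lower vector of the column `p`
  have p1 := eTp p; rw [h.hTU p] at p1
  have p2 := eTq p; rw [h.hTU' q p (Ne.symm hpq)] at p2
  have p3 := eTr p; rw [h.hTU' r p (Ne.symm hpr)] at p3
  have p4 := eTs p; rw [h.hTU' s p (Ne.symm hps)] at p4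
  have p5 := eUs p; rw [h.hUU p s hps] at p5
  have p6 := signs_tri cp hTp n01 n02 n12
  have p7 := signs_tri (h.posUU hps) hUs n12 (Ne.symm ht1) (Ne.symm ht2)
  have k0 := pk (h.nU p) z
  have k1 := pk (h.nU p) xp
  have k2 := pk (h.nU p) yp
  have k3 := pk (h.nU p) xq
  have k4 := pk (h.nU p) yq
  have k5 := pk (h.nU p) xr
  have k6 := pk (h.nU p) yr
  have k7 := pk (h.nU p) t
  have kc := cap8 (h.nU p) hnd8
  have hp : (U p xp = 1 ∧ U p xq = -1 ∧ U p yq = 1) ∨ (U p xp = 1 ∧ U p xr = -1 ∧ U p yr = 1) := by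
    rcases hσ with hσ | hσ <;> rw [hσ] at p5 p7 <;> omega
  clear k0 k1 k2 k3 k4 k5 k6 k7 kc p1 p2 p3 p4 p5 p6 p7
  -- common facts on the lower vector of the column `q`
  have q1 := eTq q; rw [h.hTU q] at q1
  have q2 := eTp q; rw [h.hTU' p q hpq] at q2
  have q3 := eTr q; rw [h.hTU' r q (Ne.symm hqr)] at q3
  have q4 := eTs q; rw [h.hTU' s q (Ne.symm hqs)] at q4
  have q5 := eUs q; rw [h.hUU q s hqs] at q5
  have q6 := signs_tri cq hTq n03 n04 n34
  have q7 := signs_tri (h.posUU hqs) hUs n12 (Ne.symm ht1) (Ne.symm ht2)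
  have k0 := pk (h.nU q) z
  have k1 := pk (h.nU q) xp
  have k2 := pk (h.nU q) yp
  have k3 := pk (h.nU q) xq
  have k4 := pk (h.nU q) yq
  have k5 := pk (h.nU q) xr
  have k6 := pk (h.nU q) yr
  have k7 := pk (h.nU q) t
  have kc := cap8 (h.nU q) hnd8
  rcases hp with ⟨u1, u2, u3⟩ | ⟨u1, u2, u3⟩
  · -- `U p = xp - xq + yq`
    have hUp : U p = tri 1 xp (-1) xq 1 yq :=
      eq_tri_of_vals (h.nU p) n13 n14 n34 u1 u2 u3 (by decide) (by decide) (by decide)
    have eUp : ∀ j, dot (U j) (U p) = U j xp - U j xq + U j yq := fun j => by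
      rw [hUp, dot_tri]; ring
    have q8 := eUp q; rw [h.hUU q p (Ne.symm hpq)] at q8
    have q9 := signs_tri (h.posUU (Ne.symm hpq)) hUp n13 n14 n34
    have hq : U q yq = 1 := by
      rcases hσ with hσ | hσ <;> rw [hσ] at q5 q7 <;> omega
    clear k0 k1 k2 k3 k4 k5 k6 k7 kc q1 q2 q3 q4 q5 q6 q7 q8 q9
    -- the lower vector of the column `r`
    have r1 := eTr r; rw [h.hTU r] at r1
    have r2 := eTp r; rw [h.hTU' p r hpr] at r2
    have r3 := eTq r; rw [h.hTU' q r hqr] at r3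
    have r4 := eTs r; rw [h.hTU' s r (Ne.symm hrs)] at r4
    have r5 := eUs r; rw [h.hUU r s hrs] at r5
    have r6 := signs_tri cr hTr n05 n06 n56
    have r7 := signs_tri (h.posUU hrs) hUs n12 (Ne.symm ht1) (Ne.symm ht2)
    have r8 := eUp r; rw [h.hUU r p (Ne.symm hpr)] at r8
    have r9 := signs_tri (h.posUU (Ne.symm hpr)) hUp n13 n14 n34
    have r10 : 0 ≤ U r yq := by
      have := h.posUU (Ne.symm hqr) yq
      rw [hq, mul_one] at this
      exact this
    have k0 := pk (h.nU r) z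
    have k1 := pk (h.nU r) xp
    have k2 := pk (h.nU r) yp
    have k3 := pk (h.nU r) xq
    have k4 := pk (h.nU r) yq
    have k5 := pk (h.nU r) xr
    have k6 := pk (h.nU r) yr
    have k7 := pk (h.nU r) t
    have kc := cap8 (h.nU r) hnd8
    rcases hσ with hσ | hσ <;> rw [hσ] at r5 r7 <;> omega
  · -- `U p = xp - xr + yr`
    have hUp : U p = tri 1 xp (-1) xr 1 yr :=
      eq_tri_of_vals (h.nU p) n15 n16 n56 u1 u2 u3 (by decide) (by decide) (by decide)
    have eUp : ∀ j, dot (U j) (U p) = U j xp - U j xr + U j yr := fun j => by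
      rw [hUp, dot_tri]; ring
    have q8 := eUp q; rw [h.hUU q p (Ne.symm hpq)] at q8
    have q9 := signs_tri (h.posUU (Ne.symm hpq)) hUp n15 n16 n56
    rcases hσ with hσ | hσ <;> rw [hσ] at q5 q7 <;> omega

end Cfsg.Agent.Lib.Helper33.CTI
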