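import Cfsg.Agent.Lib.Helper33.CTIModel2
import Cfsg.Agent.Lib.Helper34.GenChar
import Cfsg.Agent.Lib.Helper34.CyclicTIUnique
import Cfsg.Agent.Lib.Helper05.CharBasic

/-!
# Decomposing a grid of generalized characters (helper33)

If generalized characters `A i j` of `G` contain the principal character once and satisfy
`⟨A i j, A k l⟩ = (1 + [i = k])(1 + [j = l])`, then `A i j = 1 + X i + Y j + Z i j` with
`X, Y, Z` an orthonormal family of irreducible characters up to sign, orthogonal to `1`.
-/

set_option autoImplicit false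

namespace Cfsg.Agent.Lib.Helper33.CTI

open Cfsg Cfsg.Agent.Lib.Helper34
open scoped ComplexConjugate

universe u

variable {G : Type u} [Group G] [Fintype G]

/-- the class function with integer coordinates `v` -/
noncomputable def ofVec [Fintype (IrrCharacter G)] (v : IrrCharacter G → ℤ) : G → ℂ :=
  ∑ θ : IrrCharacter G, (v θ : ℂ) • (θ : G → ℂ)

theorem classInner_ofVec [Fintype (IrrCharacter G)] [DecidableEq (IrrCharacter G)]
    (v w : IrrCharacter G → ℤ) : classInner (ofVec v) (ofVec w) = ((dot v w : ℤ) : ℂ) := by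
  unfold ofVec dot
  exact classInner_int_combo v w

theorem ofVec_add [Fintype (IrrCharacter G)] (v w : IrrCharacter G → ℤ) :
    ofVec (v + w) = ofVec v + ofVec w := by
  unfold ofVec
  rw [← Finset.sum_add_distrib]
  apply Finset.sum_congr rfl
  intro θ _
  simp only [Pi.add_apply]
  push_cast
  rw [add_smul]

theorem pmIrr_ofVec [Fintype (IrrCharacter G)] [DecidableEq (IrrCharacter G)]
    (v : IrrCharacter G → ℤ) (hv : dot v v = 1) : PmIrr (ofVec v) := by
  apply irr_or_neg_irr_of_norm_one
  · exact int_combo_isGeneralizedCharacter v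
  · rw [classInner_ofVec, hv]; norm_num

theorem exists_decomp {I J : Type*} [Fintype I] [DecidableEq I] [Fintype J] [DecidableEq J]
    (A : I → J → G → ℂ) (hA : ∀ i j, IsGeneralizedCharacter G (A i j))
    (hA1 : ∀ i j, classInner (A i j) (fun _ => 1) = 1)
    (hAA : ∀ i j k l, classInner (A i j) (A k l) =
      1 + (if i = k then 1 else 0) + (if j = l then 1 else 0) +
        (if i = k then 1 else 0) * (if j = l then 1 else 0))
    (hI : Fintype.card I = 2 ∨ 4 ≤ Fintype.card I)
    (hJ : Fintype.card J = 2 ∨ 4 ≤ Fintype.card J)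
    (h4 : 4 ≤ Fintype.card I ∨ 4 ≤ Fintype.card J) :
    ∃ (X : I → G → ℂ) (Y : J → G → ℂ) (Z : I → J → G → ℂ),
      (∀ i, PmIrr (X i)) ∧ (∀ j, PmIrr (Y j)) ∧ (∀ i j, PmIrr (Z i j)) ∧
      (∀ i k, classInner (X i) (X k) = if i = k then 1 else 0) ∧
      (∀ j l, classInner (Y j) (Y l) = if j = l then 1 else 0) ∧
      (∀ i j k l, classInner (Z i j) (Z k l) = if i = k ∧ j = l then 1 else 0) ∧
      (∀ i j, classInner (X i) (Y j) = 0) ∧ (∀ i k l, classInner (X i) (Z k l) = 0) ∧
      (∀ j k l, classInner (Y j) (Z k l) = 0) ∧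
      (∀ i, classInner (X i) (fun _ => 1) = 0) ∧ (∀ j, classInner (Y j) (fun _ => 1) = 0) ∧
      (∀ i j, classInner (Z i j) (fun _ => 1) = 0) ∧
      ∀ i j, A i j = (fun _ => 1) + X i + Y j + Z i j := by
  classical
  letI : Fintype (IrrCharacter G) := Fintype.ofFinite _
  -- the principal character
  set triv : IrrCharacter G := ⟨fun _ => 1, Helper05.isIrrCharacter_one⟩ with htriv
  have h11 : classInner (fun _ : G => (1 : ℂ)) (fun _ => 1) = 1 := Helper83.irr_inner_self triv
  have hgen1 : IsGeneralizedCharacter G (fun _ : G => (1 : ℂ)) :=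
    isGeneralizedCharacter_of_irr Helper05.isIrrCharacter_one
  -- coordinates of `A i j - 1`
  have hβ : ∀ i j, IsGeneralizedCharacter G (A i j - fun _ => 1) := fun i j =>
    isGeneralizedCharacter_sub (hA i j) hgen1
  have hex : ∀ i j, ∃ z : IrrCharacter G → ℤ, (A i j - fun _ => 1) = ofVec z := fun i j =>
    exists_int_coeff (hβ i j)
  choose b hb using hex
  have h1A : ∀ i j, classInner (fun _ : G => (1 : ℂ)) (A i j) = 1 := by
    intro i j
    rw [← classInner_conj_symm, hA1, map_one]
  have hgram : ∀ i j k l, classInner (A i j - fun _ => 1) (A k l - fun _ => 1) =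
      (if i = k then 1 else 0) + (if j = l then 1 else 0) +
        (if i = k then 1 else 0) * (if j = l then 1 else 0) := by
    intro i j k l
    rw [classInner_sub_left, classInner_sub_right, classInner_sub_right, hAA, hA1, h1A, h11]
    ring
  have hgrid : Grid b := by
    intro i j k l
    have := hgram i j k l
    rw [hb, hb, classInner_ofVec] at this
    have h2 : ((dot (b i j) (b k l) : ℤ) : ℂ) = (((if i = k then 1 else 0) +
        (if j = l then 1 else 0) + (if i = k then 1 else 0) * (if j = l then 1 else 0) : ℤ) : ℂ) := by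
      rw [this]; push_cast; rfl
    exact_mod_cast h2
  -- the coordinate at the principal character vanishes
  have hcoord : ∀ (v : IrrCharacter G → ℤ) (θ : IrrCharacter G),
      classInner (ofVec v) (θ : G → ℂ) = (v θ : ℂ) := fun v θ =>
    Helper83.classInner_sum_irr_left (fun θ => (v θ : ℂ)) θ
  have hbtriv : ∀ i j, b i j triv = 0 := by
    intro i j
    have h := hcoord (b i j) triv
    rw [← hb] at h
    have h2 : classInner (A i j - fun _ => 1) (fun _ : G => (1 : ℂ)) = 0 := by
      rw [classInner_sub_left, hA1, h11, sub_self]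
    have h3 : ((b i j triv : ℤ) : ℂ) = 0 := by rw [← h]; exact h2
    exact_mod_cast h3
  obtain ⟨x, y, z, hxx, hyy, hzz, hxy, hxz, hyz, hdec, hvan⟩ := hgrid.model' hI hJ h4
  obtain ⟨hx0, hy0⟩ := hvan triv hbtriv
  have hz0 : ∀ i j, z i j triv = 0 := by
    intro i j
    have := congrFun (hdec i j) triv
    simp only [Pi.add_apply, hbtriv, hx0, hy0] at this
    omega
  refine ⟨fun i => ofVec (x i), fun j => ofVec (y j), fun i j => ofVec (z i j), ?_, ?_, ?_, ?_,
    ?_, ?_, ?_, ?_, ?_, ?_, ?_, ?_, ?_⟩
  · intro i; exact pmIrr_ofVec _ (by rw [hxx]; simp)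
  · intro j; exact pmIrr_ofVec _ (by rw [hyy]; simp)
  · intro i j; exact pmIrr_ofVec _ (by rw [hzz]; simp)
  · intro i k; rw [classInner_ofVec, hxx]; split_ifs <;> simp
  · intro j l; rw [classInner_ofVec, hyy]; split_ifs <;> simp
  · intro i j k l; rw [classInner_ofVec, hzz]; split_ifs <;> simp
  · intro i j; rw [classInner_ofVec, hxy]; simp
  · intro i k l; rw [classInner_ofVec, hxz]; simp
  · intro j k l; rw [classInner_ofVec, hyz]; simp
  · intro i
    have := hcoord (x i) triv
    rw [hx0] at this
    simpa using this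
  · intro j
    have := hcoord (y j) triv
    rw [hy0] at this
    simpa using this
  · intro i j
    have := hcoord (z i j) triv
    rw [hz0] at this
    simpa using this
  · intro i j
    have h := hb i j
    rw [hdec, ofVec_add, ofVec_add] at h
    show A i j = (fun _ => 1) + ofVec (x i) + ofVec (y j) + ofVec (z i j)
    funext g
    have hg := congrFun h g
    simp only [Pi.add_apply, Pi.sub_apply] at hg ⊢
    linear_combination hg

end Cfsg.Agent.Lib.Helper33.CTI
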