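import Cfsg.Agent.Lib.Helper33.DualSum

/-!
# Functions on `W₁ ⊔ W₂` orthogonal to all `(1 - φ)(1 - ψ)` vanish off `W₁ ∪ W₂` (helper33)
-/

set_option autoImplicit false

namespace Cfsg.Agent.Lib.Helper33

/-- if `c` is orthogonal to all `(1 - φ)(1 - ψ)` (`φ` trivial on `W₂`, `ψ` trivial on `W₁`),
then `c` vanishes outside `W₁ ∪ W₂`. -/
theorem eq_zero_of_alpha_orth {G : Type*} [Group G] (W₁ W₂ : Subgroup G)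
    [Fintype ↥(W₁ ⊔ W₂)] (hinf : W₁ ⊓ W₂ = ⊥) (hcomm : ∀ a b : ↥(W₁ ⊔ W₂), a * b = b * a)
    (c : ↥(W₁ ⊔ W₂) → ℂ)
    (key : ∀ φ ψ : ↥(W₁ ⊔ W₂) →* ℂˣ, (∀ v : ↥(W₁ ⊔ W₂), (v : G) ∈ W₂ → φ v = 1) →
      (∀ v : ↥(W₁ ⊔ W₂), (v : G) ∈ W₁ → ψ v = 1) →
      ∑ v : ↥(W₁ ⊔ W₂), (1 - (φ v : ℂ)) * (1 - (ψ v : ℂ)) * c v = 0)
    (w : ↥(W₁ ⊔ W₂)) (hw₁ : (w : G) ∉ W₁) (hw₂ : (w : G) ∉ W₂) : c w = 0 := by
  classical
  set N₁ : Subgroup ↥(W₁ ⊔ W₂) := W₁.subgroupOf (W₁ ⊔ W₂) with hN₁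
  set N₂ : Subgroup ↥(W₁ ⊔ W₂) := W₂.subgroupOf (W₁ ⊔ W₂) with hN₂
  haveI : Finite (↥(W₁ ⊔ W₂) →* ℂˣ) := finite_monoidHom_units hcomm
  haveI : Fintype (annihilator N₂) := Fintype.ofFinite _
  haveI : Fintype (annihilator N₁) := Fintype.ofFinite _
  have key' : ∀ (φ : annihilator N₂) (ψ : annihilator N₁),
      ∑ v : ↥(W₁ ⊔ W₂), (1 - ((φ : ↥(W₁ ⊔ W₂) →* ℂˣ) v : ℂ)) *
        (1 - ((ψ : ↥(W₁ ⊔ W₂) →* ℂˣ) v : ℂ)) * c v = 0 := fun φ ψ =>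
    key φ ψ (fun v hv => φ.2 v (Subgroup.mem_subgroupOf.mpr hv))
      (fun v hv => ψ.2 v (Subgroup.mem_subgroupOf.mpr hv))
  set F : ↥(W₁ ⊔ W₂) → ℂ := fun v => ∑ φ : annihilator N₂,
    ((φ : ↥(W₁ ⊔ W₂) →* ℂˣ) w⁻¹ : ℂ) * (1 - ((φ : ↥(W₁ ⊔ W₂) →* ℂˣ) v : ℂ)) with hF
  set F' : ↥(W₁ ⊔ W₂) → ℂ := fun v => ∑ ψ : annihilator N₁,
    ((ψ : ↥(W₁ ⊔ W₂) →* ℂˣ) w⁻¹ : ℂ) * (1 - ((ψ : ↥(W₁ ⊔ W₂) →* ℂˣ) v : ℂ)) with hF'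
  have hwN₂ : w⁻¹ ∉ N₂ := by
    intro h
    apply hw₂
    have := N₂.inv_mem h
    rw [inv_inv] at this
    exact Subgroup.mem_subgroupOf.mp this
  have hwN₁ : w⁻¹ ∉ N₁ := by
    intro h
    apply hw₁
    have := N₁.inv_mem h
    rw [inv_inv] at this
    exact Subgroup.mem_subgroupOf.mp this
  have hFeq : ∀ v, F v = - ∑ φ : annihilator N₂, ((φ : ↥(W₁ ⊔ W₂) →* ℂˣ) (w⁻¹ * v) : ℂ) := by
    intro v
    simp only [hF]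
    have : ∀ φ : annihilator N₂, ((φ : ↥(W₁ ⊔ W₂) →* ℂˣ) w⁻¹ : ℂ) *
        (1 - ((φ : ↥(W₁ ⊔ W₂) →* ℂˣ) v : ℂ)) =
        ((φ : ↥(W₁ ⊔ W₂) →* ℂˣ) w⁻¹ : ℂ) - ((φ : ↥(W₁ ⊔ W₂) →* ℂˣ) (w⁻¹ * v) : ℂ) := by
      intro φ
      rw [map_mul, Units.val_mul]; ring
    rw [Finset.sum_congr rfl (fun φ _ => this φ), Finset.sum_sub_distrib,
      sum_annihilator_apply_of_not_mem hcomm N₂ hwN₂, zero_sub]
  have hF'eq : ∀ v, F' v = - ∑ ψ : annihilator N₁, ((ψ : ↥(W₁ ⊔ W₂) →* ℂˣ) (w⁻¹ * v) : ℂ) := by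
    intro v
    simp only [hF']
    have : ∀ ψ : annihilator N₁, ((ψ : ↥(W₁ ⊔ W₂) →* ℂˣ) w⁻¹ : ℂ) *
        (1 - ((ψ : ↥(W₁ ⊔ W₂) →* ℂˣ) v : ℂ)) =
        ((ψ : ↥(W₁ ⊔ W₂) →* ℂˣ) w⁻¹ : ℂ) - ((ψ : ↥(W₁ ⊔ W₂) →* ℂˣ) (w⁻¹ * v) : ℂ) := by
      intro ψ
      rw [map_mul, Units.val_mul]; ring
    rw [Finset.sum_congr rfl (fun ψ _ => this ψ), Finset.sum_sub_distrib,
      sum_annihilator_apply_of_not_mem hcomm N₁ hwN₁, zero_sub]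
  have hT : ∑ v : ↥(W₁ ⊔ W₂), F v * F' v * c v = 0 := by
    have : ∀ v : ↥(W₁ ⊔ W₂), F v * F' v * c v =
        ∑ φ : annihilator N₂, ∑ ψ : annihilator N₁,
          ((φ : ↥(W₁ ⊔ W₂) →* ℂˣ) w⁻¹ : ℂ) * ((ψ : ↥(W₁ ⊔ W₂) →* ℂˣ) w⁻¹ : ℂ) *
          ((1 - ((φ : ↥(W₁ ⊔ W₂) →* ℂˣ) v : ℂ)) * (1 - ((ψ : ↥(W₁ ⊔ W₂) →* ℂˣ) v : ℂ)) * c v) := by
      intro v
      simp only [hF, hF']
      rw [Finset.sum_mul_sum, Finset.sum_mul]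
      apply Finset.sum_congr rfl
      intro φ _
      rw [Finset.sum_mul]
      apply Finset.sum_congr rfl
      intro ψ _
      ring
    rw [Finset.sum_congr rfl (fun v _ => this v), Finset.sum_comm]
    apply Finset.sum_eq_zero
    intro φ _
    rw [Finset.sum_comm]
    apply Finset.sum_eq_zero
    intro ψ _
    rw [← Finset.mul_sum, key' φ ψ, mul_zero]
  have hsingle : ∑ v : ↥(W₁ ⊔ W₂), F v * F' v * c v = F w * F' w * c w := by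
    apply Finset.sum_eq_single w
    · intro v _ hvw
      have hnot : ¬ (w⁻¹ * v ∈ N₁ ∧ w⁻¹ * v ∈ N₂) := by
        rintro ⟨h1, h2⟩
        have h1' : ((w⁻¹ * v : ↥(W₁ ⊔ W₂)) : G) ∈ W₁ := Subgroup.mem_subgroupOf.mp h1
        have h2' : ((w⁻¹ * v : ↥(W₁ ⊔ W₂)) : G) ∈ W₂ := Subgroup.mem_subgroupOf.mp h2
        have : ((w⁻¹ * v : ↥(W₁ ⊔ W₂)) : G) ∈ W₁ ⊓ W₂ := ⟨h1', h2'⟩
        rw [hinf, Subgroup.mem_bot] at this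
        apply hvw
        have h3 : w⁻¹ * v = 1 := Subtype.ext this
        calc v = w * (w⁻¹ * v) := by group
          _ = w := by rw [h3, mul_one]
      rcases not_and_or.mp hnot with h | h
      · rw [hF'eq, sum_annihilator_apply_of_not_mem hcomm N₁ h]; simp
      · rw [hFeq, sum_annihilator_apply_of_not_mem hcomm N₂ h]; simp
    · intro h; exact absurd (Finset.mem_univ w) h
  rw [hsingle] at hT
  have hFw : F w = - (Fintype.card (annihilator N₂) : ℂ) := by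
    rw [hFeq, inv_mul_cancel, sum_annihilator_apply_of_mem N₂ (Subgroup.one_mem _)]
  have hF'w : F' w = - (Fintype.card (annihilator N₁) : ℂ) := by
    rw [hF'eq, inv_mul_cancel, sum_annihilator_apply_of_mem N₁ (Subgroup.one_mem _)]
  have hne2 : (Fintype.card (annihilator N₂) : ℂ) ≠ 0 := by
    exact_mod_cast Fintype.card_ne_zero
  have hne1 : (Fintype.card (annihilator N₁) : ℂ) ≠ 0 := by
    exact_mod_cast Fintype.card_ne_zero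
  rw [hFw, hF'w] at hT
  rcases mul_eq_zero.mp hT with h | h
  · rcases mul_eq_zero.mp h with h | h
    · exact absurd (neg_eq_zero.mp h) hne2
    · exact absurd (neg_eq_zero.mp h) hne1
  · exact h

end Cfsg.Agent.Lib.Helper33
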