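import Cfsg.Agent.Lib.Helper33.CTIDelta
import Cfsg.Agent.Lib.Helper34.Induction
import Cfsg.Agent.Lib.Helper34.LinChar
import Cfsg.Agent.Lib.Helper34.CyclicTIUnique
import Cfsg.Prelude.Def_OddOrderChar

/-!
# The values of a cyclic TI family off `W₁ ∪ W₂` are forced (helper33)

If `χ` satisfies the sign, orthonormality, `map_one` and induction fields of
`Cfsg.IsCyclicTIFamily`, then it satisfies `eq_on`.
-/

set_option autoImplicit false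

namespace Cfsg.Agent.Lib.Helper33.CTI

open Cfsg Cfsg.Agent.Lib.Helper34
open scoped ComplexConjugate

theorem alpha_eq' {W : Type*} [Group W] (φ ψ : W →* ℂˣ) :
    (fun w => 1 - (φ w : ℂ) - (ψ w : ℂ) + (φ w : ℂ) * (ψ w : ℂ))
      = linFun 1 - linFun φ - linFun ψ + linFun (φ * ψ) := by
  funext w
  simp [linFun]

open Classical in
theorem eq_on_of_fields {G : Type*} [Group G] [Fintype G] (W₁ W₂ : Subgroup G)
    (hinf : W₁ ⊓ W₂ = ⊥) (hcomm : ∀ a b : ↥(W₁ ⊔ W₂), a * b = b * a)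
    (χ : (↥(W₁ ⊔ W₂) →* ℂˣ) → (G → ℂ))
    (hirr : ∀ ω, IsIrrCharacter G (χ ω) ∨ IsIrrCharacter G (-χ ω))
    (horth : ∀ ω ω', classInner (χ ω) (χ ω') =
      @ite ℂ (ω = ω') (Classical.propDecidable _) 1 0)
    (hone : χ 1 = fun _ => 1)
    (hind : ∀ φ ψ : ↥(W₁ ⊔ W₂) →* ℂˣ, φ ≠ 1 → ψ ≠ 1 →
      (∀ w : ↥(W₁ ⊔ W₂), (w : G) ∈ W₂ → φ w = 1) →
      (∀ w : ↥(W₁ ⊔ W₂), (w : G) ∈ W₁ → ψ w = 1) →
      indFun (W₁ ⊔ W₂) (fun w => 1 - (φ w : ℂ) - (ψ w : ℂ) + (φ w : ℂ) * (ψ w : ℂ)) =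
        fun g => 1 - χ φ g - χ ψ g + χ (φ * ψ) g)
    (ω : ↥(W₁ ⊔ W₂) →* ℂˣ) (w : ↥(W₁ ⊔ W₂)) (hw₁ : (w : G) ∉ W₁) (hw₂ : (w : G) ∉ W₂) :
    χ ω w = (ω w : ℂ) := by
  haveI : Fintype ↥(W₁ ⊔ W₂) := Fintype.ofFinite _
  have hcf : IsClassFunction G (χ ω) := PmIrr.isClassFunction (hirr ω)
  set c : ↥(W₁ ⊔ W₂) → ℂ := fun v => conj (χ ω v - (ω v : ℂ)) with hc
  have key : ∀ φ ψ : ↥(W₁ ⊔ W₂) →* ℂˣ, (∀ v : ↥(W₁ ⊔ W₂), (v : G) ∈ W₂ → φ v = 1) →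
      (∀ v : ↥(W₁ ⊔ W₂), (v : G) ∈ W₁ → ψ v = 1) →
      ∑ v : ↥(W₁ ⊔ W₂), (1 - (φ v : ℂ)) * (1 - (ψ v : ℂ)) * c v = 0 := by
    intro φ ψ hφ2 hψ1
    by_cases hφ1 : φ = 1
    · simp [hφ1]
    by_cases hψ1' : ψ = 1
    · simp [hψ1']
    have h1 := classInner_indFun_left (W₁ ⊔ W₂)
      (fun v => 1 - (φ v : ℂ) - (ψ v : ℂ) + (φ v : ℂ) * (ψ v : ℂ)) (χ ω) hcf
    rw [hind φ ψ hφ1 hψ1' hφ2 hψ1] at h1
    have h2 : (fun g => 1 - χ φ g - χ ψ g + χ (φ * ψ) g) = χ 1 - χ φ - χ ψ + χ (φ * ψ) := by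
      funext g
      simp [hone]
    rw [h2, classInner_add_left, classInner_sub_left, classInner_sub_left, horth, horth, horth,
      horth] at h1
    have h3 : classInner (fun v : ↥(W₁ ⊔ W₂) => 1 - (φ v : ℂ) - (ψ v : ℂ) + (φ v : ℂ) * (ψ v : ℂ))
        (linFun ω) = (if (1 : ↥(W₁ ⊔ W₂) →* ℂˣ) = ω then 1 else 0) - (if φ = ω then 1 else 0)
          - (if ψ = ω then 1 else 0) + (if φ * ψ = ω then 1 else 0) := by
      rw [alpha_eq']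
      simp only [classInner_add_left, classInner_sub_left, classInner_linFun]
    have h4 : classInner (fun v : ↥(W₁ ⊔ W₂) => 1 - (φ v : ℂ) - (ψ v : ℂ) + (φ v : ℂ) * (ψ v : ℂ))
        ((fun h : ↥(W₁ ⊔ W₂) => χ ω h) - linFun ω) = 0 := by
      rw [classInner_sub_right, ← h1, h3]
      apply sub_eq_zero.mpr
      congr!
    rw [classInner_def] at h4
    have hcard : ((Nat.card ↥(W₁ ⊔ W₂) : ℂ))⁻¹ ≠ 0 := by
      apply inv_ne_zero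
      exact_mod_cast Nat.card_pos.ne'
    have h5 := (mul_eq_zero.mp h4).resolve_left hcard
    rw [← h5]
    apply Finset.sum_congr rfl
    intro v _
    simp only [hc, Pi.sub_apply, linFun_apply]
    ring
  have hcw := eq_zero_of_alpha_orth W₁ W₂ hinf hcomm c key w hw₁ hw₂
  simp only [hc] at hcw
  have h6 : χ ω w - (ω w : ℂ) = 0 := by
    have := congrArg conj hcw
    simpa using this
  exact sub_eq_zero.mp h6

end Cfsg.Agent.Lib.Helper33.CTI
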