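import Cfsg.Agent.Lib.Helper33.CTIEqOn
import Cfsg.Agent.Lib.Helper33.CTIDecomp
import Cfsg.Agent.Lib.Helper34.CyclicDual
import Cfsg.Agent.S1505

/-!
# Existence of the cyclic TI family (helper33)

Feit–Thompson §13 / Peterfalvi (3.2): for a self-normalising cyclic `W = W₁ × W₂` of odd order
the induced functions of `(1 - φ)(1 - ψ)` decompose as `1 - χ φ - χ ψ + χ (φψ)`.
-/

set_option autoImplicit false

namespace Cfsg.Agent.Lib.Helper33.CTI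

open Cfsg Cfsg.Agent.Lib.Helper34
open scoped ComplexConjugate

section

variable {G : Type*} [Group G] [Fintype G] (W₁ W₂ : Subgroup G)

theorem card_facts (hW : IsSelfNormalizingCyclic W₁ W₂) (hodd : Odd (Nat.card ↥(W₁ ⊔ W₂))) :
    Odd (Nat.card W₁) ∧ Odd (Nat.card W₂) ∧ 3 ≤ Nat.card W₁ ∧ 3 ≤ Nat.card W₂ ∧
      Nat.card W₁ ≠ Nat.card W₂ := by
  obtain ⟨h1, h2, hinf, hcomm, hcyc, -⟩ := hW
  have e := prodEquiv W₁ W₂ hcomm hinf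
  have hcard : Nat.card ↥(W₁ ⊔ W₂) = Nat.card W₁ * Nat.card W₂ := by
    rw [← Nat.card_congr e.toEquiv, Nat.card_prod]
  haveI : IsCyclic (↥W₁ × ↥W₂) := e.isCyclic.mpr hcyc
  have hcop := coprime_card_of_isCyclic_prod ↥W₁ ↥W₂
  rw [hcard, Nat.odd_mul] at hodd
  have hn1 : Nat.card W₁ ≠ 1 := fun h => h1 (Subgroup.card_eq_one.mp h)
  have hn2 : Nat.card W₂ ≠ 1 := fun h => h2 (Subgroup.card_eq_one.mp h)
  have p1 : 0 < Nat.card W₁ := Nat.card_pos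
  have p2 : 0 < Nat.card W₂ := Nat.card_pos
  obtain ⟨a, ha⟩ := hodd.1
  obtain ⟨b, hb⟩ := hodd.2
  refine ⟨hodd.1, hodd.2, by omega, by omega, ?_⟩
  intro heq
  rw [heq, Nat.coprime_self] at hcop
  exact hn2 hcop

theorem card_nontrivial_linChar (A : Subgroup G) (hA : ∀ a ∈ A, ∀ b ∈ A, a * b = b * a)
    [Fintype {ω : ↥A →* ℂˣ // ω ≠ 1}] :
    Fintype.card {ω : ↥A →* ℂˣ // ω ≠ 1} = Nat.card A - 1 := by
  classical
  haveI : Finite (↥A →* ℂˣ) :=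
    finite_monoidHom_units (fun a b => Subtype.ext (hA a a.2 b b.2))
  haveI : Fintype (↥A →* ℂˣ) := Fintype.ofFinite _
  have h := Fintype.card_subtype_compl (fun ω : ↥A →* ℂˣ => ω = 1)
  have h2 : Fintype.card (↥A →* ℂˣ) = Nat.card A := by
    rw [← Nat.card_eq_fintype_card]; exact card_linChar_of_comm A hA
  rw [Fintype.card_subtype_eq, h2] at h
  rw [← h]

open Classical in
theorem exists_cyclicTIFamily (hW : IsSelfNormalizingCyclic W₁ W₂)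
    (hodd : Odd (Nat.card ↥(W₁ ⊔ W₂))) :
    ∃ χ : (↥(W₁ ⊔ W₂) →* ℂˣ) → (G → ℂ), IsCyclicTIFamily W₁ W₂ χ := by
  obtain ⟨hodd1, hodd2, h31, h32, hne⟩ := card_facts W₁ W₂ hW hodd
  have hW' := hW
  obtain ⟨hb1, hb2, hinf, hcomm, hcyc, -⟩ := hW
  have hcommW : ∀ a b : ↥(W₁ ⊔ W₂), a * b = b * a := fun a b =>
    (IsCyclic.commGroup (α := ↥(W₁ ⊔ W₂))).mul_comm a b
  have hc1 : ∀ a ∈ W₁, ∀ b ∈ W₁, a * b = b * a := fun a ha b hb =>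
    congrArg Subtype.val (hcommW ⟨a, (le_sup_left : W₁ ≤ W₁ ⊔ W₂) ha⟩
      ⟨b, (le_sup_left : W₁ ≤ W₁ ⊔ W₂) hb⟩)
  have hc2 : ∀ a ∈ W₂, ∀ b ∈ W₂, a * b = b * a := fun a ha b hb =>
    congrArg Subtype.val (hcommW ⟨a, (le_sup_right : W₂ ≤ W₁ ⊔ W₂) ha⟩
      ⟨b, (le_sup_right : W₂ ≤ W₁ ⊔ W₂) hb⟩)
  haveI : Finite (↥W₁ →* ℂˣ) :=
    finite_monoidHom_units (fun a b => Subtype.ext (hc1 a a.2 b b.2))
  haveI : Finite (↥W₂ →* ℂˣ) :=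
    finite_monoidHom_units (fun a b => Subtype.ext (hc2 a a.2 b b.2))
  haveI : Fintype ↥(W₁ ⊔ W₂) := Fintype.ofFinite _
  haveI instI : Fintype {ω : ↥W₁ →* ℂˣ // ω ≠ 1} := Fintype.ofFinite _
  haveI instJ : Fintype {ω : ↥W₂ →* ℂˣ // ω ≠ 1} := Fintype.ofFinite _
  have hcI : Fintype.card {ω : ↥W₁ →* ℂˣ // ω ≠ 1} = Nat.card W₁ - 1 :=
    card_nontrivial_linChar W₁ hc1
  have hcJ : Fintype.card {ω : ↥W₂ →* ℂˣ // ω ≠ 1} = Nat.card W₂ - 1 :=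
    card_nontrivial_linChar W₂ hc2
  have hI : Fintype.card {ω : ↥W₁ →* ℂˣ // ω ≠ 1} = 2 ∨
      4 ≤ Fintype.card {ω : ↥W₁ →* ℂˣ // ω ≠ 1} := by
    rw [hcI]; obtain ⟨a, ha⟩ := hodd1; omega
  have hJ : Fintype.card {ω : ↥W₂ →* ℂˣ // ω ≠ 1} = 2 ∨
      4 ≤ Fintype.card {ω : ↥W₂ →* ℂˣ // ω ≠ 1} := by
    rw [hcJ]; obtain ⟨a, ha⟩ := hodd2; omega
  have h4 : 4 ≤ Fintype.card {ω : ↥W₁ →* ℂˣ // ω ≠ 1} ∨
      4 ≤ Fintype.card {ω : ↥W₂ →* ℂˣ // ω ≠ 1} := by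
    rw [hcI, hcJ]; obtain ⟨a, ha⟩ := hodd1; obtain ⟨b, hb⟩ := hodd2; omega
  -- abbreviations
  set jc : (↥W₁ →* ℂˣ) → (↥W₂ →* ℂˣ) → (↥(W₁ ⊔ W₂) →* ℂˣ) :=
    fun a b => joinChar W₁ W₂ hcomm hinf a b with hjc
  have hjc_right : ∀ (a : ↥W₁ →* ℂˣ) (w : ↥(W₁ ⊔ W₂)), (w : G) ∈ W₂ → jc a 1 w = 1 := by
    intro a w hw
    simp only [hjc]
    rw [joinChar_apply_right W₁ W₂ hcomm hinf _ _ w hw]; rfl
  have hjc_left : ∀ (b : ↥W₂ →* ℂˣ) (w : ↥(W₁ ⊔ W₂)), (w : G) ∈ W₁ → jc 1 b w = 1 := by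
    intro b w hw
    simp only [hjc]
    rw [joinChar_apply_left W₁ W₂ hcomm hinf _ _ w hw]; rfl
  have hjc_inj : ∀ a b a' b', jc a b = jc a' b' ↔ a = a' ∧ b = b' := by
    intro a b a' b'
    constructor
    · intro h
      have h1 := congrArg (resLeft W₁ W₂) h
      have h2 := congrArg (resRight W₁ W₂) h
      simp only [hjc] at h1 h2
      rw [resLeft_joinChar, resLeft_joinChar] at h1
      rw [resRight_joinChar, resRight_joinChar] at h2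
      exact ⟨h1, h2⟩
    · rintro ⟨rfl, rfl⟩; rfl
  have hjc_one : jc 1 1 = 1 := by
    have := joinChar_res W₁ W₂ hcomm hinf (1 : ↥(W₁ ⊔ W₂) →* ℂˣ)
    exact this
  have hjc_res : ∀ ω, jc (resLeft W₁ W₂ ω) (resRight W₁ W₂ ω) = ω := fun ω =>
    joinChar_res W₁ W₂ hcomm hinf ω
  have hjc_mul : ∀ a b, jc a 1 * jc 1 b = jc a b := fun a b =>
    (joinChar_mul W₁ W₂ hcomm hinf a b).symm
  have hjc_ne_left : ∀ a b, a ≠ 1 → jc a b ≠ 1 := by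
    intro a b ha h
    rw [← hjc_one, hjc_inj] at h
    exact ha h.1
  have hjc_ne_right : ∀ a b, b ≠ 1 → jc a b ≠ 1 := by
    intro a b hb h
    rw [← hjc_one, hjc_inj] at h
    exact hb h.2
  -- the induced functions
  set A : {ω : ↥W₁ →* ℂˣ // ω ≠ 1} → {ω : ↥W₂ →* ℂˣ // ω ≠ 1} → G → ℂ := fun i j =>
    indFun (W₁ ⊔ W₂) (fun w => 1 - (jc i.1 1 w : ℂ) - (jc 1 j.1 w : ℂ) +
      (jc i.1 1 w : ℂ) * (jc 1 j.1 w : ℂ)) with hAdef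
  have hA : ∀ i j, IsGeneralizedCharacter G (A i j) := by
    intro i j
    simp only [hAdef]
    apply isGeneralizedCharacter_indFun
    rw [alpha_eq']
    have hl : ∀ ω : ↥(W₁ ⊔ W₂) →* ℂˣ, IsGeneralizedCharacter ↥(W₁ ⊔ W₂) (linFun ω) := fun ω =>
      isGeneralizedCharacter_of_irr (Helper05.isIrrCharacter_of_hom ω)
    exact isGeneralizedCharacter_add (isGeneralizedCharacter_sub
      (isGeneralizedCharacter_sub (hl _) (hl _)) (hl _)) (hl _)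
  have hS := fun (i k : {ω : ↥W₁ →* ℂˣ // ω ≠ 1}) (j l : {ω : ↥W₂ →* ℂˣ // ω ≠ 1}) =>
    Cfsg.Agent.S1505.result W₁ W₂ hW' (jc i.1 1) (jc k.1 1) (jc 1 j.1) (jc 1 l.1)
      (hjc_ne_left _ _ i.2) (hjc_ne_left _ _ k.2) (hjc_ne_right _ _ j.2) (hjc_ne_right _ _ l.2)
      (fun w hw => ⟨hjc_right _ w hw, hjc_right _ w hw⟩)
      (fun w hw => ⟨hjc_left _ w hw, hjc_left _ w hw⟩)
  have hA1 : ∀ i j, classInner (A i j) (fun _ => 1) = 1 := fun i j => (hS i i j j).1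
  have hAA : ∀ i j k l, classInner (A i j) (A k l) =
      1 + (if i = k then 1 else 0) + (if j = l then 1 else 0) +
        (if i = k then 1 else 0) * (if j = l then 1 else 0) := by
    intro i j k l
    have h := (hS i k j l).2
    have e1 : (jc i.1 1 = jc k.1 1) ↔ i = k := by
      rw [hjc_inj, Subtype.ext_iff]; simp
    have e2 : (jc 1 j.1 = jc 1 l.1) ↔ j = l := by
      rw [hjc_inj, Subtype.ext_iff]; simp
    simp only [e1, e2] at h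
    convert h using 2
  obtain ⟨X, Y, Z, hX, hY, hZ, hXX, hYY, hZZ, hXY, hXZ, hYZ, hX1, hY1, hZ1, hdec⟩ :=
    exists_decomp A hA hA1 hAA hI hJ h4
  -- symmetric versions of the orthogonality relations
  have hsymm : ∀ (f g : G → ℂ), classInner f g = 0 → classInner g f = 0 := by
    intro f g h
    rw [← classInner_conj_symm, h, map_zero]
  have hYX : ∀ j i, classInner (Y j) (X i) = 0 := fun j i => hsymm _ _ (hXY i j)
  have hZX : ∀ k l i, classInner (Z k l) (X i) = 0 := fun k l i => hsymm _ _ (hXZ i k l)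
  have hZY : ∀ k l j, classInner (Z k l) (Y j) = 0 := fun k l j => hsymm _ _ (hYZ j k l)
  have h1X : ∀ i, classInner (fun _ : G => (1 : ℂ)) (X i) = 0 := fun i => hsymm _ _ (hX1 i)
  have h1Y : ∀ j, classInner (fun _ : G => (1 : ℂ)) (Y j) = 0 := fun j => hsymm _ _ (hY1 j)
  have h1Z : ∀ i j, classInner (fun _ : G => (1 : ℂ)) (Z i j) = 0 := fun i j =>
    hsymm _ _ (hZ1 i j)
  have hpm1 : PmIrr (fun _ : G => (1 : ℂ)) := Or.inl Helper05.isIrrCharacter_one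
  have h11 : classInner (fun _ : G => (1 : ℂ)) (fun _ => 1) = 1 := hpm1.inner_self
  -- the family on pairs
  set χ' : (↥W₁ →* ℂˣ) × (↥W₂ →* ℂˣ) → (G → ℂ) := fun p =>
    if h1 : p.1 = 1 then (if h2 : p.2 = 1 then (fun _ => 1) else -Y ⟨p.2, h2⟩)
    else (if h2 : p.2 = 1 then -X ⟨p.1, h1⟩ else Z ⟨p.1, h1⟩ ⟨p.2, h2⟩) with hχ'
  have F3 : χ' (1, 1) = fun _ => 1 := by
    simp only [hχ', dite_true]
  have F4X : ∀ i : {ω : ↥W₁ →* ℂˣ // ω ≠ 1}, χ' (i.1, 1) = -X i := by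
    intro i
    simp only [hχ', dif_neg i.2, dite_true]
  have F4Y : ∀ j : {ω : ↥W₂ →* ℂˣ // ω ≠ 1}, χ' (1, j.1) = -Y j := by
    intro j
    simp only [hχ', dif_neg j.2, dite_true]
  have F4Z : ∀ (i : {ω : ↥W₁ →* ℂˣ // ω ≠ 1}) (j : {ω : ↥W₂ →* ℂˣ // ω ≠ 1}),
      χ' (i.1, j.1) = Z i j := by
    intro i j
    simp only [hχ', dif_neg i.2, dif_neg j.2]
  have hcases : ∀ p : (↥W₁ →* ℂˣ) × (↥W₂ →* ℂˣ),
      p = (1, 1) ∨ (∃ i : {ω : ↥W₁ →* ℂˣ // ω ≠ 1}, p = (i.1, 1)) ∨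
      (∃ j : {ω : ↥W₂ →* ℂˣ // ω ≠ 1}, p = (1, j.1)) ∨
      (∃ (i : {ω : ↥W₁ →* ℂˣ // ω ≠ 1}) (j : {ω : ↥W₂ →* ℂˣ // ω ≠ 1}), p = (i.1, j.1)) := by
    rintro ⟨a, b⟩
    by_cases ha : a = 1
    · by_cases hb : b = 1
      · left; rw [ha, hb]
      · right; right; left; exact ⟨⟨b, hb⟩, by rw [ha]⟩
    · by_cases hb : b = 1
      · right; left; exact ⟨⟨a, ha⟩, by rw [hb]⟩
      · right; right; right; exact ⟨⟨a, ha⟩, ⟨b, hb⟩, rfl⟩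
  have F1 : ∀ p, PmIrr (χ' p) := by
    intro p
    rcases hcases p with rfl | ⟨i, rfl⟩ | ⟨j, rfl⟩ | ⟨i, j, rfl⟩
    · rw [F3]; exact hpm1
    · rw [F4X]; exact (hX i).neg
    · rw [F4Y]; exact (hY j).neg
    · rw [F4Z]; exact hZ i j
  have n1 : ∀ i : {ω : ↥W₁ →* ℂˣ // ω ≠ 1}, ¬ (1 : ↥W₁ →* ℂˣ) = i.1 := fun i h => i.2 h.symm
  have n2 : ∀ j : {ω : ↥W₂ →* ℂˣ // ω ≠ 1}, ¬ (1 : ↥W₂ →* ℂˣ) = j.1 := fun j h => j.2 h.symm
  have n1' : ∀ i : {ω : ↥W₁ →* ℂˣ // ω ≠ 1}, ¬ i.1 = (1 : ↥W₁ →* ℂˣ) := fun i => i.2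
  have n2' : ∀ j : {ω : ↥W₂ →* ℂˣ // ω ≠ 1}, ¬ j.1 = (1 : ↥W₂ →* ℂˣ) := fun j => j.2
  have F2 : ∀ p q, classInner (χ' p) (χ' q) = if p = q then 1 else 0 := by
    intro p q
    rcases hcases p with rfl | ⟨i, rfl⟩ | ⟨j, rfl⟩ | ⟨i, j, rfl⟩ <;>
    rcases hcases q with rfl | ⟨k, rfl⟩ | ⟨l, rfl⟩ | ⟨k, l, rfl⟩ <;>
    simp only [F3, F4X, F4Y, F4Z, classInner_neg_left, classInner_neg_right, neg_neg, neg_zero,
      hXX, hYY, hZZ, hXY, hYX, hXZ, hZX, hYZ, hZY, hX1, h1X, hY1, h1Y, hZ1, h1Z, h11,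
      Prod.mk.injEq, n1, n2, n1', n2', and_true, true_and, and_false, false_and, if_true,
      if_false, Subtype.ext_iff, and_self]
  -- the family on linear characters of `W`
  set χ : (↥(W₁ ⊔ W₂) →* ℂˣ) → (G → ℂ) := fun ω =>
    χ' (resLeft W₁ W₂ ω, resRight W₁ W₂ ω) with hχ
  have hχjc : ∀ a b, χ (jc a b) = χ' (a, b) := by
    intro a b
    simp only [hχ, hjc]
    rw [resLeft_joinChar, resRight_joinChar]
  have hcode : ∀ ω ω' : ↥(W₁ ⊔ W₂) →* ℂˣ,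
      ((resLeft W₁ W₂ ω, resRight W₁ W₂ ω) = (resLeft W₁ W₂ ω', resRight W₁ W₂ ω')) ↔ ω = ω' := by
    intro ω ω'
    constructor
    · intro h
      rw [Prod.mk.injEq] at h
      rw [← hjc_res ω, ← hjc_res ω', h.1, h.2]
    · rintro rfl; rfl
  have hres1 : resLeft W₁ W₂ (1 : ↥(W₁ ⊔ W₂) →* ℂˣ) = 1 := rfl
  have hres2 : resRight W₁ W₂ (1 : ↥(W₁ ⊔ W₂) →* ℂˣ) = 1 := rfl
  have G1 : ∀ ω, IsIrrCharacter G (χ ω) ∨ IsIrrCharacter G (-χ ω) := fun ω => F1 _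
  have G2 : ∀ ω ω', classInner (χ ω) (χ ω') =
      @ite ℂ (ω = ω') (Classical.propDecidable _) 1 0 := by
    intro ω ω'
    simp only [hχ]
    rw [F2]
    by_cases h : ω = ω'
    · rw [if_pos ((hcode ω ω').mpr h), if_pos h]
    · rw [if_neg (fun h' => h ((hcode ω ω').mp h')), if_neg h]
  have G3 : χ 1 = fun _ => 1 := by
    simp only [hχ, hres1, hres2]
    exact F3
  have G5 : ∀ φ ψ : ↥(W₁ ⊔ W₂) →* ℂˣ, φ ≠ 1 → ψ ≠ 1 →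
      (∀ w : ↥(W₁ ⊔ W₂), (w : G) ∈ W₂ → φ w = 1) →
      (∀ w : ↥(W₁ ⊔ W₂), (w : G) ∈ W₁ → ψ w = 1) →
      indFun (W₁ ⊔ W₂) (fun w => 1 - (φ w : ℂ) - (ψ w : ℂ) + (φ w : ℂ) * (ψ w : ℂ)) =
        fun g => 1 - χ φ g - χ ψ g + χ (φ * ψ) g := by
    intro φ ψ hφ hψ hφ2 hψ1
    have hr2 : resRight W₁ W₂ φ = 1 := by
      ext b
      rw [resRight_apply, hφ2 _ b.2]; rfl
    have hr1 : resLeft W₁ W₂ ψ = 1 := by
      ext a
      rw [resLeft_apply, hψ1 _ a.2]; rfl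
    have hφeq : φ = jc (resLeft W₁ W₂ φ) 1 := by
      conv_lhs => rw [← hjc_res φ, hr2]
    have hψeq : ψ = jc 1 (resRight W₁ W₂ ψ) := by
      conv_lhs => rw [← hjc_res ψ, hr1]
    have hi : resLeft W₁ W₂ φ ≠ 1 := by
      intro h
      apply hφ
      rw [hφeq, h, hjc_one]
    have hj : resRight W₁ W₂ ψ ≠ 1 := by
      intro h
      apply hψ
      rw [hψeq, h, hjc_one]
    obtain ⟨i, hi'⟩ : ∃ i : {ω : ↥W₁ →* ℂˣ // ω ≠ 1}, φ = jc i.1 1 :=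
      ⟨⟨resLeft W₁ W₂ φ, hi⟩, hφeq⟩
    obtain ⟨j, hj'⟩ : ∃ j : {ω : ↥W₂ →* ℂˣ // ω ≠ 1}, ψ = jc 1 j.1 :=
      ⟨⟨resRight W₁ W₂ ψ, hj⟩, hψeq⟩
    subst hi' hj'
    have hd := hdec i j
    simp only [hAdef] at hd
    rw [hd, hjc_mul, hχjc, hχjc, hχjc, F4X, F4Y, F4Z]
    funext g
    simp only [Pi.add_apply, Pi.neg_apply]
    ring
  have G4 := eq_on_of_fields W₁ W₂ hinf hcommW χ G1 G2 G3 G5
  exact ⟨χ, ⟨G1, G2, G3, G4, G5⟩⟩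

end

end Cfsg.Agent.Lib.Helper33.CTI
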