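import Cfsg.Agent.Lib.Helper33.CTIRow4

/-!
# Grids of vectors of norm three: rows have a common symbol (helper33)
-/

set_option autoImplicit false
set_option linter.unusedSectionVars false
set_option linter.unusedVariables false

namespace Cfsg.Agent.Lib.Helper33.CTI

variable {Θ : Type*} [Fintype Θ] [DecidableEq Θ]

/-- the upper row of a two-by-four table with nonnegative upper row has a common symbol -/
theorem row4_pos {T U : Fin 4 → Θ → ℤ} (h : Tab T U) (hpos : ∀ j θ, 0 ≤ T j θ) :
    ∃ θ, ∀ j, T j θ ≠ 0 := by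
  obtain ⟨a, ha0, ha1⟩ := line_exists (h.hTT 0 1 (by decide))
  by_contra hcon
  push Not at hcon
  obtain ⟨j, hj⟩ := hcon a
  fin_cases j
  · exact ha0 hj
  · exact ha1 hj
  · exact row4_aux h hpos (j1 := 0) (j2 := 1) (j3 := 2) (j4 := 3) (by decide) (by decide)
      (by decide) (by decide) (by decide) (by decide) ha0 ha1 hj
  · exact row4_aux h hpos (j1 := 0) (j2 := 1) (j3 := 3) (j4 := 2) (by decide) (by decide)
      (by decide) (by decide) (by decide) (by decide) ha0 ha1 hj

theorem dot_twist (s : Θ → ℤ) (hs : ∀ θ, s θ * s θ = 1) (v w : Θ → ℤ) :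
    dot (fun θ => s θ * v θ) (fun θ => s θ * w θ) = dot v w := by
  unfold dot
  apply Finset.sum_congr rfl
  intro θ _
  have := hs θ
  calc s θ * v θ * (s θ * w θ) = (s θ * s θ) * (v θ * w θ) := by ring
    _ = v θ * w θ := by rw [this, one_mul]

/-- the upper row of a two-by-four table has a common symbol -/
theorem row4 {T U : Fin 4 → Θ → ℤ} (h : Tab T U) : ∃ θ, ∀ j, T j θ ≠ 0 := by
  classical
  set s : Θ → ℤ := fun θ => if ∃ j, T j θ < 0 then -1 else 1 with hs
  have hss : ∀ θ, s θ * s θ = 1 := by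
    intro θ
    simp only [hs]
    split_ifs <;> norm_num
  have hT' : Tab (fun j θ => s θ * T j θ) (fun j θ => s θ * U j θ) :=
    { nT := fun j => by rw [dot_twist s hss]; exact h.nT j
      nU := fun j => by rw [dot_twist s hss]; exact h.nU j
      hTT := fun j l hjl => by rw [dot_twist s hss]; exact h.hTT j l hjl
      hUU := fun j l hjl => by rw [dot_twist s hss]; exact h.hUU j l hjl
      hTU := fun j => by rw [dot_twist s hss]; exact h.hTU j
      hTU' := fun j l hjl => by rw [dot_twist s hss]; exact h.hTU' j l hjl }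
  have hpos : ∀ j θ, 0 ≤ s θ * T j θ := by
    intro j θ
    simp only [hs]
    split_ifs with hex
    · obtain ⟨j', hj'⟩ := hex
      by_cases hjj : j = j'
      · subst hjj; linarith
      · have := h.posTT hjj θ
        have h1 := tern (h.nT j) θ
        nlinarith
    · push Not at hex
      have := hex j
      linarith
  obtain ⟨θ, hθ⟩ := row4_pos hT' hpos
  refine ⟨θ, fun j => ?_⟩
  have := hθ j
  intro h0
  apply this
  simp only [h0, mul_zero]

/-! ### Grids -/

variable {I J : Type*} [Fintype I] [DecidableEq I] [Fintype J] [DecidableEq J]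

/-- a grid: vectors `b i j` with `⟨b i j, b k l⟩ = [i = k] + [j = l] + [i = k][j = l]` -/
def Grid (b : I → J → Θ → ℤ) : Prop :=
  ∀ i j k l, dot (b i j) (b k l) =
    (if i = k then 1 else 0) + (if j = l then 1 else 0) +
      (if i = k then 1 else 0) * (if j = l then 1 else 0)

namespace Grid

variable {b : I → J → Θ → ℤ}

theorem norm (hb : Grid b) (i : I) (j : J) : dot (b i j) (b i j) = 3 := by
  rw [hb]; simp

theorem row (hb : Grid b) (i : I) {j l : J} (hjl : j ≠ l) : dot (b i j) (b i l) = 1 := by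
  rw [hb]; simp [hjl]

theorem col (hb : Grid b) {i k : I} (hik : i ≠ k) (j : J) : dot (b i j) (b k j) = 1 := by
  rw [hb]; simp [hik]

theorem gen (hb : Grid b) {i k : I} (hik : i ≠ k) {j l : J} (hjl : j ≠ l) :
    dot (b i j) (b k l) = 0 := by
  rw [hb]; simp [hik, hjl]

theorem transpose (hb : Grid b) : Grid (fun (j : J) (i : I) => b i j) := by
  intro j i l k
  rw [hb]; ring

theorem row_pos (hb : Grid b) {i k : I} (hik : i ≠ k) {j l : J} (hjl : j ≠ l) (θ : Θ) :
    0 ≤ b i j θ * b i l θ := by
  refine line_pos (z := b k j) (hb.norm i j) (hb.norm i l) (hb.row i hjl) ?_ θ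
  rw [hb.col (Ne.symm hik) j, hb.gen (Ne.symm hik) hjl]
  decide

theorem col_pos (hb : Grid b) {i k : I} (hik : i ≠ k) {j l : J} (hjl : j ≠ l) (θ : Θ) :
    0 ≤ b i j θ * b k j θ :=
  hb.transpose.row_pos (b := fun (j : J) (i : I) => b i j) hjl hik θ

theorem tab (hb : Grid b) {i k : I} (hik : i ≠ k) (c : Fin 4 → J) (hc : Function.Injective c) :
    Tab (fun n => b i (c n)) (fun n => b k (c n)) where
  nT := fun n => hb.norm _ _
  nU := fun n => hb.norm _ _
  hTT := fun n n' hn => hb.row i (fun e => hn (hc e))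
  hUU := fun n n' hn => hb.row k (fun e => hn (hc e))
  hTU := fun n => hb.col hik _
  hTU' := fun n n' hn => hb.gen hik (fun e => hn (hc e))

end Grid

end Cfsg.Agent.Lib.Helper33.CTI
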