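import Cfsg.Agent.Lib.Helper33.CTIGrid

/-!
# The structure of a grid of vectors of norm three (helper33)

`Grid.model`: if `b i j` (`i : I`, `j : J`, `#J ≥ 4`, `#I = 2` or `#I ≥ 4`) are integer vectors
with `⟨b i j, b k l⟩ = [i = k] + [j = l] + [i = k][j = l]`, then `b i j = x i + y j + z i j`
for an orthonormal family `x i, y j, z i j`.  This is the combinatorial core of
Feit–Thompson Lemma 13.1 (Peterfalvi (3.5)).
-/

set_option autoImplicit false
set_option linter.unusedSectionVars false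
set_option linter.unusedVariables false

namespace Cfsg.Agent.Lib.Helper33.CTI

variable {Θ : Type*} [Fintype Θ] [DecidableEq Θ]
variable {I J : Type*} [Fintype I] [DecidableEq I] [Fintype J] [DecidableEq J]

theorem exists_three_ne (hJ : 4 ≤ Fintype.card J) (j : J) :
    ∃ l₁ l₂ l₃ : J, l₁ ≠ j ∧ l₂ ≠ j ∧ l₃ ≠ j ∧ l₁ ≠ l₂ ∧ l₁ ≠ l₃ ∧ l₂ ≠ l₃ := by
  have h : 2 < (Finset.univ.erase j).card := by
    rw [Finset.card_erase_of_mem (Finset.mem_univ j), Finset.card_univ]; omega
  obtain ⟨a, b, c, ha, hb, hc, hab, hac, hbc⟩ := Finset.two_lt_card_iff.mp h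
  exact ⟨a, b, c, (Finset.mem_erase.mp ha).1, (Finset.mem_erase.mp hb).1,
    (Finset.mem_erase.mp hc).1, hab, hac, hbc⟩

theorem exists_ne_three (hJ : 4 ≤ Fintype.card J) (j₁ j₂ j₃ : J) :
    ∃ j₄ : J, j₄ ≠ j₁ ∧ j₄ ≠ j₂ ∧ j₄ ≠ j₃ := by
  by_contra hcon
  push Not at hcon
  have hsub : (Finset.univ : Finset J) ⊆ {j₁, j₂, j₃} := by
    intro x _
    simp only [Finset.mem_insert, Finset.mem_singleton]
    by_cases h1 : x = j₁
    · exact Or.inl h1
    by_cases h2 : x = j₂
    · exact Or.inr (Or.inl h2)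
    exact Or.inr (Or.inr (hcon x h1 h2))
  have := Finset.card_le_card hsub
  have h3 : ({j₁, j₂, j₃} : Finset J).card ≤ 3 := Finset.card_le_three
  rw [Finset.card_univ] at this
  omega

namespace Grid

variable {b : I → J → Θ → ℤ}

/-- every row of a grid with at least four columns and two rows has a common symbol -/
theorem row_common (hb : Grid b) (hJ : 4 ≤ Fintype.card J) {i k : I} (hik : i ≠ k) :
    ∃ θ, ∀ j, b i j θ ≠ 0 := by
  have hne : Nonempty J := Fintype.card_pos_iff.mp (by omega)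
  obtain ⟨j₀⟩ := hne
  obtain ⟨j₁, j₂, j₃, -, -, -, h12, -, -⟩ := exists_three_ne hJ j₀
  obtain ⟨a, ha1, ha2⟩ := line_exists (hb.row i h12)
  refine ⟨a, fun j => ?_⟩
  by_cases e1 : j = j₁
  · rw [e1]; exact ha1
  by_cases e2 : j = j₂
  · rw [e2]; exact ha2
  obtain ⟨j₄, h41, h42, h43⟩ := exists_ne_three hJ j₁ j₂ j
  have hc : Function.Injective (![j₁, j₂, j, j₄] : Fin 4 → J) := by
    intro m n hmn
    fin_cases m <;> fin_cases n <;> simp at hmn ⊢ <;>
      first
        | exact absurd hmn h12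
        | exact absurd hmn.symm h12
        | exact absurd hmn e1
        | exact absurd hmn.symm e1
        | exact absurd hmn e2
        | exact absurd hmn.symm e2
        | exact absurd hmn h41
        | exact absurd hmn.symm h41
        | exact absurd hmn h42
        | exact absurd hmn.symm h42
        | exact absurd hmn h43
        | exact absurd hmn.symm h43
  obtain ⟨θ, hθ⟩ := row4 (hb.tab hik _ hc)
  have h0 : b i j₁ θ ≠ 0 := by simpa using hθ 0
  have h1 : b i j₂ θ ≠ 0 := by simpa using hθ 1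
  have h2 : b i j θ ≠ 0 := by simpa using hθ 2
  have e : θ = a := line_unique (hb.row i h12) (hb.row_pos hik h12) h0 h1 ha1 ha2
  rw [← e]; exact h2

/-- the common symbol of a row does not occur in the other rows -/
theorem other_row_zero (hb : Grid b) (hJ : 4 ≤ Fintype.card J) {i k : I} (hik : i ≠ k) {a : Θ}
    (ha : ∀ l, b k l a ≠ 0) (j : J) : b i j a = 0 := by
  by_contra hne
  obtain ⟨g, h', hag, hah, hgh, hg, hh, hsupp⟩ := exists_two (hb.norm i j) hne
  have hT := eq_tri hag hah hgh hsupp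
  have key : ∀ l, l ≠ j → b k l g ≠ 0 ∨ b k l h' ≠ 0 := by
    intro l hl
    have h0 := hb.gen hik (Ne.symm hl)
    rw [hT, tri_dot] at h0
    by_contra hcon
    push Not at hcon
    rw [hcon.1, hcon.2, mul_zero, mul_zero, add_zero, add_zero] at h0
    rcases mul_eq_zero.mp h0 with h | h
    · exact hne h
    · exact ha l h
  obtain ⟨l₁, l₂, l₃, h1, h2, h3, h12, h13, h23⟩ := exists_three_ne hJ j
  have uniq : ∀ l l', l ≠ l' → ∀ θ, b k l θ ≠ 0 → b k l' θ ≠ 0 → θ = a := fun l l' hll θ p q =>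
    line_unique (hb.row k hll) (hb.row_pos (Ne.symm hik) hll) p q (ha l) (ha l')
  rcases key l₁ h1 with p1 | p1 <;> rcases key l₂ h2 with p2 | p2 <;>
    rcases key l₃ h3 with p3 | p3 <;>
    first
      | exact hag (uniq l₁ l₂ h12 g p1 p2).symm
      | exact hag (uniq l₁ l₃ h13 g p1 p3).symm
      | exact hag (uniq l₂ l₃ h23 g p2 p3).symm
      | exact hah (uniq l₁ l₂ h12 h' p1 p2).symm
      | exact hah (uniq l₁ l₃ h13 h' p1 p3).symm
      | exact hah (uniq l₂ l₃ h23 h' p2 p3).symm

/-- every column has a common symbol (two rows, or at least four rows) -/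
theorem col_common (hb : Grid b) (hI : Fintype.card I = 2 ∨ 4 ≤ Fintype.card I) {j l : J}
    (hjl : j ≠ l) : ∃ θ, ∀ i, b i j θ ≠ 0 := by
  rcases hI with hI | hI
  · have hI' : (Finset.univ : Finset I).card = 2 := by rw [Finset.card_univ]; exact hI
    obtain ⟨x, y, hxy, huniv⟩ := Finset.card_eq_two.mp hI'
    obtain ⟨a, ha1, ha2⟩ := line_exists (hb.col hxy j)
    refine ⟨a, fun i => ?_⟩
    have : i ∈ (Finset.univ : Finset I) := Finset.mem_univ i
    rw [huniv, Finset.mem_insert, Finset.mem_singleton] at this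
    rcases this with e | e <;> rw [e]
    · exact ha1
    · exact ha2
  · exact hb.transpose.row_common (b := fun (j : J) (i : I) => b i j) hI hjl

end Grid

end Cfsg.Agent.Lib.Helper33.CTI
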