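import Cfsg.Agent.Lib.Helper33.CTIModel

/-!
# The structure theorem for grids (helper33)
-/

set_option autoImplicit false
set_option linter.unusedSectionVars false
set_option linter.unusedVariables false

namespace Cfsg.Agent.Lib.Helper33.CTI

variable {Θ : Type*} [Fintype Θ] [DecidableEq Θ]
variable {I J : Type*} [Fintype I] [DecidableEq I] [Fintype J] [DecidableEq J]

/-- single-symbol vector -/
def sgl (a : Θ) (c : ℤ) : Θ → ℤ := fun θ => if θ = a then c else 0

theorem dot_sgl (v : Θ → ℤ) (a : Θ) (c : ℤ) : dot v (sgl a c) = v a * c := by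
  unfold dot sgl
  rw [Finset.sum_eq_single a]
  · simp
  · intro x _ hx; simp [hx]
  · intro h; exact absurd (Finset.mem_univ a) h

theorem sgl_dot_sgl (a : Θ) (c : ℤ) (a' : Θ) (c' : ℤ) :
    dot (sgl a c) (sgl a' c') = if a = a' then c * c' else 0 := by
  rw [dot_sgl]
  unfold sgl
  by_cases h : a = a'
  · simp [h]
  · simp [h, Ne.symm h]

theorem pm_one {v : Θ → ℤ} (hv : dot v v = 3) {a : Θ} (h : v a ≠ 0) : v a = 1 ∨ v a = -1 := by
  have := tern hv a
  omega

theorem mul_eq_one_of_pos {v w : Θ → ℤ} (hv : dot v v = 3) (hw : dot w w = 3) {a : Θ}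
    (h1 : v a ≠ 0) (h2 : w a ≠ 0) (hpos : 0 ≤ v a * w a) : v a * w a = 1 := by
  rcases pm_one hv h1 with e1 | e1 <;> rcases pm_one hw h2 with e2 | e2 <;>
    rw [e1, e2] at hpos ⊢ <;> omega

namespace Grid

variable {b : I → J → Θ → ℤ}

/-- **the structure theorem**: `b i j = x i + y j + z i j` with `x, y, z` orthonormal -/
theorem model (hb : Grid b) (hJ : 4 ≤ Fintype.card J)
    (hI : Fintype.card I = 2 ∨ 4 ≤ Fintype.card I) :
    ∃ (x : I → Θ → ℤ) (y : J → Θ → ℤ) (z : I → J → Θ → ℤ),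
      (∀ i k, dot (x i) (x k) = if i = k then 1 else 0) ∧
      (∀ j l, dot (y j) (y l) = if j = l then 1 else 0) ∧
      (∀ i j k l, dot (z i j) (z k l) = if i = k ∧ j = l then 1 else 0) ∧
      (∀ i j, dot (x i) (y j) = 0) ∧ (∀ i k l, dot (x i) (z k l) = 0) ∧
      (∀ j k l, dot (y j) (z k l) = 0) ∧ (∀ i j, b i j = x i + y j + z i j) ∧
      ∀ θ, (∀ i j, b i j θ = 0) → (∀ i, x i θ = 0) ∧ (∀ j, y j θ = 0) := by
  classical
  obtain ⟨i₀, i₁, hi01⟩ := Fintype.one_lt_card_iff.mp (by omega : 1 < Fintype.card I)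
  obtain ⟨j₀, j₁, hj01⟩ := Fintype.one_lt_card_iff.mp (by omega : 1 < Fintype.card J)
  have hoI : ∀ i : I, ∃ k, k ≠ i := fun i => by
    by_cases h : i = i₀
    · exact ⟨i₁, by rw [h]; exact Ne.symm hi01⟩
    · exact ⟨i₀, Ne.symm h⟩
  have hoJ : ∀ j : J, ∃ l, l ≠ j := fun j => by
    by_cases h : j = j₀
    · exact ⟨j₁, by rw [h]; exact Ne.symm hj01⟩
    · exact ⟨j₀, Ne.symm h⟩
  have hrow : ∀ i, ∃ θ, ∀ j, b i j θ ≠ 0 := fun i => by
    obtain ⟨k, hk⟩ := hoI i
    exact hb.row_common hJ (Ne.symm hk)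
  have hcol : ∀ j, ∃ θ, ∀ i, b i j θ ≠ 0 := fun j => by
    obtain ⟨l, hl⟩ := hoJ j
    exact hb.col_common hI (Ne.symm hl)
  choose X hX using hrow
  choose Y hY using hcol
  have K2 : ∀ i k, i ≠ k → ∀ j, b i j (X k) = 0 := fun i k hik j =>
    hb.other_row_zero hJ hik (hX k) j
  have K4 : ∀ i j, X i ≠ Y j := by
    intro i j e
    obtain ⟨k, hk⟩ := hoI i
    have h1 := hY j k
    rw [← e, K2 k i hk j] at h1
    exact h1 rfl
  have K3 : ∀ j l, j ≠ l → ∀ i, b i j (Y l) = 0 := by
    intro j l hjl i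
    by_contra hne
    obtain ⟨k, hk⟩ := hoI i
    have := line_unique (hb.row i hjl) (hb.row_pos (Ne.symm hk) hjl) hne (hY l i) (hX i j)
      (hX i l)
    exact K4 i l this.symm
  have XX : ∀ i j j', b i j (X i) * b i j' (X i) = 1 := by
    intro i j j'
    by_cases e : j = j'
    · subst e
      exact mul_eq_one_of_pos (hb.norm i j) (hb.norm i j) (hX i j) (hX i j) (mul_self_nonneg _)
    · obtain ⟨k, hk⟩ := hoI i
      exact mul_eq_one_of_pos (hb.norm i j) (hb.norm i j') (hX i j) (hX i j')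
        (hb.row_pos (Ne.symm hk) e _)
  have YY : ∀ j i i', b i j (Y j) * b i' j (Y j) = 1 := by
    intro j i i'
    by_cases e : i = i'
    · subst e
      exact mul_eq_one_of_pos (hb.norm i j) (hb.norm i j) (hY j i) (hY j i) (mul_self_nonneg _)
    · obtain ⟨l, hl⟩ := hoJ j
      exact mul_eq_one_of_pos (hb.norm i j) (hb.norm i' j) (hY j i) (hY j i')
        (hb.col_pos e (Ne.symm hl) _)
  set x : I → Θ → ℤ := fun i => sgl (X i) (b i j₀ (X i)) with hx
  set y : J → Θ → ℤ := fun j => sgl (Y j) (b i₀ j (Y j)) with hy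
  have A : ∀ i j k, dot (b i j) (x k) = if i = k then 1 else 0 := by
    intro i j k
    simp only [hx, dot_sgl]
    by_cases e : i = k
    · subst e; rw [if_pos rfl]; exact XX i j j₀
    · rw [if_neg e, K2 i k e j, zero_mul]
  have B : ∀ i j l, dot (b i j) (y l) = if j = l then 1 else 0 := by
    intro i j l
    simp only [hy, dot_sgl]
    by_cases e : j = l
    · subst e; rw [if_pos rfl]; exact YY j i i₀
    · rw [if_neg e, K3 j l e i, zero_mul]
  have C : ∀ i k, dot (x i) (x k) = if i = k then 1 else 0 := by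
    intro i k
    simp only [hx, sgl_dot_sgl]
    by_cases e : i = k
    · subst e; rw [if_pos rfl, if_pos rfl]; exact XX i j₀ j₀
    · rw [if_neg e, if_neg]
      intro e'
      have := hX i j₀
      rw [e', K2 i k e j₀] at this
      exact this rfl
  have D : ∀ j l, dot (y j) (y l) = if j = l then 1 else 0 := by
    intro j l
    simp only [hy, sgl_dot_sgl]
    by_cases e : j = l
    · subst e; rw [if_pos rfl, if_pos rfl]; exact YY j i₀ i₀
    · rw [if_neg e, if_neg]
      intro e'
      have := hY j i₀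
      rw [e', K3 j l e i₀] at this
      exact this rfl
  have E : ∀ i j, dot (x i) (y j) = 0 := by
    intro i j
    simp only [hx, hy, sgl_dot_sgl]
    rw [if_neg (K4 i j)]
  have A' : ∀ i j k, dot (x k) (b i j) = if i = k then 1 else 0 := fun i j k => by
    rw [dot_comm]; exact A i j k
  have B' : ∀ i j l, dot (y l) (b i j) = if j = l then 1 else 0 := fun i j l => by
    rw [dot_comm]; exact B i j l
  have E' : ∀ i j, dot (y j) (x i) = 0 := fun i j => by rw [dot_comm]; exact E i j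
  refine ⟨x, y, fun i j => b i j - x i - y j, C, D, ?_, E, ?_, ?_, ?_, ?_⟩
  · intro i j k l
    simp only [dot_sub_left, dot_sub_right, hb i j k l, A, B, A', B', C, D, E, E']
    by_cases e1 : i = k <;> by_cases e2 : j = l <;>
      simp [e1, e2, Ne.symm, eq_comm] <;> try omega
  · intro i k l
    simp only [dot_sub_right, A', C, E]
    by_cases e1 : k = i
    · subst e1; simp
    · have e2 : ¬ i = k := fun h => e1 h.symm
      simp [e1, e2]
  · intro j k l
    simp only [dot_sub_right, B', D, E']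
    by_cases e1 : l = j
    · subst e1; simp
    · have e2 : ¬ j = l := fun h => e1 h.symm
      simp [e1, e2]
  · intro i j
    funext θ
    simp only [Pi.add_apply, Pi.sub_apply]
    ring
  · intro θ hθ
    refine ⟨fun i => ?_, fun j => ?_⟩
    · simp only [hx, sgl]
      rw [if_neg]
      intro e
      exact hX i j₀ (e ▸ hθ i j₀)
    · simp only [hy, sgl]
      rw [if_neg]
      intro e
      exact hY j i₀ (e ▸ hθ i₀ j)

/-- the structure theorem, symmetric form -/
theorem model' (hb : Grid b) (hI : Fintype.card I = 2 ∨ 4 ≤ Fintype.card I)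
    (hJ : Fintype.card J = 2 ∨ 4 ≤ Fintype.card J)
    (h4 : 4 ≤ Fintype.card I ∨ 4 ≤ Fintype.card J) :
    ∃ (x : I → Θ → ℤ) (y : J → Θ → ℤ) (z : I → J → Θ → ℤ),
      (∀ i k, dot (x i) (x k) = if i = k then 1 else 0) ∧
      (∀ j l, dot (y j) (y l) = if j = l then 1 else 0) ∧
      (∀ i j k l, dot (z i j) (z k l) = if i = k ∧ j = l then 1 else 0) ∧
      (∀ i j, dot (x i) (y j) = 0) ∧ (∀ i k l, dot (x i) (z k l) = 0) ∧
      (∀ j k l, dot (y j) (z k l) = 0) ∧ (∀ i j, b i j = x i + y j + z i j) ∧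
      ∀ θ, (∀ i j, b i j θ = 0) → (∀ i, x i θ = 0) ∧ (∀ j, y j θ = 0) := by
  by_cases hJ4 : 4 ≤ Fintype.card J
  · exact hb.model hJ4 hI
  · have hI4 : 4 ≤ Fintype.card I := by
      rcases h4 with h | h
      · exact h
      · exact absurd h hJ4
    obtain ⟨y, x, z, hyy, hxx, hzz, hyx, hyz, hxz, hdec, hvan⟩ :=
      hb.transpose.model (b := fun (j : J) (i : I) => b i j) hI4 hJ
    refine ⟨x, y, fun i j => z j i, hxx, hyy, ?_, ?_, ?_, ?_, ?_, ?_⟩
    · intro i j k l
      rw [hzz j i l k]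
      by_cases e1 : i = k <;> by_cases e2 : j = l <;> simp [e1, e2]
    · intro i j; rw [dot_comm]; exact hyx j i
    · intro i k l; exact hxz i l k
    · intro j k l; exact hyz j l k
    · intro i j
      rw [hdec j i]
      funext θ
      simp only [Pi.add_apply]
      ring
    · intro θ hθ
      have := hvan θ (fun j i => hθ i j)
      exact ⟨this.2, this.1⟩

end Grid

end Cfsg.Agent.Lib.Helper33.CTI
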