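import Cfsg.Agent.Lib.Helper33.CTIAlpha

/-!
# Rows of a two-by-four table have a common symbol (helper33)
-/

set_option autoImplicit false
set_option linter.unusedSectionVars false
set_option linter.unusedVariables false

namespace Cfsg.Agent.Lib.Helper33.CTI

variable {Θ : Type*} [Fintype Θ] [DecidableEq Θ]

set_option maxHeartbeats 800000 in
/-- the configuration with centre `z`, three spokes and a transversal is impossible -/
theorem alpha_kill {T U : Fin 4 → Θ → ℤ} (h : Tab T U) {p q r s : Fin 4}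
    (hpq : p ≠ q) (hpr : p ≠ r) (hps : p ≠ s) (hqr : q ≠ r) (hqs : q ≠ s) (hrs : r ≠ s)
    {z xp yp xq yq xr yr : Θ} (hnd : [z, xp, yp, xq, yq, xr, yr].Nodup)
    (hTp : T p = tri 1 z 1 xp 1 yp) (hTq : T q = tri 1 z 1 xq 1 yq)
    (hTr : T r = tri 1 z 1 xr 1 yr) (hTs : T s = tri 1 xp 1 xq 1 xr) : False := by
  have hnd' := hnd
  simp only [List.nodup_cons, List.mem_cons, List.not_mem_nil, or_false, not_or,
    List.nodup_nil, and_true, not_false_eq_true] at hnd'
  obtain ⟨⟨n01, n02, n03, n04, n05, n06⟩, ⟨n12, n13, n14, n15, n16⟩, ⟨n23, n24, n25, n26⟩,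
    ⟨n34, n35, n36⟩, ⟨n45, n46⟩, n56⟩ := hnd'
  have eTp : ∀ j, dot (T p) (U j) = U j z + U j xp + U j yp := fun j => by
    rw [hTp, tri_dot]; ring
  have eTq : ∀ j, dot (T q) (U j) = U j z + U j xq + U j yq := fun j => by
    rw [hTq, tri_dot]; ring
  have eTr : ∀ j, dot (T r) (U j) = U j z + U j xr + U j yr := fun j => by
    rw [hTr, tri_dot]; ring
  have eTs : ∀ j, dot (T s) (U j) = U j xp + U j xq + U j xr := fun j => by
    rw [hTs, tri_dot]; ring
  have cs : ∀ θ, 0 ≤ U s θ * T s θ := fun θ => by rw [mul_comm]; exact h.posTU s θ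
  have s1 := eTp s; rw [h.hTU' p s hps] at s1
  have s2 := eTq s; rw [h.hTU' q s hqs] at s2
  have s3 := eTr s; rw [h.hTU' r s hrs] at s3
  have s4 := eTs s; rw [h.hTU s] at s4
  have s5 := signs_tri cs hTs n13 n15 n35
  have k0 := pk (h.nU s) z
  have k1 := pk (h.nU s) xp
  have k2 := pk (h.nU s) yp
  have k3 := pk (h.nU s) xq
  have k4 := pk (h.nU s) yq
  have k5 := pk (h.nU s) xr
  have k6 := pk (h.nU s) yr
  have kc := cap7 (h.nU s) hnd
  have v0 : U s z = 0 := by omega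
  have hs : (U s xp = 1 ∧ U s yp = -1) ∨ (U s xq = 1 ∧ U s yq = -1) ∨
      (U s xr = 1 ∧ U s yr = -1) := by omega
  rcases hs with ⟨a, b⟩ | ⟨a, b⟩ | ⟨a, b⟩
  · exact alpha_kill2 h hpq hpr hps hqr hqs hrs hnd hTp hTq hTr hTs a b
  · have hperm : List.Perm [z, xp, yp, xq, yq, xr, yr] [z, xq, yq, xp, yp, xr, yr] :=
      List.Perm.cons z ((List.perm_append_comm (l₁ := [xp, yp]) (l₂ := [xq, yq])).append_right
        [xr, yr])
    exact alpha_kill2 h (Ne.symm hpq) hqr hqs hpr hps hrs (hperm.nodup_iff.mp hnd) hTq hTp hTr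
      (by rw [hTs, tri_swap12]) a b
  · have hperm : List.Perm [z, xp, yp, xq, yq, xr, yr] [z, xr, yr, xp, yp, xq, yq] :=
      List.Perm.cons z (List.perm_append_comm (l₁ := [xp, yp, xq, yq]) (l₂ := [xr, yr]))
    exact alpha_kill2 h (Ne.symm hpr) (Ne.symm hqr) hrs hpq hps hqs (hperm.nodup_iff.mp hnd)
      hTr hTp hTq (by rw [hTs, tri_rot]) a b

set_option maxHeartbeats 1600000 in
/-- if the common symbol of the first two vectors of the upper row is missing from a third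
one, we reach a contradiction -/
theorem row4_aux {T U : Fin 4 → Θ → ℤ} (h : Tab T U) (hpos : ∀ j θ, 0 ≤ T j θ)
    {j1 j2 j3 j4 : Fin 4} (h12 : j1 ≠ j2) (h13 : j1 ≠ j3) (h14 : j1 ≠ j4) (h23 : j2 ≠ j3)
    (h24 : j2 ≠ j4) (h34 : j3 ≠ j4) {a : Θ} (ha1 : T j1 a ≠ 0) (ha2 : T j2 a ≠ 0)
    (ha3 : T j3 a = 0) : False := by
  have val : ∀ j θ, T j θ ≠ 0 → T j θ = 1 := by
    intro j θ hne
    have := tern (h.nT j) θ
    have := hpos j θ
    omega
  have va1 := val _ _ ha1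
  have va2 := val _ _ ha2
  -- b
  obtain ⟨b, hb1, hb3⟩ := line_exists (h.hTT j1 j3 h13)
  have vb1 := val _ _ hb1
  have vb3 := val _ _ hb3
  have hab : a ≠ b := fun e => hb3 (e ▸ ha3)
  obtain ⟨e, hea, heb, he1, hsupp1⟩ := exists_third (h.nT j1) hab ha1 hb1
  have ve1 := val _ _ he1
  have hT1 : T j1 = tri 1 a 1 b 1 e := by
    have := eq_tri hab (Ne.symm hea) (Ne.symm heb) hsupp1
    rw [va1, vb1, ve1] at this
    exact this
  have eT1 : ∀ w : Θ → ℤ, dot (T j1) w = w a + w b + w e := fun w => by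
    rw [hT1, tri_dot]; ring
  -- c
  obtain ⟨c, hc2, hc3⟩ := line_exists (h.hTT j2 j3 h23)
  have vc2 := val _ _ hc2
  have vc3 := val _ _ hc3
  have hac : a ≠ c := fun e => hc3 (e ▸ ha3)
  have x12 := eT1 (T j2); rw [h.hTT j1 j2 h12] at x12
  have x13 := eT1 (T j3); rw [h.hTT j1 j3 h13] at x13
  have vb2 : T j2 b = 0 := by have := hpos j2 b; have := hpos j2 e; omega
  have ve2 : T j2 e = 0 := by have := hpos j2 b; have := hpos j2 e; omega
  have ve3 : T j3 e = 0 := by have := hpos j3 e; omega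
  have hbc : b ≠ c := fun e' => by rw [e'] at vb2; omega
  obtain ⟨f, hfa, hfc, hf2, hsupp2⟩ := exists_third (h.nT j2) hac ha2 hc2
  have vf2 := val _ _ hf2
  have hT2 : T j2 = tri 1 a 1 c 1 f := by
    have := eq_tri hac (Ne.symm hfa) (Ne.symm hfc) hsupp2
    rw [va2, vc2, vf2] at this
    exact this
  have eT2 : ∀ w : Θ → ℤ, dot (T j2) w = w a + w c + w f := fun w => by
    rw [hT2, tri_dot]; ring
  obtain ⟨g, hgb, hgc, hg3, hsupp3⟩ := exists_third (h.nT j3) hbc hb3 hc3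
  have vg3 := val _ _ hg3
  have hT3 : T j3 = tri 1 b 1 c 1 g := by
    have := eq_tri hbc (Ne.symm hgb) (Ne.symm hgc) hsupp3
    rw [vb3, vc3, vg3] at this
    exact this
  have eT3 : ∀ w : Θ → ℤ, dot (T j3) w = w b + w c + w g := fun w => by
    rw [hT3, tri_dot]; ring
  have x21 := eT2 (T j1); rw [h.hTT j2 j1 (Ne.symm h12)] at x21
  have x23 := eT2 (T j3); rw [h.hTT j2 j3 h23] at x23
  have x31 := eT3 (T j1); rw [h.hTT j3 j1 (Ne.symm h13)] at x31
  have x32 := eT3 (T j2); rw [h.hTT j3 j2 (Ne.symm h23)] at x32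
  have vc1 : T j1 c = 0 := by have := hpos j1 c; have := hpos j1 f; omega
  have vf1 : T j1 f = 0 := by have := hpos j1 c; have := hpos j1 f; omega
  have vf3 : T j3 f = 0 := by have := hpos j3 f; omega
  have vg1 : T j1 g = 0 := by have := hpos j1 g; omega
  have vg2 : T j2 g = 0 := by have := hpos j2 g; omega
  have hnd6 : [a, b, c, e, f, g].Nodup := by
    apply List.Nodup.of_map (fun x => (T j1 x, T j2 x, T j3 x))
    simp only [List.map_cons, List.map_nil, va1, va2, ha3, vb1, vb2, vb3, vc1, vc2, vc3, ve1,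
      ve2, ve3, vf1, vf2, vf3, vg1, vg2, vg3]
    decide
  -- the fourth vector
  have y1 := eT1 (T j4); rw [h.hTT j1 j4 h14] at y1
  have y2 := eT2 (T j4); rw [h.hTT j2 j4 h24] at y2
  have y3 := eT3 (T j4); rw [h.hTT j3 j4 h34] at y3
  have k0 := pk (h.nT j4) a
  have k1 := pk (h.nT j4) b
  have k2 := pk (h.nT j4) c
  have k3 := pk (h.nT j4) e
  have k4 := pk (h.nT j4) f
  have k5 := pk (h.nT j4) g
  have kc := cap6 (h.nT j4) hnd6
  have p0 := hpos j4 a
  have p1 := hpos j4 b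
  have p2 := hpos j4 c
  have p3 := hpos j4 e
  have p4 := hpos j4 f
  have p5 := hpos j4 g
  have hcases : (T j4 a = 1 ∧ T j4 g = 1 ∧ T j4 b = 0 ∧ T j4 c = 0 ∧ T j4 e = 0 ∧ T j4 f = 0) ∨
      (T j4 b = 1 ∧ T j4 f = 1 ∧ T j4 a = 0 ∧ T j4 c = 0 ∧ T j4 e = 0 ∧ T j4 g = 0) ∨
      (T j4 c = 1 ∧ T j4 e = 1 ∧ T j4 a = 0 ∧ T j4 b = 0 ∧ T j4 f = 0 ∧ T j4 g = 0) ∨
      (T j4 e = 1 ∧ T j4 f = 1 ∧ T j4 g = 1) := by
    have ha : T j4 a = 0 ∨ T j4 a = 1 := by omega
    have hb : T j4 b = 0 ∨ T j4 b = 1 := by omega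
    have hc : T j4 c = 0 ∨ T j4 c = 1 := by omega
    rcases ha with ha | ha <;> rcases hb with hb | hb <;> rcases hc with hc | hc <;> omega
  clear k0 k1 k2 k3 k4 k5 kc p0 p1 p2 p3 p4 p5 y1 y2 y3
  rcases hcases with ⟨wa, wg, wb, wc, we, wf⟩ | ⟨wb, wf, wa, wc, we, wg⟩ |
    ⟨wc, we, wa, wb, wf, wg⟩ | ⟨we, wf, wg⟩
  · -- centre `a`
    have hag : a ≠ g := fun e' => by rw [e'] at va1; omega
    obtain ⟨k, hka, hkg, hk4, hsupp4⟩ := exists_third (h.nT j4) hag (by rw [wa]; decide)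
      (by rw [wg]; decide)
    have vk4 := val _ _ hk4
    have hT4 : T j4 = tri 1 a 1 g 1 k := by
      have := eq_tri hag (Ne.symm hka) (Ne.symm hkg) hsupp4
      rw [wa, wg, vk4] at this
      exact this
    have eT4 : ∀ w : Θ → ℤ, dot (T j4) w = w a + w g + w k := fun w => by
      rw [hT4, tri_dot]; ring
    have z1 := eT4 (T j1); rw [h.hTT j4 j1 (Ne.symm h14)] at z1
    have z2 := eT4 (T j2); rw [h.hTT j4 j2 (Ne.symm h24)] at z2
    have z3 := eT4 (T j3); rw [h.hTT j4 j3 (Ne.symm h34)] at z3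
    have vk1 : T j1 k = 0 := by omega
    have vk2 : T j2 k = 0 := by omega
    have vk3 : T j3 k = 0 := by omega
    have hnd7 : [a, b, e, c, f, g, k].Nodup := by
      apply List.Nodup.of_map (fun x => (T j1 x, T j2 x, T j3 x, T j4 x))
      simp only [List.map_cons, List.map_nil, va1, va2, ha3, vb1, vb2, vb3, vc1, vc2, vc3, ve1,
        ve2, ve3, vf1, vf2, vf3, vg1, vg2, vg3, wa, wb, wc, we, wf, wg, vk1, vk2, vk3, vk4]
      decide
    exact alpha_kill h h12 h14 h13 h24 h23 (Ne.symm h34) hnd7 hT1 hT2 hT4 hT3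
  · -- centre `b`
    have hbf : b ≠ f := fun e' => by rw [e'] at vb2; omega
    obtain ⟨k, hkb, hkf, hk4, hsupp4⟩ := exists_third (h.nT j4) hbf (by rw [wb]; decide)
      (by rw [wf]; decide)
    have vk4 := val _ _ hk4
    have hT4 : T j4 = tri 1 b 1 f 1 k := by
      have := eq_tri hbf (Ne.symm hkb) (Ne.symm hkf) hsupp4
      rw [wb, wf, vk4] at this
      exact this
    have eT4 : ∀ w : Θ → ℤ, dot (T j4) w = w b + w f + w k := fun w => by
      rw [hT4, tri_dot]; ring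
    have z1 := eT4 (T j1); rw [h.hTT j4 j1 (Ne.symm h14)] at z1
    have z2 := eT4 (T j2); rw [h.hTT j4 j2 (Ne.symm h24)] at z2
    have z3 := eT4 (T j3); rw [h.hTT j4 j3 (Ne.symm h34)] at z3
    have vk1 : T j1 k = 0 := by omega
    have vk2 : T j2 k = 0 := by omega
    have vk3 : T j3 k = 0 := by omega
    have hnd7 : [b, a, e, c, g, f, k].Nodup := by
      apply List.Nodup.of_map (fun x => (T j1 x, T j2 x, T j3 x, T j4 x))
      simp only [List.map_cons, List.map_nil, va1, va2, ha3, vb1, vb2, vb3, vc1, vc2, vc3, ve1,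
        ve2, ve3, vf1, vf2, vf3, vg1, vg2, vg3, wa, wb, wc, we, wf, wg, vk1, vk2, vk3, vk4]
      decide
    exact alpha_kill h h13 h14 h12 h34 (Ne.symm h23) (Ne.symm h24) hnd7
      (by rw [hT1, tri_swap12]) hT3 hT4 hT2
  · -- centre `c`
    have hce : c ≠ e := fun e' => by rw [e'] at vc2; omega
    obtain ⟨k, hkc, hke, hk4, hsupp4⟩ := exists_third (h.nT j4) hce (by rw [wc]; decide)
      (by rw [we]; decide)
    have vk4 := val _ _ hk4
    have hT4 : T j4 = tri 1 c 1 e 1 k := by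
      have := eq_tri hce (Ne.symm hkc) (Ne.symm hke) hsupp4
      rw [wc, we, vk4] at this
      exact this
    have eT4 : ∀ w : Θ → ℤ, dot (T j4) w = w c + w e + w k := fun w => by
      rw [hT4, tri_dot]; ring
    have z1 := eT4 (T j1); rw [h.hTT j4 j1 (Ne.symm h14)] at z1
    have z2 := eT4 (T j2); rw [h.hTT j4 j2 (Ne.symm h24)] at z2
    have z3 := eT4 (T j3); rw [h.hTT j4 j3 (Ne.symm h34)] at z3
    have vk1 : T j1 k = 0 := by omega
    have vk2 : T j2 k = 0 := by omega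
    have vk3 : T j3 k = 0 := by omega
    have hnd7 : [c, a, f, b, g, e, k].Nodup := by
      apply List.Nodup.of_map (fun x => (T j1 x, T j2 x, T j3 x, T j4 x))
      simp only [List.map_cons, List.map_nil, va1, va2, ha3, vb1, vb2, vb3, vc1, vc2, vc3, ve1,
        ve2, ve3, vf1, vf2, vf3, vg1, vg2, vg3, wa, wb, wc, we, wf, wg, vk1, vk2, vk3, vk4]
      decide
    exact alpha_kill h h23 h24 (Ne.symm h12) h34 (Ne.symm h13) (Ne.symm h14) hnd7
      (by rw [hT2, tri_swap12]) (by rw [hT3, tri_swap12]) hT4 hT1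
  · -- the quadrilateral: parity
    have hef : e ≠ f := fun e' => by rw [e'] at ve2; omega
    have heg : e ≠ g := fun e' => by rw [e'] at ve3; omega
    have hfg : f ≠ g := fun e' => by rw [e'] at vf3; omega
    have hT4 : T j4 = tri 1 e 1 f 1 g :=
      eq_tri_of_vals (h.nT j4) hef heg hfg we wf wg (by decide) (by decide) (by decide)
    have eT4 : ∀ w : Θ → ℤ, dot (T j4) w = w e + w f + w g := fun w => by
      rw [hT4, tri_dot]; ring
    have u1 := eT1 (U j1); rw [h.hTU j1] at u1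
    have u2 := eT2 (U j1); rw [h.hTU' j2 j1 (Ne.symm h12)] at u2
    have u3 := eT3 (U j1); rw [h.hTU' j3 j1 (Ne.symm h13)] at u3
    have u4 := eT4 (U j1); rw [h.hTU' j4 j1 (Ne.symm h14)] at u4
    omega

end Cfsg.Agent.Lib.Helper33.CTI
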