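import Cfsg.Agent.Lib.Helper33.CTIVec

/-!
# Supports of vectors of norm three (helper33)
-/

set_option autoImplicit false
set_option linter.unusedSectionVars false

namespace Cfsg.Agent.Lib.Helper33.CTI

variable {Θ : Type*} [Fintype Θ] [DecidableEq Θ]

theorem abs_eq_one {v : Θ → ℤ} (hv : dot v v = 3) {a : Θ} (ha : v a ≠ 0) : |v a| = 1 := by
  have h := abs_le_one hv a
  have h2 : 0 < |v a| := abs_pos.mpr ha
  omega

/-- three distinct nonzero coordinates exhaust the support -/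
theorem supp_of_three {v : Θ → ℤ} (hv : dot v v = 3) {a b c : Θ} (hab : a ≠ b) (hac : a ≠ c)
    (hbc : b ≠ c) (ha : v a ≠ 0) (hb : v b ≠ 0) (hc : v c ≠ 0) (θ : Θ) (hθ : v θ ≠ 0) :
    θ = a ∨ θ = b ∨ θ = c := by
  by_contra hcon
  push Not at hcon
  have hnd : [a, b, c, θ].Nodup := by
    simp only [List.nodup_cons, List.mem_cons, List.not_mem_nil, or_false, not_or,
      List.nodup_nil, and_true, not_false_eq_true]
    exact ⟨⟨hab, hac, fun h => hcon.1 h.symm⟩, ⟨hbc, fun h => hcon.2.1 h.symm⟩,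
      fun h => hcon.2.2 h.symm⟩
  have h := cap hv _ hnd
  simp only [List.map_cons, List.map_nil, List.sum_cons, List.sum_nil] at h
  have := abs_eq_one hv ha
  have := abs_eq_one hv hb
  have := abs_eq_one hv hc
  have := abs_eq_one hv hθ
  omega

/-- a vector of norm three with two known nonzero coordinates has a third one -/
theorem exists_third {v : Θ → ℤ} (hv : dot v v = 3) {a b : Θ} (hab : a ≠ b) (ha : v a ≠ 0)
    (hb : v b ≠ 0) :
    ∃ c, c ≠ a ∧ c ≠ b ∧ v c ≠ 0 ∧ ∀ θ, v θ ≠ 0 → θ = a ∨ θ = b ∨ θ = c := by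
  have hex : ∃ c, c ≠ a ∧ c ≠ b ∧ v c ≠ 0 := by
    by_contra hcon
    push Not at hcon
    have h2 : dot v v = ∑ x ∈ ({a, b} : Finset Θ), v x * v x := by
      unfold dot
      symm
      apply Finset.sum_subset (Finset.subset_univ _)
      intro x _ hx
      rw [Finset.mem_insert, Finset.mem_singleton, not_or] at hx
      rw [hcon x hx.1 hx.2, mul_zero]
    rw [Finset.sum_pair hab, sq_eq_abs hv, sq_eq_abs hv, abs_eq_one hv ha, abs_eq_one hv hb] at h2
    omega
  obtain ⟨c, hca, hcb, hc⟩ := hex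
  exact ⟨c, hca, hcb, hc, supp_of_three hv hab (Ne.symm hca) (Ne.symm hcb) ha hb hc⟩

/-- a vector of norm three with one known nonzero coordinate has two more -/
theorem exists_two {v : Θ → ℤ} (hv : dot v v = 3) {a : Θ} (ha : v a ≠ 0) :
    ∃ b c, a ≠ b ∧ a ≠ c ∧ b ≠ c ∧ v b ≠ 0 ∧ v c ≠ 0 ∧
      ∀ θ, v θ ≠ 0 → θ = a ∨ θ = b ∨ θ = c := by
  have hex : ∃ b, b ≠ a ∧ v b ≠ 0 := by
    by_contra hcon
    push Not at hcon
    have h2 : dot v v = ∑ x ∈ ({a} : Finset Θ), v x * v x := by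
      unfold dot
      symm
      apply Finset.sum_subset (Finset.subset_univ _)
      intro x _ hx
      rw [Finset.mem_singleton] at hx
      rw [hcon x hx, mul_zero]
    rw [Finset.sum_singleton, sq_eq_abs hv, abs_eq_one hv ha] at h2
    omega
  obtain ⟨b, hba, hb⟩ := hex
  obtain ⟨c, hca, hcb, hc, hall⟩ := exists_third hv (Ne.symm hba) ha hb
  exact ⟨b, c, Ne.symm hba, Ne.symm hca, Ne.symm hcb, hb, hc, hall⟩

/-- explicit form of a vector with support in three distinct symbols -/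
theorem eq_tri {v : Θ → ℤ} {a b c : Θ} (hab : a ≠ b) (hac : a ≠ c) (hbc : b ≠ c)
    (hall : ∀ θ, v θ ≠ 0 → θ = a ∨ θ = b ∨ θ = c) : v = tri (v a) a (v b) b (v c) c := by
  funext θ
  unfold tri
  by_cases h1 : θ = a
  · subst h1; simp [hab, hac]
  by_cases h2 : θ = b
  · subst h2; simp [Ne.symm hab, hbc]
  by_cases h3 : θ = c
  · subst h3; simp [Ne.symm hac, Ne.symm hbc]
  · have : v θ = 0 := by
      by_contra h
      rcases hall θ h with h | h | h
      · exact h1 h
      · exact h2 h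
      · exact h3 h
    simp [h1, h2, h3, this]

/-- explicit form from three known values -/
theorem eq_tri_of_vals {v : Θ → ℤ} (hv : dot v v = 3) {a b c : Θ} (hab : a ≠ b) (hac : a ≠ c)
    (hbc : b ≠ c) {α β γ : ℤ} (ha : v a = α) (hb : v b = β) (hc : v c = γ) (hα : α ≠ 0)
    (hβ : β ≠ 0) (hγ : γ ≠ 0) : v = tri α a β b γ c := by
  have h := eq_tri hab hac hbc
    (supp_of_three hv hab hac hbc (ha ▸ hα) (hb ▸ hβ) (hc ▸ hγ))
  rw [ha, hb, hc] at h
  exact h

theorem tri_apply (α : ℤ) (a : Θ) (β : ℤ) (b : Θ) (γ : ℤ) (c : Θ) (θ : Θ) :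
    tri α a β b γ c θ =
      α * (if θ = a then 1 else 0) + β * (if θ = b then 1 else 0) + γ * (if θ = c then 1 else 0) :=
  rfl

end Cfsg.Agent.Lib.Helper33.CTI
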