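import Cfsg.Agent.Lib.Helper33.CTISupp

/-!
# Two-by-four tables (helper33)

A `Tab T U` is a pair of rows of four vectors of norm three with the inner products of the
cyclic TI configuration.  Basic consequences: sign agreement along rows and columns.
-/

set_option autoImplicit false
set_option linter.unusedSectionVars false

namespace Cfsg.Agent.Lib.Helper33.CTI

variable {Θ : Type*} [Fintype Θ] [DecidableEq Θ]

/-- a two-by-four table -/
structure Tab (T U : Fin 4 → Θ → ℤ) : Prop where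
  nT : ∀ j, dot (T j) (T j) = 3
  nU : ∀ j, dot (U j) (U j) = 3
  hTT : ∀ j l, j ≠ l → dot (T j) (T l) = 1
  hUU : ∀ j l, j ≠ l → dot (U j) (U l) = 1
  hTU : ∀ j, dot (T j) (U j) = 1
  hTU' : ∀ j l, j ≠ l → dot (T j) (U l) = 0

namespace Tab

variable {T U : Fin 4 → Θ → ℤ}

theorem exists_ne (j : Fin 4) : ∃ l : Fin 4, l ≠ j := by
  by_cases h : j = 0
  · exact ⟨1, by rw [h]; decide⟩
  · exact ⟨0, fun h' => h h'.symm⟩

theorem posTT (h : Tab T U) {j l : Fin 4} (hjl : j ≠ l) (θ : Θ) : 0 ≤ T j θ * T l θ := by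
  refine line_pos (z := U j) (h.nT j) (h.nT l) (h.hTT j l hjl) ?_ θ
  rw [dot_comm (U j) (T j), dot_comm (U j) (T l), h.hTU j, h.hTU' l j (Ne.symm hjl)]
  decide

theorem posUU (h : Tab T U) {j l : Fin 4} (hjl : j ≠ l) (θ : Θ) : 0 ≤ U j θ * U l θ := by
  refine line_pos (z := T j) (h.nU j) (h.nU l) (h.hUU j l hjl) ?_ θ
  rw [h.hTU j, h.hTU' j l hjl]
  decide

theorem posTU (h : Tab T U) (j : Fin 4) (θ : Θ) : 0 ≤ T j θ * U j θ := by
  obtain ⟨l, hl⟩ := exists_ne j
  refine line_pos (z := T l) (h.nT j) (h.nU j) (h.hTU j) ?_ θ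
  rw [h.hTT l j hl, h.hTU' l j hl]
  decide

theorem swap (h : Tab T U) : Tab U T where
  nT := h.nU
  nU := h.nT
  hTT := h.hUU
  hUU := h.hTT
  hTU := fun j => by rw [dot_comm]; exact h.hTU j
  hTU' := fun j l hjl => by rw [dot_comm]; exact h.hTU' l j (Ne.symm hjl)

end Tab

/-! ### packaging the facts used by `omega` -/

theorem pk {v : Θ → ℤ} (hv : dot v v = 3) (x : Θ) :
    -1 ≤ v x ∧ v x ≤ 1 ∧ v x ≤ |v x| ∧ -v x ≤ |v x| :=
  ⟨(tern hv x).1, (tern hv x).2, le_abs_self _, neg_le_abs _⟩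

theorem cap6 {v : Θ → ℤ} (hv : dot v v = 3) {a b c d e f : Θ} (hnd : [a, b, c, d, e, f].Nodup) :
    |v a| + |v b| + |v c| + |v d| + |v e| + |v f| ≤ 3 := by
  have h := cap hv _ hnd
  simp only [List.map_cons, List.map_nil, List.sum_cons, List.sum_nil] at h
  omega

theorem cap7 {v : Θ → ℤ} (hv : dot v v = 3) {a b c d e f g : Θ}
    (hnd : [a, b, c, d, e, f, g].Nodup) :
    |v a| + |v b| + |v c| + |v d| + |v e| + |v f| + |v g| ≤ 3 := by
  have h := cap hv _ hnd
  simp only [List.map_cons, List.map_nil, List.sum_cons, List.sum_nil] at h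
  omega

theorem cap8 {v : Θ → ℤ} (hv : dot v v = 3) {a b c d e f g k : Θ}
    (hnd : [a, b, c, d, e, f, g, k].Nodup) :
    |v a| + |v b| + |v c| + |v d| + |v e| + |v f| + |v g| + |v k| ≤ 3 := by
  have h := cap hv _ hnd
  simp only [List.map_cons, List.map_nil, List.sum_cons, List.sum_nil] at h
  omega

/-! ### rearranging `tri` -/

theorem tri_swap12 (α : ℤ) (a : Θ) (β : ℤ) (b : Θ) (γ : ℤ) (c : Θ) :
    tri α a β b γ c = tri β b α a γ c := by
  funext θ; unfold tri; ring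

theorem tri_rot (α : ℤ) (a : Θ) (β : ℤ) (b : Θ) (γ : ℤ) (c : Θ) :
    tri α a β b γ c = tri γ c α a β b := by
  funext θ; unfold tri; ring

/-! ### signs -/

theorem tri_self1 {a b c : Θ} (hab : a ≠ b) (hac : a ≠ c) (α β γ : ℤ) :
    tri α a β b γ c a = α := by
  unfold tri; simp [hab, hac]

theorem tri_self2 {a b c : Θ} (hab : a ≠ b) (hbc : b ≠ c) (α β γ : ℤ) :
    tri α a β b γ c b = β := by
  unfold tri; simp [Ne.symm hab, hbc]

theorem tri_self3 {a b c : Θ} (hac : a ≠ c) (hbc : b ≠ c) (α β γ : ℤ) :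
    tri α a β b γ c c = γ := by
  unfold tri; simp [Ne.symm hac, Ne.symm hbc]

/-- sign facts against an explicit three-term vector -/
theorem signs_tri {v w : Θ → ℤ} (hpos : ∀ θ, 0 ≤ v θ * w θ) {α β γ : ℤ} {a b c : Θ}
    (hw : w = tri α a β b γ c) (hab : a ≠ b) (hac : a ≠ c) (hbc : b ≠ c) :
    0 ≤ α * v a ∧ 0 ≤ β * v b ∧ 0 ≤ γ * v c := by
  refine ⟨?_, ?_, ?_⟩
  · have := hpos a; rw [hw, tri_self1 hab hac, mul_comm] at this; exact this
  · have := hpos b; rw [hw, tri_self2 hab hbc, mul_comm] at this; exact this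
  · have := hpos c; rw [hw, tri_self3 hac hbc, mul_comm] at this; exact this

end Cfsg.Agent.Lib.Helper33.CTI
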