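import Mathlib

/-!
# Integer vectors with small norm (helper33)

Basic tools for the combinatorial core of the cyclic TI theorem (Feit–Thompson 13.1 /
Peterfalvi 3.5): integer vectors `Θ → ℤ`, their dot product, vectors of norm three,
the parity lemma, supports and the "cap" inequality.
-/

set_option autoImplicit false
set_option linter.unusedSectionVars false

namespace Cfsg.Agent.Lib.Helper33.CTI

variable {Θ : Type*} [Fintype Θ] [DecidableEq Θ]

/-- dot product of integer vectors -/
def dot (v w : Θ → ℤ) : ℤ := ∑ θ, v θ * w θ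

theorem dot_comm (v w : Θ → ℤ) : dot v w = dot w v := by
  unfold dot; exact Finset.sum_congr rfl (fun _ _ => mul_comm _ _)

theorem dot_add_left (u v w : Θ → ℤ) : dot (u + v) w = dot u w + dot v w := by
  unfold dot; rw [← Finset.sum_add_distrib]
  exact Finset.sum_congr rfl (fun _ _ => by simp [add_mul])

theorem dot_add_right (u v w : Θ → ℤ) : dot u (v + w) = dot u v + dot u w := by
  rw [dot_comm, dot_add_left, dot_comm v, dot_comm w]

theorem dot_neg_left (v w : Θ → ℤ) : dot (-v) w = -dot v w := by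
  unfold dot; rw [← Finset.sum_neg_distrib]
  exact Finset.sum_congr rfl (fun _ _ => by simp)

theorem dot_neg_right (v w : Θ → ℤ) : dot v (-w) = -dot v w := by
  rw [dot_comm, dot_neg_left, dot_comm]

theorem dot_sub_left (u v w : Θ → ℤ) : dot (u - v) w = dot u w - dot v w := by
  rw [sub_eq_add_neg, dot_add_left, dot_neg_left, sub_eq_add_neg]

theorem dot_sub_right (u v w : Θ → ℤ) : dot u (v - w) = dot u v - dot u w := by
  rw [sub_eq_add_neg, dot_add_right, dot_neg_right, sub_eq_add_neg]

/-- the three-term vector `α e_a + β e_b + γ e_c` -/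
def tri (α : ℤ) (a : Θ) (β : ℤ) (b : Θ) (γ : ℤ) (c : Θ) : Θ → ℤ :=
  fun θ => α * (if θ = a then 1 else 0) + β * (if θ = b then 1 else 0) + γ * (if θ = c then 1 else 0)

theorem dot_tri (w : Θ → ℤ) (α : ℤ) (a : Θ) (β : ℤ) (b : Θ) (γ : ℤ) (c : Θ) :
    dot w (tri α a β b γ c) = α * w a + β * w b + γ * w c := by
  unfold dot tri
  simp only [mul_add, Finset.sum_add_distrib]
  have h : ∀ (δ : ℤ) (x : Θ), ∑ θ, w θ * (δ * (if θ = x then 1 else 0)) = δ * w x := by
    intro δ x
    rw [Finset.sum_eq_single x]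
    · simp [mul_comm]
    · intro y _ hy; simp [hy]
    · intro h; exact absurd (Finset.mem_univ x) h
  rw [h, h, h]

theorem tri_dot (w : Θ → ℤ) (α : ℤ) (a : Θ) (β : ℤ) (b : Θ) (γ : ℤ) (c : Θ) :
    dot (tri α a β b γ c) w = α * w a + β * w b + γ * w c := by
  rw [dot_comm, dot_tri]

/-- coordinates of a vector of norm three -/
theorem tern {v : Θ → ℤ} (hv : dot v v = 3) (θ : Θ) : -1 ≤ v θ ∧ v θ ≤ 1 := by
  have h : v θ * v θ ≤ 3 := by
    rw [← hv]; unfold dot
    exact Finset.single_le_sum (f := fun θ => v θ * v θ) (fun _ _ => mul_self_nonneg _)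
      (Finset.mem_univ θ)
  constructor <;> nlinarith

theorem abs_le_one {v : Θ → ℤ} (hv : dot v v = 3) (θ : Θ) : |v θ| ≤ 1 := by
  have := tern hv θ
  rw [abs_le]; exact this

theorem sq_eq_abs {v : Θ → ℤ} (hv : dot v v = 3) (θ : Θ) : v θ * v θ = |v θ| := by
  have h := tern hv θ
  have : v θ = -1 ∨ v θ = 0 ∨ v θ = 1 := by omega
  rcases this with h | h | h <;> rw [h] <;> simp

/-- the abs facts used by `omega` -/
theorem absb (v : Θ → ℤ) (θ : Θ) : v θ ≤ |v θ| ∧ -v θ ≤ |v θ| :=
  ⟨le_abs_self _, neg_le_abs _⟩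

/-- **cap**: the absolute values over a list of distinct symbols add up to at most three -/
theorem cap {v : Θ → ℤ} (hv : dot v v = 3) (l : List Θ) (hl : l.Nodup) :
    (l.map (fun x => |v x|)).sum ≤ 3 := by
  rw [← List.sum_toFinset _ hl]
  calc ∑ x ∈ l.toFinset, |v x| ≤ ∑ x, |v x| :=
        Finset.sum_le_sum_of_subset_of_nonneg (Finset.subset_univ _) (fun _ _ _ => abs_nonneg _)
    _ = dot v v := by
        unfold dot; exact Finset.sum_congr rfl (fun x _ => (sq_eq_abs hv x).symm)
    _ = 3 := hv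

/-- a vector of norm four having an odd inner product with some vector has coordinates in
`{-1, 0, 1}` -/
theorem coeff_of_norm4 (d z : Θ → ℤ) (hd : dot d d = 4) (hz : Odd (dot z d)) (θ : Θ) :
    -1 ≤ d θ ∧ d θ ≤ 1 := by
  by_contra hcon
  have h4 : 4 ≤ d θ * d θ := by
    rcases not_and_or.mp hcon with h | h
    · have : d θ ≤ -2 := by omega
      nlinarith
    · have : 2 ≤ d θ := by omega
      nlinarith
  have hsplit : dot d d = d θ * d θ + ∑ x ∈ Finset.univ.erase θ, d x * d x := by
    unfold dot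
    rw [← Finset.add_sum_erase _ _ (Finset.mem_univ θ)]
  have hrest : ∑ x ∈ Finset.univ.erase θ, d x * d x = 0 := by
    have : 0 ≤ ∑ x ∈ Finset.univ.erase θ, d x * d x :=
      Finset.sum_nonneg (fun _ _ => mul_self_nonneg _)
    omega
  have hzero : ∀ x, x ≠ θ → d x = 0 := by
    intro x hx
    have := (Finset.sum_eq_zero_iff_of_nonneg (fun _ _ => mul_self_nonneg _)).mp hrest x
      (Finset.mem_erase.mpr ⟨hx, Finset.mem_univ x⟩)
    exact mul_self_eq_zero.mp this
  have hθ : d θ * d θ = 4 := by omega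
  have hval : d θ = 2 ∨ d θ = -2 := by
    have h1 : (d θ - 2) * (d θ + 2) = 0 := by linear_combination hθ
    rcases mul_eq_zero.mp h1 with h | h
    · left; omega
    · right; omega
  have hdot : dot z d = z θ * d θ := by
    unfold dot
    rw [Finset.sum_eq_single θ]
    · intro x _ hx; rw [hzero x hx, mul_zero]
    · intro h; exact absurd (Finset.mem_univ θ) h
  rw [hdot] at hz
  rcases hval with h | h <;> rw [h] at hz
  · exact absurd hz (by rw [Int.not_odd_iff_even]; exact ⟨z θ, by ring⟩)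
  · exact absurd hz (by rw [Int.not_odd_iff_even]; exact ⟨-z θ, by ring⟩)

/-- **parity lemma**: two vectors of norm three with inner product one, whose difference has
an odd inner product with some vector, never have opposite signs at a coordinate. -/
theorem line_pos {v w z : Θ → ℤ} (hv : dot v v = 3) (hw : dot w w = 3) (hvw : dot v w = 1)
    (hz : Odd (dot z v - dot z w)) (θ : Θ) : 0 ≤ v θ * w θ := by
  have hd : dot (v - w) (v - w) = 4 := by
    rw [dot_sub_left, dot_sub_right, dot_sub_right, hv, hw, dot_comm w v, hvw]; norm_num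
  have hz' : Odd (dot z (v - w)) := by rw [dot_sub_right]; exact hz
  have h := coeff_of_norm4 (v - w) z hd hz' θ
  simp only [Pi.sub_apply] at h
  have h1 := tern hv θ
  have h2 := tern hw θ
  have : v θ = -1 ∨ v θ = 0 ∨ v θ = 1 := by omega
  have : w θ = -1 ∨ w θ = 0 ∨ w θ = 1 := by omega
  rcases ‹v θ = -1 ∨ v θ = 0 ∨ v θ = 1› with a | a | a <;>
  rcases ‹w θ = -1 ∨ w θ = 0 ∨ w θ = 1› with b | b | b <;> rw [a, b] at h ⊢ <;> omega

/-- two vectors with inner product one share a symbol -/
theorem line_exists {v w : Θ → ℤ} (hvw : dot v w = 1) : ∃ θ, v θ ≠ 0 ∧ w θ ≠ 0 := by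
  by_contra hcon
  push Not at hcon
  have : dot v w = 0 := by
    unfold dot
    apply Finset.sum_eq_zero
    intro θ _
    by_cases h : v θ = 0
    · rw [h, zero_mul]
    · rw [hcon θ h, mul_zero]
  omega

/-- two vectors with inner product one and no opposite signs share exactly one symbol -/
theorem line_unique {v w : Θ → ℤ} (hvw : dot v w = 1) (hpos : ∀ θ, 0 ≤ v θ * w θ) {θ θ' : Θ}
    (h1 : v θ ≠ 0) (h2 : w θ ≠ 0) (h3 : v θ' ≠ 0) (h4 : w θ' ≠ 0) : θ = θ' := by
  by_contra hne
  have hp : ∀ x, v x ≠ 0 → w x ≠ 0 → 1 ≤ v x * w x := by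
    intro x hx hy
    have := hpos x
    have : v x * w x ≠ 0 := mul_ne_zero hx hy
    omega
  have hsub : ∑ x ∈ ({θ, θ'} : Finset Θ), v x * w x ≤ ∑ x, v x * w x :=
    Finset.sum_le_sum_of_subset_of_nonneg (Finset.subset_univ _) (fun x _ _ => hpos x)
  rw [Finset.sum_pair hne] at hsub
  have := hp θ h1 h2
  have := hp θ' h3 h4
  unfold dot at hvw
  omega

end Cfsg.Agent.Lib.Helper33.CTI
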