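import Mathlib

set_option autoImplicit false

namespace Cfsg.Agent.Lib.Helper33

variable {W : Type*} [Group W] [Finite W]

/-- In a finite commutative group, a subgroup is cut out by the linear characters trivial on it. -/
theorem exists_hom_ne_one_of_not_mem (hcomm : ∀ a b : W, a * b = b * a) (N : Subgroup W) {u : W}
    (hu : u ∉ N) : ∃ φ : W →* ℂˣ, (∀ y ∈ N, φ y = 1) ∧ φ u ≠ 1 := by
  let _ : CommGroup W := { ‹Group W› with mul_comm := hcomm }
  have : NeZero (Monoid.exponent W) := ⟨Monoid.exponent_ne_zero_of_finite⟩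
  by_contra hne
  push Not at hne
  exact hu ((CommGroup.forall_monoidHom_apply_eq_one_iff (M := ℂ) N u).mp hne)

theorem finite_monoidHom_units (hcomm : ∀ a b : W, a * b = b * a) : Finite (W →* ℂˣ) := by
  let _ : CommGroup W := { ‹Group W› with mul_comm := hcomm }
  have : NeZero (Monoid.exponent W) := ⟨Monoid.exponent_ne_zero_of_finite⟩
  infer_instance

/-- the linear characters trivial on `N`, as a subgroup of the dual -/
def annihilator (N : Subgroup W) : Subgroup (W →* ℂˣ) where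
  carrier := {φ | ∀ y ∈ N, φ y = 1}
  one_mem' := fun _ _ => rfl
  mul_mem' := by
    intro a b ha hb y hy
    rw [MonoidHom.mul_apply, ha y hy, hb y hy, one_mul]
  inv_mem' := by
    intro a ha y hy
    rw [MonoidHom.inv_apply, ha y hy, inv_one]

omit [Finite W] in
theorem mem_annihilator (N : Subgroup W) (φ : W →* ℂˣ) :
    φ ∈ annihilator N ↔ ∀ y ∈ N, φ y = 1 := Iff.rfl

omit [Finite W] in
theorem sum_annihilator_apply_of_mem (N : Subgroup W)
    [Fintype (annihilator N)] {u : W} (hu : u ∈ N) :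
    ∑ φ : annihilator N, ((φ : W →* ℂˣ) u : ℂ) = (Fintype.card (annihilator N) : ℂ) := by
  have : ∀ φ : annihilator N, ((φ : W →* ℂˣ) u : ℂ) = 1 := by
    intro φ
    rw [φ.2 u hu]; rfl
  rw [Finset.sum_congr rfl (fun φ _ => this φ)]
  simp

/-- Orthogonality: the sum of `φ u` over the characters trivial on `N` vanishes off `N`. -/
theorem sum_annihilator_apply_of_not_mem (hcomm : ∀ a b : W, a * b = b * a) (N : Subgroup W)
    [Fintype (annihilator N)] {u : W} (hu : u ∉ N) :
    ∑ φ : annihilator N, ((φ : W →* ℂˣ) u : ℂ) = 0 := by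
  obtain ⟨φ₀, hφ₀N, hφ₀u⟩ := exists_hom_ne_one_of_not_mem hcomm N hu
  let φ₀' : annihilator N := ⟨φ₀, hφ₀N⟩
  have key : ((φ₀ u : ℂˣ) : ℂ) * ∑ φ : annihilator N, ((φ : W →* ℂˣ) u : ℂ) =
      ∑ φ : annihilator N, ((φ : W →* ℂˣ) u : ℂ) := by
    have h1 : ∑ φ : annihilator N, ((φ : W →* ℂˣ) u : ℂ) =
        ∑ φ : annihilator N, (((φ₀' * φ : annihilator N) : W →* ℂˣ) u : ℂ) :=
      (Equiv.sum_comp (Equiv.mulLeft φ₀') (fun φ : annihilator N => ((φ : W →* ℂˣ) u : ℂ))).symm
    conv_rhs => rw [h1]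
    rw [Finset.mul_sum]
    apply Finset.sum_congr rfl
    intro φ _
    simp only [Subgroup.coe_mul, MonoidHom.mul_apply, Units.val_mul]
    rfl
  have hne : ((φ₀ u : ℂˣ) : ℂ) ≠ 1 := by
    intro h
    apply hφ₀u
    exact Units.ext h
  have : (((φ₀ u : ℂˣ) : ℂ) - 1) * ∑ φ : annihilator N, ((φ : W →* ℂˣ) u : ℂ) = 0 := by
    rw [sub_mul, key, one_mul, sub_self]
  rcases mul_eq_zero.mp this with h | h
  · exact absurd (sub_eq_zero.mp h) hne
  · exact h

end Cfsg.Agent.Lib.Helper33
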