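import Cfsg.Agent.Lib.Helper76.ModC
import Cfsg.Agent.Lib.Helper33.F4Ext

/-!
K-2F4-A (keystone 108901): the generators of `²F₄` are fixed by the twisting automorphism.
-/

set_option autoImplicit false
set_option linter.unusedSimpArgs false
set_option linter.unusedVariables false
set_option maxRecDepth 100000

namespace Cfsg.Agent.Lib.Helper33.F4

open Cfsg.Lie Cfsg.Agent.Lib.Helper24 Cfsg.Agent.Lib.Helper76.ModC

variable {K : Type*} [Field K] [CharP K 2] {e : ℕ} (S : SigmaF K e)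

/-- a word identity checked modulo 2, for elements of the general linear group -/
theorem wordGL_eq_of_checkF (y0 y1 y2 y3 : K) (w1 w2 : List (ℕ × Poly))
    (h : checkWordEqModC 2 chevF4 w1 w2 = true) :
    (envF4 K).hF.wordGL (denW y0 y1 y2 y3 w1) = (envF4 K).hF.wordGL (denW y0 y1 y2 y3 w2) := by
  apply Units.ext
  rw [Facts.wordGL_val, Facts.wordGL_val]
  exact wordMat_eq_of_checkModC 2 chevF4 y0 y1 y2 y3 w1 w2 h

theorem comm_check_pos :
    checkWordEqModC 2 chevF4 [(24, Poly.x0), (33, Poly.x1)] [(33, Poly.x1), (24, Poly.x0)] = true := by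
  decide +kernel

theorem comm_check_neg :
    checkWordEqModC 2 chevF4 [(23, Poly.x0), (14, Poly.x1)] [(14, Poly.x1), (23, Poly.x0)] = true := by
  decide +kernel

theorem b_check_pos : checkWordEqModC 2 chevF4
    [(25, Poly.x0), (27, Poly.x1), (30, Poly.add (Poly.mul Poly.x0 (Poly.mul Poly.x1 Poly.x1)) Poly.x3),
      (28, Poly.x2)]
    [(27, Poly.x1), (25, Poly.x0), (28, Poly.add (Poly.mul Poly.x0 Poly.x1) Poly.x2), (30, Poly.x3)] = true := by
  decide +kernel

theorem b_check_neg : checkWordEqModC 2 chevF4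
    [(22, Poly.x0), (20, Poly.x1), (17, Poly.add (Poly.mul Poly.x0 (Poly.mul Poly.x1 Poly.x1)) Poly.x3),
      (19, Poly.x2)]
    [(20, Poly.x1), (22, Poly.x0), (19, Poly.add (Poly.mul Poly.x0 Poly.x1) Poly.x2), (17, Poly.x3)] = true := by
  decide +kernel

/-- in characteristic 2: `x_24(a) x_33(b) = x_33(b) x_24(a)` -/
theorem comm_pos (a b : K) :
    (envF4 K).hF.wordGL [(24, a), (33, b)] = (envF4 K).hF.wordGL [(33, b), (24, a)] := by
  have h := wordGL_eq_of_checkF a b 0 0 _ _ comm_check_pos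
  simpa [denW] using h

theorem comm_neg (a b : K) :
    (envF4 K).hF.wordGL [(23, a), (14, b)] = (envF4 K).hF.wordGL [(14, b), (23, a)] := by
  have h := wordGL_eq_of_checkF a b 0 0 _ _ comm_check_neg
  simpa [denW] using h

/-- in characteristic 2: `x_b(a) x_a(b) x_{2a+b}(c) x_{a+b}(d) = x_a(b) x_b(a) x_{a+b}(ab + d) x_{2a+b}(ab² + c)` -/
theorem reorder_pos (a b c d : K) :
    (envF4 K).hF.wordGL [(25, a), (27, b), (30, a * (b * b) + c), (28, d)] =
      (envF4 K).hF.wordGL [(27, b), (25, a), (28, a * b + d), (30, c)] := by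
  have h := wordGL_eq_of_checkF a b d c _ _ b_check_pos
  simpa [denW, Poly.den_add, Poly.den_mul] using h

theorem reorder_neg (a b c d : K) :
    (envF4 K).hF.wordGL [(22, a), (20, b), (17, a * (b * b) + c), (19, d)] =
      (envF4 K).hF.wordGL [(20, b), (22, a), (19, a * b + d), (17, c)] := by
  have h := wordGL_eq_of_checkF a b d c _ _ b_check_neg
  simpa [denW, Poly.den_add, Poly.den_mul] using h

theorem pow_e_2e (hθ : ∀ t : K, t ^ (2 * e * e) = t) (t : K) : (t ^ e) ^ (2 * e) = t := by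
  rw [← pow_mul, show e * (2 * e) = 2 * e * e by ring, hθ]

theorem pow_2e_e (hθ : ∀ t : K, t ^ (2 * e * e) = t) (t : K) : (t ^ (2 * e)) ^ e = t := by
  rw [← pow_mul, hθ]

theorem add_pow_2e (hadd : ∀ x y : K, (x + y) ^ e = x ^ e + y ^ e) (x y : K) :
    (x + y) ^ (2 * e) = x ^ (2 * e) + y ^ (2 * e) := by
  rw [mul_comm 2 e, pow_mul, pow_mul, pow_mul, hadd, CharTwo.add_sq]

/-- the exponent of the third coordinate -/
theorem third_coord (hθ : ∀ t : K, t ^ (2 * e * e) = t) (hadd : ∀ x y : K, (x + y) ^ e = x ^ e + y ^ e)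
    (t u : K) : (t ^ (e + 1) + u) ^ (2 * e) = t * (t ^ e * t ^ e) + u ^ (2 * e) := by
  rw [add_pow_2e hadd]
  congr 1
  rw [← pow_mul, show (e + 1) * (2 * e) = 2 * e * e + (e + e) by ring, pow_add, hθ, pow_add]

theorem ext_pGL (hθ : ∀ t : K, t ^ (2 * e * e) = t) (t : K) : S.ext (pGL K e t) = pGL K e t := by
  unfold pGL
  rw [S.ext_wordGL _ (by
    intro p hp
    simp only [f4PairWord, List.mem_cons, List.not_mem_nil, or_false] at hp
    rcases hp with rfl | rfl <;> (show (_ : ℕ) < 48; simp only [f4p1, f4p4, f4m1, f4m4]; norm_num))]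
  have e1 : (f4PairWord e f4p1 f4p4 t).map (fun p => (barF p.1, p.2 ^ (lamF p.1 * e))) =
      [(24, (t ^ e) ^ (2 * e)), (33, t ^ (1 * e))] := rfl
  rw [e1, pow_e_2e hθ, one_mul, comm_pos]
  rfl

theorem ext_pGLn (hθ : ∀ t : K, t ^ (2 * e * e) = t) (t : K) : S.ext (pGLn K e t) = pGLn K e t := by
  unfold pGLn
  rw [S.ext_wordGL _ (by
    intro p hp
    simp only [f4PairWord, List.mem_cons, List.not_mem_nil, or_false] at hp
    rcases hp with rfl | rfl <;> (show (_ : ℕ) < 48; simp only [f4p1, f4p4, f4m1, f4m4]; norm_num))]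
  have e1 : (f4PairWord e f4m1 f4m4 t).map (fun p => (barF p.1, p.2 ^ (lamF p.1 * e))) =
      [(23, (t ^ e) ^ (2 * e)), (14, t ^ (1 * e))] := rfl
  rw [e1, pow_e_2e hθ, one_mul, comm_neg]
  rfl

theorem ext_bGL (hθ : ∀ t : K, t ^ (2 * e * e) = t) (hadd : ∀ x y : K, (x + y) ^ e = x ^ e + y ^ e) (t u : K) :
    S.ext (bGL K e t u) = bGL K e t u := by
  unfold bGL
  rw [S.ext_wordGL _ (by
    intro p hp
    simp only [b2ClassWord, List.mem_cons, List.not_mem_nil, or_false] at hp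
    rcases hp with rfl | rfl | rfl | rfl <;> (show (_ : ℕ) < 48; simp only [f4a, f4b, f4ab, f4aab, f4ma, f4mb, f4mab, f4maab]; norm_num))]
  have e1 : (b2ClassWord e f4a f4b f4ab f4aab t u).map (fun p => (barF p.1, p.2 ^ (lamF p.1 * e))) =
      [(25, (t ^ e) ^ (2 * e)), (27, t ^ (1 * e)), (30, (t ^ (e + 1) + u) ^ (2 * e)),
        (28, (u ^ (2 * e)) ^ (1 * e))] := rfl
  rw [e1, pow_e_2e hθ, one_mul, pow_2e_e hθ, third_coord hθ hadd, reorder_pos]
  have e2 : t * t ^ e + u = t ^ (e + 1) + u := by rw [pow_succ, mul_comm]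
  rw [e2]
  rfl

theorem ext_bGLn (hθ : ∀ t : K, t ^ (2 * e * e) = t) (hadd : ∀ x y : K, (x + y) ^ e = x ^ e + y ^ e) (t u : K) :
    S.ext (bGLn K e t u) = bGLn K e t u := by
  unfold bGLn
  rw [S.ext_wordGL _ (by
    intro p hp
    simp only [b2ClassWord, List.mem_cons, List.not_mem_nil, or_false] at hp
    rcases hp with rfl | rfl | rfl | rfl <;> (show (_ : ℕ) < 48; simp only [f4a, f4b, f4ab, f4aab, f4ma, f4mb, f4mab, f4maab]; norm_num))]
  have e1 : (b2ClassWord e f4ma f4mb f4mab f4maab t u).map (fun p => (barF p.1, p.2 ^ (lamF p.1 * e))) =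
      [(22, (t ^ e) ^ (2 * e)), (20, t ^ (1 * e)), (17, (t ^ (e + 1) + u) ^ (2 * e)),
        (19, (u ^ (2 * e)) ^ (1 * e))] := rfl
  rw [e1, pow_e_2e hθ, one_mul, pow_2e_e hθ, third_coord hθ hadd, reorder_neg]
  have e2 : t * t ^ e + u = t ^ (e + 1) + u := by rw [pow_succ, mul_comm]
  rw [e2]
  rfl

end Cfsg.Agent.Lib.Helper33.F4
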