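import Cfsg.Agent.Lib.Helper33.F4A
import Cfsg.Agent.Lib.Helper24.TwOrd

/-!
K-2F4-B1 (keystone 108902): the fixed points of the twisting automorphism on the root subgroups of the two
fundamental classes of `²F₄`.
-/

set_option autoImplicit false
set_option linter.unusedSimpArgs false
set_option linter.unusedVariables false
set_option maxRecDepth 100000

namespace Cfsg.Agent.Lib.Helper33.F4

open Cfsg.Lie Cfsg.Agent.Lib.Helper24

/-- a grading for which the lists `[33, 24]` and `[27, 25, 28, 30]` are sorted -/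
def lamB1 : List ℤ := [8, 15, 21, 11]

theorem lamB1_g0 : ∀ r < 48, chevF4.IsPosRoot r → 0 < gradeE chevF4 lamB1 (chevF4.rank + r) := by
  decide +kernel

theorem LJ1_good : goodListOK chevF4 [33, 24] = true := by decide +kernel
theorem LJ2_good : goodListOK chevF4 [27, 25, 28, 30] = true := by decide +kernel
theorem LJ1_sorted : gradeSortedOK chevF4 lamB1 [33, 24] = true := by decide +kernel
theorem LJ2_sorted : gradeSortedOK chevF4 lamB1 [27, 25, 28, 30] = true := by decide +kernel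
theorem LJ1_pos : ∀ r ∈ [33, 24], chevF4.IsPosRoot r := by decide
theorem LJ2_pos : ∀ r ∈ [27, 25, 28, 30], chevF4.IsPosRoot r := by decide

variable {K : Type*} [Field K]

/-- coefficient functions -/
def cJ1 (a b : K) : ℕ → K := fun r => if r = 33 then a else if r = 24 then b else 0

def cJ2 (a b c d : K) : ℕ → K := fun r =>
  if r = 27 then a else if r = 25 then b else if r = 28 then c else if r = 30 then d else 0

theorem ordProd_LJ1 (c : ℕ → K) :
    (envF4 K).hF.ordProd [33, 24] c = (envF4 K).hF.wordGL [(33, c 33), (24, c 24)] := rfl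

theorem ordProd_cJ1 (a b : K) :
    (envF4 K).hF.ordProd [33, 24] (cJ1 a b) = (envF4 K).hF.wordGL [(33, a), (24, b)] := rfl

theorem ordProd_LJ2 (c : ℕ → K) : (envF4 K).hF.ordProd [27, 25, 28, 30] c =
    (envF4 K).hF.wordGL [(27, c 27), (25, c 25), (28, c 28), (30, c 30)] := rfl

theorem ordProd_cJ2 (a b c d : K) : (envF4 K).hF.ordProd [27, 25, 28, 30] (cJ2 a b c d) =
    (envF4 K).hF.wordGL [(27, a), (25, b), (28, c), (30, d)] := rfl

theorem ordProd_inj_B1 (L : List ℕ) (hnd : L.Nodup) (hs : gradeSortedOK chevF4 lamB1 L = true)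
    (hpos : ∀ r ∈ L, chevF4.IsPosRoot r) (c c' : ℕ → K)
    (h : (envF4 K).hF.ordProd L c = (envF4 K).hF.ordProd L c') : ∀ r ∈ L, c r = c' r :=
  (envF4 K).hF.ordProd_inj_gen (envF4 K).hU.negNe (envF4 K).hU.unit
    (fun r s hr hs h => (envF4 K).neg_inj_pos r s hr hs h) lamB1
    (fun r hr => lamB1_g0 r hr.1 hr) L hnd (gradeSortedOK_spec lamB1 L hs) hpos c c' h

theorem wordJ1_inj (a b a' b' : K)
    (h : (envF4 K).hF.wordGL [(33, a), (24, b)] = (envF4 K).hF.wordGL [(33, a'), (24, b')]) :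
    a = a' ∧ b = b' := by
  rw [← ordProd_cJ1, ← ordProd_cJ1] at h
  have h1 := ordProd_inj_B1 [33, 24] (by decide) LJ1_sorted LJ1_pos _ _ h
  exact ⟨h1 33 (by simp), h1 24 (by simp)⟩

theorem wordJ2_inj (a b c d a' b' c' d' : K)
    (h : (envF4 K).hF.wordGL [(27, a), (25, b), (28, c), (30, d)] =
      (envF4 K).hF.wordGL [(27, a'), (25, b'), (28, c'), (30, d')]) :
    a = a' ∧ b = b' ∧ c = c' ∧ d = d' := by
  rw [← ordProd_cJ2, ← ordProd_cJ2] at h
  have h1 := ordProd_inj_B1 [27, 25, 28, 30] (by decide) LJ2_sorted LJ2_pos _ _ h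
  exact ⟨h1 27 (by simp), h1 25 (by simp), h1 28 (by simp), h1 30 (by simp)⟩

theorem pGL_inj {e : ℕ} (t t' : K) (h : pGL K e t = pGL K e t') : t = t' :=
  (wordJ1_inj _ _ _ _ h).2

theorem bGL_inj {e : ℕ} (t u t' u' : K) (h : bGL K e t u = bGL K e t' u') : t = t' ∧ u = u' := by
  obtain ⟨_, h2, h3, _⟩ := wordJ2_inj _ _ _ _ _ _ _ _ h
  refine ⟨h2, ?_⟩
  rw [h2] at h3
  exact add_left_cancel h3

variable [CharP K 2] {e : ℕ} (S : SigmaF K e)

theorem fix_J1 (hθ : ∀ t : K, t ^ (2 * e * e) = t) (g : GL chevF4.Idx K)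
    (hg : g ∈ rootClosure chevF4 K (· ∈ [33, 24])) (hfix : S.ext g = g) : ∃ t : K, g = pGL K e t := by
  obtain ⟨c, _, hc⟩ := (envF4 K).hF.exists_ordProd_gen (envF4 K).hC (envF4 K).hcomm
    (fun r s hr hs => (envF4 K).pos_ne_neg r s hr hs) [33, 24] (by decide) LJ1_pos LJ1_good g hg
  rw [hc, ordProd_LJ1, S.ext_wordGL _ (by
    intro p hp
    simp only [List.mem_cons, List.not_mem_nil, or_false] at hp
    rcases hp with rfl | rfl <;> norm_num)] at hfix
  have e1 : ([(33, c 33), (24, c 24)] : List (ℕ × K)).map (fun p => (barF p.1, p.2 ^ (lamF p.1 * e))) =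
      [(24, c 33 ^ (2 * e)), (33, c 24 ^ (1 * e))] := rfl
  rw [e1, comm_pos, one_mul] at hfix
  obtain ⟨h1, _⟩ := wordJ1_inj _ _ _ _ hfix
  refine ⟨c 24, ?_⟩
  rw [hc, ordProd_LJ1, ← h1]
  rfl

theorem fix_J2 (hθ : ∀ t : K, t ^ (2 * e * e) = t) (hadd : ∀ x y : K, (x + y) ^ e = x ^ e + y ^ e)
    (g : GL chevF4.Idx K) (hg : g ∈ rootClosure chevF4 K (· ∈ [27, 25, 28, 30])) (hfix : S.ext g = g) :
    ∃ t u : K, g = bGL K e t u := by
  obtain ⟨c, _, hc⟩ := (envF4 K).hF.exists_ordProd_gen (envF4 K).hC (envF4 K).hcomm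
    (fun r s hr hs => (envF4 K).pos_ne_neg r s hr hs) [27, 25, 28, 30] (by decide) LJ2_pos LJ2_good g hg
  rw [hc, ordProd_LJ2, S.ext_wordGL _ (by
    intro p hp
    simp only [List.mem_cons, List.not_mem_nil, or_false] at hp
    rcases hp with rfl | rfl | rfl | rfl <;> norm_num)] at hfix
  have e1 : ([(27, c 27), (25, c 25), (28, c 28), (30, c 30)] : List (ℕ × K)).map
      (fun p => (barF p.1, p.2 ^ (lamF p.1 * e))) =
      [(25, c 27 ^ (2 * e)), (27, c 25 ^ (1 * e)), (30, c 28 ^ (2 * e)), (28, c 30 ^ (1 * e))] := rfl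
  have e2 : c 28 ^ (2 * e) = c 27 ^ (2 * e) * (c 25 ^ (1 * e) * c 25 ^ (1 * e)) +
      (c 28 ^ (2 * e) + c 27 ^ (2 * e) * (c 25 ^ (1 * e) * c 25 ^ (1 * e))) := by
    rw [add_comm (c 28 ^ (2 * e)), ← add_assoc, CharTwo.add_self_eq_zero, zero_add]
  rw [e1, e2, reorder_pos] at hfix
  obtain ⟨h1, h2, h3, _⟩ := wordJ2_inj _ _ _ _ _ _ _ _ hfix
  rw [one_mul] at h1 h3
  refine ⟨c 25, c 30 ^ e, ?_⟩
  rw [hc, ordProd_LJ2]
  have h4 : c 28 = c 25 ^ (e + 1) + c 30 ^ e := by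
    rw [← h3, h2, pow_succ, mul_comm]
  have h5 : (c 30 ^ e) ^ (2 * e) = c 30 := pow_e_2e hθ _
  unfold bGL b2ClassWord
  rw [h5, ← h4, h1]
  rfl

end Cfsg.Agent.Lib.Helper33.F4
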