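import Cfsg.Agent.Lib.Helper33.F4BN

/-!
K-2F4-B3 (keystone 108904): transport of the classes of positive roots of `²F₄` by the elements `n_w`.
-/

set_option autoImplicit false
set_option linter.unusedSimpArgs false
set_option linter.unusedVariables false
set_option maxRecDepth 100000

namespace Cfsg.Agent.Lib.Helper33.F4

open Cfsg.Lie Cfsg.Agent.Lib.Helper24 Cfsg.Agent.Lib.Helper33.TwBN

variable {K : Type*} [Field K]

/-- conjugation by `n_w⁻¹` maps root elements of a set `R` of roots into `rootClosure` of the preimage -/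
theorem nW_conj_inv_mem (w : List ℕ) (hw : ∀ i ∈ w, i < 4) (R R' : ℕ → Prop)
    (hR : ∀ s, R s → ∃ r < 48, R' r ∧ rhoW chevF4 w r = s) (g : GL chevF4.Idx K)
    (hg : g ∈ rootClosure chevF4 K R) :
    ((envF4 K).hF.nW w)⁻¹ * g * (envF4 K).hF.nW w ∈ rootClosure chevF4 K R' := by
  unfold rootClosure at hg
  induction hg using Subgroup.closure_induction with
  | mem x hx =>
    obtain ⟨s, t, hs, hx⟩ := hx
    rw [(envF4 K).hF.eq_xGL x s t hx]
    obtain ⟨r, hr48, hr, rfl⟩ := hR s hs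
    obtain ⟨η, hη, h1⟩ := (envF4 K).hF.nW_conj (F := K) (envF4 K).hN w hw r hr48
    have h2 := h1 ((η : K) * t)
    have e5 : (η : K) * ((η : K) * t) = t := by
      rcases hη with h | h <;> rw [h] <;> simp
    rw [e5] at h2
    rw [← h2]
    have : ((envF4 K).hF.nW w)⁻¹ * ((envF4 K).hF.nW w * (envF4 K).hF.xGL r ((η : K) * t) *
        ((envF4 K).hF.nW w)⁻¹) * (envF4 K).hF.nW w = (envF4 K).hF.xGL r ((η : K) * t) := by group
    rw [this]
    exact (envF4 K).hF.xGL_mem_rootClosure R' _ hr _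
  | one => simp
  | mul x y _ _ hx hy =>
    have : ((envF4 K).hF.nW w)⁻¹ * (x * y) * (envF4 K).hF.nW w =
      (((envF4 K).hF.nW w)⁻¹ * x * (envF4 K).hF.nW w) * (((envF4 K).hF.nW w)⁻¹ * y * (envF4 K).hF.nW w) := by
      group
    rw [this]; exact Subgroup.mul_mem _ hx hy
  | inv x _ hx =>
    have : ((envF4 K).hF.nW w)⁻¹ * x⁻¹ * (envF4 K).hF.nW w =
      (((envF4 K).hF.nW w)⁻¹ * x * (envF4 K).hF.nW w)⁻¹ := by group
    rw [this]; exact Subgroup.inv_mem _ hx

theorem wordsF_lt : ∀ k < 8, ∀ i ∈ wordsF.getD k [], i < 4 := by decide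

theorem fundF_lt : ∀ k < 8, ∀ r ∈ fundF k, r < 48 := by decide

theorem conj_class (k : ℕ) (hk : k < 8) (g : GL chevF4.Idx K) :
    g ∈ rootClosure chevF4 K (· ∈ classesF.getD k []) ↔
      ((envF4 K).hF.nW (wordsF.getD k []))⁻¹ * g * (envF4 K).hF.nW (wordsF.getD k []) ∈
        rootClosure chevF4 K (· ∈ fundF k) := by
  have hspec := wordsF_spec k hk
  constructor
  · intro hg
    refine nW_conj_inv_mem (wordsF.getD k []) (wordsF_lt k hk) _ _ ?_ g hg
    intro s hs
    rw [← hspec] at hs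
    obtain ⟨r, hr, rfl⟩ := List.mem_map.mp hs
    exact ⟨r, fundF_lt k hk r hr, hr, rfl⟩
  · intro hg
    have h := nW_conj_mem (K := K) (wordsF.getD k []) (wordsF_lt k hk) (· ∈ fundF k)
      (· ∈ classesF.getD k []) ?_ (fundF_lt k hk) _ hg
    · have e : (envF4 K).hF.nW (wordsF.getD k []) * (((envF4 K).hF.nW (wordsF.getD k []))⁻¹ * g *
          (envF4 K).hF.nW (wordsF.getD k [])) * ((envF4 K).hF.nW (wordsF.getD k []))⁻¹ = g := by group
      rwa [e] at h
    · intro r _ hr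
      show rhoW chevF4 (wordsF.getD k []) r ∈ classesF.getD k []
      rw [← hspec]
      exact List.mem_map_of_mem hr

theorem nW_wordsF_mem (G : Subgroup (GL chevF4.Idx K)) (h1 : s1F K ∈ G) (h2 : s2F K ∈ G) (k : ℕ)
    (hk : k < 8) : (envF4 K).hF.nW (wordsF.getD k []) ∈ G := by
  have h0 : (envF4 K).hF.nW (F := K) [] ∈ G := by
    have : (envF4 K).hF.nW (F := K) [] = 1 := by simp [Facts.nW]
    rw [this]; exact Subgroup.one_mem _
  have ha : ∀ w : List ℕ, (envF4 K).hF.nW (F := K) w ∈ G → (envF4 K).hF.nW (F := K) ([0, 3] ++ w) ∈ G := by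
    intro w hw
    rw [(envF4 K).hF.nW_app]
    exact Subgroup.mul_mem _ h1 hw
  have hb : ∀ w : List ℕ, (envF4 K).hF.nW (F := K) w ∈ G →
      (envF4 K).hF.nW (F := K) ([1, 2, 1, 2] ++ w) ∈ G := by
    intro w hw
    rw [(envF4 K).hF.nW_app]
    exact Subgroup.mul_mem _ h2 hw
  interval_cases k
  · exact h0
  · exact ha [] h0
  · exact ha _ (hb [] h0)
  · exact ha _ (hb _ (ha [] h0))
  · exact hb _ (ha _ (hb [] h0))
  · exact hb _ (ha [] h0)
  · exact hb [] h0
  · exact h0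

end Cfsg.Agent.Lib.Helper33.F4
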