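import Mathlib

/-!
Arithmetic of the field of `2 ^ (2 m + 1)` elements used for the large Ree groups.
-/

set_option autoImplicit false

namespace Cfsg.Agent.Lib.Helper33.F4

variable {K : Type*} [Field K] [Fintype K] {m : ℕ}

theorem charP_two_of_card (hK : Fintype.card K = 2 ^ (2 * m + 1)) : CharP K 2 := by
  obtain ⟨p, hp⟩ := CharP.exists K
  obtain ⟨n, hpp, hn⟩ := FiniteField.card K p
  have h1 : p ∣ 2 ^ (2 * m + 1) := by
    rw [← hK, hn]
    exact dvd_pow_self p n.ne_zero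
  have h2 : p = 2 := (Nat.prime_dvd_prime_iff_eq hpp Nat.prime_two).mp (hpp.dvd_of_dvd_pow h1)
  rw [← h2]
  exact hp

theorem pow_thetaF (hK : Fintype.card K = 2 ^ (2 * m + 1)) (t : K) : t ^ (2 * 2 ^ m * 2 ^ m) = t := by
  have : 2 * 2 ^ m * 2 ^ m = Fintype.card K := by
    rw [hK]; ring
  rw [this, FiniteField.pow_card]

theorem add_pow_two_pow [CharP K 2] (m : ℕ) (x y : K) : (x + y) ^ 2 ^ m = x ^ 2 ^ m + y ^ 2 ^ m := by
  haveI : Fact (Nat.Prime 2) := ⟨Nat.prime_two⟩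
  exact add_pow_char_pow x y 2 m

theorem two_pow_ne_zero' (m : ℕ) : 2 ^ m ≠ 0 := by positivity

end Cfsg.Agent.Lib.Helper33.F4
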