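import Cfsg.Agent.Lib.Helper33.F4Defs
import Cfsg.Agent.Lib.Helper37.GraphAutFinal
import Cfsg.Agent.Lib.Helper24.FactsAll
import Cfsg.Agent.Lib.Helper24.TwInst

/-!
The twisting automorphism `σ` of `F₄(K)` for a finite field `K` of characteristic 2:
the graph automorphism (helper37) composed with the field automorphism `t ↦ t ^ (2 ^ m)`.
-/

set_option autoImplicit false
set_option linter.unusedSimpArgs false
set_option maxRecDepth 100000

namespace Cfsg.Agent.Lib.Helper33.F4

open Cfsg.Lie Cfsg.Agent.Lib.Helper24 Cfsg.Agent.Lib.Helper37.GraphAut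

theorem f4_mem_list : chevF4 ∈ [chevG2, chevB2, chevD4, chevF4, chevE6, chevE7, chevE8] := by simp

theorem factsF4 : Facts chevF4 := facts_all chevF4 f4_mem_list

theorem sigmaRF_val : ∀ r : Fin chevF4.nroots, (dataF4.σR r).val = barF r.val := by decide +kernel

theorem exF_pow : ∀ r : Fin chevF4.nroots, (if dataF4.ex r then 2 else 1) = lamF r.val := by decide +kernel

/-- the graph automorphism of `F₄(K)` in characteristic 2, on all root elements -/
theorem exists_graphAutF {K : Type*} [Field K] [CharP K 2] (hperf : ∀ x : K, ∃ y : K, y ^ 2 = x) :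
    ∃ α : ↥(chevF4.group K) ≃* ↥(chevF4.group K), ∀ r < 48, ∀ (t : K) (g : ↥(chevF4.group K)),
      ((g : GL chevF4.Idx K) : Matrix chevF4.Idx chevF4.Idx K) = chevF4.x K r t →
      ((α g : GL chevF4.Idx K) : Matrix chevF4.Idx chevF4.Idx K) = chevF4.x K (barF r) (t ^ lamF r) := by
  obtain ⟨α, hα⟩ := graphF4 (K := K) hperf
  refine ⟨α, ?_⟩
  intro r hr t g hg
  have h1 := hα g ⟨r, hr⟩ t hg
  rw [h1, sigmaRF_val, exF_pow]

/-- the field automorphism of `F₄(K)` -/
theorem exists_fieldAutF {K : Type*} [Field K] (f : K ≃+* K) :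
    ∃ φ : ↥(chevF4.group K) ≃* ↥(chevF4.group K), ∀ (g : ↥(chevF4.group K)),
      ((φ g : GL chevF4.Idx K) : Matrix chevF4.Idx chevF4.Idx K) =
        ((g : GL chevF4.Idx K) : Matrix chevF4.Idx chevF4.Idx K).map f := by
  have hF := factsF4
  have hgen : ∀ (f' : K ≃+* K) (g : GL chevF4.Idx K), g ∈ chevF4.group K → glAutF chevF4 f' g ∈ chevF4.group K := by
    intro f' g hg
    have hle : chevF4.group K ≤ (chevF4.group K).comap (glAutF chevF4 f').toMonoidHom := by
      unfold ChevalleyDatum.group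
      rw [Subgroup.closure_le]
      rintro x ⟨r, t, hx⟩
      show glAutF chevF4 f' x ∈ Subgroup.closure _
      have : x = hF.xGL r.val t := Units.ext (by rw [hx, Facts.xGL_val, x_of_fin])
      rw [this, glAutF_xGL]
      exact Subgroup.subset_closure ⟨r, f' t, by rw [Facts.xGL_val, x_of_fin]⟩
    exact hle hg
  refine ⟨{ toFun := fun g => ⟨glAutF chevF4 f g.1, hgen f g.1 g.2⟩
            invFun := fun g => ⟨glAutF chevF4 f.symm g.1, hgen f.symm g.1 g.2⟩
            left_inv := ?_
            right_inv := ?_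
            map_mul' := ?_ }, ?_⟩
  · intro g
    apply Subtype.ext
    apply Units.ext
    ext i j
    show f.symm (f ((g.1 : Matrix chevF4.Idx chevF4.Idx K) i j)) = _
    simp
  · intro g
    apply Subtype.ext
    apply Units.ext
    ext i j
    show f (f.symm ((g.1 : Matrix chevF4.Idx chevF4.Idx K) i j)) = _
    simp
  · intro a b
    apply Subtype.ext
    show glAutF chevF4 f (a.1 * b.1) = glAutF chevF4 f a.1 * glAutF chevF4 f b.1
    exact map_mul _ _ _
  · intro g
    rfl

/-- the twisting automorphism of `F₄(K)`, `K` finite of characteristic 2 -/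
theorem exists_sigmaF {K : Type*} [Field K] [Finite K] [CharP K 2] (m : ℕ) : Nonempty (SigmaF K (2 ^ m)) := by
  haveI : Fact (Nat.Prime 2) := ⟨by norm_num⟩
  have hperf : ∀ x : K, ∃ y : K, y ^ 2 = x := by
    intro x
    have hs : Function.Surjective (frobenius K 2) :=
      Finite.injective_iff_surjective.mp (frobenius_inj K 2)
    obtain ⟨y, hy⟩ := hs x
    exact ⟨y, hy⟩
  obtain ⟨α, hα⟩ := exists_graphAutF hperf
  obtain ⟨φ, hφ⟩ := exists_fieldAutF (iterateFrobeniusEquiv K 2 m)
  refine ⟨⟨φ.trans α, ?_⟩⟩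
  intro r hr t g hg
  show ((α (φ g) : GL chevF4.Idx K) : Matrix chevF4.Idx chevF4.Idx K) = _
  have h1 : ((φ g : GL chevF4.Idx K) : Matrix chevF4.Idx chevF4.Idx K) = chevF4.x K r (t ^ 2 ^ m) := by
    rw [hφ g, hg]
    have := x_mapF chevF4 (iterateFrobeniusEquiv K 2 m : K →+* K) r t
    rw [show ((chevF4.x K r t).map (iterateFrobeniusEquiv K 2 m)) =
      (chevF4.x K r t).map ((iterateFrobeniusEquiv K 2 m : K →+* K)) from rfl, this]
    congr 1
  rw [hα r hr _ _ h1, ← pow_mul, mul_comm]

end Cfsg.Agent.Lib.Helper33.F4
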