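import Cfsg.Agent.Lib.Helper33.F4BN

/-!
The torus `H ⊓ G¹` of the large Ree group: order `(q - 1)²`, from the leaves E of the keystone pack K-2F4.
-/

set_option autoImplicit false
set_option linter.unusedSimpArgs false
set_option linter.unusedVariables false

namespace Cfsg.Agent.Lib.Helper33.F4

open Cfsg.Lie Cfsg.Agent.Lib.Helper24 Cfsg.Agent.Lib.Helper33.TwBN

variable {K : Type*} [Field K] {e : ℕ}

/-- the leaves of the keystone pack used for the torus -/
structure TorLeavesF (S : SigmaF K e) : Prop where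
  G1_fix : ∀ g : GL chevF4.Idx K, g ∈ twistedF4 K e → S.ext g = g
  tor_mem : ∀ p : Kˣ × Kˣ, torF K e p ∈ twistedF4 K e
  torF_inj : Function.Injective (torF K e)
  fix_diag : ∀ h : GL chevF4.Idx K, h ∈ chevF4.diagonalSubgroup K → S.ext h = h →
    ∃ p : Kˣ × Kˣ, h = torF K e p

variable {S : SigmaF K e} (T : TorLeavesF S)
include T

theorem TorLeavesF.inf_eq_range : chevF4.diagonalSubgroup K ⊓ twistedF4 K e = (torF K e).range := by
  apply le_antisymm
  · rintro h ⟨hH, hG⟩
    obtain ⟨p, rfl⟩ := T.fix_diag h hH (T.G1_fix h hG)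
    exact ⟨p, rfl⟩
  · rintro h ⟨p, rfl⟩
    exact ⟨torF_mem_diag e p, T.tor_mem p⟩

theorem TorLeavesF.card_eq [Fintype K] :
    Nat.card ↥(chevF4.diagonalSubgroup K ⊓ twistedF4 K e) = (Fintype.card K - 1) ^ 2 := by
  rw [T.inf_eq_range]
  have h1 : Nat.card ↥(torF K e).range = Nat.card (Kˣ × Kˣ) :=
    (Nat.card_congr (MonoidHom.ofInjective T.torF_inj).toEquiv).symm
  rw [h1, Nat.card_prod, Nat.card_units, Nat.card_eq_fintype_card, pow_two]

end Cfsg.Agent.Lib.Helper33.F4
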