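import Cfsg.Agent.Lib.Helper33.F4Core
import Cfsg.Agent.Lib.Helper66.DihedralIso

/-!
The large Ree groups: `N¹ / H¹` is dihedral of order 16.
-/

set_option autoImplicit false
set_option linter.unusedSimpArgs false
set_option linter.unusedVariables false
set_option maxRecDepth 100000

namespace Cfsg.Agent.Lib.Helper33.F4

open Cfsg.Lie Cfsg.Agent.Lib.Helper24 Cfsg.Agent.Lib.Helper33.TwBN

variable {K : Type*} [Field K] {e : ℕ}

theorem s1_ne_check : ¬ ∀ r < 48, rhoW chevF4 [0, 3] r = r := by decide +kernel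
theorem s2_ne_check : ¬ ∀ r < 48, rhoW chevF4 [1, 2, 1, 2] r = r := by decide +kernel
theorem w8_check : ∀ r < 48, rhoW chevF4 (repW 8 ([0, 3] ++ [1, 2, 1, 2])) r = r := by decide +kernel
theorem w4_check : ¬ ∀ r < 48, rhoW chevF4 (repW 4 ([0, 3] ++ [1, 2, 1, 2])) r = r := by decide +kernel

theorem s12_pow (k : ℕ) : (s1F K * s2F K) ^ k = (envF4 K).hF.nW (repW k ([0, 3] ++ [1, 2, 1, 2])) := by
  rw [nW_repW, (envF4 K).hF.nW_app]
  rfl

section leaves

variable {S : SigmaF K e} (L : LeavesF S)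
include L

/-- `N¹ / H¹` is dihedral of order 16 -/
theorem LeavesF.weyl :
    ∃ φ : ↥(chevF4.monomialSubgroup K ⊓ twistedF4 K e) →* DihedralGroup 8,
      Function.Surjective φ ∧
      φ.ker = (chevF4.diagonalSubgroup K ⊓ twistedF4 K e).subgroupOf
        (chevF4.monomialSubgroup K ⊓ twistedF4 K e) := by
  classical
  set N1 : Subgroup (GL chevF4.Idx K) := chevF4.monomialSubgroup K ⊓ twistedF4 K e with hN1
  set H1 : Subgroup ↥N1 := (chevF4.diagonalSubgroup K ⊓ twistedF4 K e).subgroupOf N1 with hH1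
  have hmemH1 : ∀ n : ↥N1, n ∈ H1 ↔ (n : GL chevF4.Idx K) ∈ chevF4.diagonalSubgroup K := by
    intro n
    rw [hH1, Subgroup.mem_subgroupOf, Subgroup.mem_inf]
    exact ⟨fun h => h.1, fun h => ⟨h, n.2.2⟩⟩
  haveI hnorm : H1.Normal := by
    constructor
    intro h hh n
    rw [hmemH1] at hh ⊢
    rw [Subgroup.coe_mul, Subgroup.coe_mul, Subgroup.coe_inv]
    exact L.setup.hNH _ n.2.1 _ hh
  let s1' : ↥N1 := ⟨s1F K, s1F_mem_mono, L.s1F_mem⟩
  let s2' : ↥N1 := ⟨s2F K, s2F_mem_mono, L.s2F_mem⟩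
  let x : ↥N1 ⧸ H1 := QuotientGroup.mk s1'
  let y : ↥N1 ⧸ H1 := QuotientGroup.mk s2'
  have hmk1 : ∀ n : ↥N1, (QuotientGroup.mk n : ↥N1 ⧸ H1) = 1 ↔
      (n : GL chevF4.Idx K) ∈ chevF4.diagonalSubgroup K := by
    intro n
    rw [QuotientGroup.eq_one_iff, hmemH1]
  have hx2 : x ^ 2 = 1 := by
    show (QuotientGroup.mk s1' : ↥N1 ⧸ H1) ^ 2 = 1
    rw [← QuotientGroup.mk_pow, hmk1, pow_two]
    exact L.sq_mem [0, 3] (by simp)
  have hy2 : y ^ 2 = 1 := by
    show (QuotientGroup.mk s2' : ↥N1 ⧸ H1) ^ 2 = 1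
    rw [← QuotientGroup.mk_pow, hmk1, pow_two]
    exact L.sq_mem [1, 2, 1, 2] (by simp)
  have hx1 : x ≠ 1 := by
    intro h
    have h' := (hmk1 s1').1 h
    exact s1_ne_check ((nW_mem_diag_iff (envF4 K) [0, 3] (by decide)).1 h')
  have hy1 : y ≠ 1 := by
    intro h
    have h' := (hmk1 s2').1 h
    exact s2_ne_check ((nW_mem_diag_iff (envF4 K) [1, 2, 1, 2] (by decide)).1 h')
  have hox : orderOf x = 2 := orderOf_eq_prime hx2 hx1
  have hoy : orderOf y = 2 := orderOf_eq_prime hy2 hy1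
  have hxyk : ∀ k : ℕ, (x * y) ^ k = 1 ↔ (s1F K * s2F K) ^ k ∈ chevF4.diagonalSubgroup K := by
    intro k
    show ((QuotientGroup.mk s1' : ↥N1 ⧸ H1) * QuotientGroup.mk s2') ^ k = 1 ↔ _
    rw [← QuotientGroup.mk_mul, ← QuotientGroup.mk_pow, hmk1]
    rfl
  have hoxy : orderOf (x * y) = 8 := by
    have h8 : (x * y) ^ 2 ^ (2 + 1) = 1 := by
      rw [show 2 ^ (2 + 1) = 8 from rfl, hxyk, s12_pow]
      exact (nW_mem_diag_iff (envF4 K) _ (lt4 (repW_lt 8 _ 4 (by decide)))).2 w8_check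
    have h4 : ¬ (x * y) ^ 2 ^ 2 = 1 := by
      rw [show 2 ^ 2 = 4 from rfl, hxyk, s12_pow]
      intro h
      exact w4_check ((nW_mem_diag_iff (envF4 K) _ (lt4 (repW_lt 4 _ 4 (by decide)))).1 h)
    exact orderOf_eq_prime_pow h4 h8
  -- generation
  have htop : Subgroup.closure ({x, y} : Set (↥N1 ⧸ H1)) = ⊤ := by
    rw [eq_top_iff]
    intro q _
    obtain ⟨n, rfl⟩ := QuotientGroup.mk_surjective q
    have hn0 : (n : GL chevF4.Idx K) ∈ Subgroup.closure (({s1F K, s2F K} : Set (GL chevF4.Idx K)) ∪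
        ((chevF4.diagonalSubgroup K ⊓ twistedF4 K e : Subgroup (GL chevF4.Idx K)) : Set (GL chevF4.Idx K))) := by
      rw [Subgroup.closure_union, Subgroup.closure_eq]
      exact L.setup.N_inf_G1_le n.2
    have key : ∀ g : GL chevF4.Idx K, g ∈ Subgroup.closure (({s1F K, s2F K} : Set (GL chevF4.Idx K)) ∪
        ((chevF4.diagonalSubgroup K ⊓ twistedF4 K e : Subgroup (GL chevF4.Idx K)) : Set (GL chevF4.Idx K))) →
        ∃ hg : g ∈ N1, (QuotientGroup.mk ⟨g, hg⟩ : ↥N1 ⧸ H1) ∈ Subgroup.closure ({x, y} : Set (↥N1 ⧸ H1)) := by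
      intro g hg
      induction hg using Subgroup.closure_induction with
      | mem g hg =>
        rcases hg with (rfl | rfl) | hg
        · exact ⟨s1'.2, Subgroup.subset_closure (Or.inl rfl)⟩
        · exact ⟨s2'.2, Subgroup.subset_closure (Or.inr rfl)⟩
        · refine ⟨⟨diagonal_le_monomial chevF4 K hg.1, hg.2⟩, ?_⟩
          have : (QuotientGroup.mk ⟨g, ⟨diagonal_le_monomial chevF4 K hg.1, hg.2⟩⟩ : ↥N1 ⧸ H1) = 1 := by
            rw [hmk1]; exact hg.1
          rw [this]; exact Subgroup.one_mem _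
      | one => exact ⟨Subgroup.one_mem _, by
          have : (QuotientGroup.mk ⟨1, Subgroup.one_mem N1⟩ : ↥N1 ⧸ H1) = 1 := by
            rw [hmk1]; exact Subgroup.one_mem _
          rw [this]; exact Subgroup.one_mem _⟩
      | mul a b _ _ ha hb =>
        obtain ⟨ha1, ha2⟩ := ha
        obtain ⟨hb1, hb2⟩ := hb
        refine ⟨Subgroup.mul_mem _ ha1 hb1, ?_⟩
        have : (QuotientGroup.mk ⟨a * b, Subgroup.mul_mem _ ha1 hb1⟩ : ↥N1 ⧸ H1) =
            QuotientGroup.mk ⟨a, ha1⟩ * QuotientGroup.mk ⟨b, hb1⟩ := rfl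
        rw [this]; exact Subgroup.mul_mem _ ha2 hb2
      | inv a _ ha =>
        obtain ⟨ha1, ha2⟩ := ha
        refine ⟨Subgroup.inv_mem _ ha1, ?_⟩
        have : (QuotientGroup.mk ⟨a⁻¹, Subgroup.inv_mem _ ha1⟩ : ↥N1 ⧸ H1) =
            (QuotientGroup.mk ⟨a, ha1⟩)⁻¹ := rfl
        rw [this]; exact Subgroup.inv_mem _ ha2
    obtain ⟨_, h2⟩ := key _ hn0
    exact h2
  obtain ⟨ε⟩ := Cfsg.Agent.Lib.Helper66.nonempty_equiv_dihedral_of_closure_eq_top hox hoy htop
  rw [hoxy] at ε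
  refine ⟨ε.toMonoidHom.comp (QuotientGroup.mk' H1), ?_, ?_⟩
  · exact ε.surjective.comp (QuotientGroup.mk'_surjective H1)
  · ext n
    rw [MonoidHom.mem_ker, MonoidHom.comp_apply]
    constructor
    · intro h
      have h2 : (QuotientGroup.mk' H1) n = 1 := by
        apply ε.injective
        rw [map_one]
        exact h
      rwa [QuotientGroup.mk'_apply, QuotientGroup.eq_one_iff] at h2
    · intro h
      have h2 : (QuotientGroup.mk' H1) n = 1 := by
        rwa [QuotientGroup.mk'_apply, QuotientGroup.eq_one_iff]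
      rw [h2]
      exact map_one _

end leaves

end Cfsg.Agent.Lib.Helper33.F4
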