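import Cfsg.Agent.Lib.Helper33.F4Ext
import Cfsg.Agent.Lib.Helper24.TorusCard

/-!
The parametrisation `(μ, ν) ↦ h_{p₁}(ν ^ e) h_{p₂}(μ ^ e) h_{p₃}(μ) h_{p₄}(ν)` of the fixed points of the
twisting automorphism on the torus of `F₄(K)`.
-/

set_option autoImplicit false

namespace Cfsg.Agent.Lib.Helper33.F4

open Cfsg.Lie Cfsg.Agent.Lib.Helper24

/-- `(μ, ν) ↦ (ν ^ e, μ ^ e, μ, ν)` (coordinates `0, 1` belong to the short fundamental roots `p₁ = 33`, `p₂ = 27`,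
coordinates `2, 3` to the long ones `p₃ = 25`, `p₄ = 24`) -/
def torParamF (K : Type*) [Field K] (e : ℕ) : Kˣ × Kˣ →* (Fin 4 → Kˣ) where
  toFun p := ![p.2 ^ e, p.1 ^ e, p.1, p.2]
  map_one' := by
    funext i
    fin_cases i <;> simp
  map_mul' a b := by
    funext i
    fin_cases i <;> simp [mul_pow]

/-- `(μ, ν) ↦ h_{p₁}(ν ^ e) h_{p₂}(μ ^ e) h_{p₃}(μ) h_{p₄}(ν)` -/
noncomputable def torF (K : Type*) [Field K] (e : ℕ) : Kˣ × Kˣ →* GL chevF4.Idx K :=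
  (torusHom chevF4 4 K).comp (torParamF K e)

theorem torF_mem_diag {K : Type*} [Field K] (e : ℕ) (p : Kˣ × Kˣ) :
    torF K e p ∈ chevF4.diagonalSubgroup K := by
  rw [← (envF4 K).hF.torusHom_range (envF4 K).hS 4 rfl]
  exact ⟨_, rfl⟩

end Cfsg.Agent.Lib.Helper33.F4
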