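import Cfsg.Agent.Lib.Helper33.F4Count
import Cfsg.Agent.Lib.Helper33.F4Weyl
import Cfsg.Agent.Lib.Helper33.F4Torus
import Cfsg.Agent.Lib.Helper33.F4B1
import Cfsg.Agent.Lib.Helper33.F4B3
import Cfsg.Agent.Lib.Helper33.F4Field
import Cfsg.Agent.Lib.Helper33.F4Sigma
import Cfsg.Agent.Lib.Helper76.F4D
import Cfsg.Agent.Lib.Helper76.F4E

/-!
Assembly of the leaves of the keystone pack K-2F4: given the leaves C (`σ` preserves `U`, `H`, `N`, `U_n⁻`) and
B2 (peeling of the classes), all the structures `LeavesF`, `CountLeavesF`, `TorLeavesF` are inhabited.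
-/

set_option autoImplicit false
set_option linter.unusedSimpArgs false
set_option linter.unusedVariables false
set_option maxRecDepth 100000

namespace Cfsg.Agent.Lib.Helper33.F4

open Cfsg.Lie Cfsg.Agent.Lib.Helper24 Cfsg.Agent.Lib.Helper33.TwBN

variable {K : Type*} [Field K] [CharP K 2] {e : ℕ}

/-- the leaf C -/
structure LeafC (S : SigmaF K e) : Prop where
  ext_pos : ∀ g : GL chevF4.Idx K, g ∈ chevF4.posUnipotent K → S.ext g ∈ chevF4.posUnipotent K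
  ext_diag : ∀ g : GL chevF4.Idx K, g ∈ chevF4.diagonalSubgroup K → S.ext g ∈ chevF4.diagonalSubgroup K
  ext_mono : ∀ g : GL chevF4.Idx K, g ∈ chevF4.monomialSubgroup K → S.ext g ∈ chevF4.monomialSubgroup K
  ext_Un : ∀ n : GL chevF4.Idx K, n ∈ chevF4.monomialSubgroup K → ∀ u : GL chevF4.Idx K,
    u ∈ Un chevF4 K n → S.ext u ∈ Un chevF4 K (S.ext n)
  ext_nGL : ∀ r : ℕ, r < 48 → ∀ t : K, t ≠ 0 →
    S.ext ((envF4 K).hF.nGL r t) = (envF4 K).hF.nGL (barF r) (t ^ (lamF r * e))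

/-- the leaf B2 -/
structure LeafB2 (S : SigmaF K e) : Prop where
  fix_peel : ∀ g : GL chevF4.Idx K, g ∈ chevF4.posUnipotent K → S.ext g = g →
    ∃ x : ℕ → GL chevF4.Idx K,
      (∀ k < 8, x k ∈ rootClosure chevF4 K (· ∈ classesF.getD k []) ∧ S.ext (x k) = x k) ∧
      g = ((List.range 8).map x).prod
  peel_unique : ∀ x x' : ℕ → GL chevF4.Idx K,
    (∀ k < 8, x k ∈ rootClosure chevF4 K (· ∈ classesF.getD k [])) →
    (∀ k < 8, x' k ∈ rootClosure chevF4 K (· ∈ classesF.getD k [])) →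
    ((List.range 8).map x).prod = ((List.range 8).map x').prod → ∀ k < 8, x k = x' k

/-- every element of the twisted group is fixed -/
theorem G1_fix_of (S : SigmaF K e) (hθ : ∀ t : K, t ^ (2 * e * e) = t)
    (hadd : ∀ x y : K, (x + y) ^ e = x ^ e + y ^ e) (g : GL chevF4.Idx K) (hg : g ∈ twistedF4 K e) :
    S.ext g = g := by
  have key : g ∈ chevF4.group K ∧ S.ext g = g := by
    rw [twistedF4_eq_closure] at hg
    induction hg using Subgroup.closure_induction with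
    | mem x hx =>
      rcases hx with (⟨t, rfl⟩ | ⟨t, u, rfl⟩) | (⟨t, rfl⟩ | ⟨t, u, rfl⟩)
      · exact ⟨(envF4 K).hF.wordGL_mem_group _, ext_pGL S hθ t⟩
      · exact ⟨(envF4 K).hF.wordGL_mem_group _, ext_bGL S hθ hadd t u⟩
      · exact ⟨(envF4 K).hF.wordGL_mem_group _, ext_pGLn S hθ t⟩
      · exact ⟨(envF4 K).hF.wordGL_mem_group _, ext_bGLn S hθ hadd t u⟩
    | one => exact ⟨Subgroup.one_mem _, S.ext_one⟩
    | mul x y _ _ hx hy =>
      exact ⟨Subgroup.mul_mem _ hx.1 hy.1, by rw [S.ext_mul hx.1 hy.1, hx.2, hy.2]⟩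
    | inv x _ hx =>
      exact ⟨Subgroup.inv_mem _ hx.1, by rw [S.ext_inv hx.1, hx.2]⟩
  exact key.2

theorem nW_mem_of (he : e ≠ 0) (k : ℕ) (hk : k < 8) :
    (envF4 K).hF.nW (wordsF.getD k []) ∈ twistedF4 K e :=
  nW_wordsF_mem (twistedF4 K e) (Cfsg.Agent.Lib.Helper76.F4.s1F_mem he)
    (Cfsg.Agent.Lib.Helper76.F4.s2F_mem he) k hk

/-- the leaves for the count of `U¹` -/
theorem countLeavesF_of (S : SigmaF K e) (he : e ≠ 0) (hθ : ∀ t : K, t ^ (2 * e * e) = t)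
    (hadd : ∀ x y : K, (x + y) ^ e = x ^ e + y ^ e) (B : LeafB2 S) : CountLeavesF S where
  G1_fix := G1_fix_of S hθ hadd
  fix_J1 := fix_J1 S hθ
  fix_J2 := fix_J2 S hθ hadd
  pGL_inj := pGL_inj
  bGL_inj := bGL_inj
  fix_peel := B.fix_peel
  peel_unique := B.peel_unique
  conj_class := fun k hk g => conj_class k hk g
  nW_mem := nW_mem_of he

/-- the leaves for the `(B, N)`-pair -/
theorem leavesF_of (S : SigmaF K e) (he : e ≠ 0) (hθ : ∀ t : K, t ^ (2 * e * e) = t)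
    (hadd : ∀ x y : K, (x + y) ^ e = x ^ e + y ^ e) (B : LeafB2 S) (C : LeafC S) : LeavesF S where
  ext_pGL := ext_pGL S hθ
  ext_pGLn := ext_pGLn S hθ
  ext_bGL := ext_bGL S hθ hadd
  ext_bGLn := ext_bGLn S hθ hadd
  fix_pos := fix_pos_of S (G1_fix_of S hθ hadd) (fix_J1 S hθ) (fix_J2 S hθ hadd) B.fix_peel
    (fun k hk g hg => (conj_class k hk g).1 hg) (nW_mem_of he)
  ext_pos := C.ext_pos
  ext_diag := C.ext_diag
  ext_mono := C.ext_mono
  ext_Un := C.ext_Un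
  ext_nGL := C.ext_nGL
  s1F_mem := Cfsg.Agent.Lib.Helper76.F4.s1F_mem he
  s2F_mem := Cfsg.Agent.Lib.Helper76.F4.s2F_mem he
  e_ne := he

/-- the leaves for the torus -/
theorem torLeavesF_of (S : SigmaF K e) (he : e ≠ 0) (hθ : ∀ t : K, t ^ (2 * e * e) = t)
    (hadd : ∀ x y : K, (x + y) ^ e = x ^ e + y ^ e) (C : LeafC S) : TorLeavesF S where
  G1_fix := G1_fix_of S hθ hadd
  tor_mem := Cfsg.Agent.Lib.Helper76.F4.tor_mem he hθ (Cfsg.Agent.Lib.Helper76.F4.s2F_mem he)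
  torF_inj := Cfsg.Agent.Lib.Helper76.F4.torF_inj he
  fix_diag := fun h hh hfix => Cfsg.Agent.Lib.Helper76.F4.fix_diag S hθ C.ext_nGL h hh hfix

end Cfsg.Agent.Lib.Helper33.F4
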