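import Cfsg.Agent.Lib.Helper33.F4BN
import Cfsg.Agent.Lib.Helper24.TwOrd

/-!
K-2F4-B2 (keystone 108903): peeling of the classes of positive roots of `²F₄` in the angular order.
-/

set_option autoImplicit false
set_option linter.unusedSimpArgs false
set_option linter.unusedVariables false
set_option maxRecDepth 100000

namespace Cfsg.Agent.Lib.Helper33.F4

open Cfsg.Lie Cfsg.Agent.Lib.Helper24 Cfsg.Agent.Lib.Helper33.TwBN

/-- the roots of the classes `k, k+1, …, 7`, in the angular order -/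
def LF (k : ℕ) : List ℕ := (classesF.drop k).flatten

/-- the class `k` -/
def clsF (k : ℕ) : List ℕ := classesF.getD k []

/-- a word for the element of `W¹` whose inversion set is the union of the classes `0, …, k` -/
def uF (k : ℕ) : List ℕ :=
  [[0, 3], [1, 2, 1, 2, 0, 3], [0, 3, 1, 2, 1, 2, 0, 3], [1, 2, 1, 2, 0, 3, 1, 2, 1, 2, 0, 3],
   [0, 3, 1, 2, 1, 2, 0, 3, 1, 2, 1, 2, 0, 3], [1, 2, 1, 2, 0, 3, 1, 2, 1, 2, 0, 3, 1, 2, 1, 2, 0, 3],
   [0, 3, 1, 2, 1, 2, 0, 3, 1, 2, 1, 2, 0, 3, 1, 2, 1, 2, 0, 3],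
   [1, 2, 1, 2, 0, 3, 1, 2, 1, 2, 0, 3, 1, 2, 1, 2, 0, 3, 1, 2, 1, 2, 0, 3]].getD k []

theorem LF_split : ∀ k < 8, LF k = clsF k ++ LF (k + 1) := by decide
theorem LF_eight : LF 8 = [] := by decide
theorem LF_good : ∀ k < 8, goodListOK chevF4 (LF k) = true := by decide +kernel
theorem LF_nodup : ∀ k < 8, (LF k).Nodup := by decide
theorem LF_pos : ∀ k < 8, ∀ r ∈ LF k, chevF4.IsPosRoot r := by decide
theorem LF_zero : ∀ r < 48, chevF4.IsPosRoot r → r ∈ LF 0 := by decide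
theorem LF_bar : ∀ k < 9, ∀ r ∈ LF k, r < 48 ∧ barF r ∈ LF k := by decide
theorem clsF_bar : ∀ k < 8, ∀ r ∈ clsF k, r < 48 ∧ barF r ∈ clsF k := by decide
theorem clsF_sub : ∀ k < 8, ∀ j < 8, k ≤ j → ∀ r ∈ clsF j, r ∈ LF k := by decide
theorem uF_lt : ∀ k < 8, ∀ i ∈ uF k, i < 4 := by decide
theorem uF_cls : ∀ k < 8, ∀ r < 48, r ∈ clsF k → rhoW chevF4 (uF k) r < 24 := by decide +kernel
theorem uF_rest : ∀ k < 8, ∀ r < 48, r ∈ LF (k + 1) →
    24 ≤ rhoW chevF4 (uF k) r ∧ rhoW chevF4 (uF k) r < 48 := by decide +kernel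

variable {K : Type*} [Field K]

theorem rootClosure_mono' (R R' : ℕ → Prop) (h : ∀ r, R r → R' r) :
    rootClosure chevF4 K R ≤ rootClosure chevF4 K R' := by
  unfold rootClosure
  apply Subgroup.closure_mono
  rintro x ⟨s, u, hs, hx⟩
  exact ⟨s, u, h s hs, hx⟩

theorem ordProd_append (L L' : List ℕ) (t : ℕ → K) :
    (envF4 K).hF.ordProd (L ++ L') t = (envF4 K).hF.ordProd L t * (envF4 K).hF.ordProd L' t := by
  induction L with
  | nil => simp [Facts.ordProd_nil]
  | cons r L ih => rw [List.cons_append, Facts.ordProd_cons, Facts.ordProd_cons, ih, mul_assoc]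

/-- the split of an element of `rootClosure (LF k)` -/
theorem peel_exists (k : ℕ) (hk : k < 8) (g : GL chevF4.Idx K)
    (hg : g ∈ rootClosure chevF4 K (· ∈ LF k)) :
    ∃ x ∈ rootClosure chevF4 K (· ∈ clsF k), ∃ y ∈ rootClosure chevF4 K (· ∈ LF (k + 1)), g = x * y := by
  obtain ⟨t, _, hc⟩ := (envF4 K).hF.exists_ordProd_gen (envF4 K).hC (envF4 K).hcomm
    (fun r s hr hs => (envF4 K).pos_ne_neg r s hr hs) (LF k) (LF_nodup k hk) (LF_pos k hk) (LF_good k hk) g hg
  rw [LF_split k hk, ordProd_append] at hc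
  exact ⟨_, (envF4 K).hF.ordProd_mem _ t, _, (envF4 K).hF.ordProd_mem _ t, hc⟩

/-- the two factors meet trivially -/
theorem inter_trivial (k : ℕ) (hk : k < 8) (z : GL chevF4.Idx K)
    (hz1 : z ∈ rootClosure chevF4 K (· ∈ clsF k)) (hz2 : z ∈ rootClosure chevF4 K (· ∈ LF (k + 1))) :
    z = 1 := by
  have h1 := nW_conj_mem (K := K) (uF k) (uF_lt k hk) (· ∈ clsF k) (fun r => r < 24)
    (fun r hr hr2 => uF_cls k hk r hr hr2) (fun r hr => (clsF_bar k hk r hr).1) z hz1
  have h2 := nW_conj_mem (K := K) (uF k) (uF_lt k hk) (· ∈ LF (k + 1)) (fun r => 24 ≤ r ∧ r < 48)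
    (fun r hr hr2 => uF_rest k hk r hr hr2) (fun r hr => (LF_bar (k + 1) (by omega) r hr).1) z hz2
  have h1' := rootClosure_neg_le chevF4 K _ (fun r hr => (isNeg_iff r).2 hr) h1
  have h2' := rootClosure_pos_le chevF4 K _ (fun r hr => (isPos_iff r).2 hr) h2
  have h3 : (envF4 K).hF.nW (uF k) * z * ((envF4 K).hF.nW (uF k))⁻¹ ∈
      chevF4.borelSubgroup K ⊓ chevF4.negUnipotent K := ⟨pos_le_borel chevF4 K h2', h1'⟩
  rw [(envF4 K).hF.borel_inf_neg.1, Subgroup.mem_bot] at h3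
  have : z = ((envF4 K).hF.nW (uF k))⁻¹ * ((envF4 K).hF.nW (uF k) * z * ((envF4 K).hF.nW (uF k))⁻¹) *
      (envF4 K).hF.nW (uF k) := by group
  rw [this, h3]; group

/-- uniqueness of the split -/
theorem peel_split_unique (k : ℕ) (hk : k < 8) (x x' y y' : GL chevF4.Idx K)
    (hx : x ∈ rootClosure chevF4 K (· ∈ clsF k)) (hx' : x' ∈ rootClosure chevF4 K (· ∈ clsF k))
    (hy : y ∈ rootClosure chevF4 K (· ∈ LF (k + 1))) (hy' : y' ∈ rootClosure chevF4 K (· ∈ LF (k + 1)))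
    (h : x * y = x' * y') : x = x' ∧ y = y' := by
  have e : x'⁻¹ * x = y' * y⁻¹ := by
    have : x'⁻¹ * x = x'⁻¹ * (x * y) * y⁻¹ := by group
    rw [this, h]; group
  have h1 := inter_trivial k hk (x'⁻¹ * x) (Subgroup.mul_mem _ (Subgroup.inv_mem _ hx') hx)
    (by rw [e]; exact Subgroup.mul_mem _ hy' (Subgroup.inv_mem _ hy))
  have hxx : x = x' := by
    have : x = x' * (x'⁻¹ * x) := by group
    rw [this, h1, mul_one]
  refine ⟨hxx, ?_⟩
  rw [hxx] at h
  exact mul_left_cancel h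

variable {e : ℕ} (S : SigmaF K e)

/-- `σ` preserves the root closure of a `barF`-stable list of roots -/
theorem ext_rootClosure (R : List ℕ) (hR : ∀ r ∈ R, r < 48 ∧ barF r ∈ R) (g : GL chevF4.Idx K)
    (hg : g ∈ rootClosure chevF4 K (· ∈ R)) :
    g ∈ chevF4.group K ∧ S.ext g ∈ rootClosure chevF4 K (· ∈ R) := by
  unfold rootClosure at hg
  induction hg using Subgroup.closure_induction with
  | mem x hx =>
    obtain ⟨r, t, hr, hx⟩ := hx
    rw [(envF4 K).hF.eq_xGL x r t hx]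
    refine ⟨(envF4 K).hF.xGL_mem_group r t, ?_⟩
    have := S.ext_xF r (hR r hr).1 t
    simp only [xF] at this
    rw [this]
    exact (envF4 K).hF.xGL_mem_rootClosure _ _ (hR r hr).2 _
  | one => exact ⟨Subgroup.one_mem _, by rw [S.ext_one]; exact Subgroup.one_mem _⟩
  | mul x y _ _ hx hy =>
    exact ⟨Subgroup.mul_mem _ hx.1 hy.1, by rw [S.ext_mul hx.1 hy.1]; exact Subgroup.mul_mem _ hx.2 hy.2⟩
  | inv x _ hx =>
    exact ⟨Subgroup.inv_mem _ hx.1, by rw [S.ext_inv hx.1]; exact Subgroup.inv_mem _ hx.2⟩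

/-- the factors of the split of a fixed element are fixed -/
theorem peel_fixed (k : ℕ) (hk : k < 8) (g : GL chevF4.Idx K)
    (hg : g ∈ rootClosure chevF4 K (· ∈ LF k)) (hfix : S.ext g = g) :
    ∃ x ∈ rootClosure chevF4 K (· ∈ clsF k), ∃ y ∈ rootClosure chevF4 K (· ∈ LF (k + 1)),
      S.ext x = x ∧ S.ext y = y ∧ g = x * y := by
  obtain ⟨x, hx, y, hy, rfl⟩ := peel_exists k hk g hg
  obtain ⟨hxG, hσx⟩ := ext_rootClosure S (clsF k) (clsF_bar k hk) x hx
  obtain ⟨hyG, hσy⟩ := ext_rootClosure S (LF (k + 1)) (LF_bar (k + 1) (by omega)) y hy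
  rw [S.ext_mul hxG hyG] at hfix
  obtain ⟨h1, h2⟩ := peel_split_unique k hk _ _ _ _ hσx hx hσy hy hfix
  exact ⟨x, hx, y, hy, h1, h2, rfl⟩

theorem fix_peel_aux (n : ℕ) : ∀ k, k + n = 8 → ∀ g : GL chevF4.Idx K,
    g ∈ rootClosure chevF4 K (· ∈ LF k) → S.ext g = g →
    ∃ x : ℕ → GL chevF4.Idx K,
      (∀ j, k ≤ j → j < 8 → x j ∈ rootClosure chevF4 K (· ∈ clsF j) ∧ S.ext (x j) = x j) ∧
      g = ((List.range' k n).map x).prod := by
  induction n with
  | zero =>
    intro k hk g hg _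
    have hk8 : k = 8 := by omega
    subst hk8
    refine ⟨fun _ => 1, fun j h1 h2 => by omega, ?_⟩
    have h : rootClosure chevF4 K (· ∈ LF 8) = ⊥ := by
      unfold rootClosure
      rw [Subgroup.closure_eq_bot_iff]
      rintro x ⟨s, u, hs, _⟩
      rw [LF_eight] at hs
      exact absurd hs List.not_mem_nil
    rw [h] at hg
    simpa using Subgroup.mem_bot.mp hg
  | succ n ih =>
    intro k hk g hg hfix
    have hk8 : k < 8 := by omega
    obtain ⟨x0, hx0, y, hy, hfx, hfy, rfl⟩ := peel_fixed S k hk8 g hg hfix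
    obtain ⟨x', hx', hyx'⟩ := ih (k + 1) (by omega) y hy hfy
    refine ⟨fun j => if j = k then x0 else x' j, ?_, ?_⟩
    · intro j h1 h2
      by_cases hjk : j = k
      · subst hjk
        simp only [if_true]
        exact ⟨hx0, hfx⟩
      · simp only [if_neg hjk]
        exact hx' j (by omega) h2
    · rw [List.range'_succ, List.map_cons, List.prod_cons, if_pos rfl, hyx']
      congr 2
      apply List.map_congr_left
      intro j hj
      have := (List.mem_range'_1.mp hj).1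
      rw [if_neg (by omega)]

theorem fix_peel (g : GL chevF4.Idx K) (hg : g ∈ chevF4.posUnipotent K) (hfix : S.ext g = g) :
    ∃ x : ℕ → GL chevF4.Idx K, (∀ k < 8, x k ∈ rootClosure chevF4 K (· ∈ classesF.getD k []) ∧ S.ext (x k) = x k) ∧
      g = ((List.range 8).map x).prod := by
  have hg' : g ∈ rootClosure chevF4 K (· ∈ LF 0) := by
    have : chevF4.posUnipotent K ≤ rootClosure chevF4 K (· ∈ LF 0) := by
      unfold rootClosure ChevalleyDatum.posUnipotent
      apply Subgroup.closure_mono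
      rintro x ⟨r, t, hr, hx⟩
      exact ⟨r, t, LF_zero r hr.1 hr, hx⟩
    exact this hg
  obtain ⟨x, hx, hgx⟩ := fix_peel_aux S 8 0 rfl g hg' hfix
  refine ⟨x, fun k hk => hx k (Nat.zero_le _) hk, ?_⟩
  rw [hgx, List.range_eq_range']

omit S in
theorem peel_unique_aux (n : ℕ) : ∀ k, k + n = 8 → ∀ x x' : ℕ → GL chevF4.Idx K,
    (∀ j, k ≤ j → j < 8 → x j ∈ rootClosure chevF4 K (· ∈ clsF j)) →
    (∀ j, k ≤ j → j < 8 → x' j ∈ rootClosure chevF4 K (· ∈ clsF j)) →
    ((List.range' k n).map x).prod = ((List.range' k n).map x').prod →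
    ∀ j, k ≤ j → j < 8 → x j = x' j := by
  induction n with
  | zero =>
    intro k hk x x' _ _ _ j h1 h2
    omega
  | succ n ih =>
    intro k hk x x' hx hx' h j h1 h2
    have hk8 : k < 8 := by omega
    rw [List.range'_succ, List.map_cons, List.prod_cons, List.map_cons, List.prod_cons] at h
    have hP : ∀ z : ℕ → GL chevF4.Idx K, (∀ j, k ≤ j → j < 8 → z j ∈ rootClosure chevF4 K (· ∈ clsF j)) →
        ((List.range' (k + 1) n).map z).prod ∈ rootClosure chevF4 K (· ∈ LF (k + 1)) := by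
      intro z hz
      apply Subgroup.list_prod_mem
      intro y hy
      obtain ⟨i, hi, rfl⟩ := List.mem_map.mp hy
      have hi' := List.mem_range'_1.mp hi
      have hi8 : i < 8 := by omega
      refine rootClosure_mono' _ _ ?_ (hz i (by omega) hi8)
      intro r hr
      exact clsF_sub (k + 1) (by omega) i hi8 hi'.1 r hr
    obtain ⟨e1, e2⟩ := peel_split_unique k hk8 _ _ _ _ (hx k le_rfl hk8) (hx' k le_rfl hk8)
      (hP x hx) (hP x' hx') h
    by_cases hjk : j = k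
    · rw [hjk]; exact e1
    · exact ih (k + 1) (by omega) x x' (fun i hi1 hi2 => hx i (by omega) hi2)
        (fun i hi1 hi2 => hx' i (by omega) hi2) e2 j (by omega) h2

omit S in
theorem peel_unique (x x' : ℕ → GL chevF4.Idx K)
    (hx : ∀ k < 8, x k ∈ rootClosure chevF4 K (· ∈ classesF.getD k []))
    (hx' : ∀ k < 8, x' k ∈ rootClosure chevF4 K (· ∈ classesF.getD k []))
    (h : ((List.range 8).map x).prod = ((List.range 8).map x').prod) : ∀ k < 8, x k = x' k := by
  intro k hk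
  rw [List.range_eq_range'] at h
  exact peel_unique_aux 8 0 rfl x x' (fun j _ hj => hx j hj) (fun j _ hj => hx' j hj) h k (Nat.zero_le _) hk

end Cfsg.Agent.Lib.Helper33.F4
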