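import Mathlib
import Cfsg.Prelude.Def_LieExceptional

/-!
Variant of `TwBNAbs` where the twisting map is a plain function: abstract construction of the `(B, N)`-pair of the group of fixed points of a twisting automorphism
(Steinberg / Carter ch. 13), from the Bruhat normal form of the ambient group with uniqueness.
No rank-one computation is needed.
-/

set_option autoImplicit false

namespace Cfsg.Agent.Lib.Helper33.TwBN2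

/-- the abstract setting: an ambient group with a split `(B, N)`-structure with unique normal form,
a map `σ` (multiplicative on the products `u n u'`), and a subgroup `G1` of fixed points containing the fixed points of `U` -/
structure Setup (Γ : Type*) [Group Γ] where
  B : Subgroup Γ
  N : Subgroup Γ
  H : Subgroup Γ
  U : Subgroup Γ
  Un : Γ → Subgroup Γ
  σ : Γ → Γ
  G1 : Subgroup Γ
  S : Set Γ
  hBUH : ∀ b ∈ B, ∃ u ∈ U, ∃ h ∈ H, b = u * h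
  hUB : U ≤ B
  hHB : H ≤ B
  hHN : H ≤ N
  hUH : ∀ x ∈ U, x ∈ H → x = 1
  hBN : ∀ x ∈ B, x ∈ N → x ∈ H
  hNH : ∀ n ∈ N, ∀ h ∈ H, n * h * n⁻¹ ∈ H
  nf_exists : ∀ g ∈ G1, ∃ b ∈ B, ∃ n ∈ N, ∃ u ∈ Un n, g = b * n * u
  nf_unique : ∀ b b' n u u' : Γ, b ∈ B → b' ∈ B → n ∈ N → u ∈ Un n → u' ∈ Un n →
    b * n * u = b' * n * u' → b = b' ∧ u = u'
  bruhat : ∀ n ∈ N, ∀ n' ∈ N, ∀ b₁ ∈ B, ∀ b₂ ∈ B, ∀ b₁' ∈ B, ∀ b₂' ∈ B,
    b₁ * n * b₂ = b₁' * n' * b₂' → n⁻¹ * n' ∈ H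
  Un_le : ∀ n, Un n ≤ U
  Un_H : ∀ h ∈ H, ∀ n, Un n ≤ Un (h * n)
  σ_mul3 : ∀ u₁ ∈ U, ∀ n ∈ N, ∀ u ∈ U, σ (u₁ * n * u) = σ u₁ * σ n * σ u
  σU : ∀ u ∈ U, σ u ∈ U
  σN : ∀ n ∈ N, σ n ∈ N
  σUn : ∀ n ∈ N, ∀ u ∈ Un n, σ u ∈ Un (σ n)
  G1_fix : ∀ g ∈ G1, σ g = g
  fixU : ∀ u ∈ U, σ u = u → u ∈ G1
  S_mem : ∀ s ∈ S, s ∈ N ∧ s ∈ G1 ∧ s * s ∈ H
  S_exch : ∀ s ∈ S, ∀ b ∈ B, ∀ n ∈ N, σ n = n → ∀ n' ∈ N, σ n' = n' → ∀ β₁ ∈ B, ∀ β₂ ∈ B,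
    s * b * n = β₁ * n' * β₂ → n⁻¹ * n' ∈ H ∨ (s * n)⁻¹ * n' ∈ H
  S_inj : ∀ s ∈ S, ∀ s' ∈ S, s⁻¹ * s' ∈ B → s = s'
  S_ne : ∀ s ∈ S, ∃ b ∈ B, b ∈ G1 ∧ s * b * s ∉ B
  gens : ∃ X : Set Γ, G1 = Subgroup.closure X ∧ ∀ y ∈ X, y ∈ U ∨ ∃ s ∈ S, s * y * s⁻¹ ∈ U

variable {Γ : Type*} [Group Γ] (D : Setup Γ)

namespace Setup

/-- the normal form of a fixed element has fixed components -/
theorem fixed_nf (g : Γ) (hg : g ∈ D.G1) :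
    ∃ u₁ ∈ D.U, u₁ ∈ D.G1 ∧ ∃ n ∈ D.N, n ∈ D.G1 ∧ ∃ u₂ ∈ D.U, u₂ ∈ D.G1 ∧ g = u₁ * n * u₂ := by
  obtain ⟨b, hb, n, hn, u, hu, e⟩ := D.nf_exists g hg
  obtain ⟨u₁, hu₁, h, hh, rfl⟩ := D.hBUH b hb
  have hn₁ : h * n ∈ D.N := D.N.mul_mem (D.hHN hh) hn
  have hu' : u ∈ D.Un (h * n) := D.Un_H h hh n hu
  have e1 : g = u₁ * (h * n) * u := by rw [e]; group
  have huU : u ∈ D.U := D.Un_le _ hu'
  have hσ : D.σ u₁ * D.σ (h * n) * D.σ u = u₁ * (h * n) * u := by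
    rw [← D.σ_mul3 u₁ hu₁ (h * n) hn₁ u huU, ← e1, D.G1_fix g hg]
  have hk : (h * n)⁻¹ * D.σ (h * n) ∈ D.H :=
    D.bruhat (h * n) hn₁ (D.σ (h * n)) (D.σN _ hn₁) u₁ (D.hUB hu₁) u (D.hUB huU)
      (D.σ u₁) (D.hUB (D.σU _ hu₁)) (D.σ u) (D.hUB (D.σU _ huU)) hσ.symm
  have hk' : (h * n) * ((h * n)⁻¹ * D.σ (h * n)) * (h * n)⁻¹ ∈ D.H := D.hNH _ hn₁ _ hk
  set k' := (h * n) * ((h * n)⁻¹ * D.σ (h * n)) * (h * n)⁻¹ with hk'def
  have hσn : D.σ (h * n) = k' * (h * n) := by rw [hk'def]; group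
  have hσu : D.σ u ∈ D.Un (h * n) := by
    have h1 : D.σ u ∈ D.Un (D.σ (h * n)) := D.σUn _ hn₁ u hu'
    rw [hσn] at h1
    have h2 := D.Un_H k'⁻¹ (D.H.inv_mem hk') (k' * (h * n)) h1
    have : k'⁻¹ * (k' * (h * n)) = h * n := by group
    rwa [this] at h2
  have e2 : u₁ * (h * n) * u = (D.σ u₁ * k') * (h * n) * D.σ u := by
    rw [← hσ, hσn]; group
  obtain ⟨e3, e4⟩ := D.nf_unique u₁ (D.σ u₁ * k') (h * n) u (D.σ u) (D.hUB hu₁)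
    (D.B.mul_mem (D.hUB (D.σU _ hu₁)) (D.hHB hk')) hn₁ hu' hσu e2
  have hk2 : k' = (D.σ u₁)⁻¹ * u₁ := eq_inv_mul_of_mul_eq e3.symm
  have hk1 : k' = 1 := by
    apply D.hUH k' _ hk'
    rw [hk2]
    exact D.U.mul_mem (D.U.inv_mem (D.σU _ hu₁)) hu₁
  have hfu₁ : D.σ u₁ = u₁ := by
    rw [hk1, mul_one] at e3
    exact e3.symm
  have hu₁G : u₁ ∈ D.G1 := D.fixU u₁ hu₁ hfu₁
  have huG : u ∈ D.G1 := D.fixU u huU e4.symm
  refine ⟨u₁, hu₁, hu₁G, h * n, hn₁, ?_, u, huU, huG, e1⟩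
  have : h * n = u₁⁻¹ * g * u⁻¹ := by rw [e1]; group
  rw [this]
  exact D.G1.mul_mem (D.G1.mul_mem (D.G1.inv_mem hu₁G) hg) (D.G1.inv_mem huG)

/-- double cosets of `B ⊓ G1` -/
def DC1 (n g : Γ) : Prop :=
  ∃ β₁, β₁ ∈ D.B ∧ β₁ ∈ D.G1 ∧ ∃ β₂, β₂ ∈ D.B ∧ β₂ ∈ D.G1 ∧ g = β₁ * n * β₂

theorem DC1.mul_left {n g b : Γ} (h : D.DC1 n g) (hb : b ∈ D.B) (hbG : b ∈ D.G1) :
    D.DC1 n (b * g) := by
  obtain ⟨β₁, h1, h1', β₂, h2, h2', rfl⟩ := h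
  exact ⟨b * β₁, D.B.mul_mem hb h1, D.G1.mul_mem hbG h1', β₂, h2, h2', by group⟩

theorem DC1.mul_right {n g b : Γ} (h : D.DC1 n g) (hb : b ∈ D.B) (hbG : b ∈ D.G1) :
    D.DC1 n (g * b) := by
  obtain ⟨β₁, h1, h1', β₂, h2, h2', rfl⟩ := h
  exact ⟨β₁, h1, h1', β₂ * b, D.B.mul_mem h2 hb, D.G1.mul_mem h2' hbG, by group⟩

/-- the exchange condition in the group of fixed points -/
theorem exch {s : Γ} (hs : s ∈ D.S) {b : Γ} (hb : b ∈ D.B) (hbG : b ∈ D.G1) {n : Γ} (hn : n ∈ D.N)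
    (hnG : n ∈ D.G1) : D.DC1 (s * n) (s * b * n) ∨ D.DC1 n (s * b * n) := by
  obtain ⟨hsN, hsG, _⟩ := D.S_mem s hs
  have hg : s * b * n ∈ D.G1 := D.G1.mul_mem (D.G1.mul_mem hsG hbG) hnG
  obtain ⟨u₁, hu₁, hu₁G, n', hn', hn'G, u₂, hu₂, hu₂G, e⟩ := D.fixed_nf _ hg
  rcases D.S_exch s hs b hb n hn (D.G1_fix n hnG) n' hn' (D.G1_fix n' hn'G) u₁ (D.hUB hu₁) u₂
    (D.hUB hu₂) e with h | h
  · right
    refine ⟨u₁, D.hUB hu₁, hu₁G, (n⁻¹ * n') * u₂, D.B.mul_mem (D.hHB h) (D.hUB hu₂),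
      D.G1.mul_mem (D.G1.mul_mem (D.G1.inv_mem hnG) hn'G) hu₂G, ?_⟩
    rw [e]; group
  · left
    refine ⟨u₁, D.hUB hu₁, hu₁G, ((s * n)⁻¹ * n') * u₂, D.B.mul_mem (D.hHB h) (D.hUB hu₂),
      D.G1.mul_mem (D.G1.mul_mem (D.G1.inv_mem (D.G1.mul_mem hsG hnG)) hn'G) hu₂G, ?_⟩
    rw [e]; group

/-- the subgroup generated by the distinguished representatives and `H ⊓ G1` -/
def N0 : Subgroup Γ := Subgroup.closure D.S ⊔ (D.H ⊓ D.G1)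

theorem N0_le_N : D.N0 ≤ D.N := by
  unfold N0
  apply sup_le
  · rw [Subgroup.closure_le]; intro s hs; exact (D.S_mem s hs).1
  · exact le_trans inf_le_left D.hHN

theorem N0_le_G1 : D.N0 ≤ D.G1 := by
  unfold N0
  apply sup_le
  · rw [Subgroup.closure_le]; intro s hs; exact (D.S_mem s hs).2.1
  · exact inf_le_right

theorem S_le_N0 {s : Γ} (hs : s ∈ D.S) : s ∈ D.N0 :=
  Subgroup.mem_sup_left (Subgroup.subset_closure hs)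

/-- the union of the double cosets of the elements of `N0` -/
def X (g : Γ) : Prop := ∃ n₀ ∈ D.N0, D.DC1 n₀ g

theorem X_mul_B {g b : Γ} (h : D.X g) (hb : b ∈ D.B) (hbG : b ∈ D.G1) : D.X (b * g) := by
  obtain ⟨n₀, hn₀, hdc⟩ := h
  exact ⟨n₀, hn₀, hdc.mul_left D hb hbG⟩

theorem X_mul_s {g s : Γ} (h : D.X g) (hs : s ∈ D.S) : D.X (s * g) := by
  obtain ⟨n₀, hn₀, β₁, h1, h1', β₂, h2, h2', rfl⟩ := h
  have e : s * (β₁ * n₀ * β₂) = (s * β₁ * n₀) * β₂ := by group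
  rw [e]
  rcases D.exch hs h1 h1' (D.N0_le_N hn₀) (D.N0_le_G1 hn₀) with hdc | hdc
  · exact ⟨s * n₀, D.N0.mul_mem (D.S_le_N0 hs) hn₀, hdc.mul_right D h2 h2'⟩
  · exact ⟨n₀, hn₀, hdc.mul_right D h2 h2'⟩

theorem X_mul_sinv {g s : Γ} (h : D.X g) (hs : s ∈ D.S) : D.X (s⁻¹ * g) := by
  obtain ⟨_, hsG, hss⟩ := D.S_mem s hs
  have e : s⁻¹ * g = (s * s)⁻¹ * (s * g) := by group
  rw [e]
  exact D.X_mul_B (D.X_mul_s h hs) (D.hHB (D.H.inv_mem hss)) (D.G1.inv_mem (D.G1.mul_mem hsG hsG))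

theorem X_of_mem {g : Γ} (hg : g ∈ D.G1) : D.X g := by
  obtain ⟨Y, hY, hgen⟩ := D.gens
  have hYG : ∀ y ∈ Y, y ∈ D.G1 := fun y hy => by rw [hY]; exact Subgroup.subset_closure hy
  rw [hY] at hg
  induction hg using Subgroup.closure_induction_left with
  | one => exact ⟨1, D.N0.one_mem, 1, D.B.one_mem, D.G1.one_mem, 1, D.B.one_mem, D.G1.one_mem, by group⟩
  | mul_left y hy g _ ih =>
    rcases hgen y hy with hU | ⟨s, hs, hU⟩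
    · exact D.X_mul_B ih (D.hUB hU) (hYG y hy)
    · obtain ⟨_, hsG, _⟩ := D.S_mem s hs
      have e : y * g = s⁻¹ * ((s * y * s⁻¹) * (s * g)) := by group
      rw [e]
      exact D.X_mul_sinv (D.X_mul_B (D.X_mul_s ih hs) (D.hUB hU)
        (D.G1.mul_mem (D.G1.mul_mem hsG (hYG y hy)) (D.G1.inv_mem hsG))) hs
  | inv_mul_cancel y hy g _ ih =>
    rcases hgen y hy with hU | ⟨s, hs, hU⟩
    · exact D.X_mul_B ih (D.hUB (D.U.inv_mem hU)) (D.G1.inv_mem (hYG y hy))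
    · obtain ⟨_, hsG, _⟩ := D.S_mem s hs
      have e : y⁻¹ * g = s⁻¹ * ((s * y * s⁻¹)⁻¹ * (s * g)) := by group
      rw [e]
      exact D.X_mul_sinv (D.X_mul_B (D.X_mul_s ih hs) (D.hUB (D.U.inv_mem hU))
        (D.G1.inv_mem (D.G1.mul_mem (D.G1.mul_mem hsG (hYG y hy)) (D.G1.inv_mem hsG)))) hs

/-- `N ⊓ G1` is generated by the distinguished representatives and `H ⊓ G1` -/
theorem N_inf_G1_le : D.N ⊓ D.G1 ≤ D.N0 := by
  rintro n ⟨hn, hnG⟩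
  obtain ⟨n₀, hn₀, β₁, h1, _, β₂, h2, _, e⟩ := D.X_of_mem hnG
  have h := D.bruhat n₀ (D.N0_le_N hn₀) n hn β₁ h1 β₂ h2 1 D.B.one_mem 1 D.B.one_mem
    (by rw [← e]; group)
  have : n = n₀ * (n₀⁻¹ * n) := by group
  rw [this]
  exact D.N0.mul_mem hn₀ (Subgroup.mem_sup_right
    ⟨h, D.G1.mul_mem (D.G1.inv_mem (D.N0_le_G1 hn₀)) hnG⟩)

/-- the `(B, N)`-pair of the group of fixed points -/
theorem exists_bnPair : ∃ P : Cfsg.BNPair ↥D.G1,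
    P.B = (D.B ⊓ D.G1).subgroupOf D.G1 ∧ P.N = (D.N ⊓ D.G1).subgroupOf D.G1 ∧
    P.S = {s : ↥D.G1 | (s : Γ) ∈ D.S} := by
  have hmemB : ∀ x : ↥D.G1, x ∈ (D.B ⊓ D.G1).subgroupOf D.G1 ↔ (x : Γ) ∈ D.B := by
    intro x
    rw [Subgroup.mem_subgroupOf, Subgroup.mem_inf]
    exact ⟨fun h => h.1, fun h => ⟨h, x.2⟩⟩
  have hmemN : ∀ x : ↥D.G1, x ∈ (D.N ⊓ D.G1).subgroupOf D.G1 ↔ (x : Γ) ∈ D.N := by
    intro x
    rw [Subgroup.mem_subgroupOf, Subgroup.mem_inf]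
    exact ⟨fun h => h.1, fun h => ⟨h, x.2⟩⟩
  have hdc : ∀ (n g : ↥D.G1), D.DC1 (n : Γ) (g : Γ) →
      g ∈ DoubleCoset.doubleCoset n (((D.B ⊓ D.G1).subgroupOf D.G1 : Subgroup ↥D.G1) : Set ↥D.G1)
        ((D.B ⊓ D.G1).subgroupOf D.G1) := by
    rintro n g ⟨β₁, h1, h1', β₂, h2, h2', e⟩
    rw [DoubleCoset.mem_doubleCoset]
    exact ⟨⟨β₁, h1'⟩, (hmemB _).2 h1, ⟨β₂, h2'⟩, (hmemB _).2 h2, Subtype.ext e⟩
  refine ⟨{ B := (D.B ⊓ D.G1).subgroupOf D.G1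
            N := (D.N ⊓ D.G1).subgroupOf D.G1
            S := {s : ↥D.G1 | (s : Γ) ∈ D.S}
            sup_eq_top := ?_
            conj_mem := ?_
            subset := ?_
            sq_mem := ?_
            inj := ?_
            closure_sup := ?_
            mul_mem_union := ?_
            conj_ne := ?_ }, rfl, rfl, rfl⟩
  · -- generation
    rw [eq_top_iff]
    rintro ⟨g, hg⟩ _
    obtain ⟨u₁, hu₁, hu₁G, n, hn, hnG, u₂, hu₂, hu₂G, e⟩ := D.fixed_nf g hg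
    have : (⟨g, hg⟩ : ↥D.G1) = ⟨u₁, hu₁G⟩ * ⟨n, hnG⟩ * ⟨u₂, hu₂G⟩ := Subtype.ext e
    rw [this]
    exact Subgroup.mul_mem _ (Subgroup.mul_mem _
      (Subgroup.mem_sup_left ((hmemB _).2 (D.hUB hu₁)))
      (Subgroup.mem_sup_right ((hmemN _).2 hn)))
      (Subgroup.mem_sup_left ((hmemB _).2 (D.hUB hu₂)))
  · -- `B ⊓ N` is normal in `N`
    intro n hn t ht
    obtain ⟨htB, htN⟩ := Subgroup.mem_inf.mp ht
    rw [hmemB] at htB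
    rw [hmemN] at htN
    rw [hmemN] at hn
    rw [hmemB]
    simp only [Subgroup.coe_mul, Subgroup.coe_inv]
    exact D.hHB (D.hNH _ hn _ (D.hBN _ htB htN))
  · -- the representatives lie in `N`
    intro s hs
    rw [SetLike.mem_coe, hmemN]
    exact (D.S_mem _ hs).1
  · -- squares
    intro s hs
    rw [hmemB, Subgroup.coe_mul]
    exact D.hHB (D.S_mem _ hs).2.2
  · -- injectivity
    intro s hs s' hs' h
    rw [hmemB] at h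
    simp only [Subgroup.coe_mul, Subgroup.coe_inv] at h
    exact Subtype.ext (D.S_inj _ hs _ hs' h)
  · -- generation of `N`
    apply le_antisymm
    · apply sup_le
      · rw [Subgroup.closure_le]
        intro s hs
        rw [SetLike.mem_coe, hmemN]
        exact (D.S_mem _ hs).1
      · exact inf_le_right
    · intro x hx
      rw [hmemN] at hx
      have h1 : (x : Γ) ∈ D.N0 := D.N_inf_G1_le ⟨hx, x.2⟩
      have hle : D.N0 ≤ (Subgroup.closure {s : ↥D.G1 | (s : Γ) ∈ D.S} ⊔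
          ((D.B ⊓ D.G1).subgroupOf D.G1 ⊓ (D.N ⊓ D.G1).subgroupOf D.G1)).map D.G1.subtype := by
        unfold N0
        apply sup_le
        · rw [Subgroup.closure_le]
          intro s hs
          exact ⟨⟨s, (D.S_mem s hs).2.1⟩, Subgroup.mem_sup_left (Subgroup.subset_closure hs), rfl⟩
        · rintro h ⟨hh, hhG⟩
          exact ⟨⟨h, hhG⟩, Subgroup.mem_sup_right ⟨(hmemB _).2 (D.hHB hh), (hmemN _).2 (D.hHN hh)⟩,
            rfl⟩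
      obtain ⟨y, hy, hyx⟩ := hle h1
      have : y = x := Subtype.ext hyx
      rw [← this]
      exact hy
  · -- the double coset axiom
    intro s hs n hn b hb
    rw [hmemN] at hn
    rw [hmemB] at hb
    rcases D.exch hs hb b.2 hn n.2 with h | h
    · left
      exact hdc (s * n) (s * b * n) (by simpa only [Subgroup.coe_mul] using h)
    · right
      exact hdc n (s * b * n) (by simpa only [Subgroup.coe_mul] using h)
  · -- `s B s ≠ B`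
    intro s hs heq
    obtain ⟨b, hb, hbG, hnb⟩ := D.S_ne _ hs
    have h1 : s * ⟨b, hbG⟩ * s ∈ (fun b : ↥D.G1 => s * b * s) ''
        (((D.B ⊓ D.G1).subgroupOf D.G1 : Subgroup ↥D.G1) : Set ↥D.G1) :=
      ⟨⟨b, hbG⟩, (hmemB _).2 hb, rfl⟩
    rw [heq, SetLike.mem_coe, hmemB] at h1
    simp only [Subgroup.coe_mul] at h1
    exact hnb h1

end Setup

end Cfsg.Agent.Lib.Helper33.TwBN2
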