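import Mathlib

/-!
The twisted exchange condition modulo `H` for a class of fundamental reflections whose representative is a
word in elements satisfying the exchange condition of the ambient group; the twisting map is a plain function,
multiplicative on `N`.
-/

set_option autoImplicit false

namespace Cfsg.Agent.Lib.Helper33.TwBN2

/-- the part of the setting used for the exchange condition -/
structure Core2 (Γ : Type*) [Group Γ] where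
  B : Subgroup Γ
  N : Subgroup Γ
  H : Subgroup Γ
  σ : Γ → Γ
  hHN : H ≤ N
  hNH : ∀ n ∈ N, ∀ h ∈ H, n * h * n⁻¹ ∈ H
  σH : ∀ h ∈ H, σ h ∈ H
  σ_mul : ∀ a ∈ N, ∀ b ∈ N, σ (a * b) = σ a * σ b
  bruhat : ∀ n ∈ N, ∀ n' ∈ N, ∀ b₁ ∈ B, ∀ b₂ ∈ B, ∀ b₁' ∈ B, ∀ b₂' ∈ B,
    b₁ * n * b₂ = b₁' * n' * b₂' → n⁻¹ * n' ∈ H

variable {Γ : Type*} [Group Γ] (C : Core2 Γ)

namespace Core2

/-- double cosets of `B` -/
def DC (m g : Γ) : Prop := ∃ β₁ ∈ C.B, ∃ β₂ ∈ C.B, g = β₁ * m * β₂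

/-- the exchange condition of the ambient group for the element `a` -/
def Ex (a : Γ) : Prop := ∀ n ∈ C.N, ∀ β ∈ C.B, C.DC (a * n) (a * β * n) ∨ C.DC n (a * β * n)

theorem ex_step {a : Γ} (ha : C.Ex a) {m g : Γ} (hm : m ∈ C.N) (h : C.DC m g) :
    C.DC (a * m) (a * g) ∨ C.DC m (a * g) := by
  obtain ⟨β₁, h1, β₂, h2, rfl⟩ := h
  have e : a * (β₁ * m * β₂) = (a * β₁ * m) * β₂ := by group
  rw [e]
  rcases ha m hm β₁ h1 with ⟨γ₁, g1, γ₂, g2, e'⟩ | ⟨γ₁, g1, γ₂, g2, e'⟩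
  · left; exact ⟨γ₁, g1, γ₂ * β₂, C.B.mul_mem g2 h2, by rw [e']; group⟩
  · right; exact ⟨γ₁, g1, γ₂ * β₂, C.B.mul_mem g2 h2, by rw [e']; group⟩

theorem dc_bruhat {m g n' β₁ β₂ : Γ} (h : C.DC m g) (hm : m ∈ C.N) (hn' : n' ∈ C.N)
    (h1 : β₁ ∈ C.B) (h2 : β₂ ∈ C.B) (e : g = β₁ * n' * β₂) : m⁻¹ * n' ∈ C.H := by
  obtain ⟨γ₁, g1, γ₂, g2, e'⟩ := h
  exact C.bruhat m hm n' hn' γ₁ g1 γ₂ g2 β₁ h1 β₂ h2 (by rw [← e', e])

/-- a representative `m' n` of the double coset of a fixed element, with `n` fixed, has `m'` fixed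
modulo `H` -/
theorem sigma_trick {m' n n' g β₁ β₂ : Γ} (hm' : m' ∈ C.N) (hn : n ∈ C.N) (hn' : n' ∈ C.N)
    (hσn : C.σ n = n) (hσn' : C.σ n' = n') (h : C.DC (m' * n) g)
    (h1 : β₁ ∈ C.B) (h2 : β₂ ∈ C.B) (e : g = β₁ * n' * β₂) : (C.σ m')⁻¹ * m' ∈ C.H := by
  have hk := C.dc_bruhat h (C.N.mul_mem hm' hn) hn' h1 h2 e
  set k := (m' * n)⁻¹ * n' with hkdef
  have e1 : n' = m' * n * k := by rw [hkdef]; group
  have e2 : n' = C.σ m' * n * C.σ k := by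
    have := congrArg C.σ e1
    rwa [C.σ_mul _ (C.N.mul_mem hm' hn) _ (C.hHN hk), C.σ_mul _ hm' _ hn, hσn, hσn'] at this
  have e3 : (C.σ m')⁻¹ * m' = n * (C.σ k * k⁻¹) * n⁻¹ := by
    have e4 : m' * n * k = C.σ m' * n * C.σ k := by rw [← e1, ← e2]
    have e5 : m' = C.σ m' * n * C.σ k * k⁻¹ * n⁻¹ := by
      rw [← e4]; group
    calc (C.σ m')⁻¹ * m' = (C.σ m')⁻¹ * (C.σ m' * n * C.σ k * k⁻¹ * n⁻¹) := by rw [← e5]
      _ = n * (C.σ k * k⁻¹) * n⁻¹ := by group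
  rw [e3]
  exact C.hNH n hn _ (C.H.mul_mem (C.σH k hk) (C.H.inv_mem hk))

/-- the double coset of `w.prod * g` is that of `l.prod * m` for a sublist `l` of `w` -/
theorem ex_word (w : List Γ) (hw : ∀ a ∈ w, C.Ex a ∧ a ∈ C.N) {m g : Γ} (hm : m ∈ C.N)
    (h : C.DC m g) : ∃ l : List Γ, l.Sublist w ∧ C.DC (l.prod * m) (w.prod * g) := by
  induction w with
  | nil => exact ⟨[], List.Sublist.refl _, by simpa using h⟩
  | cons a w ih =>
    obtain ⟨l, hl, hdc⟩ := ih (fun x hx => hw x (List.mem_cons_of_mem _ hx))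
    have hlN : l.prod ∈ C.N := by
      apply Subgroup.list_prod_mem
      intro x hx
      exact (hw x (List.mem_cons_of_mem _ (hl.subset hx))).2
    rcases C.ex_step (hw a List.mem_cons_self).1 (C.N.mul_mem hlN hm) hdc with h' | h'
    · refine ⟨a :: l, hl.cons₂ a, ?_⟩
      rw [List.prod_cons, List.prod_cons, mul_assoc, mul_assoc]
      exact h'
    · refine ⟨l, hl.cons a, ?_⟩
      rw [List.prod_cons, mul_assoc]
      exact h'

/-- the twisted exchange condition for a class represented by a word -/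
theorem exch_word (w : List Γ) (hw : ∀ a ∈ w, C.Ex a ∧ a ∈ C.N)
    (hcls : ∀ l : List Γ, l.Sublist w → (C.σ l.prod)⁻¹ * l.prod ∈ C.H →
      l.prod ∈ C.H ∨ w.prod⁻¹ * l.prod ∈ C.H) :
    ∀ b ∈ C.B, ∀ n ∈ C.N, C.σ n = n → ∀ n' ∈ C.N, C.σ n' = n' → ∀ β₁ ∈ C.B, ∀ β₂ ∈ C.B,
      w.prod * b * n = β₁ * n' * β₂ → n⁻¹ * n' ∈ C.H ∨ (w.prod * n)⁻¹ * n' ∈ C.H := by
  intro b hb n hn hσn n' hn' hσn' β₁ h1 β₂ h2 e
  have h0 : C.DC n (b * n) := ⟨b, hb, 1, C.B.one_mem, by group⟩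
  have e' : w.prod * (b * n) = β₁ * n' * β₂ := by rw [← e]; group
  obtain ⟨l, hl, hdc⟩ := C.ex_word w hw hn h0
  have hlN : l.prod ∈ C.N := by
    apply Subgroup.list_prod_mem
    intro x hx
    exact (hw x (hl.subset hx)).2
  have hk := C.dc_bruhat hdc (C.N.mul_mem hlN hn) hn' h1 h2 e'
  have hfix := C.sigma_trick hlN hn hn' hσn hσn' hdc h1 h2 e'
  have hn1 : n⁻¹ ∈ C.N := C.N.inv_mem hn
  rcases hcls l hl hfix with h | h
  · left
    have e3 : n⁻¹ * n' = (n⁻¹ * l.prod * n⁻¹⁻¹) * ((l.prod * n)⁻¹ * n') := by group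
    rw [e3]
    exact C.H.mul_mem (C.hNH _ hn1 _ h) hk
  · right
    have e3 : (w.prod * n)⁻¹ * n' = (n⁻¹ * (w.prod⁻¹ * l.prod) * n⁻¹⁻¹) * ((l.prod * n)⁻¹ * n') := by
      group
    rw [e3]
    exact C.H.mul_mem (C.hNH _ hn1 _ h) hk

end Core2

end Cfsg.Agent.Lib.Helper33.TwBN2
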