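import Cfsg.Agent.Lib.Helper33.TwBNMain
import Cfsg.Agent.Lib.Helper08.BNPairCoxeter
import Cfsg.Agent.Lib.Helper24.Cells

/-!
The Weyl group `N¹/H¹` of a twisted group is the Coxeter group of the twisted type.
-/

set_option autoImplicit false
set_option linter.unusedSimpArgs false
set_option linter.unusedVariables false

namespace Cfsg.Agent.Lib.Helper33.TwBN

open Cfsg.Lie Cfsg.Agent.Lib.Helper24 Cfsg.Agent.Lib.Helper08

section abs

variable {G : Type*} [Group G] (P : Cfsg.BNPair G)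

/-- the Weyl group of a `(B, N)`-pair is the Coxeter group of the matrix of the orders -/
theorem weyl_iso_of_orders [hN : ((P.B ⊓ P.N).subgroupOf P.N).Normal] {n : ℕ} (e : Fin n ≃ ↥P.S)
    (M : CoxeterMatrix (Fin n))
    (hM : ∀ i j, orderOf (weylGen P (e i) * weylGen P (e j)) = M i j) :
    Nonempty ((P.N ⧸ (P.B ⊓ P.N).subgroupOf P.N) ≃* M.Group) := by
  obtain ⟨cs, _⟩ := weyl_coxeterSystem P
  have hEq : (orderMatrix (weylGen P) (weylGen_sq P) (weylGen_injective P)).reindex e.symm = M := by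
    ext i j
    show (orderMatrix (weylGen P) (weylGen_sq P) (weylGen_injective P)).reindex e.symm i j = M i j
    rw [CoxeterMatrix.reindex_apply, Equiv.symm_symm, orderMatrix_apply, hM]
  have cs' := cs.reindex e.symm
  rw [hEq] at cs'
  exact ⟨cs'.mulEquiv⟩

theorem weylGen_mul_pow_eq_one_iff [hN : ((P.B ⊓ P.N).subgroupOf P.N).Normal] (s s' : ↥P.S) (k : ℕ) :
    (weylGen P s * weylGen P s') ^ k = 1 ↔ ((s : G) * (s' : G)) ^ k ∈ P.B := by
  have h1 : weylGen P s * weylGen P s' =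
      QuotientGroup.mk (⟨(s : G) * (s' : G), P.N.mul_mem (P.subset s.2) (P.subset s'.2)⟩ : P.N) := rfl
  rw [h1, ← QuotientGroup.mk_pow]
  have h2 : (⟨(s : G) * (s' : G), P.N.mul_mem (P.subset s.2) (P.subset s'.2)⟩ : P.N) ^ k =
      ⟨((s : G) * (s' : G)) ^ k, P.N.pow_mem (P.N.mul_mem (P.subset s.2) (P.subset s'.2)) k⟩ :=
    Subtype.ext (by simp)
  rw [h2]
  exact weyl_mk_eq_one_iff P _

end abs

section chev

variable {F : Type*} [Field F] {D : ChevalleyDatum} {tab : List ℕ} {orb : List (ℕ × ℕ × ℕ)}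

/-- `n_w ∈ H` if and only if `w` fixes every root -/
theorem nW_mem_diag_iff (E : Env D F tab orb) (w : List ℕ) (hw : ∀ i ∈ w, i < D.rank) :
    E.hF.nW (F := F) w ∈ D.diagonalSubgroup F ↔ ∀ r < D.nroots, rhoW D w r = r := by
  constructor
  · intro hH r hr
    by_contra hne
    obtain ⟨η, hη, e⟩ := E.hF.nW_conj (F := F) E.hN w hw r hr
    obtain ⟨c, hc, ec⟩ := E.hF.diag_conj _ hH r hr
    have e3 := (e 1).symm.trans (ec 1)
    have h0 := E.hF.xGL_eq_xGL E.hR E.hNe E.hU.unit _ _ (E.hN.rhoW_lt w hw r hr) hr hne _ _ e3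
    rw [mul_one] at h0
    rcases hη with h | h <;> rw [h] at h0 <;> simp at h0
  · intro hfix
    apply E.hF.mem_diagonal_of_trivial_action E.hN E.hR E.hNe E.hS E.P E.hB E.hPS E.hBN _
      (E.nW_mem w hw)
    intro s hs
    obtain ⟨η, hη, e⟩ := E.hF.nW_conj (F := F) E.hN w hw s hs
    refine ⟨(η : F), ?_, fun t => ?_⟩
    · rcases hη with h | h <;> rw [h] <;> simp
    · rw [e t, hfix s hs]

/-- the `k`-fold repetition of a word -/
def repW (k : ℕ) (u : List ℕ) : List ℕ := (List.replicate k u).flatten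

theorem nW_repW (hF : Facts D) (k : ℕ) (u : List ℕ) :
    hF.nW (F := F) (repW k u) = hF.nW u ^ k := by
  induction k with
  | zero => simp [repW, Facts.nW]
  | succ k ih =>
    have : repW (k + 1) u = u ++ repW k u := by simp [repW, List.replicate_succ]
    rw [this, hF.nW_app, ih, pow_succ']

theorem repW_lt (k : ℕ) (u : List ℕ) (n : ℕ) (hu : ∀ i ∈ u, i < n) : ∀ i ∈ repW k u, i < n := by
  intro i hi
  unfold repW at hi
  obtain ⟨l, hl, hil⟩ := List.mem_flatten.mp hi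
  rw [List.eq_of_mem_replicate hl] at hil
  exact hu i hil

/-- the order of the word `u` as a permutation of the roots is `m` -/
def ordOK (D : ChevalleyDatum) (u : List ℕ) (m : ℕ) : Prop :=
  0 < m ∧ (∀ r < D.nroots, rhoW D (repW m u) r = r) ∧
    ∀ k < m, 0 < k → ∃ r < D.nroots, rhoW D (repW k u) r ≠ r

instance (D : ChevalleyDatum) (u : List ℕ) (m : ℕ) : Decidable (ordOK D u m) :=
  inferInstanceAs (Decidable (_ ∧ _ ∧ _))

/-- the Weyl group of a twisted group -/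
theorem weyl_tw (E : Env D F tab orb) (T : Tw D F E.hF) {Fd : List (ℕ × ℕ × List ℕ)}
    {Hd : List (ℕ × ℕ)} (hG : TwG E T Fd) (hC : ClsChecks D T.R Fd Hd)
    (P : Cfsg.BNPair ↥(T.G1 (fundOf D Fd)))
    (hB : P.B = (D.borelSubgroup F ⊓ T.G1 (fundOf D Fd)).subgroupOf (T.G1 (fundOf D Fd)))
    (hN' : P.N = (D.monomialSubgroup F ⊓ T.G1 (fundOf D Fd)).subgroupOf (T.G1 (fundOf D Fd)))
    (hS : P.S = {s : ↥(T.G1 (fundOf D Fd)) | ∃ x ∈ Fd, (s : GL D.Idx F) = E.hF.nW x.2.2})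
    (chainL : List (ℕ × ℕ × List ℕ)) (hnd : chainL.Nodup) (hmem : ∀ x, x ∈ chainL ↔ x ∈ Fd)
    {n : ℕ} (hlen : chainL.length = n) (M : CoxeterMatrix (Fin n))
    (hord : ∀ i j : Fin n, i ≠ j →
      ordOK D ((chainL.getD i.val (0, 0, [])).2.2 ++ (chainL.getD j.val (0, 0, [])).2.2) (M i j)) :
    ∃ φ : ↥(D.monomialSubgroup F ⊓ T.G1 (fundOf D Fd)) →* M.Group, Function.Surjective φ ∧
      φ.ker = (D.diagonalSubgroup F ⊓ T.G1 (fundOf D Fd)).subgroupOf
        (D.monomialSubgroup F ⊓ T.G1 (fundOf D Fd)) := by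
  haveI : ((P.B ⊓ P.N).subgroupOf P.N).Normal := Tn_normal P
  have hmemB : ∀ x : ↥(T.G1 (fundOf D Fd)), x ∈ P.B ↔ (x : GL D.Idx F) ∈ D.borelSubgroup F := by
    intro x
    rw [hB, Subgroup.mem_subgroupOf, Subgroup.mem_inf]
    exact ⟨fun h => h.1, fun h => ⟨h, x.2⟩⟩
  have hmemN : ∀ x : ↥(T.G1 (fundOf D Fd)), x ∈ P.N ↔ (x : GL D.Idx F) ∈ D.monomialSubgroup F := by
    intro x
    rw [hN', Subgroup.mem_subgroupOf, Subgroup.mem_inf]
    exact ⟨fun h => h.1, fun h => ⟨h, x.2⟩⟩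
  -- the classes along the list
  have hget : ∀ i : Fin n, chainL.getD i.val (0, 0, []) ∈ chainL := fun i =>
    getD_mem_of_lt chainL _ i.val (by rw [hlen]; exact i.2)
  have hgetFd : ∀ i : Fin n, chainL.getD i.val (0, 0, []) ∈ Fd := fun i => (hmem _).1 (hget i)
  let rep : Fin n → ↥P.S := fun i =>
    ⟨⟨E.hF.nW (chainL.getD i.val (0, 0, [])).2.2, hG.nW_mem _ (hgetFd i)⟩, by
      rw [hS]; exact ⟨_, hgetFd i, rfl⟩⟩
  have hrep_inj : Function.Injective rep := by
    intro i j hij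
    have h1 : E.hF.nW (F := F) (chainL.getD i.val (0, 0, [])).2.2 =
        E.hF.nW (chainL.getD j.val (0, 0, [])).2.2 :=
      congrArg (fun s : ↥P.S => ((s : ↥(T.G1 (fundOf D Fd))) : GL D.Idx F)) hij
    have h2 := S_inj_tw E T hG hC _ (hgetFd i) _ (hgetFd j) (by
      rw [h1, inv_mul_cancel]; exact Subgroup.one_mem _)
    have hi : i.val < chainL.length := by rw [hlen]; exact i.2
    have hj : j.val < chainL.length := by rw [hlen]; exact j.2
    have e1 : chainL.getD i.val (0, 0, []) = chainL[i.val] := by simp [List.getD, hi]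
    have e2 : chainL.getD j.val (0, 0, []) = chainL[j.val] := by simp [List.getD, hj]
    rw [e1, e2] at h2
    exact Fin.ext ((List.Nodup.getElem_inj_iff hnd).mp h2)
  have hrep_surj : Function.Surjective rep := by
    rintro ⟨s, hs⟩
    have hs' := hs
    rw [hS] at hs'
    obtain ⟨x, hx, hsx⟩ := hs'
    obtain ⟨i, hi, rfl⟩ := List.getElem_of_mem ((hmem x).2 hx)
    refine ⟨⟨i, by rw [← hlen]; exact hi⟩, ?_⟩
    apply Subtype.ext
    apply Subtype.ext
    show E.hF.nW (chainL.getD i (0, 0, [])).2.2 = (s : GL D.Idx F)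
    have e1 : chainL.getD i (0, 0, []) = chainL[i] := by simp [List.getD, hi]
    rw [e1, hsx]
  let e : Fin n ≃ ↥P.S := Equiv.ofBijective rep ⟨hrep_inj, hrep_surj⟩
  have hM : ∀ i j, orderOf (weylGen P (e i) * weylGen P (e j)) = M i j := by
    intro i j
    by_cases hij : i = j
    · subst hij
      rw [weylGen_sq, orderOf_one, M.diagonal]
    · obtain ⟨hpos, hfix, hmove⟩ := hord i j hij
      have hwi := (hG.jx _ (hgetFd i)).2
      have hwj := (hG.jx _ (hgetFd j)).2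
      set u := (chainL.getD i.val (0, 0, [])).2.2 ++ (chainL.getD j.val (0, 0, [])).2.2 with hu
      have hult : ∀ a ∈ u, a < D.rank := fun a ha => by
        rcases List.mem_append.mp ha with h | h
        · exact hwi a h
        · exact hwj a h
      have key : ∀ k : ℕ, (weylGen P (e i) * weylGen P (e j)) ^ k = 1 ↔
          ∀ r < D.nroots, rhoW D (repW k u) r = r := by
        intro k
        rw [weylGen_mul_pow_eq_one_iff, hmemB]
        have e1 : ((((e i : ↥P.S) : ↥(T.G1 (fundOf D Fd))) * ((e j : ↥P.S) : ↥(T.G1 (fundOf D Fd)))) ^ k :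
            ↥(T.G1 (fundOf D Fd))).1 = E.hF.nW (repW k u) := by
          rw [nW_repW, hu, E.hF.nW_app]
          simp only [Subgroup.coe_pow, Subgroup.coe_mul]
          rfl
        rw [e1, ← nW_mem_diag_iff E _ (repW_lt k u _ hult), ← E.hBN, Subgroup.mem_inf]
        exact ⟨fun h => ⟨h, E.nW_mem _ (repW_lt k u _ hult)⟩, fun h => h.1⟩
      rw [orderOf_eq_iff hpos]
      refine ⟨(key _).2 hfix, fun k hk hk0 h1 => ?_⟩
      obtain ⟨r, hr, hne⟩ := hmove k hk hk0
      exact hne ((key k).1 h1 r hr)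
  obtain ⟨ψ⟩ := weyl_iso_of_orders P e M hM
  -- the homomorphism
  let ι : ↥(D.monomialSubgroup F ⊓ T.G1 (fundOf D Fd)) →* ↥P.N :=
    { toFun := fun x => ⟨⟨x.1, x.2.2⟩, (hmemN _).2 x.2.1⟩
      map_one' := rfl
      map_mul' := fun _ _ => rfl }
  refine ⟨ψ.toMonoidHom.comp ((QuotientGroup.mk' ((P.B ⊓ P.N).subgroupOf P.N)).comp ι), ?_, ?_⟩
  · intro y
    obtain ⟨z, rfl⟩ := ψ.surjective y
    obtain ⟨⟨⟨g, hgG⟩, hgN⟩, rfl⟩ := QuotientGroup.mk'_surjective ((P.B ⊓ P.N).subgroupOf P.N) z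
    exact ⟨⟨g, ⟨(hmemN _).1 hgN, hgG⟩⟩, rfl⟩
  · ext x
    rw [MonoidHom.mem_ker, Subgroup.mem_subgroupOf, Subgroup.mem_inf]
    simp only [MonoidHom.coe_comp, MulEquiv.coe_toMonoidHom, Function.comp_apply,
      EmbeddingLike.map_eq_one_iff, QuotientGroup.mk'_apply, QuotientGroup.eq_one_iff]
    rw [Subgroup.mem_subgroupOf, Subgroup.mem_inf]
    constructor
    · rintro ⟨h1, _⟩
      have h2 : (x : GL D.Idx F) ∈ D.borelSubgroup F := (hmemB _).1 h1
      refine ⟨?_, x.2.2⟩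
      rw [← E.hBN]
      exact ⟨h2, x.2.1⟩
    · rintro ⟨h1, _⟩
      exact ⟨(hmemB _).2 (diagonal_le_borel D F h1), (ι x).2⟩

end chev

end Cfsg.Agent.Lib.Helper33.TwBN
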