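import Cfsg.Agent.Lib.Helper33.F4Tor
import Cfsg.Agent.Lib.Helper33.TwBNChev
import Cfsg.Agent.Lib.Helper33.TwBNAbs2
import Cfsg.Agent.Lib.Helper33.TwBNExch2
import Cfsg.Agent.Lib.Helper33.TwWeyl

/-!
The `(B, N)`-pair of the large Ree group `²F₄`, from the leaves of the keystone pack K-2F4 (bundled in `LeavesF`).
-/

set_option autoImplicit false
set_option linter.unusedSimpArgs false
set_option linter.unusedVariables false
set_option maxRecDepth 100000

namespace Cfsg.Agent.Lib.Helper33.F4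

open Cfsg.Lie Cfsg.Agent.Lib.Helper24 Cfsg.Agent.Lib.Helper33.TwBN

section generic

variable {F : Type*} [Field F] {D : ChevalleyDatum} {tab : List ℕ} {orb : List (ℕ × ℕ × ℕ)}

theorem rootClosure_pos_le (D : ChevalleyDatum) (F : Type*) [Field F] (R : ℕ → Prop)
    (hR : ∀ r, R r → D.IsPosRoot r) : rootClosure D F R ≤ D.posUnipotent F := by
  unfold rootClosure ChevalleyDatum.posUnipotent
  apply Subgroup.closure_mono
  rintro x ⟨r, t, hr, hx⟩
  exact ⟨r, t, hR r hr, hx⟩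

/-- words whose representatives agree modulo `H` induce the same permutation of the roots -/
theorem rhoW_eq_of_inv_mul_mem (E : Env D F tab orb) (w w' : List ℕ) (hw : ∀ i ∈ w, i < D.rank)
    (hw' : ∀ i ∈ w', i < D.rank)
    (h : (E.hF.nW (F := F) w)⁻¹ * E.hF.nW w' ∈ D.diagonalSubgroup F) :
    ∀ r < D.nroots, rhoW D w r = rhoW D w' r := by
  intro r hr
  by_contra hne
  obtain ⟨c, hc, ec⟩ := E.hF.diag_conj _ h r hr
  obtain ⟨η, hη, e1⟩ := E.hF.nW_conj (F := F) E.hN w hw r hr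
  obtain ⟨η', hη', e2⟩ := E.hF.nW_conj (F := F) E.hN w' hw' r hr
  have e3 : E.hF.nW (F := F) w' * E.hF.xGL r 1 * (E.hF.nW w')⁻¹ =
      E.hF.nW w * ((E.hF.nW w)⁻¹ * E.hF.nW w' * E.hF.xGL r 1 * ((E.hF.nW w)⁻¹ * E.hF.nW w')⁻¹) *
        (E.hF.nW w)⁻¹ := by group
  rw [ec 1, e1, e2 1] at e3
  have h0 := E.hF.xGL_eq_xGL E.hR E.hNe E.hU.unit _ _ (E.hN.rhoW_lt w' hw' r hr)
    (E.hN.rhoW_lt w hw r hr) (Ne.symm hne) _ _ e3
  rw [mul_one] at h0
  rcases hη' with h' | h' <;> rw [h'] at h0 <;> simp at h0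

/-- words inducing the same permutation of the roots have representatives agreeing modulo `H` -/
theorem inv_mul_mem_of_rhoW_eq (E : Env D F tab orb) (w w' : List ℕ) (hw : ∀ i ∈ w, i < D.rank)
    (hw' : ∀ i ∈ w', i < D.rank) (h : ∀ r < D.nroots, rhoW D w r = rhoW D w' r) :
    (E.hF.nW (F := F) w)⁻¹ * E.hF.nW w' ∈ D.diagonalSubgroup F := by
  apply E.hF.mem_diagonal_of_trivial_action E.hN E.hR E.hNe E.hS E.P E.hB E.hPS E.hBN _
    (Subgroup.mul_mem _ (Subgroup.inv_mem _ (E.nW_mem w hw)) (E.nW_mem w' hw'))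
  intro s hs
  obtain ⟨η, hη, e1⟩ := E.hF.nW_conj (F := F) E.hN w hw s hs
  obtain ⟨η', hη', e2⟩ := E.hF.nW_conj (F := F) E.hN w' hw' s hs
  refine ⟨(η : F) * (η' : F), ?_, fun t => ?_⟩
  · rcases hη with h1 | h1 <;> rcases hη' with h2 | h2 <;> rw [h1, h2] <;> simp
  · have e3 : (E.hF.nW (F := F) w)⁻¹ * E.hF.nW w' * E.hF.xGL s t * ((E.hF.nW w)⁻¹ * E.hF.nW w')⁻¹ =
        (E.hF.nW w)⁻¹ * (E.hF.nW w' * E.hF.xGL s t * (E.hF.nW w')⁻¹) * E.hF.nW w := by group
    rw [e3, e2 t, ← h s hs]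
    have e4 := e1 ((η : F) * (η' : F) * t)
    have e5 : (η : F) * ((η : F) * (η' : F) * t) = (η' : F) * t := by
      rcases hη with h1 | h1 <;> rw [h1] <;> simp
    rw [e5] at e4
    rw [← e4]
    group

end generic

variable {K : Type*} [Field K] {e : ℕ}

/-- the leaves of the keystone pack used for the `(B, N)`-pair -/
structure LeavesF (S : SigmaF K e) : Prop where
  ext_pGL : ∀ t : K, S.ext (pGL K e t) = pGL K e t
  ext_pGLn : ∀ t : K, S.ext (pGLn K e t) = pGLn K e t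
  ext_bGL : ∀ t u : K, S.ext (bGL K e t u) = bGL K e t u
  ext_bGLn : ∀ t u : K, S.ext (bGLn K e t u) = bGLn K e t u
  fix_pos : ∀ g : GL chevF4.Idx K, g ∈ chevF4.posUnipotent K → S.ext g = g → g ∈ twistedF4 K e
  ext_pos : ∀ g : GL chevF4.Idx K, g ∈ chevF4.posUnipotent K → S.ext g ∈ chevF4.posUnipotent K
  ext_diag : ∀ g : GL chevF4.Idx K, g ∈ chevF4.diagonalSubgroup K → S.ext g ∈ chevF4.diagonalSubgroup K
  ext_mono : ∀ g : GL chevF4.Idx K, g ∈ chevF4.monomialSubgroup K → S.ext g ∈ chevF4.monomialSubgroup K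
  ext_Un : ∀ n : GL chevF4.Idx K, n ∈ chevF4.monomialSubgroup K → ∀ u : GL chevF4.Idx K,
    u ∈ Un chevF4 K n → S.ext u ∈ Un chevF4 K (S.ext n)
  ext_nGL : ∀ r : ℕ, r < 48 → ∀ t : K, t ≠ 0 →
    S.ext ((envF4 K).hF.nGL r t) = (envF4 K).hF.nGL (barF r) (t ^ (lamF r * e))
  s1F_mem : s1F K ∈ twistedF4 K e
  s2F_mem : s2F K ∈ twistedF4 K e
  e_ne : e ≠ 0

section basic

theorem isPos_iff (r : ℕ) : chevF4.IsPosRoot r ↔ 24 ≤ r ∧ r < 48 := by
  constructor
  · rintro ⟨hr, h⟩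
    have hr' : r < 48 := hr
    refine ⟨?_, hr'⟩
    by_contra hlt
    rw [not_le] at hlt
    interval_cases r <;> revert h <;> decide
  · rintro ⟨h6, h12⟩
    interval_cases r <;> decide

theorem isNeg_iff (r : ℕ) : chevF4.IsNegRoot r ↔ r < 24 := by
  constructor
  · rintro ⟨hr, h⟩
    have hr' : r < 48 := hr
    by_contra hlt
    rw [not_lt] at hlt
    interval_cases r <;> revert h <;> decide
  · intro h6
    interval_cases r <;> decide

theorem xF_mem_pos (r : ℕ) (hr : 24 ≤ r ∧ r < 48) (t : K) : xF K r t ∈ chevF4.posUnipotent K :=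
  (envF4 K).hF.xGL_mem_pos r ((isPos_iff r).2 hr) t

theorem xF_mem_neg (r : ℕ) (hr : r < 24) (t : K) : xF K r t ∈ chevF4.negUnipotent K :=
  (envF4 K).hF.xGL_mem_neg r ((isNeg_iff r).2 hr) t

theorem pGL_eq (t : K) : pGL K e t = xF K 33 (t ^ e) * (xF K 24 t * 1) := by
  simp [pGL, f4PairWord, Facts.wordGL, xF, f4p1, f4p4]

theorem pGLn_eq (t : K) : pGLn K e t = xF K 14 (t ^ e) * (xF K 23 t * 1) := by
  simp [pGLn, f4PairWord, Facts.wordGL, xF, f4m1, f4m4]

theorem bGL_eq (t u : K) : bGL K e t u =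
    xF K 27 (t ^ e) * (xF K 25 t * (xF K 28 (t ^ (e + 1) + u) * (xF K 30 (u ^ (2 * e)) * 1))) := by
  simp [bGL, b2ClassWord, Facts.wordGL, xF, f4a, f4b, f4ab, f4aab]

theorem bGLn_eq (t u : K) : bGLn K e t u =
    xF K 20 (t ^ e) * (xF K 22 t * (xF K 19 (t ^ (e + 1) + u) * (xF K 17 (u ^ (2 * e)) * 1))) := by
  simp [bGLn, b2ClassWord, Facts.wordGL, xF, f4ma, f4mb, f4mab, f4maab]

theorem pGL_mem_pos (t : K) : pGL K e t ∈ chevF4.posUnipotent K := by
  rw [pGL_eq]
  exact Subgroup.mul_mem _ (xF_mem_pos 33 (by omega) _) (Subgroup.mul_mem _ (xF_mem_pos 24 (by omega) _)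
    (Subgroup.one_mem _))

theorem bGL_mem_pos (t u : K) : bGL K e t u ∈ chevF4.posUnipotent K := by
  rw [bGL_eq]
  exact Subgroup.mul_mem _ (xF_mem_pos 27 (by omega) _) (Subgroup.mul_mem _ (xF_mem_pos 25 (by omega) _)
    (Subgroup.mul_mem _ (xF_mem_pos 28 (by omega) _) (Subgroup.mul_mem _ (xF_mem_pos 30 (by omega) _)
    (Subgroup.one_mem _))))

theorem pGLn_mem_neg (t : K) : pGLn K e t ∈ chevF4.negUnipotent K := by
  rw [pGLn_eq]
  exact Subgroup.mul_mem _ (xF_mem_neg 14 (by omega) _) (Subgroup.mul_mem _ (xF_mem_neg 23 (by omega) _)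
    (Subgroup.one_mem _))

theorem bGLn_mem_neg (t u : K) : bGLn K e t u ∈ chevF4.negUnipotent K := by
  rw [bGLn_eq]
  exact Subgroup.mul_mem _ (xF_mem_neg 20 (by omega) _) (Subgroup.mul_mem _ (xF_mem_neg 22 (by omega) _)
    (Subgroup.mul_mem _ (xF_mem_neg 19 (by omega) _) (Subgroup.mul_mem _ (xF_mem_neg 17 (by omega) _)
    (Subgroup.one_mem _))))

theorem pGL_mem_twisted (t : K) : pGL K e t ∈ twistedF4 K e := by
  rw [twistedF4_eq_closure]
  exact Subgroup.subset_closure (Or.inl (Or.inl ⟨t, rfl⟩))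

theorem bGL_mem_twisted (t u : K) : bGL K e t u ∈ twistedF4 K e := by
  rw [twistedF4_eq_closure]
  exact Subgroup.subset_closure (Or.inl (Or.inr ⟨t, u, rfl⟩))

theorem pGLn_mem_twisted (t : K) : pGLn K e t ∈ twistedF4 K e := by
  rw [twistedF4_eq_closure]
  exact Subgroup.subset_closure (Or.inr (Or.inl ⟨t, rfl⟩))

theorem bGLn_mem_twisted (t u : K) : bGLn K e t u ∈ twistedF4 K e := by
  rw [twistedF4_eq_closure]
  exact Subgroup.subset_closure (Or.inr (Or.inr ⟨t, u, rfl⟩))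

theorem lt4 {w : List ℕ} (h : ∀ i ∈ w, i < 4) : ∀ i ∈ w, i < chevF4.rank := h

theorem s1F_mem_mono : s1F K ∈ chevF4.monomialSubgroup K :=
  (envF4 K).nW_mem [0, 3] (by decide)

theorem s2F_mem_mono : s2F K ∈ chevF4.monomialSubgroup K :=
  (envF4 K).nW_mem [1, 2, 1, 2] (by decide)

/-- conjugation by `n_w` maps root elements of a set `R` of roots into `rootClosure` of the image -/
theorem nW_conj_mem (w : List ℕ) (hw : ∀ i ∈ w, i < 4) (R R' : ℕ → Prop)
    (hR : ∀ r < 48, R r → R' (rhoW chevF4 w r)) (hR48 : ∀ r, R r → r < 48) (g : GL chevF4.Idx K)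
    (hg : g ∈ rootClosure chevF4 K R) :
    (envF4 K).hF.nW w * g * ((envF4 K).hF.nW w)⁻¹ ∈ rootClosure chevF4 K R' := by
  unfold rootClosure at hg
  induction hg using Subgroup.closure_induction with
  | mem x hx =>
    obtain ⟨r, t, hr, hx⟩ := hx
    rw [(envF4 K).hF.eq_xGL x r t hx]
    obtain ⟨η, _, hη⟩ := (envF4 K).hF.nW_conj (F := K) (envF4 K).hN w hw r (hR48 r hr)
    rw [hη t]
    exact (envF4 K).hF.xGL_mem_rootClosure R' _ (hR r (hR48 r hr) hr) _
  | one => simp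
  | mul x y _ _ hx hy =>
    have : (envF4 K).hF.nW w * (x * y) * ((envF4 K).hF.nW w)⁻¹ =
      ((envF4 K).hF.nW w * x * ((envF4 K).hF.nW w)⁻¹) * ((envF4 K).hF.nW w * y * ((envF4 K).hF.nW w)⁻¹) := by
      group
    rw [this]; exact Subgroup.mul_mem _ hx hy
  | inv x _ hx =>
    have : (envF4 K).hF.nW w * x⁻¹ * ((envF4 K).hF.nW w)⁻¹ =
      ((envF4 K).hF.nW w * x * ((envF4 K).hF.nW w)⁻¹)⁻¹ := by group
    rw [this]; exact Subgroup.inv_mem _ hx

end basic

section checks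

/-- the swap `0 ↔ 3`, `1 ↔ 2` of the fundamental reflections -/
def swF (i : ℕ) : ℕ := 3 - i

/-- classification of the `σ`-fixed subwords of the two distinguished words, as permutations of the roots -/
theorem cls_check : ∀ idx ∈ [[0, 3], [1, 2, 1, 2]], ∀ idx' ∈ List.sublists idx,
    (∀ r < 48, rhoW chevF4 (idx'.map swF) r = rhoW chevF4 idx' r) →
      (∀ r < 48, rhoW chevF4 idx' r = r) ∨ (∀ r < 48, rhoW chevF4 idx r = rhoW chevF4 idx' r) := by
  decide +kernel

theorem sq_check : ∀ idx ∈ [[0, 3], [1, 2, 1, 2]], ∀ r < 48, rhoW chevF4 (idx ++ idx) r = r := by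
  decide +kernel

theorem ne_check : ¬ ∀ r < 48, rhoW chevF4 [0, 3] r = rhoW chevF4 [1, 2, 1, 2] r := by
  decide +kernel

theorem s1_pos_check : ∀ r < 48, (r = 33 ∨ r = 24) → rhoW chevF4 [0, 3] r < 24 := by decide +kernel
theorem s1_neg_check : ∀ r < 48, (r = 14 ∨ r = 23) → 24 ≤ rhoW chevF4 [0, 3] r ∧ rhoW chevF4 [0, 3] r < 48 := by
  decide +kernel
theorem s2_pos_check : ∀ r < 48, (r = 28 ∨ r = 30) → rhoW chevF4 [1, 2, 1, 2] r < 24 := by decide +kernel
theorem s2_neg_check : ∀ r < 48, (r = 20 ∨ r = 22 ∨ r = 19 ∨ r = 17) →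
    24 ≤ rhoW chevF4 [1, 2, 1, 2] r ∧ rhoW chevF4 [1, 2, 1, 2] r < 48 := by decide +kernel

theorem sublists_lt4 {idx idx' : List ℕ} (h : ∀ i ∈ idx, i < 4) (hs : idx'.Sublist idx) :
    ∀ i ∈ idx', i < 4 := fun i hi => h i (hs.subset hi)

theorem xx_ne_one (r s : ℕ) (hr : r < 48) (hs : s < 48) (hrs : r ≠ s) :
    xF K r 1 * xF K s 1 ≠ 1 := by
  intro h
  simp only [xF] at h
  have h1 : (envF4 K).hF.xGL r (1 : K) = (envF4 K).hF.xGL s (-1) := by
    rw [← (envF4 K).hF.xGL_inv]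
    exact eq_inv_of_mul_eq_one_left h
  exact one_ne_zero ((envF4 K).hF.xGL_eq_xGL (envF4 K).hR (envF4 K).hNe (envF4 K).hU.unit r s hr hs hrs _ _ h1)

end checks

section leaves

variable {S : SigmaF K e} (L : LeavesF S)
include L

/-- every element of the twisted group is fixed -/
theorem LeavesF.G1_fix (g : GL chevF4.Idx K) (hg : g ∈ twistedF4 K e) : S.ext g = g := by
  have key : g ∈ chevF4.group K ∧ S.ext g = g := by
    rw [twistedF4_eq_closure] at hg
    induction hg using Subgroup.closure_induction with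
    | mem x hx =>
      rcases hx with (⟨t, rfl⟩ | ⟨t, u, rfl⟩) | (⟨t, rfl⟩ | ⟨t, u, rfl⟩)
      · exact ⟨(envF4 K).hF.wordGL_mem_group _, L.ext_pGL t⟩
      · exact ⟨(envF4 K).hF.wordGL_mem_group _, L.ext_bGL t u⟩
      · exact ⟨(envF4 K).hF.wordGL_mem_group _, L.ext_pGLn t⟩
      · exact ⟨(envF4 K).hF.wordGL_mem_group _, L.ext_bGLn t u⟩
    | one => exact ⟨Subgroup.one_mem _, S.ext_one⟩
    | mul x y _ _ hx hy =>
      exact ⟨Subgroup.mul_mem _ hx.1 hy.1, by rw [S.ext_mul hx.1 hy.1, hx.2, hy.2]⟩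
    | inv x _ hx =>
      exact ⟨Subgroup.inv_mem _ hx.1, by rw [S.ext_inv hx.1, hx.2]⟩
  exact key.2

theorem LeavesF.ext_nS (i : ℕ) (hi : i < 4) :
    S.ext ((envF4 K).hF.nS i) = (envF4 K).hF.nS (swF i) := by
  unfold Facts.nS
  have h48 : chevF4.simple i < 48 := by interval_cases i <;> decide
  rw [L.ext_nGL _ h48 1 one_ne_zero, one_pow]
  congr 1
  interval_cases i <;> rfl

theorem LeavesF.ext_nW (w : List ℕ) (hw : ∀ i ∈ w, i < 4) :
    S.ext ((envF4 K).hF.nW w) = (envF4 K).hF.nW (w.map swF) := by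
  induction w with
  | nil =>
    simp only [Facts.nW, List.map_nil, List.prod_nil]
    exact S.ext_one
  | cons i w ih =>
    have hw' : ∀ j ∈ w, j < 4 := fun j hj => hw j (List.mem_cons_of_mem _ hj)
    have e1 : (envF4 K).hF.nW (F := K) (i :: w) = (envF4 K).hF.nS i * (envF4 K).hF.nW w := by
      simp [Facts.nW]
    have e2 : (envF4 K).hF.nW (F := K) ((i :: w).map swF) =
        (envF4 K).hF.nS (swF i) * (envF4 K).hF.nW (w.map swF) := by
      simp [Facts.nW]
    have hi : i < 4 := hw i List.mem_cons_self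
    rw [e1, e2, S.ext_mul ((envF4 K).hF.monomial_le_group (TwBN.nS_mem_N (envF4 K) i hi))
      ((envF4 K).hF.monomial_le_group ((envF4 K).nW_mem w hw')), L.ext_nS i hi, ih hw']

/-- the part of the setting used for the exchange condition -/
noncomputable def LeavesF.core : TwBN2.Core2 (GL chevF4.Idx K) where
  B := chevF4.borelSubgroup K
  N := chevF4.monomialSubgroup K
  H := chevF4.diagonalSubgroup K
  σ := S.ext
  hHN := diagonal_le_monomial chevF4 K
  hNH := fun n hn h hh =>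
    (Subgroup.mem_normalizer_iff.mp ((envF4 K).hF.monomial_le_normalizer (envF4 K).hN (envF4 K).hH hn) h).mp hh
  σH := L.ext_diag
  σ_mul := fun a ha b hb =>
    S.ext_mul ((envF4 K).hF.monomial_le_group ha) ((envF4 K).hF.monomial_le_group hb)
  bruhat := fun n hn n' hn' b₁ h1 b₂ h2 b₁' h1' b₂' h2' e =>
    (envF4 K).hF.bruhat_unique (envF4 K).P (envF4 K).hB (envF4 K).hN' (envF4 K).hBN n n' hn hn'
      b₁ b₂ b₁' b₂' h1 h2 h1' h2' e

theorem LeavesF.ex_nS (i : ℕ) (hi : i < 4) : L.core.Ex ((envF4 K).hF.nS i) := fun n hn β hβ =>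
  (envF4 K).hF.bn_axiom (envF4 K).hN (envF4 K).hH (envF4 K).hR i hi ((envF4 K).hRefl i hi)
    ((envF4 K).hUp i hi).1 ((envF4 K).hUp i hi).2 n hn β hβ

/-- the twisted exchange condition for the two distinguished words -/
theorem LeavesF.exch (idx : List ℕ) (hidx : idx ∈ [[0, 3], [1, 2, 1, 2]]) :
    ∀ b ∈ chevF4.borelSubgroup K, ∀ n ∈ chevF4.monomialSubgroup K, S.ext n = n →
      ∀ n' ∈ chevF4.monomialSubgroup K, S.ext n' = n' → ∀ β₁ ∈ chevF4.borelSubgroup K,
      ∀ β₂ ∈ chevF4.borelSubgroup K, (envF4 K).hF.nW idx * b * n = β₁ * n' * β₂ →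
        n⁻¹ * n' ∈ chevF4.diagonalSubgroup K ∨
          ((envF4 K).hF.nW idx * n)⁻¹ * n' ∈ chevF4.diagonalSubgroup K := by
  have h4 : ∀ i ∈ idx, i < 4 := by
    simp only [List.mem_cons, List.not_mem_nil, or_false] at hidx
    rcases hidx with rfl | rfl <;> decide
  have key := L.core.exch_word (idx.map fun i => ((envF4 K).hF.nS i : GL chevF4.Idx K)) ?_ ?_
  · exact key
  · intro a ha
    obtain ⟨i, hi, rfl⟩ := List.mem_map.mp ha
    exact ⟨L.ex_nS i (h4 i hi), TwBN.nS_mem_N (envF4 K) i (h4 i hi)⟩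
  · intro l hl hfix
    obtain ⟨idx', hsub, rfl⟩ := List.sublist_map_iff.mp hl
    have h4' := sublists_lt4 h4 hsub
    have h4s : ∀ i ∈ idx'.map swF, i < 4 := by
      intro i hi
      obtain ⟨j, _, rfl⟩ := List.mem_map.mp hi
      unfold swF; omega
    change (S.ext ((envF4 K).hF.nW idx'))⁻¹ * (envF4 K).hF.nW idx' ∈ chevF4.diagonalSubgroup K at hfix
    rw [L.ext_nW idx' h4'] at hfix
    have h1 := rhoW_eq_of_inv_mul_mem (envF4 K) _ _ (lt4 h4s) (lt4 h4') hfix
    rcases cls_check idx hidx idx' (List.mem_sublists.mpr hsub) h1 with h2 | h2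
    · left
      exact (nW_mem_diag_iff (envF4 K) idx' (lt4 h4')).2 h2
    · right
      exact inv_mul_mem_of_rhoW_eq (envF4 K) idx idx' (lt4 h4) (lt4 h4') h2

theorem LeavesF.sq_mem (idx : List ℕ) (hidx : idx ∈ [[0, 3], [1, 2, 1, 2]]) :
    (envF4 K).hF.nW (F := K) idx * (envF4 K).hF.nW idx ∈ chevF4.diagonalSubgroup K := by
  have h4 : ∀ i ∈ idx, i < 4 := by
    simp only [List.mem_cons, List.not_mem_nil, or_false] at hidx
    rcases hidx with rfl | rfl <;> decide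
  rw [← (envF4 K).hF.nW_app]
  apply (nW_mem_diag_iff (envF4 K) (idx ++ idx) ?_).2 (sq_check idx hidx)
  intro i hi
  rcases List.mem_append.mp hi with h | h <;> exact h4 i h

/-- the setting of the abstract construction for the large Ree groups -/
noncomputable def LeavesF.setup : TwBN2.Setup (GL chevF4.Idx K) where
  B := chevF4.borelSubgroup K
  N := chevF4.monomialSubgroup K
  H := chevF4.diagonalSubgroup K
  U := chevF4.posUnipotent K
  Un := Un chevF4 K
  σ := S.ext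
  G1 := twistedF4 K e
  S := {s1F K, s2F K}
  hBUH := fun b hb => exists_mul_of_mem_sup_of_le_normalizer _ _
    (envF4 K).hF.diagonal_le_normalizer_pos b hb
  hUB := pos_le_borel chevF4 K
  hHB := diagonal_le_borel chevF4 K
  hHN := diagonal_le_monomial chevF4 K
  hUH := fun x hxU hxH => by
    have : x ∈ chevF4.posUnipotent K ⊓ chevF4.diagonalSubgroup K := ⟨hxU, hxH⟩
    rw [(envF4 K).hF.borel_semidirect.2, Subgroup.mem_bot] at this
    exact this
  hBN := fun x hxB hxN => by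
    rw [← (envF4 K).hBN]; exact ⟨hxB, hxN⟩
  hNH := fun n hn h hh =>
    (Subgroup.mem_normalizer_iff.mp ((envF4 K).hF.monomial_le_normalizer (envF4 K).hN (envF4 K).hH hn) h).mp hh
  nf_exists := fun g hg =>
    (envF4 K).hF.normal_form_exists (envF4 K).hN (envF4 K).hH (envF4 K).hR (envF4 K).hC (envF4 K).hU
      (envF4 K).hNR (envF4 K).hcomm (envF4 K).P (envF4 K).hB (envF4 K).hN' g (twistedF4_le_group hg)
  nf_unique := fun b b' n u u' hb hb' hn hu hu' e =>
    ((envF4 K).hF.normal_form_unique (envF4 K).P (envF4 K).hB (envF4 K).hN' (envF4 K).hBN b b' n n u u'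
      hb hb' hn hn hu hu' e).2 rfl
  bruhat := fun n hn n' hn' b₁ h1 b₂ h2 b₁' h1' b₂' h2' e =>
    (envF4 K).hF.bruhat_unique (envF4 K).P (envF4 K).hB (envF4 K).hN' (envF4 K).hBN n n' hn hn'
      b₁ b₂ b₁' b₂' h1 h2 h1' h2' e
  Un_le := Un_le
  Un_H := Un_H (envF4 K).hF
  σ_mul3 := fun u₁ hu₁ n hn u hu => by
    have h1 := (envF4 K).hF.pos_le_group hu₁
    have h2 := (envF4 K).hF.monomial_le_group hn
    have h3 := (envF4 K).hF.pos_le_group hu
    rw [S.ext_mul (Subgroup.mul_mem _ h1 h2) h3, S.ext_mul h1 h2]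
  σU := L.ext_pos
  σN := L.ext_mono
  σUn := L.ext_Un
  G1_fix := L.G1_fix
  fixU := L.fix_pos
  S_mem := by
    rintro s (rfl | rfl)
    · exact ⟨s1F_mem_mono, L.s1F_mem, L.sq_mem [0, 3] (by simp)⟩
    · exact ⟨s2F_mem_mono, L.s2F_mem, L.sq_mem [1, 2, 1, 2] (by simp)⟩
  S_exch := by
    rintro s (rfl | rfl)
    · exact L.exch [0, 3] (by simp)
    · exact L.exch [1, 2, 1, 2] (by simp)
  S_inj := by
    rintro s (rfl | rfl) s' (rfl | rfl) hB
    · rfl
    · exfalso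
      have hH : (s1F K)⁻¹ * s2F K ∈ chevF4.diagonalSubgroup K := by
        rw [← (envF4 K).hBN]
        exact ⟨hB, Subgroup.mul_mem _ (Subgroup.inv_mem _ s1F_mem_mono) s2F_mem_mono⟩
      exact ne_check (rhoW_eq_of_inv_mul_mem (envF4 K) [0, 3] [1, 2, 1, 2] (by decide) (by decide) hH)
    · exfalso
      have hH : (s1F K)⁻¹ * s2F K ∈ chevF4.diagonalSubgroup K := by
        rw [← (envF4 K).hBN]
        refine ⟨?_, Subgroup.mul_mem _ (Subgroup.inv_mem _ s1F_mem_mono) s2F_mem_mono⟩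
        have := Subgroup.inv_mem _ hB
        rwa [mul_inv_rev, inv_inv] at this
      exact ne_check (rhoW_eq_of_inv_mul_mem (envF4 K) [0, 3] [1, 2, 1, 2] (by decide) (by decide) hH)
    · rfl
  S_ne := by
    have aux : ∀ (idx : List ℕ) (hidx : idx ∈ [[0, 3], [1, 2, 1, 2]]) (b : GL chevF4.Idx K),
        b ∈ chevF4.posUnipotent K → b ∈ twistedF4 K e → b ≠ 1 →
        (envF4 K).hF.nW idx * b * ((envF4 K).hF.nW idx)⁻¹ ∈ chevF4.negUnipotent K →
        ∃ b ∈ chevF4.borelSubgroup K, b ∈ twistedF4 K e ∧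
          (envF4 K).hF.nW idx * b * (envF4 K).hF.nW idx ∉ chevF4.borelSubgroup K := by
      intro idx hidx b hbU hbG hb1 h3
      refine ⟨b, pos_le_borel chevF4 K hbU, hbG, ?_⟩
      intro hB
      set s := (envF4 K).hF.nW (F := K) idx with hs
      have e1 : s * b * s⁻¹ = (s * b * s) * (s * s)⁻¹ := by group
      have h4 : s * b * s⁻¹ ∈ chevF4.borelSubgroup K ⊓ chevF4.negUnipotent K := by
        refine ⟨?_, h3⟩
        rw [e1]
        exact Subgroup.mul_mem _ hB (Subgroup.inv_mem _ (diagonal_le_borel chevF4 K (L.sq_mem idx hidx)))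
      rw [(envF4 K).hF.borel_inf_neg.1, Subgroup.mem_bot] at h4
      have h5 : s * b = s := mul_inv_eq_one.mp h4
      exact hb1 (mul_left_cancel (h5.trans (mul_one _).symm))
    rintro s (rfl | rfl)
    · refine aux [0, 3] (by simp) (pGL K e 1) (pGL_mem_pos 1) (pGL_mem_twisted 1) ?_ ?_
      · rw [pGL_eq, one_pow, mul_one]
        exact xx_ne_one 33 24 (by norm_num) (by norm_num) (by norm_num)
      · have h := nW_conj_mem (K := K) [0, 3] (by decide) (fun r => r = 33 ∨ r = 24) (fun r => r < 24)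
          s1_pos_check (by rintro r (rfl | rfl) <;> norm_num) (pGL K e 1) ?_
        · refine rootClosure_neg_le chevF4 K _ ?_ h
          intro r hr
          exact (isNeg_iff r).2 hr
        · rw [pGL_eq]
          exact Subgroup.mul_mem _ ((envF4 K).hF.xGL_mem_rootClosure _ _ (Or.inl rfl) _)
            (Subgroup.mul_mem _ ((envF4 K).hF.xGL_mem_rootClosure _ _ (Or.inr rfl) _) (Subgroup.one_mem _))
    · refine aux [1, 2, 1, 2] (by simp) (bGL K e 0 1) (bGL_mem_pos 0 1) (bGL_mem_twisted 0 1) ?_ ?_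
      · rw [bGL_eq, zero_pow L.e_ne, zero_pow (by omega), zero_add, one_pow, mul_one]
        simp only [xF, (envF4 K).hF.xGL_zero, one_mul]
        exact xx_ne_one 28 30 (by norm_num) (by norm_num) (by norm_num)
      · have h := nW_conj_mem (K := K) [1, 2, 1, 2] (by decide) (fun r => r = 28 ∨ r = 30) (fun r => r < 24)
          s2_pos_check (by rintro r (rfl | rfl) <;> norm_num) (bGL K e 0 1) ?_
        · refine rootClosure_neg_le chevF4 K _ ?_ h
          intro r hr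
          exact (isNeg_iff r).2 hr
        · rw [bGL_eq, zero_pow L.e_ne, zero_pow (by omega), zero_add, one_pow, mul_one]
          simp only [xF, (envF4 K).hF.xGL_zero, one_mul]
          exact Subgroup.mul_mem _ ((envF4 K).hF.xGL_mem_rootClosure _ _ (Or.inl rfl) _)
            ((envF4 K).hF.xGL_mem_rootClosure _ _ (Or.inr rfl) _)
  gens := ⟨_, twistedF4_eq_closure, by
    rintro y ((⟨t, rfl⟩ | ⟨t, u, rfl⟩) | (⟨t, rfl⟩ | ⟨t, u, rfl⟩))
    · left; exact pGL_mem_pos t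
    · left; exact bGL_mem_pos t u
    · right
      refine ⟨s1F K, Or.inl rfl, ?_⟩
      have h := nW_conj_mem (K := K) [0, 3] (by decide) (fun r => r = 14 ∨ r = 23)
        (fun r => 24 ≤ r ∧ r < 48) s1_neg_check (by rintro r (rfl | rfl) <;> norm_num) (pGLn K e t) ?_
      · refine rootClosure_pos_le chevF4 K _ ?_ h
        intro r hr
        exact (isPos_iff r).2 hr
      · rw [pGLn_eq]
        exact Subgroup.mul_mem _ ((envF4 K).hF.xGL_mem_rootClosure _ _ (Or.inl rfl) _)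
          (Subgroup.mul_mem _ ((envF4 K).hF.xGL_mem_rootClosure _ _ (Or.inr rfl) _) (Subgroup.one_mem _))
    · right
      refine ⟨s2F K, Or.inr rfl, ?_⟩
      have h := nW_conj_mem (K := K) [1, 2, 1, 2] (by decide) (fun r => r = 20 ∨ r = 22 ∨ r = 19 ∨ r = 17)
        (fun r => 24 ≤ r ∧ r < 48) s2_neg_check (by rintro r (rfl | rfl | rfl | rfl) <;> norm_num)
        (bGLn K e t u) ?_
      · refine rootClosure_pos_le chevF4 K _ ?_ h
        intro r hr
        exact (isPos_iff r).2 hr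
      · rw [bGLn_eq]
        exact Subgroup.mul_mem _ ((envF4 K).hF.xGL_mem_rootClosure _ _ (Or.inl rfl) _)
          (Subgroup.mul_mem _ ((envF4 K).hF.xGL_mem_rootClosure _ _ (Or.inr (Or.inl rfl)) _)
          (Subgroup.mul_mem _ ((envF4 K).hF.xGL_mem_rootClosure _ _ (Or.inr (Or.inr (Or.inl rfl))) _)
          (Subgroup.mul_mem _ ((envF4 K).hF.xGL_mem_rootClosure _ _ (Or.inr (Or.inr (Or.inr rfl))) _)
          (Subgroup.one_mem _))))⟩

/-- the `(B, N)`-pair of the large Ree group -/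
theorem LeavesF.exists_bnPair : ∃ P : Cfsg.BNPair ↥(twistedF4 K e),
    P.B = (chevF4.borelSubgroup K ⊓ twistedF4 K e).subgroupOf (twistedF4 K e) ∧
    P.N = (chevF4.monomialSubgroup K ⊓ twistedF4 K e).subgroupOf (twistedF4 K e) ∧
    P.S = {s : ↥(twistedF4 K e) | (s : GL chevF4.Idx K) ∈ ({s1F K, s2F K} : Set (GL chevF4.Idx K))} :=
  L.setup.exists_bnPair

end leaves

end Cfsg.Agent.Lib.Helper33.F4
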