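import Mathlib
import Cfsg.Agent.Lib.Helper33.TwBNAbs

/-!
Abstract part of: the normal core of `B¹ = B ∩ G¹` in the twisted group `G¹` is trivial.
-/

set_option autoImplicit false

namespace Cfsg.Agent.Lib.Helper33.TwBN

variable {Γ : Type*} [Group Γ]

/-- the normal core of `B ⊓ G1` in `G1` is trivial, given an element `n₀ ∈ G1` mapping `U` into an
opposite subgroup `V`, and the triviality of the centraliser of `G1` in `H ⊓ G1` -/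
theorem core_eq_bot_abs (B H U V G1 : Subgroup Γ)
    (hBUH : ∀ b ∈ B, ∃ u ∈ U, ∃ h ∈ H, b = u * h)
    (hHB : H ≤ B)
    (hBV : ∀ x ∈ B, x ∈ V → x = 1)
    (hBVH : ∀ x ∈ B, x ∈ V ⊔ H → x ∈ H)
    (hHU : ∀ h ∈ H, ∀ u ∈ U, h * u * h⁻¹ ∈ U)
    (hHV : ∀ h ∈ H, ∀ v ∈ V, h * v * h⁻¹ ∈ V)
    (n₀ : Γ) (hn₀G : n₀ ∈ G1) (hn₀H : ∀ h ∈ H, n₀ * h * n₀⁻¹ ∈ H)
    (hn₀U : ∀ u ∈ U, n₀ * u * n₀⁻¹ ∈ V)
    (X : Set Γ) (hX : G1 = Subgroup.closure X) (hXUV : ∀ y ∈ X, y ∈ U ∨ y ∈ V)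
    (hZ : ∀ k ∈ H, k ∈ G1 → (∀ g ∈ G1, k * g = g * k) → k = 1) :
    ((B ⊓ G1).subgroupOf G1).normalCore = ⊥ := by
  have hmemB : ∀ x : ↥G1, x ∈ (B ⊓ G1).subgroupOf G1 ↔ (x : Γ) ∈ B := by
    intro x
    rw [Subgroup.mem_subgroupOf, Subgroup.mem_inf]
    exact ⟨fun h => h.1, fun h => ⟨h, x.2⟩⟩
  -- every element of the core lies in `H`
  have hcoreH : ∀ k' ∈ ((B ⊓ G1).subgroupOf G1).normalCore, (k' : Γ) ∈ H := by
    intro k' hk'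
    have a1 := hk' 1
    have a2 := hk' ⟨n₀⁻¹, G1.inv_mem hn₀G⟩
    rw [hmemB] at a1 a2
    simp only [one_mul, inv_one, mul_one] at a1
    have a2' : n₀⁻¹ * (k' : Γ) * n₀ ∈ B := by simpa using a2
    obtain ⟨u, hu, h, hh, e⟩ := hBUH _ a2'
    apply hBVH _ a1
    have e2 : (k' : Γ) = (n₀ * u * n₀⁻¹) * (n₀ * h * n₀⁻¹) := by
      have : (k' : Γ) = n₀ * (n₀⁻¹ * (k' : Γ) * n₀) * n₀⁻¹ := by group
      rw [this, e]; group
    rw [e2]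
    exact Subgroup.mul_mem _ (Subgroup.mem_sup_left (hn₀U u hu)) (Subgroup.mem_sup_right (hn₀H h hh))
  rw [eq_bot_iff]
  intro k hk
  rw [Subgroup.mem_bot]
  have hkH := hcoreH k hk
  have hXG : ∀ y ∈ X, y ∈ G1 := fun y hy => by rw [hX]; exact Subgroup.subset_closure hy
  -- `k` commutes with the generators
  have hcomm : ∀ y ∈ X, (k : Γ) * y = y * (k : Γ) := by
    intro y hy
    have hyG := hXG y hy
    have h1 : (⟨y, hyG⟩ : ↥G1) * k⁻¹ * (⟨y, hyG⟩ : ↥G1)⁻¹ ∈ ((B ⊓ G1).subgroupOf G1).normalCore :=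
      (Subgroup.normalCore_normal _).conj_mem _ (Subgroup.inv_mem _ hk) _
    have h2 := hcoreH _ (Subgroup.mul_mem _ hk h1)
    have h2' : (k : Γ) * (y * (k : Γ)⁻¹ * y⁻¹) ∈ H := by simpa using h2
    have e : (k : Γ) * (y * (k : Γ)⁻¹ * y⁻¹) = ((k : Γ) * y * (k : Γ)⁻¹) * y⁻¹ := by group
    rw [e] at h2'
    have h3 : ((k : Γ) * y * (k : Γ)⁻¹) * y⁻¹ = 1 := by
      rcases hXUV y hy with hU | hV
      · have h4 : ((k : Γ) * y * (k : Γ)⁻¹) * y⁻¹ ∈ U := U.mul_mem (hHU _ hkH y hU) (U.inv_mem hU)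
        -- `U ⊓ H = ⊥` follows from `B ⊓ V = ⊥` after conjugation by `n₀`
        set z := ((k : Γ) * y * (k : Γ)⁻¹) * y⁻¹ with hz
        have h5 : n₀ * z * n₀⁻¹ ∈ V := hn₀U z h4
        have h6 : n₀ * z * n₀⁻¹ ∈ B := hHB (hn₀H z h2')
        have h7 := hBV _ h6 h5
        have : z = n₀⁻¹ * (n₀ * z * n₀⁻¹) * n₀ := by group
        rw [this, h7]; group
      · have h4 : ((k : Γ) * y * (k : Γ)⁻¹) * y⁻¹ ∈ V := V.mul_mem (hHV _ hkH y hV) (V.inv_mem hV)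
        exact hBV _ (hHB h2') h4
    have : (k : Γ) * y = ((k : Γ) * y * (k : Γ)⁻¹ * y⁻¹) * (y * (k : Γ)) := by group
    rw [this, h3, one_mul]
  have hcent : ∀ g ∈ G1, (k : Γ) * g = g * (k : Γ) := by
    intro g hg
    rw [hX] at hg
    induction hg using Subgroup.closure_induction with
    | mem y hy => exact hcomm y hy
    | one => simp
    | mul x y _ _ hx hy => rw [← mul_assoc, hx, mul_assoc, hy, mul_assoc]
    | inv x _ hx =>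
      have : (k : Γ) * x⁻¹ = x⁻¹ * (x * (k : Γ)) * x⁻¹ := by group
      rw [this, ← hx]; group
  exact Subtype.ext (hZ _ hkH k.2 hcent)

end Cfsg.Agent.Lib.Helper33.TwBN
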