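import Cfsg.Agent.Lib.Helper33.TwBNMain
import Cfsg.Agent.Lib.Helper33.TwCoreAbs
import Cfsg.Agent.Lib.Helper24.Core
import Cfsg.Agent.Lib.Helper24.HStruct

/-!
The normal core of `B¹ = B ∩ G¹` in a twisted group `G¹` is trivial.
-/

set_option autoImplicit false
set_option linter.unusedSimpArgs false
set_option linter.unusedVariables false

namespace Cfsg.Agent.Lib.Helper33.TwBN

open Cfsg.Lie Cfsg.Agent.Lib.Helper24

section core

variable {F : Type*} [Field F] {D : ChevalleyDatum} {tab : List ℕ} {orb : List (ℕ × ℕ × ℕ)}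

theorem conj_list_prod {G : Type*} [Group G] (k : G) (L : List G) :
    k * L.prod * k⁻¹ = (L.map fun x => k * x * k⁻¹).prod := by
  induction L with
  | nil => simp
  | cons a L ih =>
    rw [List.prod_cons, List.map_cons, List.prod_cons, ← ih]
    group

theorem ordProd_eq_prod (hF : Facts D) (L : List ℕ) (t : ℕ → F) :
    hF.ordProd L t = (L.map fun r => hF.xGL r (t r)).prod := by
  simp [Facts.ordProd, Facts.wordGL, List.map_map, Function.comp_def]

/-- an element of `H ⊓ G¹` centralising `G¹` is trivial -/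
theorem center_diag_eq_one (E : Env D F tab orb) (T : Tw D F E.hF) {Fd : List (ℕ × ℕ × List ℕ)}
    {Hd : List (ℕ × ℕ)} {Lc : List ℕ} {Λ : List ℤ} (hG : TwG E T Fd) (hT : TwU E T Hd Lc Λ)
    (hO : fundOrbOK D T.R Fd = true)
    (hcover : ∀ j < D.rank, ∃ x ∈ Fd, j ∈ x.2.2)
    (hTorus : ∀ c : ℕ → F, (∀ i, c i ≠ 0) →
      (∀ j < D.rank, torusEntry D (List.range D.rank) c (D.rank + D.simple j) = 1) →
      ∀ r < D.nroots, torusEntry D (List.range D.rank) c (D.rank + r) = 1)
    (k : GL D.Idx F) (hkH : k ∈ D.diagonalSubgroup F)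
    (hcent : ∀ g ∈ T.G1 (fundOf D Fd), k * g = g * k) : k = 1 := by
  obtain ⟨c, hc, hdiag⟩ := E.hF.diagonal_torus _ hkH
  have hconjk : ∀ r < D.nroots, ∀ t : F,
      k * E.hF.xGL r t * k⁻¹ =
        E.hF.xGL r (torusEntry D (List.range D.rank) c (D.rank + r) * t) := by
    intro r hr t
    rw [mul_inv_eq_iff_eq_mul]
    apply Units.ext
    rw [Units.val_mul, Units.val_mul, hdiag, Facts.xGL_val, Facts.xGL_val]
    unfold ChevalleyDatum.x
    rw [dif_pos hr, dif_pos hr]
    exact E.hF.torus_mul_xMat c hc ⟨r, hr⟩ t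
  have hneginj : ∀ r s, D.IsPosRoot r → D.IsPosRoot s → D.neg r = D.neg s → r = s := by
    intro r s hr hs h
    have h1 := (rootTableOK_spec D E.hR r hr.1).2.2.1
    have h2 := (rootTableOK_spec D E.hR s hs.1).2.2.1
    rw [← h1, ← h2, h]
  -- the character is trivial on the fundamental roots
  have hsimple : ∀ j < D.rank, torusEntry D (List.range D.rank) c (D.rank + D.simple j) = 1 := by
    intro j hj
    obtain ⟨x, hx, hjx⟩ := hcover j hj
    obtain ⟨hjxe, hrk⟩ := hG.jx x hx
    have hO' := List.all_eq_true.mp hO x hx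
    simp only [Bool.and_eq_true, decide_eq_true_eq] at hO'
    have hnd := hO'.1
    set L := orbitL T.R x.2.1 x.1 with hL
    have hA := T.cls_const x.2.1 x.1 (1 : F) (hG.eta1 x hx) (map_one _)
    have hgG : T.cls x.2.1 (x.1, (1 : F)) ∈ T.G1 (fundOf D Fd) := by
      apply Subgroup.subset_closure
      refine ⟨(x.1, x.2.1), ?_, 1, ?_, rfl⟩
      · apply List.mem_append_left; exact List.mem_map.mpr ⟨x, hx, rfl⟩
      · rw [hA.2]
    have hpos : ∀ r ∈ L, D.IsPosRoot r := fun r hr => orbit_pos E T hG x hx r hr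
    have hfund := List.all_eq_true.mp hG.fund (x.1, x.2.1)
      (List.mem_append_left _ (List.mem_map.mpr ⟨x, hx, rfl⟩))
    simp only [Bool.and_eq_true, Nat.blt_eq, nbeq_true, List.all_eq_true, List.mem_range,
      Bool.or_eq_true] at hfund
    have hlt : x.1 < D.nroots := hfund.1.1.1
    have hsort : L.Pairwise (fun r s => gradeE D Λ (D.rank + r) ≤ gradeE D Λ (D.rank + s)) := by
      apply List.pairwise_of_forall_mem_list
      intro r hr s hs
      obtain ⟨a, _, rfl⟩ := (mem_orbitL T.R x.2.1 x.1 r).1 hr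
      obtain ⟨b, _, rfl⟩ := (mem_orbitL T.R x.2.1 x.1 s).1 hs
      rw [hT.grade_iter a _ hlt, hT.grade_iter b _ hlt]
    have e1 : T.cls x.2.1 (x.1, (1 : F)) = E.hF.ordProd L (fun _ => 1) := by
      rw [hA.1, ordProd_eq_prod]
    have e2 : k * T.cls x.2.1 (x.1, (1 : F)) * k⁻¹ =
        E.hF.ordProd L (fun r => torusEntry D (List.range D.rank) c (D.rank + r) * 1) := by
      rw [hA.1, conj_list_prod, ordProd_eq_prod, List.map_map]
      congr 1
      apply List.map_congr_left
      intro r hr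
      simp only [Function.comp_apply]
      exact hconjk r (hpos r hr).1 1
    have e3 : k * T.cls x.2.1 (x.1, (1 : F)) * k⁻¹ = T.cls x.2.1 (x.1, (1 : F)) := by
      rw [hcent _ hgG]; group
    rw [e2, e1] at e3
    have h4 := E.hF.ordProd_inj_gen E.hNe E.hU.unit hneginj Λ hT.g0 L hnd hsort hpos _ _ e3
      (D.simple j) (by rw [← hjxe]; exact List.mem_map.mpr ⟨j, hjx, rfl⟩)
    simpa using h4
  have hchar := hTorus c hc hsimple
  -- hence `k = 1`
  apply Units.ext
  rw [hdiag]
  simp only [Units.val_one]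
  rw [← Matrix.diagonal_one]
  congr 1
  funext idx
  rcases idx with i | s
  · have : enc D (Sum.inl i : D.Idx) < D.rank := i.isLt
    unfold torusEntry
    apply List.prod_eq_one
    intro x hx
    simp only [List.mem_map] at hx
    obtain ⟨j, _, rfl⟩ := hx
    simp [Eexp, this]
  · exact hchar s.val s.isLt

/-- the normal core of `B ⊓ G¹` in the twisted group `G¹` is trivial -/
theorem core_eq_bot_tw (E : Env D F tab orb) (T : Tw D F E.hF) {Fd : List (ℕ × ℕ × List ℕ)}
    {Hd : List (ℕ × ℕ)} {Lc : List ℕ} {Λ : List ℤ} (hG : TwG E T Fd) (hT : TwU E T Hd Lc Λ)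
    (hO : fundOrbOK D T.R Fd = true)
    (hcover : ∀ j < D.rank, ∃ x ∈ Fd, j ∈ x.2.2)
    (hTorus : ∀ c : ℕ → F, (∀ i, c i ≠ 0) →
      (∀ j < D.rank, torusEntry D (List.range D.rank) c (D.rank + D.simple j) = 1) →
      ∀ r < D.nroots, torusEntry D (List.range D.rank) c (D.rank + r) = 1)
    (w₀ : List ℕ) (hw₀ : ∀ j ∈ w₀, j < Fd.length)
    (hlong : ∀ r, D.IsPosRoot r → D.IsNegRoot (rhoW D (expandJ Fd w₀) r))
    (hnegorb : ∀ x ∈ Fd, ∀ s ∈ orbitL T.R x.2.1 (D.neg x.1), D.IsNegRoot s) :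
    ((D.borelSubgroup F ⊓ T.G1 (fundOf D Fd)).subgroupOf (T.G1 (fundOf D Fd))).normalCore = ⊥ := by
  have hwlt := hG.expand_lt w₀ hw₀
  have hn₀N : E.hF.nW (F := F) (expandJ Fd w₀) ∈ D.monomialSubgroup F := E.nW_mem _ hwlt
  apply core_eq_bot_abs (D.borelSubgroup F) (D.diagonalSubgroup F) (D.posUnipotent F)
    (D.negUnipotent F) (T.G1 (fundOf D Fd))
    (fun b hb => exists_mul_of_mem_sup_of_le_normalizer _ _ E.hF.diagonal_le_normalizer_pos b hb)
    (diagonal_le_borel D F)
    (fun x hxB hxV => by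
      have : x ∈ D.borelSubgroup F ⊓ D.negUnipotent F := ⟨hxB, hxV⟩
      rw [E.hF.borel_inf_neg.1, Subgroup.mem_bot] at this
      exact this)
    (fun x hxB hxV => by
      have : x ∈ D.borelSubgroup F ⊓ (D.negUnipotent F ⊔ D.diagonalSubgroup F) := ⟨hxB, hxV⟩
      rw [E.hF.borel_inf_neg.2] at this
      exact this)
    (fun h hh u hu =>
      (Subgroup.mem_normalizer_iff.mp (E.hF.diagonal_le_normalizer_pos hh) u).mp hu)
    (fun h hh v hv =>
      (Subgroup.mem_normalizer_iff.mp (E.hF.diagonal_le_normalizer_neg hh) v).mp hv)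
    (E.hF.nW (expandJ Fd w₀)) (hG.nW_expand_mem w₀ hw₀)
    (fun h hh =>
      (Subgroup.mem_normalizer_iff.mp (E.hF.monomial_le_normalizer E.hN E.hH hn₀N) h).mp hh)
    (fun u hu => rootClosure_neg_le D F _ (fun r hr => hr)
      (E.conj_rootClosure_nW _ hwlt D.IsPosRoot D.IsNegRoot
        (fun s hs => ⟨hs.1, hlong s hs⟩) u hu))
    (T.genSet (fundOf D Fd)) rfl
  · -- the generators lie in `U` or in `V`
    rintro y ⟨p, hp, t, _, rfl⟩
    unfold fundOf at hp
    rcases List.mem_append.mp hp with hp | hp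
    · obtain ⟨x, hx, rfl⟩ := List.mem_map.mp hp
      left
      exact rootClosure_pos_le D F _ (fun r hr => orbit_pos E T hG x hx r hr)
        (T.cls_mem x.2.1 (x.1, t))
    · obtain ⟨x, hx, rfl⟩ := List.mem_map.mp hp
      right
      exact rootClosure_neg_le D F _ (fun r hr => hnegorb x hx r hr)
        (T.cls_mem x.2.1 (D.neg x.1, t))
  · intro k hkH _ hcent
    exact center_diag_eq_one E T hG hT hO hcover hTorus k hkH hcent

end core

end Cfsg.Agent.Lib.Helper33.TwBN
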