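import Cfsg.Agent.Lib.Helper24.HStruct
import Cfsg.Agent.Lib.Helper24.Core
import Cfsg.Prelude.Def_ChevE6
import Cfsg.Prelude.Def_ChevD4

/-!
A character of the torus which is trivial on the fundamental roots is trivial on all roots
(simply laced types: the coordinates of a root are those of its coroot).
-/

set_option autoImplicit false
set_option maxRecDepth 100000

namespace Cfsg.Agent.Lib.Helper33.TwBN

open Cfsg.Lie Cfsg.Agent.Lib.Helper24

theorem list_range_prod {M : Type*} [CommMonoid M] (f : ℕ → M) (n : ℕ) :
    ((List.range n).map f).prod = ∏ i ∈ Finset.range n, f i := by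
  induction n with
  | zero => simp
  | succ n ih =>
    rw [List.range_succ, List.map_append, List.prod_append, ih, Finset.prod_range_succ]
    simp

theorem list_range_sum (f : ℕ → ℤ) (n : ℕ) :
    ((List.range n).map f).sum = ∑ i ∈ Finset.range n, f i := by
  induction n with
  | zero => simp
  | succ n ih =>
    rw [List.range_succ, List.map_append, List.sum_append, ih, Finset.sum_range_succ]
    simp

theorem zpow_finset_sum₀ {F : Type*} [Field F] (a : F) (ha : a ≠ 0) (s : Finset ℕ) (e : ℕ → ℤ) :
    a ^ (∑ j ∈ s, e j) = ∏ j ∈ s, a ^ e j := by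
  induction s using Finset.induction_on with
  | empty => simp
  | insert j s hj ih => rw [Finset.sum_insert hj, Finset.prod_insert hj, zpow_add₀ ha, ih]

/-- the coordinates of the coroot -/
def rootCoef (D : ChevalleyDatum) (r j : ℕ) : ℤ := (D.coroot.getD r #[]).getD j 0

/-- the Cartan integers are linear in the root, with the coordinates of the coroot -/
def cartanLinOK (D : ChevalleyDatum) : Bool :=
  (List.range D.nroots).all fun r => (List.range D.rank).all fun i =>
    decide (D.cartan i r =
      ((List.range D.rank).map fun j => rootCoef D r j * D.cartan i (D.simple j)).sum)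

theorem cartanLin_E6 : cartanLinOK chevE6 = true := by decide +kernel

theorem cartanLin_D4 : cartanLinOK chevD4 = true := by decide +kernel

theorem torusEntry_eq_one_of_simple {F : Type*} [Field F] (D : ChevalleyDatum)
    (h : cartanLinOK D = true) (c : ℕ → F) (hc : ∀ i, c i ≠ 0)
    (h1 : ∀ j < D.rank, torusEntry D (List.range D.rank) c (D.rank + D.simple j) = 1) :
    ∀ r < D.nroots, torusEntry D (List.range D.rank) c (D.rank + r) = 1 := by
  intro r hr
  have key : ∀ s, torusEntry D (List.range D.rank) c (D.rank + s) =
      ∏ i ∈ Finset.range D.rank, c i ^ D.cartan i s := by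
    intro s
    unfold torusEntry
    rw [list_range_prod]
    apply Finset.prod_congr rfl
    intro i _
    rw [Eexp_root]
  rw [key]
  have hlin : ∀ i ∈ Finset.range D.rank, D.cartan i r =
      ∑ j ∈ Finset.range D.rank, rootCoef D r j * D.cartan i (D.simple j) := by
    intro i hi
    have := List.all_eq_true.mp (List.all_eq_true.mp h r (List.mem_range.mpr hr)) i
      (List.mem_range.mpr (Finset.mem_range.mp hi))
    rw [← list_range_sum]
    exact of_decide_eq_true this
  calc ∏ i ∈ Finset.range D.rank, c i ^ D.cartan i r
      = ∏ i ∈ Finset.range D.rank, ∏ j ∈ Finset.range D.rank,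
          (c i ^ D.cartan i (D.simple j)) ^ rootCoef D r j := by
        apply Finset.prod_congr rfl
        intro i hi
        rw [hlin i hi, zpow_finset_sum₀ _ (hc i)]
        apply Finset.prod_congr rfl
        intro j _
        rw [mul_comm, zpow_mul]
    _ = ∏ j ∈ Finset.range D.rank, ∏ i ∈ Finset.range D.rank,
          (c i ^ D.cartan i (D.simple j)) ^ rootCoef D r j := Finset.prod_comm
    _ = ∏ j ∈ Finset.range D.rank,
          (∏ i ∈ Finset.range D.rank, c i ^ D.cartan i (D.simple j)) ^ rootCoef D r j := by
        apply Finset.prod_congr rfl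
        intro j _
        rw [Finset.prod_zpow]
    _ = 1 := by
        apply Finset.prod_eq_one
        intro j hj
        rw [← key, h1 j (Finset.mem_range.mp hj), one_zpow]

end Cfsg.Agent.Lib.Helper33.TwBN
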