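import Cfsg.Agent.Lib.Helper33.F4BN
import Cfsg.Agent.Lib.Helper33.TwCore
import Cfsg.Agent.Lib.Helper33.TwTorus

/-!
The large Ree groups: the normal core of `B¹` is trivial.
-/

set_option autoImplicit false
set_option linter.unusedSimpArgs false
set_option linter.unusedVariables false
set_option maxRecDepth 100000

namespace Cfsg.Agent.Lib.Helper33.F4

open Cfsg.Lie Cfsg.Agent.Lib.Helper24 Cfsg.Agent.Lib.Helper33.TwBN

variable {K : Type*} [Field K] {e : ℕ}

/-- a basis of the root lattice of `F₄`: `p₁`, `p₂ + p₃`, `2 p₂ + p₃`, `p₄` -/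
def basisF (j : ℕ) : ℕ := [33, 28, 30, 24].getD j 0

/-- the coordinates of the roots of `F₄` on `basisF` -/
def f4Coef (r j : ℕ) : ℤ :=
  ([[-2, -2, -1, -2], [-2, -2, -1, -1], [-2, 0, -2, -1], [-2, -1, -1, -1], [-2, -2, 0, -1], [-2, 0, -1, -1],
    [-2, 0, -1, 0], [-1, -1, -1, -1], [-1, -2, 0, -1], [-1, 0, -1, -1], [-1, 0, -1, 0], [-1, -1, 0, -1], [-1, -1, 0, 0],
    [-1, 1, -1, 0], [-1, 0, 0, 0], [0, -2, 0, -1], [0, 0, -1, -1], [0, 0, -1, 0], [0, -1, 0, -1], [0, -1, 0, 0],
    [0, 1, -1, 0], [0, -2, 1, -1], [0, -2, 1, 0], [0, 0, 0, -1], [0, 0, 0, 1], [0, 2, -1, 0], [0, 2, -1, 1],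
    [0, -1, 1, 0], [0, 1, 0, 0], [0, 1, 0, 1], [0, 0, 1, 0], [0, 0, 1, 1], [0, 2, 0, 1], [1, 0, 0, 0], [1, -1, 1, 0],
    [1, 1, 0, 0], [1, 1, 0, 1], [1, 0, 1, 0], [1, 0, 1, 1], [1, 2, 0, 1], [1, 1, 1, 1], [2, 0, 1, 0], [2, 0, 1, 1],
    [2, 2, 0, 1], [2, 1, 1, 1], [2, 0, 2, 1], [2, 2, 1, 1], [2, 2, 1, 2]].getD r []).getD j 0

theorem f4Coef_lin : ∀ r < chevF4.nroots, ∀ i < chevF4.rank, chevF4.cartan i r =
    ((List.range chevF4.rank).map fun j => f4Coef r j * chevF4.cartan i (basisF j)).sum := by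
  decide +kernel

/-- a character of the torus of `F₄` which is trivial on the roots of `basisF` is trivial -/
theorem torusEntry_eq_one_F4 (c : ℕ → K) (hc : ∀ i, c i ≠ 0)
    (h1 : ∀ j < chevF4.rank, torusEntry chevF4 (List.range chevF4.rank) c (chevF4.rank + basisF j) = 1) :
    ∀ r < chevF4.nroots, torusEntry chevF4 (List.range chevF4.rank) c (chevF4.rank + r) = 1 := by
  intro r hr
  have key : ∀ s, torusEntry chevF4 (List.range chevF4.rank) c (chevF4.rank + s) =
      ∏ i ∈ Finset.range chevF4.rank, c i ^ chevF4.cartan i s := by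
    intro s
    unfold torusEntry
    rw [TwBN.list_range_prod]
    apply Finset.prod_congr rfl
    intro i _
    rw [Eexp_root]
  rw [key]
  have hlin : ∀ i ∈ Finset.range chevF4.rank, chevF4.cartan i r =
      ∑ j ∈ Finset.range chevF4.rank, f4Coef r j * chevF4.cartan i (basisF j) := by
    intro i hi
    rw [← TwBN.list_range_sum]
    exact f4Coef_lin r hr i (Finset.mem_range.mp hi)
  calc ∏ i ∈ Finset.range chevF4.rank, c i ^ chevF4.cartan i r
      = ∏ i ∈ Finset.range chevF4.rank, ∏ j ∈ Finset.range chevF4.rank,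
          (c i ^ chevF4.cartan i (basisF j)) ^ f4Coef r j := by
        apply Finset.prod_congr rfl
        intro i hi
        rw [hlin i hi, zpow_finset_sum₀ _ (hc i)]
        apply Finset.prod_congr rfl
        intro j _
        rw [mul_comm, zpow_mul]
    _ = ∏ j ∈ Finset.range chevF4.rank, ∏ i ∈ Finset.range chevF4.rank,
          (c i ^ chevF4.cartan i (basisF j)) ^ f4Coef r j := Finset.prod_comm
    _ = ∏ j ∈ Finset.range chevF4.rank,
          (∏ i ∈ Finset.range chevF4.rank, c i ^ chevF4.cartan i (basisF j)) ^ f4Coef r j := by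
        apply Finset.prod_congr rfl
        intro j _
        rw [Finset.prod_zpow]
    _ = 1 := by
        apply Finset.prod_eq_one
        intro j hj
        rw [← key, h1 j (Finset.mem_range.mp hj), one_zpow]

/-- uniqueness of the product of two root elements of different roots -/
theorem xx_inj (r s : ℕ) (hr : r < 48) (hs : s < 48) (hrs : r ≠ s) (a b a' b' : K)
    (h : xF K r a * xF K s b = xF K r a' * xF K s b') : a = a' ∧ b = b' := by
  simp only [xF] at h
  have h1 : (envF4 K).hF.xGL r (a - a') = (envF4 K).hF.xGL s (b' - b) := by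
    have e1 : (envF4 K).hF.xGL r (a - a') = ((envF4 K).hF.xGL r a')⁻¹ * (envF4 K).hF.xGL r a := by
      rw [(envF4 K).hF.xGL_inv, (envF4 K).hF.xGL_mul]; congr 1; ring
    have e2 : (envF4 K).hF.xGL s (b' - b) = (envF4 K).hF.xGL s b' * ((envF4 K).hF.xGL s b)⁻¹ := by
      rw [(envF4 K).hF.xGL_inv, (envF4 K).hF.xGL_mul]; congr 1; ring
    rw [e1, e2, inv_mul_eq_iff_eq_mul, ← mul_assoc, eq_mul_inv_iff_mul_eq, h]
  have ha := (envF4 K).hF.xGL_eq_xGL (envF4 K).hR (envF4 K).hNe (envF4 K).hU.unit r s hr hs hrs _ _ h1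
  have hb := (envF4 K).hF.xGL_eq_xGL (envF4 K).hR (envF4 K).hNe (envF4 K).hU.unit s r hs hr (Ne.symm hrs) _ _
    h1.symm
  exact ⟨sub_eq_zero.mp ha, (sub_eq_zero.mp hb).symm⟩

/-- an element of `H` centralising the twisted group is trivial -/
theorem center_diag_F4 (he : e ≠ 0) (k : GL chevF4.Idx K) (hkH : k ∈ chevF4.diagonalSubgroup K)
    (hcent : ∀ g ∈ twistedF4 K e, k * g = g * k) : k = 1 := by
  obtain ⟨c, hc, hdiag⟩ := (envF4 K).hF.diagonal_torus _ hkH
  have hconjk : ∀ r < chevF4.nroots, ∀ t : K,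
      k * xF K r t * k⁻¹ =
        xF K r (torusEntry chevF4 (List.range chevF4.rank) c (chevF4.rank + r) * t) := by
    intro r hr t
    simp only [xF]
    rw [mul_inv_eq_iff_eq_mul]
    apply Units.ext
    rw [Units.val_mul, Units.val_mul, hdiag, Facts.xGL_val, Facts.xGL_val]
    unfold ChevalleyDatum.x
    rw [dif_pos hr, dif_pos hr]
    exact (envF4 K).hF.torus_mul_xMat c hc ⟨r, hr⟩ t
  have two : ∀ (r s : ℕ) (hr : r < 48) (hs : s < 48) (hrs : r ≠ s), xF K r 1 * xF K s 1 ∈ twistedF4 K e →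
      torusEntry chevF4 (List.range chevF4.rank) c (chevF4.rank + r) = 1 ∧
      torusEntry chevF4 (List.range chevF4.rank) c (chevF4.rank + s) = 1 := by
    intro r s hr hs hrs hmem
    have e3 : k * (xF K r 1 * xF K s 1) * k⁻¹ = xF K r 1 * xF K s 1 := by
      rw [hcent _ hmem]; group
    have e4 : k * (xF K r 1 * xF K s 1) * k⁻¹ = (k * xF K r 1 * k⁻¹) * (k * xF K s 1 * k⁻¹) := by group
    rw [e4, hconjk r hr, hconjk s hs, mul_one, mul_one] at e3
    exact xx_inj r s hr hs hrs _ _ _ _ e3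
  have hp : xF K 33 1 * xF K 24 1 ∈ twistedF4 K e := by
    have := pGL_mem_twisted (K := K) (e := e) 1
    rwa [pGL_eq, one_pow, mul_one] at this
  have hb : xF K 28 1 * xF K 30 1 ∈ twistedF4 K e := by
    have := bGL_mem_twisted (K := K) (e := e) 0 1
    rw [bGL_eq, zero_pow he, zero_pow (by omega), zero_add, one_pow, mul_one] at this
    simpa only [xF, (envF4 K).hF.xGL_zero, one_mul] using this
  obtain ⟨h33, h24⟩ := two 33 24 (by norm_num) (by norm_num) (by norm_num) hp
  obtain ⟨h28, h30⟩ := two 28 30 (by norm_num) (by norm_num) (by norm_num) hb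
  have hsimple : ∀ j < chevF4.rank,
      torusEntry chevF4 (List.range chevF4.rank) c (chevF4.rank + basisF j) = 1 := by
    intro j hj
    have hj4 : j < 4 := hj
    interval_cases j
    · exact h33
    · exact h28
    · exact h30
    · exact h24
  have hchar := torusEntry_eq_one_F4 c hc hsimple
  apply Units.ext
  rw [hdiag]
  simp only [Units.val_one]
  rw [← Matrix.diagonal_one]
  congr 1
  funext idx
  rcases idx with i | s
  · have : enc chevF4 (Sum.inl i : chevF4.Idx) < chevF4.rank := i.isLt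
    unfold torusEntry
    apply List.prod_eq_one
    intro x hx
    simp only [List.mem_map] at hx
    obtain ⟨j, _, rfl⟩ := hx
    simp [Eexp, this]
  · exact hchar s.val s.isLt

/-- a word for the longest element, as a product of the two distinguished words -/
def w0F : List ℕ := repW 4 ([0, 3] ++ [1, 2, 1, 2])

theorem w0F_check : ∀ r < 48, 24 ≤ r → rhoW chevF4 w0F r < 24 := by decide +kernel

theorem w0F_lt : ∀ i ∈ w0F, i < 4 := by decide

section leaves

variable {S : SigmaF K e} (L : LeavesF S)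
include L

theorem LeavesF.nW_w0F_mem : (envF4 K).hF.nW w0F ∈ twistedF4 K e := by
  unfold w0F
  rw [nW_repW, (envF4 K).hF.nW_app]
  exact Subgroup.pow_mem _ (Subgroup.mul_mem _ L.s1F_mem L.s2F_mem) 4

/-- the normal core of `B ⊓ G¹` in the large Ree group is trivial -/
theorem LeavesF.core_eq_bot :
    ((chevF4.borelSubgroup K ⊓ twistedF4 K e).subgroupOf (twistedF4 K e)).normalCore = ⊥ := by
  apply core_eq_bot_abs (chevF4.borelSubgroup K) (chevF4.diagonalSubgroup K) (chevF4.posUnipotent K)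
    (chevF4.negUnipotent K) (twistedF4 K e)
    (fun b hb => exists_mul_of_mem_sup_of_le_normalizer _ _
      (envF4 K).hF.diagonal_le_normalizer_pos b hb)
    (diagonal_le_borel chevF4 K)
    (fun x hxB hxV => by
      have : x ∈ chevF4.borelSubgroup K ⊓ chevF4.negUnipotent K := ⟨hxB, hxV⟩
      rw [(envF4 K).hF.borel_inf_neg.1, Subgroup.mem_bot] at this
      exact this)
    (fun x hxB hxV => by
      have : x ∈ chevF4.borelSubgroup K ⊓ (chevF4.negUnipotent K ⊔ chevF4.diagonalSubgroup K) :=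
        ⟨hxB, hxV⟩
      rw [(envF4 K).hF.borel_inf_neg.2] at this
      exact this)
    (fun h hh u hu =>
      (Subgroup.mem_normalizer_iff.mp ((envF4 K).hF.diagonal_le_normalizer_pos hh) u).mp hu)
    (fun h hh v hv =>
      (Subgroup.mem_normalizer_iff.mp ((envF4 K).hF.diagonal_le_normalizer_neg hh) v).mp hv)
    ((envF4 K).hF.nW w0F) L.nW_w0F_mem
    (fun h hh =>
      (Subgroup.mem_normalizer_iff.mp
        ((envF4 K).hF.monomial_le_normalizer (envF4 K).hN (envF4 K).hH
          ((envF4 K).nW_mem w0F (lt4 w0F_lt))) h).mp hh)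
    ?_ _ twistedF4_eq_closure ?_ ?_
  · intro u hu
    have hu' : u ∈ rootClosure chevF4 K (fun r => 24 ≤ r ∧ r < 48) := by
      have : chevF4.posUnipotent K ≤ rootClosure chevF4 K (fun r => 24 ≤ r ∧ r < 48) := by
        unfold rootClosure ChevalleyDatum.posUnipotent
        apply Subgroup.closure_mono
        rintro x ⟨r, t, hr, hx⟩
        exact ⟨r, t, (isPos_iff r).1 hr, hx⟩
      exact this hu
    have h := nW_conj_mem (K := K) w0F w0F_lt (fun r => 24 ≤ r ∧ r < 48) (fun r => r < 24)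
      (fun r hr hr2 => w0F_check r hr hr2.1) (fun r hr => hr.2) u hu'
    refine rootClosure_neg_le chevF4 K _ ?_ h
    intro r hr
    exact (isNeg_iff r).2 hr
  · rintro y ((⟨t, rfl⟩ | ⟨t, u, rfl⟩) | (⟨t, rfl⟩ | ⟨t, u, rfl⟩))
    · left; exact pGL_mem_pos t
    · left; exact bGL_mem_pos t u
    · right; exact pGLn_mem_neg t
    · right; exact bGLn_mem_neg t u
  · intro k hkH _ hcent
    exact center_diag_F4 L.e_ne k hkH hcent

end leaves

end Cfsg.Agent.Lib.Helper33.F4
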