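import Cfsg.Agent.Lib.Helper24.Sound

/-!
Word identities in a Chevalley group over a field of characteristic `p`: helper24's symbolic engine
(`checkWordEq`), with the coefficients compared modulo `p`.
-/

set_option autoImplicit false

namespace Cfsg.Agent.Lib.Helper33.Ree

open Cfsg.Lie Cfsg.Agent.Lib.Helper24

/-- all coefficients are divisible by `p` -/
def polyIsZeroMod (p : ℕ) (q : Poly) : Bool := q.all fun mc => mc.2 % (p : ℤ) == 0

/-- all entries of the (collected) vector vanish modulo `p` -/
def vecIsZeroMod (p : ℕ) (v : SV) : Bool := (collect v).all fun kp => polyIsZeroMod p kp.2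

/-- the two symbolic words denote the same matrix modulo `p` -/
def checkWordEqMod (p : ℕ) (D : ChevalleyDatum) (w1 w2 : List (ℕ × Poly)) : Bool :=
  (List.range (D.rank + D.nroots)).all fun k =>
    vecIsZeroMod p (subV (applyWord D w1 [(k, Poly.one)]) (applyWord D w2 [(k, Poly.one)]))

section semantics

variable {F : Type*} [Field F] (p : ℕ) [CharP F p] (D : ChevalleyDatum) (y0 y1 y2 y3 : F)

theorem den_eq_zero_of_polyIsZeroMod (q : Poly) (h : polyIsZeroMod p q = true) :
    Poly.den y0 y1 y2 y3 q = 0 := by
  induction q with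
  | nil => rfl
  | cons mc rest ih =>
    simp only [polyIsZeroMod, List.all_cons, Bool.and_eq_true, beq_iff_eq] at h
    rw [Poly.den_cons, ih (by simpa [polyIsZeroMod] using h.2), add_zero]
    have h1 : ((mc.2 : ℤ) : F) = 0 := by
      rw [CharP.intCast_eq_zero_iff F p]
      exact Int.dvd_of_emod_eq_zero h.1
    rw [h1, zero_mul]

theorem denV_eq_zero_of_vecIsZeroMod (v : SV) (h : vecIsZeroMod p v = true) :
    denV D y0 y1 y2 y3 v = 0 := by
  rw [← denV_collect]
  simp only [vecIsZeroMod, List.all_eq_true] at h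
  funext i
  simp only [denV, Pi.zero_apply]
  apply List.sum_eq_zero
  intro x hx
  simp only [List.mem_map] at hx
  obtain ⟨kp, hkp, rfl⟩ := hx
  have h1 := h kp hkp
  split_ifs with hk
  · exact den_eq_zero_of_polyIsZeroMod p y0 y1 y2 y3 _ h1
  · rfl

/-- soundness of the check modulo `p` -/
theorem wordMat_eq_of_checkMod (w1 w2 : List (ℕ × Poly)) (h : checkWordEqMod p D w1 w2 = true) :
    D.wordMat F (denW y0 y1 y2 y3 w1) = D.wordMat F (denW y0 y1 y2 y3 w2) := by
  simp only [checkWordEqMod, List.all_eq_true, List.mem_range] at h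
  ext i j
  have h1 := h (enc D j) (enc_lt D j)
  have h2 := denV_eq_zero_of_vecIsZeroMod p D y0 y1 y2 y3 _ h1
  rw [denV_subV, ← wordMat_mulVec_denV, ← wordMat_mulVec_denV, denV_single,
    Matrix.mulVec_single_one, Matrix.mulVec_single_one] at h2
  have h3 := congrFun h2 i
  simp only [Pi.sub_apply, Pi.zero_apply, Matrix.col_apply] at h3
  exact sub_eq_zero.mp h3

end semantics

end Cfsg.Agent.Lib.Helper33.Ree
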