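import Cfsg.Agent.Lib.Helper33.F4All
import Cfsg.Agent.Lib.Helper33.F4B2
import Cfsg.Agent.Lib.Helper37.F4C

/-!
The large Ree groups `²F₄(2 ^ (2 m + 1))`: all leaves of the keystone pack K-2F4 for the field of `2 ^ (2 m + 1)` elements.
-/

set_option autoImplicit false
set_option linter.unusedSimpArgs false
set_option linter.unusedVariables false
set_option maxRecDepth 100000

namespace Cfsg.Agent.Lib.Helper33.F4

open Cfsg.Lie Cfsg.Agent.Lib.Helper24 Cfsg.Agent.Lib.Helper33.TwBN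

variable {K : Type*} [Field K]

theorem leafC_all [CharP K 2] {e : ℕ} (S : SigmaF K e) (hθ : ∀ t : K, t ^ (2 * e * e) = t) : LeafC S where
  ext_pos := Cfsg.Agent.Lib.Helper37.F4.ext_pos S
  ext_diag := Cfsg.Agent.Lib.Helper37.F4.ext_diag S
  ext_mono := Cfsg.Agent.Lib.Helper37.F4.ext_mono S
  ext_Un := Cfsg.Agent.Lib.Helper37.F4.ext_Un S hθ
  ext_nGL := Cfsg.Agent.Lib.Helper37.F4.ext_nGL S

theorem leafB2_all {e : ℕ} (S : SigmaF K e) : LeafB2 S where
  fix_peel := fix_peel S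
  peel_unique := peel_unique

variable [Fintype K] {m : ℕ}

/-- all the leaves for the field of `2 ^ (2 m + 1)` elements -/
theorem exists_leavesF (hK : Fintype.card K = 2 ^ (2 * m + 1)) :
    ∃ S : SigmaF K (2 ^ m), LeavesF S ∧ CountLeavesF S ∧ TorLeavesF S := by
  haveI := charP_two_of_card hK
  obtain ⟨S⟩ := exists_sigmaF (K := K) m
  have he := two_pow_ne_zero' m
  have hθ := pow_thetaF hK
  have hadd := add_pow_two_pow (K := K) m
  have C := leafC_all S hθ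
  have B := leafB2_all S
  exact ⟨S, leavesF_of S he hθ hadd B C, countLeavesF_of S he hθ hadd B, torLeavesF_of S he hθ hadd C⟩

/-- the `(B, N)`-pair of `²F₄(2 ^ (2 m + 1))` -/
theorem bnPair_F4 (hK : Fintype.card K = 2 ^ (2 * m + 1)) :
    ∃ P : Cfsg.BNPair ↥(twistedF4 K (2 ^ m)),
      P.B = (chevF4.borelSubgroup K ⊓ twistedF4 K (2 ^ m)).subgroupOf (twistedF4 K (2 ^ m)) ∧
      P.N = (chevF4.monomialSubgroup K ⊓ twistedF4 K (2 ^ m)).subgroupOf (twistedF4 K (2 ^ m)) := by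
  obtain ⟨S, L, _, _⟩ := exists_leavesF hK
  obtain ⟨P, hB, hN, _⟩ := L.exists_bnPair
  exact ⟨P, hB, hN⟩

theorem core_F4 (hK : Fintype.card K = 2 ^ (2 * m + 1)) :
    ((chevF4.borelSubgroup K ⊓ twistedF4 K (2 ^ m)).subgroupOf (twistedF4 K (2 ^ m))).normalCore = ⊥ := by
  obtain ⟨S, L, _, _⟩ := exists_leavesF hK
  exact L.core_eq_bot

theorem cardU_F4 (hK : Fintype.card K = 2 ^ (2 * m + 1)) :
    Nat.card ↥(chevF4.posUnipotent K ⊓ twistedF4 K (2 ^ m)) = (2 ^ (2 * m + 1)) ^ 12 := by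
  obtain ⟨S, _, C, _⟩ := exists_leavesF hK
  rw [C.card_eq, hK]

theorem cardH_F4 (hK : Fintype.card K = 2 ^ (2 * m + 1)) :
    Nat.card ↥(chevF4.diagonalSubgroup K ⊓ twistedF4 K (2 ^ m)) = (2 ^ (2 * m + 1) - 1) ^ 2 := by
  obtain ⟨S, _, _, T⟩ := exists_leavesF hK
  rw [T.card_eq, hK]

theorem weyl_F4 (hK : Fintype.card K = 2 ^ (2 * m + 1)) :
    ∃ φ : ↥(chevF4.monomialSubgroup K ⊓ twistedF4 K (2 ^ m)) →* DihedralGroup 8, Function.Surjective φ ∧
      φ.ker = (chevF4.diagonalSubgroup K ⊓ twistedF4 K (2 ^ m)).subgroupOf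
        (chevF4.monomialSubgroup K ⊓ twistedF4 K (2 ^ m)) := by
  obtain ⟨S, L, _, _⟩ := exists_leavesF hK
  exact L.weyl

end Cfsg.Agent.Lib.Helper33.F4
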