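import Cfsg.Agent.Lib.Helper64.StBMain
import Cfsg.Agent.Lib.Helper82.DefectZero
import Cfsg.Agent.Lib.Helper56.StSpA1
import Cfsg.Agent.Lib.Helper08.BNPairParabolic

/-!
# The Steinberg character of a finite group with a `(B, N)`-pair vanishes on `p`-singular elements;
an application to centralisers

If `|B : B ∩ N| = p ^ a`, `B ∩ N` is a `p'`-group and some `w₀ ∈ N` has `B ∩ w₀ B w₀⁻¹ ⊆ N`, the
alternating sum `St` of the permutation characters on the cosets of the standard parabolic subgroups is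
irreducible of `p`-defect zero, hence vanishes at every `x` of order divisible by `p`.
If `y` has prime order `r`, commutes with `x`, and `r` does not divide the order of any proper standard
parabolic subgroup, then `⟨y⟩` acts freely on the cosets of `P_J` fixed by `x`, so `r` divides every term of
`St(x) = 0` except the term `± 1` of `J = S`: impossible.
-/

set_option autoImplicit false
set_option linter.unusedSectionVars false
set_option linter.unusedVariables false

namespace Cfsg.Agent.Lib.Helper33.StV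

open Cfsg Cfsg.Agent.Lib.Helper64.StB

universe u

/-- the value of the Steinberg character at `1` -/
theorem stChar_one' {G : Type u} [Group G] [Finite G] (P : Cfsg.BNPair G) (w₀ : G)
    (hw₀ : w₀ ∈ P.N) (hT : ∀ b ∈ P.B, w₀⁻¹ * b * w₀ ∈ P.B → b ∈ P.N) :
    stChar P 1 = (((P.B ⊓ P.N).relIndex P.B : ℕ) : ℂ) := by
  have key := stChar_apply_of_mem_B P hw₀ hT 1
  have h1 : Cfsg.fixedPointCharacter ((P.B ⊓ P.N).subgroupOf P.B) (1 : P.B) =
      ((((P.B ⊓ P.N).subgroupOf P.B).index : ℕ) : ℂ) := by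
    unfold Cfsg.fixedPointCharacter
    rw [MulAction.fixedBy_one_eq_univ, Subgroup.index]
    congr 1
    exact Nat.card_congr (Equiv.Set.univ _)
  rw [h1] at key
  exact key

/-- the Steinberg character vanishes on the `p`-singular elements -/
theorem stChar_eq_zero {G : Type u} [Group G] [Finite G] (P : Cfsg.BNPair G) (p : ℕ)
    [Fact p.Prime] (w₀ : G) (hw₀ : w₀ ∈ P.N)
    (hT : ∀ b ∈ P.B, w₀⁻¹ * b * w₀ ∈ P.B → b ∈ P.N) (a : ℕ)
    (ha : (P.B ⊓ P.N).relIndex P.B = p ^ a) (hTp : ¬ p ∣ Nat.card ↥(P.B ⊓ P.N))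
    (x : G) (hx : p ∣ orderOf x) : stChar P x = 0 := by
  classical
  have : Fintype G := Fintype.ofFinite _
  have hp : p.Prime := Fact.out
  have hirr := stChar_isIrr P
  have h1 : stChar P 1 = ((p ^ a : ℕ) : ℂ) := by
    rw [stChar_one' P w₀ hw₀ hT, ha]
  have hidx : ¬ p ∣ P.B.index :=
    Cfsg.Agent.Lib.Helper56.StSp.not_dvd_index_B P p ⟨a, ha⟩
  have hcardB : Nat.card ↥(P.B ⊓ P.N) * p ^ a = Nat.card P.B := by
    rw [← ha, Subgroup.relIndex]
    have h1 := Subgroup.card_mul_index ((P.B ⊓ P.N).subgroupOf P.B)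
    rw [← h1]
    congr 1
    exact (Nat.card_congr (Subgroup.subgroupOfEquivOfLe inf_le_left).toEquiv).symm
  have hcardG : Nat.card G = p ^ a * (Nat.card ↥(P.B ⊓ P.N) * P.B.index) := by
    rw [← Subgroup.card_mul_index P.B, ← hcardB]; ring
  obtain ⟨M, hM⟩ := Cfsg.Agent.Lib.Helper82.exists_isPModular p hp
  have hdeg : Cfsg.charDegree (stChar P) = p ^ a := by
    unfold Cfsg.charDegree
    rw [h1, Complex.natCast_re, Nat.floor_natCast]
  have hnd : ¬ p ∣ Nat.card G / Cfsg.charDegree (stChar P) := by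
    rw [hdeg, hcardG, Nat.mul_div_cancel_left _ (pow_pos hp.pos a)]
    intro h
    rcases (Nat.Prime.dvd_mul hp).1 h with h | h
    · exact hTp h
    · exact hidx h
  have hblock := Cfsg.Agent.Lib.Helper82.blockOf_eq_singleton_of_not_dvd hM ⟨stChar P, hirr⟩ hnd
  exact Cfsg.Agent.Lib.Helper82.eq_zero_of_blockOf_eq_singleton hM ⟨stChar P, hirr⟩ hblock x hx

/-- an element of prime order `r` commuting with `x` acts freely on the `x`-fixed cosets of a subgroup
of order prime to `r` -/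
theorem dvd_card_fixedBy {G : Type u} [Group G] [Finite G] (K : Subgroup G) (x y : G)
    (hxy : Commute x y) (r : ℕ) [Fact r.Prime] (hy : orderOf y = r) (hK : ¬ r ∣ Nat.card K) :
    r ∣ Nat.card (MulAction.fixedBy (G ⧸ K) x) := by
  classical
  have hr : r.Prime := Fact.out
  have : Fintype (G ⧸ K) := Fintype.ofFinite _
  have : Fintype (MulAction.fixedBy (G ⧸ K) x) := Fintype.ofFinite _
  -- the map `c ↦ y • c` on the fixed cosets
  let f : Function.End (MulAction.fixedBy (G ⧸ K) x) := fun c =>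
    ⟨y • (c : G ⧸ K), by
      have hc : x • (c : G ⧸ K) = c := c.2
      show x • (y • (c : G ⧸ K)) = y • (c : G ⧸ K)
      rw [smul_smul, hxy.eq, ← smul_smul, hc]⟩
  have hpow : ∀ k : ℕ, ∀ c : MulAction.fixedBy (G ⧸ K) x,
      (((f ^ k) c : MulAction.fixedBy (G ⧸ K) x) : G ⧸ K) = y ^ k • (c : G ⧸ K) := by
    intro k
    induction k with
    | zero =>
      intro c
      rw [pow_zero, pow_zero, one_smul]
      rfl
    | succ k ih =>
      intro c
      rw [pow_succ']
      show y • (((f ^ k) c : MulAction.fixedBy (G ⧸ K) x) : G ⧸ K) = _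
      rw [ih c, smul_smul, ← pow_succ']
  have hf : f ^ r ^ 1 = 1 := by
    rw [pow_one]
    funext c
    apply Subtype.ext
    rw [hpow r c, ← hy, pow_orderOf_eq_one, one_smul]
    rfl
  have hmod := Equiv.Perm.card_fixedPoints_modEq (p := r) (n := 1) hf
  have hfix : Fintype.card (Function.fixedPoints f) = 0 := by
    rw [Fintype.card_eq_zero_iff]
    constructor
    rintro ⟨c, hc⟩
    have hc' : y • (c : G ⧸ K) = c := congrArg Subtype.val hc
    obtain ⟨g, hg⟩ := QuotientGroup.mk_surjective (c : G ⧸ K)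
    rw [← hg] at hc'
    have h1 : g⁻¹ * y * g ∈ K := by
      have h2 : ((y * g : G) : G ⧸ K) = (g : G ⧸ K) := hc'
      rw [QuotientGroup.eq] at h2
      have : g⁻¹ * y * g = ((y * g)⁻¹ * g)⁻¹ := by group
      rw [this]
      exact K.inv_mem h2
    have h3 : orderOf (g⁻¹ * y * g) = r := by
      have : g⁻¹ * y * g = MulAut.conj g⁻¹ y := by simp [MulAut.conj_apply]
      rw [this, MulEquiv.orderOf_eq]
      exact hy
    have h4 : orderOf (⟨g⁻¹ * y * g, h1⟩ : K) = r := by
      rw [← h3]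
      exact Subgroup.orderOf_mk _ h1
    apply hK
    rw [← h4]
    exact orderOf_dvd_natCard _
  rw [hfix] at hmod
  rw [Nat.card_eq_fintype_card]
  exact (Nat.modEq_zero_iff_dvd.1 hmod)

/-- **Main abstract statement.** In a finite group with a `(B, N)`-pair of characteristic `p` type, a
`p`-singular element `x` does not commute with any element of prime order `r` not dividing the order of any
proper standard parabolic subgroup. -/
theorem not_commute_of_not_dvd {G : Type u} [Group G] [Finite G] (P : Cfsg.BNPair G) (p : ℕ)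
    [Fact p.Prime] (w₀ : G) (hw₀ : w₀ ∈ P.N)
    (hT : ∀ b ∈ P.B, w₀⁻¹ * b * w₀ ∈ P.B → b ∈ P.N) (a : ℕ)
    (ha : (P.B ⊓ P.N).relIndex P.B = p ^ a) (hTp : ¬ p ∣ Nat.card ↥(P.B ⊓ P.N))
    (x y : G) (hx : p ∣ orderOf x) (hxy : Commute x y) (r : ℕ) [Fact r.Prime] (hy : orderOf y = r)
    (hr : ∀ J : Finset G, J ⊆ SF P → J ≠ SF P → ¬ r ∣ Nat.card ↥(P.parabolic (↑J : Set G))) :
    False := by
  classical
  have hrp : r.Prime := Fact.out
  have h0 := stChar_eq_zero P p w₀ hw₀ hT a ha hTp x hx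
  unfold stChar at h0
  -- the terms as integers
  have hterm : ∀ J ∈ (SF P).powerset, J ≠ SF P →
      (r : ℤ) ∣ (-1 : ℤ) ^ J.card * (Nat.card (MulAction.fixedBy (G ⧸ P.parabolic (↑J : Set G)) x) : ℤ) := by
    intro J hJ hne
    have h1 := dvd_card_fixedBy (P.parabolic (↑J : Set G)) x y hxy r hy
      (hr J (Finset.mem_powerset.1 hJ) hne)
    exact Dvd.dvd.mul_left (Int.natCast_dvd_natCast.2 h1) _
  have htop : P.parabolic (↑(SF P) : Set G) = ⊤ := by
    rw [coe_SF]
    unfold Cfsg.BNPair.parabolic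
    rw [eq_top_iff, ← P.sup_eq_top]
    apply sup_le le_sup_left
    rw [← P.closure_sup]
    apply sup_le le_sup_right
    exact le_trans inf_le_left le_sup_left
  have hlast : (Nat.card (MulAction.fixedBy (G ⧸ P.parabolic (↑(SF P) : Set G)) x) : ℤ) = 1 := by
    rw [htop]
    have : Subsingleton (G ⧸ (⊤ : Subgroup G)) := QuotientGroup.subsingleton_quotient_top
    have hne : Nonempty (MulAction.fixedBy (G ⧸ (⊤ : Subgroup G)) x) :=
      ⟨⟨((1 : G) : G ⧸ (⊤ : Subgroup G)), Subsingleton.elim _ _⟩⟩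
    have : Nat.card (MulAction.fixedBy (G ⧸ (⊤ : Subgroup G)) x) = 1 :=
      Nat.card_eq_one_iff_unique.2 ⟨inferInstance, hne⟩
    rw [this]; rfl
  have hZ : (∑ J ∈ (SF P).powerset,
      (-1 : ℤ) ^ J.card * (Nat.card (MulAction.fixedBy (G ⧸ P.parabolic (↑J : Set G)) x) : ℤ)) = 0 := by
    have hc : ((∑ J ∈ (SF P).powerset,
        (-1 : ℤ) ^ J.card * (Nat.card (MulAction.fixedBy (G ⧸ P.parabolic (↑J : Set G)) x) : ℤ) : ℤ) : ℂ) = 0 := by
      rw [← h0]
      push_cast
      rfl
    exact_mod_cast hc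
  have hmem : SF P ∈ (SF P).powerset := Finset.mem_powerset.2 (Finset.Subset.refl _)
  rw [← Finset.add_sum_erase _ _ hmem, hlast, mul_one] at hZ
  have hrest : (r : ℤ) ∣ ∑ J ∈ ((SF P).powerset.erase (SF P)),
      (-1 : ℤ) ^ J.card * (Nat.card (MulAction.fixedBy (G ⧸ P.parabolic (↑J : Set G)) x) : ℤ) := by
    apply Finset.dvd_sum
    intro J hJ
    exact hterm J (Finset.mem_of_mem_erase hJ) (Finset.ne_of_mem_erase hJ)
  have h1 : (r : ℤ) ∣ (-1 : ℤ) ^ (SF P).card := by
    have : (-1 : ℤ) ^ (SF P).card = - ∑ J ∈ ((SF P).powerset.erase (SF P)),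
        (-1 : ℤ) ^ J.card * (Nat.card (MulAction.fixedBy (G ⧸ P.parabolic (↑J : Set G)) x) : ℤ) := by
      linarith
    rw [this]
    exact (dvd_neg.2 hrest)
  have h2 : (r : ℤ) ∣ 1 := by
    have h3 : IsUnit ((-1 : ℤ) ^ (SF P).card) := (isUnit_one.neg).pow _
    exact h1.trans h3.dvd
  have h4 : r ∣ 1 := by exact_mod_cast h2
  exact hrp.one_lt.ne' (Nat.dvd_one.1 h4)

end Cfsg.Agent.Lib.Helper33.StV
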