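import Cfsg.Agent.Lib.Helper33.F4Fix

/-!
The order of `U ⊓ G¹` in the large Ree group: `q ^ 12`, from the leaves B of the keystone pack K-2F4.
-/

set_option autoImplicit false
set_option linter.unusedSimpArgs false
set_option linter.unusedVariables false
set_option maxRecDepth 100000

namespace Cfsg.Agent.Lib.Helper33.F4

open Cfsg.Lie Cfsg.Agent.Lib.Helper24 Cfsg.Agent.Lib.Helper33.TwBN

variable {K : Type*} [Field K] {e : ℕ}

/-- the leaves of the keystone pack used for the count of `U¹` -/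
structure CountLeavesF (S : SigmaF K e) : Prop where
  G1_fix : ∀ g : GL chevF4.Idx K, g ∈ twistedF4 K e → S.ext g = g
  fix_J1 : ∀ g : GL chevF4.Idx K, g ∈ rootClosure chevF4 K (· ∈ [33, 24]) → S.ext g = g →
    ∃ t : K, g = pGL K e t
  fix_J2 : ∀ g : GL chevF4.Idx K, g ∈ rootClosure chevF4 K (· ∈ [27, 25, 28, 30]) → S.ext g = g →
    ∃ t u : K, g = bGL K e t u
  pGL_inj : ∀ t t' : K, pGL K e t = pGL K e t' → t = t'
  bGL_inj : ∀ t u t' u' : K, bGL K e t u = bGL K e t' u' → t = t' ∧ u = u'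
  fix_peel : ∀ g : GL chevF4.Idx K, g ∈ chevF4.posUnipotent K → S.ext g = g →
    ∃ x : ℕ → GL chevF4.Idx K,
      (∀ k < 8, x k ∈ rootClosure chevF4 K (· ∈ classesF.getD k []) ∧ S.ext (x k) = x k) ∧
      g = ((List.range 8).map x).prod
  peel_unique : ∀ x x' : ℕ → GL chevF4.Idx K,
    (∀ k < 8, x k ∈ rootClosure chevF4 K (· ∈ classesF.getD k [])) →
    (∀ k < 8, x' k ∈ rootClosure chevF4 K (· ∈ classesF.getD k [])) →
    ((List.range 8).map x).prod = ((List.range 8).map x').prod → ∀ k < 8, x k = x' k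
  conj_class : ∀ k < 8, ∀ g : GL chevF4.Idx K, g ∈ rootClosure chevF4 K (· ∈ classesF.getD k []) ↔
    ((envF4 K).hF.nW (wordsF.getD k []))⁻¹ * g * (envF4 K).hF.nW (wordsF.getD k []) ∈
      rootClosure chevF4 K (· ∈ fundF k)
  nW_mem : ∀ k < 8, (envF4 K).hF.nW (wordsF.getD k []) ∈ twistedF4 K e

/-- the element of the fundamental class of the type of the class `k` with parameters `c` -/
noncomputable def yForm (K : Type*) [Field K] (e : ℕ) (c : K × K × K) (k : ℕ) : GL chevF4.Idx K :=
  if k % 2 = 0 then pGL K e c.1 else bGL K e c.2.1 c.2.2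

/-- the parameters, extended by zero -/
def extP (q : Fin 4 → K × K × K) (i : ℕ) : K × K × K := if h : i < 4 then q ⟨i, h⟩ else 0

/-- the `k`-th factor -/
noncomputable def xForm (K : Type*) [Field K] (e : ℕ) (q : Fin 4 → K × K × K) (k : ℕ) : GL chevF4.Idx K :=
  (envF4 K).hF.nW (wordsF.getD k []) * yForm K e (extP q (k / 2)) k * ((envF4 K).hF.nW (wordsF.getD k []))⁻¹

theorem classesF_pos : ∀ k < 8, ∀ r ∈ classesF.getD k [], 24 ≤ r ∧ r < 48 := by decide

theorem yForm_mem (c : K × K × K) (k : ℕ) : yForm K e c k ∈ rootClosure chevF4 K (· ∈ fundF k) := by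
  unfold yForm fundF
  by_cases hk : k % 2 = 0
  · rw [if_pos hk, if_pos hk, pGL_eq]
    exact Subgroup.mul_mem _ ((envF4 K).hF.xGL_mem_rootClosure _ _ (by simp) _)
      (Subgroup.mul_mem _ ((envF4 K).hF.xGL_mem_rootClosure _ _ (by simp) _) (Subgroup.one_mem _))
  · rw [if_neg hk, if_neg hk, bGL_eq]
    exact Subgroup.mul_mem _ ((envF4 K).hF.xGL_mem_rootClosure _ _ (by simp) _)
      (Subgroup.mul_mem _ ((envF4 K).hF.xGL_mem_rootClosure _ _ (by simp) _)
      (Subgroup.mul_mem _ ((envF4 K).hF.xGL_mem_rootClosure _ _ (by simp) _)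
      (Subgroup.mul_mem _ ((envF4 K).hF.xGL_mem_rootClosure _ _ (by simp) _) (Subgroup.one_mem _))))

theorem yForm_mem_twisted (c : K × K × K) (k : ℕ) : yForm K e c k ∈ twistedF4 K e := by
  unfold yForm
  by_cases hk : k % 2 = 0
  · rw [if_pos hk]; exact pGL_mem_twisted _
  · rw [if_neg hk]; exact bGL_mem_twisted _ _

variable {S : SigmaF K e} (C : CountLeavesF S)
include C

theorem CountLeavesF.xForm_mem (q : Fin 4 → K × K × K) (k : ℕ) (hk : k < 8) :
    xForm K e q k ∈ rootClosure chevF4 K (· ∈ classesF.getD k []) := by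
  rw [C.conj_class k hk]
  unfold xForm
  have : ((envF4 K).hF.nW (wordsF.getD k []))⁻¹ * ((envF4 K).hF.nW (wordsF.getD k []) *
      yForm K e (extP q (k / 2)) k * ((envF4 K).hF.nW (wordsF.getD k []))⁻¹) *
      (envF4 K).hF.nW (wordsF.getD k []) = yForm K e (extP q (k / 2)) k := by group
  rw [this]
  exact yForm_mem _ _

theorem CountLeavesF.xForm_mem_twisted (q : Fin 4 → K × K × K) (k : ℕ) (hk : k < 8) :
    xForm K e q k ∈ twistedF4 K e :=
  Subgroup.mul_mem _ (Subgroup.mul_mem _ (C.nW_mem k hk) (yForm_mem_twisted _ _))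
    (Subgroup.inv_mem _ (C.nW_mem k hk))

theorem CountLeavesF.prod_mem (q : Fin 4 → K × K × K) :
    ((List.range 8).map (xForm K e q)).prod ∈ chevF4.posUnipotent K ⊓ twistedF4 K e := by
  constructor
  · apply Subgroup.list_prod_mem
    intro y hy
    obtain ⟨k, hk, rfl⟩ := List.mem_map.mp hy
    have hk8 := List.mem_range.mp hk
    refine rootClosure_pos_le chevF4 K _ ?_ (C.xForm_mem q k hk8)
    intro r hr
    exact (isPos_iff r).2 (classesF_pos k hk8 r hr)
  · apply Subgroup.list_prod_mem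
    intro y hy
    obtain ⟨k, hk, rfl⟩ := List.mem_map.mp hy
    exact C.xForm_mem_twisted q k (List.mem_range.mp hk)

/-- the order of `U ⊓ G¹` -/
theorem CountLeavesF.card_eq [Fintype K] :
    Nat.card ↥(chevF4.posUnipotent K ⊓ twistedF4 K e) = (Fintype.card K) ^ 12 := by
  classical
  let Φ : (Fin 4 → K × K × K) → ↥(chevF4.posUnipotent K ⊓ twistedF4 K e) := fun q =>
    ⟨((List.range 8).map (xForm K e q)).prod, C.prod_mem q⟩
  have hinj : Function.Injective Φ := by
    intro q q' h
    have h1 : ((List.range 8).map (xForm K e q)).prod = ((List.range 8).map (xForm K e q')).prod :=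
      congrArg Subtype.val h
    have h2 := C.peel_unique _ _ (C.xForm_mem q) (C.xForm_mem q') h1
    have h3 : ∀ k < 8, yForm K e (extP q (k / 2)) k = yForm K e (extP q' (k / 2)) k := by
      intro k hk
      have := h2 k hk
      unfold xForm at this
      exact mul_left_cancel (mul_right_cancel this)
    funext i
    have hi := i.2
    have ha := h3 (2 * i.val) (by omega)
    have hb := h3 (2 * i.val + 1) (by omega)
    have e1 : 2 * i.val / 2 = i.val := by omega
    have e2 : (2 * i.val + 1) / 2 = i.val := by omega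
    have e3 : 2 * i.val % 2 = 0 := by omega
    have e4 : ¬ (2 * i.val + 1) % 2 = 0 := by omega
    unfold yForm at ha hb
    rw [e1, if_pos e3, if_pos e3] at ha
    rw [e2, if_neg e4, if_neg e4] at hb
    have hq : extP q i.val = q i := by unfold extP; rw [dif_pos hi]
    have hq' : extP q' i.val = q' i := by unfold extP; rw [dif_pos hi]
    rw [hq, hq'] at ha hb
    have r1 := C.pGL_inj _ _ ha
    have r2 := C.bGL_inj _ _ _ _ hb
    exact Prod.ext r1 (Prod.ext r2.1 r2.2)
  have hsurj : Function.Surjective Φ := by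
    rintro ⟨g, hgU, hgG⟩
    obtain ⟨x, hx, hgx⟩ := C.fix_peel g hgU (C.G1_fix g hgG)
    have hc : ∀ k, k < 8 → ∃ c : K × K × K, x k = (envF4 K).hF.nW (wordsF.getD k []) * yForm K e c k *
        ((envF4 K).hF.nW (wordsF.getD k []))⁻¹ := by
      intro k hk8
      obtain ⟨hxk, hfk⟩ := hx k hk8
      set n := (envF4 K).hF.nW (F := K) (wordsF.getD k []) with hn
      have hnG := C.nW_mem k hk8
      have hnF := twistedF4_le_group hnG
      have hxF := rootClosure_le_groupF _ hxk
      have hy1 := (C.conj_class k hk8 _).1 hxk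
      have hyfix : S.ext (n⁻¹ * x k * n) = n⁻¹ * x k * n := by
        rw [S.ext_mul (Subgroup.mul_mem _ (Subgroup.inv_mem _ hnF) hxF) hnF,
          S.ext_mul (Subgroup.inv_mem _ hnF) hxF, S.ext_inv hnF, C.G1_fix n hnG, hfk]
      have hyc : ∃ c : K × K × K, n⁻¹ * x k * n = yForm K e c k := by
        unfold fundF at hy1
        unfold yForm
        by_cases hk2 : k % 2 = 0
        · rw [if_pos hk2] at hy1
          obtain ⟨t, ht⟩ := C.fix_J1 _ hy1 hyfix
          exact ⟨(t, 0, 0), by rw [if_pos hk2, ht]⟩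
        · rw [if_neg hk2] at hy1
          obtain ⟨t, u, ht⟩ := C.fix_J2 _ hy1 hyfix
          exact ⟨(0, t, u), by rw [if_neg hk2, ht]⟩
      obtain ⟨c, hc⟩ := hyc
      refine ⟨c, ?_⟩
      rw [← hc]; group
    choose! c hc using hc
    let q : Fin 4 → K × K × K := fun i => ((c (2 * i.val)).1, (c (2 * i.val + 1)).2)
    refine ⟨q, Subtype.ext ?_⟩
    show ((List.range 8).map (xForm K e q)).prod = g
    rw [hgx]
    congr 1
    apply List.map_congr_left
    intro k hk
    have hk8 := List.mem_range.mp hk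
    rw [hc k hk8]
    unfold xForm
    congr 2
    have hk4 : k / 2 < 4 := by omega
    have hq : extP q (k / 2) = ((c (2 * (k / 2))).1, (c (2 * (k / 2) + 1)).2) := by
      unfold extP; rw [dif_pos hk4]
    rw [hq]
    unfold yForm
    by_cases hk2 : k % 2 = 0
    · rw [if_pos hk2, if_pos hk2]
      have : 2 * (k / 2) = k := by omega
      rw [this]
    · rw [if_neg hk2, if_neg hk2]
      have : 2 * (k / 2) + 1 = k := by omega
      rw [this]
  rw [← Nat.card_congr (Equiv.ofBijective Φ ⟨hinj, hsurj⟩), Nat.card_eq_fintype_card,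
    Fintype.card_fun, Fintype.card_prod, Fintype.card_prod, Fintype.card_fin]
  ring

end Cfsg.Agent.Lib.Helper33.F4
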