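import Cfsg.Agent.Lib.Helper33.TwPar
import Cfsg.Agent.Lib.Helper33.StVanish
import Cfsg.Agent.Lib.Helper33.F4Final
import Cfsg.Agent.Lib.Helper33.F4Core
import Cfsg.Agent.Lib.Helper76.F4OUn
import Cfsg.Agent.Lib.Helper76.F4OSeg

/-!
The large Ree groups `²F₄(q)`: an element of prime order commuting with an element of even order has order
dividing `q (q ^ 4 - 1)`, by the vanishing of the Steinberg character on 2-singular elements.
-/

set_option autoImplicit false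
set_option linter.unusedSimpArgs false
set_option linter.unusedVariables false
set_option linter.unusedSectionVars false
set_option maxRecDepth 100000

namespace Cfsg.Agent.Lib.Helper33.F4

open Cfsg.Lie Cfsg.Agent.Lib.Helper24 Cfsg.Agent.Lib.Helper33.TwBN Cfsg.Agent.Lib.Helper76.F4O
open Cfsg.Agent.Lib.Helper64.StB

variable {K : Type*} [Field K] {e : ℕ}

/-- conjugation by the longest element maps `U` into `V` -/
theorem conj_w0F_pos (u : GL chevF4.Idx K) (hu : u ∈ chevF4.posUnipotent K) :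
    (envF4 K).hF.nW w0F * u * ((envF4 K).hF.nW w0F)⁻¹ ∈ chevF4.negUnipotent K := by
  have hu' : u ∈ rootClosure chevF4 K (fun r => 24 ≤ r ∧ r < 48) := by
    have : chevF4.posUnipotent K ≤ rootClosure chevF4 K (fun r => 24 ≤ r ∧ r < 48) := by
      unfold rootClosure ChevalleyDatum.posUnipotent
      apply Subgroup.closure_mono
      rintro x ⟨r, t, hr, hx⟩
      exact ⟨r, t, (isPos_iff r).1 hr, hx⟩
    exact this hu
  have h := nW_conj_mem (K := K) w0F w0F_lt (fun r => 24 ≤ r ∧ r < 48) (fun r => r < 24)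
    (fun r hr hr2 => w0F_check r hr hr2.1) (fun r hr => hr.2) u hu'
  refine rootClosure_neg_le chevF4 K _ ?_ h
  intro r hr
  exact (isNeg_iff r).2 hr

theorem arith_dvd (q r : ℕ) (hq : 1 ≤ q) (hr : r.Prime)
    (h : r ∣ q ^ 12 * (q - 1) ^ 2 * (1 + q) ∨ r ∣ q ^ 12 * (q - 1) ^ 2 * (1 + q ^ 2)) :
    r ∣ q * (q ^ 4 - 1) := by
  have e : q ^ 4 - 1 = (q - 1) * (1 + q) * (1 + q ^ 2) := by
    obtain ⟨k, rfl⟩ : ∃ k, q = k + 1 := ⟨q - 1, by omega⟩
    rw [Nat.add_sub_cancel]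
    apply Nat.sub_eq_of_eq_add
    ring
  rw [e]
  rcases h with h | h
  · rcases (Nat.Prime.dvd_mul hr).1 h with h | h
    · rcases (Nat.Prime.dvd_mul hr).1 h with h | h
      · exact Dvd.dvd.mul_right (hr.dvd_of_dvd_pow h) _
      · exact Dvd.dvd.mul_left (Dvd.dvd.mul_right (Dvd.dvd.mul_right (hr.dvd_of_dvd_pow h) _) _) _
    · exact Dvd.dvd.mul_left (Dvd.dvd.mul_right (Dvd.dvd.mul_left h _) _) _
  · rcases (Nat.Prime.dvd_mul hr).1 h with h | h
    · rcases (Nat.Prime.dvd_mul hr).1 h with h | h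
      · exact Dvd.dvd.mul_right (hr.dvd_of_dvd_pow h) _
      · exact Dvd.dvd.mul_left (Dvd.dvd.mul_right (Dvd.dvd.mul_right (hr.dvd_of_dvd_pow h) _) _) _
    · exact Dvd.dvd.mul_left (Dvd.dvd.mul_left h _) _

section leaves

variable {S : SigmaF K e}

theorem card_Un_s1 [Fintype K] (C : CountLeavesF S) (he : e ≠ 0) :
    Nat.card ↥(Un chevF4 K (s1F K) ⊓ twistedF4 K e) = Fintype.card K := by
  have h := Un_eq (K := K) 1 (by norm_num)
  have e1 : wordsW.getD 1 [] = [0, 3] := rfl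
  rw [e1] at h
  unfold s1F
  rw [h, card_seg C he (segStart 1) (segLen 1) (by decide)]
  have : segDim (segStart 1) (segLen 1) = 1 := by decide
  rw [this, pow_one]

theorem card_Un_s2 [Fintype K] (C : CountLeavesF S) (he : e ≠ 0) :
    Nat.card ↥(Un chevF4 K (s2F K) ⊓ twistedF4 K e) = Fintype.card K ^ 2 := by
  have h := Un_eq (K := K) 2 (by norm_num)
  have e1 : wordsW.getD 2 [] = [1, 2, 1, 2] := rfl
  rw [e1] at h
  unfold s2F
  rw [h, card_seg C he (segStart 2) (segLen 2) (by decide)]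
  have : segDim (segStart 2) (segLen 2) = 2 := by decide
  rw [this]

end leaves

/-- in `²F₄(q)`, an element of prime order `r` commuting with an element of even order has `r ∣ q (q⁴ - 1)` -/
theorem prime_dvd_of_commute_F4 [Fintype K] {m : ℕ} (hK : Fintype.card K = 2 ^ (2 * m + 1))
    (a y : ↥(twistedF4 K (2 ^ m))) (ha : 2 ∣ orderOf a) (hay : Commute a y) (r : ℕ) [Fact r.Prime]
    (hy : orderOf y = r) : r ∣ 2 ^ (2 * m + 1) * ((2 ^ (2 * m + 1)) ^ 4 - 1) := by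
  classical
  have hrp : r.Prime := Fact.out
  obtain ⟨S, L, C, T⟩ := exists_leavesF hK
  obtain ⟨P, hB, hN, hS⟩ := L.exists_bnPair
  have he : (2 : ℕ) ^ m ≠ 0 := L.e_ne
  have hq1 : 1 ≤ 2 ^ (2 * m + 1) := Nat.one_le_two_pow
  have hU : Nat.card ↥(L.setup.U ⊓ L.setup.G1) = (2 ^ (2 * m + 1)) ^ 12 := by
    have := C.card_eq
    rw [hK] at this
    exact this
  have hH : Nat.card ↥(L.setup.H ⊓ L.setup.G1) = (2 ^ (2 * m + 1) - 1) ^ 2 := by
    have := T.card_eq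
    rw [hK] at this
    exact this
  by_contra hnd
  haveI : Fact (Nat.Prime 2) := ⟨Nat.prime_two⟩
  let σ1 : ↥(twistedF4 K (2 ^ m)) := ⟨s1F K, L.s1F_mem⟩
  let σ2 : ↥(twistedF4 K (2 ^ m)) := ⟨s2F K, L.s2F_mem⟩
  have hS' : P.S = {σ1, σ2} := by
    rw [hS]
    ext x
    simp only [Set.mem_setOf_eq, Set.mem_insert_iff, Set.mem_singleton_iff, Subtype.ext_iff, σ1, σ2]
  have hσ1 : σ1 ∈ P.S := by rw [hS']; exact Set.mem_insert _ _
  have hσ2 : σ2 ∈ P.S := by rw [hS']; exact Set.mem_insert_of_mem _ rfl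
  have hc1 : Nat.card ↥(P.parabolic {σ1}) =
      (2 ^ (2 * m + 1)) ^ 12 * (2 ^ (2 * m + 1) - 1) ^ 2 * (1 + 2 ^ (2 * m + 1)) := by
    have h1 : Nat.card ↥(P.parabolic {σ1}) = Nat.card ↥(L.setup.U ⊓ L.setup.G1) *
        Nat.card ↥(L.setup.H ⊓ L.setup.G1) *
          (1 + Nat.card ↥(Un chevF4 K (s1F K) ⊓ twistedF4 K (2 ^ m))) :=
      TwPar.card_parabolic_singleton L.setup P hB σ1 hσ1 s1F_mem_mono
    rw [h1, hU, hH, card_Un_s1 C he, hK]
  have hc2 : Nat.card ↥(P.parabolic {σ2}) =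
      (2 ^ (2 * m + 1)) ^ 12 * (2 ^ (2 * m + 1) - 1) ^ 2 * (1 + (2 ^ (2 * m + 1)) ^ 2) := by
    have h1 : Nat.card ↥(P.parabolic {σ2}) = Nat.card ↥(L.setup.U ⊓ L.setup.G1) *
        Nat.card ↥(L.setup.H ⊓ L.setup.G1) *
          (1 + Nat.card ↥(Un chevF4 K (s2F K) ⊓ twistedF4 K (2 ^ m))) :=
      TwPar.card_parabolic_singleton L.setup P hB σ2 hσ2 s2F_mem_mono
    rw [h1, hU, hH, card_Un_s2 C he, hK]
  -- the longest element
  let w₀ : ↥(twistedF4 K (2 ^ m)) :=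
    ⟨((envF4 K).hF.nW w0F)⁻¹, Subgroup.inv_mem _ L.nW_w0F_mem⟩
  have hw₀N : (w₀ : GL chevF4.Idx K) ∈ L.setup.N :=
    Subgroup.inv_mem _ ((envF4 K).nW_mem w0F (lt4 w0F_lt))
  have hw₀ : w₀ ∈ P.N := (TwPar.mem_PN L.setup P hB hN w₀).2 hw₀N
  have hT : ∀ b ∈ P.B, w₀⁻¹ * b * w₀ ∈ P.B → b ∈ P.N := by
    intro b hb hc
    refine TwPar.mem_PN_of_conj_mem L.setup P hB hN (chevF4.negUnipotent K) w₀ hw₀N ?_ ?_ b hb hc
    · intro u hu
      have := conj_w0F_pos (K := K) u hu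
      simpa [w₀] using this
    · intro x hxB hxV
      have : x ∈ chevF4.borelSubgroup K ⊓ (chevF4.negUnipotent K ⊔ chevF4.diagonalSubgroup K) :=
        ⟨hxB, hxV⟩
      rw [(envF4 K).hF.borel_inf_neg.2] at this
      exact this
  have hrel : (P.B ⊓ P.N).relIndex P.B = 2 ^ ((2 * m + 1) * 12) := by
    have h1 : (P.B ⊓ P.N).relIndex P.B = Nat.card ↥(L.setup.U ⊓ L.setup.G1) :=
      TwPar.relIndex_PB L.setup P hB hN
    rw [h1, hU, ← pow_mul]
  have hTp : ¬ 2 ∣ Nat.card ↥(P.B ⊓ P.N) := by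
    have h1 : Nat.card ↥(P.B ⊓ P.N) = Nat.card ↥(L.setup.H ⊓ L.setup.G1) :=
      TwPar.card_PB_inf_PN L.setup P hB hN
    rw [h1, hH]
    intro h2
    have h3 := Nat.Prime.dvd_of_dvd_pow Nat.prime_two h2
    have h4 : 2 ∣ 2 ^ (2 * m + 1) := dvd_pow_self 2 (by omega)
    omega
  refine StV.not_commute_of_not_dvd P 2 w₀ hw₀ hT _ hrel hTp a y ha hay r hy ?_
  intro J hJ hne hdvd
  apply hnd
  apply arith_dvd _ r hq1 hrp
  have hJ' : (↑J : Set ↥(twistedF4 K (2 ^ m))) ⊆ P.S := by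
    intro x hx
    exact (mem_SF P).1 (hJ hx)
  have hne' : (↑J : Set ↥(twistedF4 K (2 ^ m))) ≠ P.S := by
    intro h
    apply hne
    apply Finset.coe_injective
    rw [h, coe_SF]
  have hd : Nat.card ↥(P.parabolic (↑J : Set ↥(twistedF4 K (2 ^ m)))) ∣ Nat.card ↥(P.parabolic {σ1}) ∨
      Nat.card ↥(P.parabolic (↑J : Set ↥(twistedF4 K (2 ^ m)))) ∣ Nat.card ↥(P.parabolic {σ2}) :=
    TwPar.card_parabolic_dvd L.setup P hB σ1 σ2 hS' (↑J : Set ↥(twistedF4 K (2 ^ m))) hJ' hne'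
  rcases hd with h | h
  · left
    rw [← hc1]
    exact hdvd.trans h
  · right
    rw [← hc2]
    exact hdvd.trans h

end Cfsg.Agent.Lib.Helper33.F4
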