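import Cfsg.Prelude.Def_LieTwisted
import Cfsg.Prelude.Def_ChevStructure

/-!
Shared definitions for the groups `²F₄(2^(2m+1))` inside the Chevalley group `F₄(K)`:
the root permutation `r ↦ r̄`, the exponents `λ(r)`, and the interface `SigmaF` of a twisting
automorphism `σ` of `F₄(K)` with `σ (x_r(t)) = x_{r̄}(t ^ (λ(r) e))`.
-/

set_option autoImplicit false
set_option maxRecDepth 100000

namespace Cfsg.Agent.Lib.Helper33.F4

open Cfsg.Lie

/-- the permutation `r ↦ r̄` of the 48 roots of `F₄` (indices of `Def_ChevF4`): short `↔` long -/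
def barF (r : ℕ) : ℕ := [3, 7, 8, 0, 9, 11, 18, 1, 2, 4, 15, 5, 16, 21, 23, 10, 12, 19, 6, 17, 22, 13, 20, 14, 33, 27, 34, 25, 30, 41, 28, 35, 37, 24, 26, 31, 42, 32, 43, 45, 46, 29, 36, 38, 47, 39, 40, 44].getD r 0

/-- `λ(r) = 2` for a short root `r` (then `r̄` is long) and `1` for a long root -/
def lamF (r : ℕ) : ℕ := [1, 1, 1, 2, 1, 1, 1, 2, 2, 2, 2, 2, 2, 2, 2, 1, 1, 1, 2, 2, 2, 1, 1, 1, 1, 1, 1, 2, 2, 2, 1, 1, 1, 2, 2, 2, 2, 2, 2, 2, 2, 1, 1, 1, 2, 1, 1, 1].getD r 1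

theorem barF_lt : ∀ r < 48, barF r < 48 := by decide
theorem barF_barF : ∀ r < 48, barF (barF r) = r := by decide
theorem lamF_mul_lamF : ∀ r < 48, lamF r * lamF (barF r) = 2 := by decide
theorem barF_neg : ∀ r < 48, barF (chevF4.neg r) = chevF4.neg (barF r) := by decide
theorem lamF_neg : ∀ r < 48, lamF (chevF4.neg r) = lamF r := by decide
theorem barF_pos : ∀ r < 48, chevF4.IsPosRoot r → chevF4.IsPosRoot (barF r) := by decide
theorem barF_negRoot : ∀ r < 48, chevF4.IsNegRoot r → chevF4.IsNegRoot (barF r) := by decide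

/-- a twisting automorphism of `F₄(K)`: `σ (x_r(t)) = x_{r̄}(t ^ (λ(r) e))` for all roots `r` -/
structure SigmaF (K : Type*) [Field K] (e : ℕ) where
  σ : ↥(chevF4.group K) ≃* ↥(chevF4.group K)
  map_x : ∀ r < 48, ∀ (t : K) (g : ↥(chevF4.group K)),
    ((g : GL chevF4.Idx K) : Matrix chevF4.Idx chevF4.Idx K) = chevF4.x K r t →
    ((σ g : GL chevF4.Idx K) : Matrix chevF4.Idx chevF4.Idx K) = chevF4.x K (barF r) (t ^ (lamF r * e))

end Cfsg.Agent.Lib.Helper33.F4
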