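import Cfsg.Agent.Lib.Helper33.F4BN

/-!
The fixed points of the twisting automorphism on `U` lie in the twisted group, from the peeling of the
classes, the transport of the classes and the rank-one fixed points.
-/

set_option autoImplicit false
set_option linter.unusedSimpArgs false
set_option linter.unusedVariables false
set_option maxRecDepth 100000

namespace Cfsg.Agent.Lib.Helper33.F4

open Cfsg.Lie Cfsg.Agent.Lib.Helper24 Cfsg.Agent.Lib.Helper33.TwBN

variable {K : Type*} [Field K] {e : ℕ}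

theorem rootClosure_le_groupF (R : ℕ → Prop) : rootClosure chevF4 K R ≤ chevF4.group K :=
  rootClosure_le_group (envF4 K).hF R

/-- `U^σ ≤ G¹` -/
theorem fix_pos_of (S : SigmaF K e)
    (hfixG : ∀ g ∈ twistedF4 K e, S.ext g = g)
    (hJ1 : ∀ g : GL chevF4.Idx K, g ∈ rootClosure chevF4 K (· ∈ [33, 24]) → S.ext g = g →
      ∃ t : K, g = pGL K e t)
    (hJ2 : ∀ g : GL chevF4.Idx K, g ∈ rootClosure chevF4 K (· ∈ [27, 25, 28, 30]) → S.ext g = g →
      ∃ t u : K, g = bGL K e t u)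
    (hpeel : ∀ g : GL chevF4.Idx K, g ∈ chevF4.posUnipotent K → S.ext g = g →
      ∃ x : ℕ → GL chevF4.Idx K,
        (∀ k < 8, x k ∈ rootClosure chevF4 K (· ∈ classesF.getD k []) ∧ S.ext (x k) = x k) ∧
        g = ((List.range 8).map x).prod)
    (hconj : ∀ k < 8, ∀ g : GL chevF4.Idx K, g ∈ rootClosure chevF4 K (· ∈ classesF.getD k []) →
      ((envF4 K).hF.nW (wordsF.getD k []))⁻¹ * g * (envF4 K).hF.nW (wordsF.getD k []) ∈
        rootClosure chevF4 K (· ∈ fundF k))
    (hW : ∀ k < 8, (envF4 K).hF.nW (wordsF.getD k []) ∈ twistedF4 K e)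
    (g : GL chevF4.Idx K) (hg : g ∈ chevF4.posUnipotent K) (hfix : S.ext g = g) :
    g ∈ twistedF4 K e := by
  obtain ⟨x, hx, rfl⟩ := hpeel g hg hfix
  apply Subgroup.list_prod_mem
  intro y hy
  obtain ⟨k, hk, rfl⟩ := List.mem_map.mp hy
  have hk8 : k < 8 := List.mem_range.mp hk
  obtain ⟨hxk, hfk⟩ := hx k hk8
  set n := (envF4 K).hF.nW (F := K) (wordsF.getD k []) with hn
  have hnG := hW k hk8
  have hnF := twistedF4_le_group hnG
  have hxF := rootClosure_le_groupF _ hxk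
  have hy1 := hconj k hk8 _ hxk
  have hyfix : S.ext (n⁻¹ * x k * n) = n⁻¹ * x k * n := by
    rw [S.ext_mul (Subgroup.mul_mem _ (Subgroup.inv_mem _ hnF) hxF) hnF,
      S.ext_mul (Subgroup.inv_mem _ hnF) hxF, S.ext_inv hnF, hfixG n hnG, hfk]
  have hyG : n⁻¹ * x k * n ∈ twistedF4 K e := by
    unfold fundF at hy1
    by_cases hk2 : k % 2 = 0
    · rw [if_pos hk2] at hy1
      obtain ⟨t, ht⟩ := hJ1 _ hy1 hyfix
      rw [ht]; exact pGL_mem_twisted t
    · rw [if_neg hk2] at hy1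
      obtain ⟨t, u, ht⟩ := hJ2 _ hy1 hyfix
      rw [ht]; exact bGL_mem_twisted t u
  have : x k = n * (n⁻¹ * x k * n) * n⁻¹ := by group
  rw [this]
  exact Subgroup.mul_mem _ (Subgroup.mul_mem _ hnG hyG) (Subgroup.inv_mem _ hnG)

end Cfsg.Agent.Lib.Helper33.F4
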