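import Cfsg.Agent.Lib.Helper76.F4OrderDefs
import Cfsg.Agent.Lib.Helper33.F4Count
import Cfsg.Agent.Lib.Helper33.F4B2

/-!
K-2F4-O4 (keystone 106803): the number of fixed points of the twisting automorphism on the root closure of a
segment of classes of positive roots of `²F₄`.
-/

set_option autoImplicit false
set_option linter.unusedSimpArgs false
set_option linter.unusedVariables false
set_option maxRecDepth 100000

namespace Cfsg.Agent.Lib.Helper33.F4O

open Cfsg.Lie Cfsg.Agent.Lib.Helper24 Cfsg.Agent.Lib.Helper33.F4 Cfsg.Agent.Lib.Helper33.TwBN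
  Cfsg.Agent.Lib.Helper76.F4O

theorem seg_split : ∀ i < 8, ∀ len < 8, i + len + 1 ≤ 8 →
    segRoots i (len + 1) = clsF i ++ segRoots (i + 1) len := by decide
theorem seg_zero : ∀ i < 9, segRoots i 0 = [] := by decide
theorem seg_good : ∀ i < 9, ∀ len < 9, i + len ≤ 8 → goodListOK chevF4 (segRoots i len) = true := by
  decide +kernel
theorem seg_nodup : ∀ i < 9, ∀ len < 9, i + len ≤ 8 → (segRoots i len).Nodup := by decide
theorem seg_pos : ∀ i < 9, ∀ len < 9, i + len ≤ 8 → ∀ r ∈ segRoots i len, chevF4.IsPosRoot r := by decide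
theorem seg_bar : ∀ i < 9, ∀ len < 9, i + len ≤ 8 → ∀ r ∈ segRoots i len, r < 48 ∧ barF r ∈ segRoots i len := by
  decide
theorem seg_sub_LF : ∀ i < 9, ∀ len < 9, i + len ≤ 8 → ∀ r ∈ segRoots i len, r ∈ LF i := by decide
theorem segDim_succ : ∀ i < 8, ∀ len < 8, i + len + 1 ≤ 8 →
    segDim i (len + 1) = (1 + i % 2) + segDim (i + 1) len := by decide
theorem segDim_zero (i : ℕ) : segDim i 0 = 0 := rfl

variable {K : Type*} [Field K] {e : ℕ} {S : SigmaF K e}

theorem rc_mono (R R' : List ℕ) (h : ∀ r ∈ R, r ∈ R') :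
    rootClosure chevF4 K (· ∈ R) ≤ rootClosure chevF4 K (· ∈ R') :=
  rootClosure_mono' _ _ h

section leaves

variable (C : CountLeavesF S)
include C

/-- a fixed element of the root closure of a class lies in the twisted group -/
theorem cls_fixed_mem (k : ℕ) (hk : k < 8) (x : GL chevF4.Idx K)
    (hx : x ∈ rootClosure chevF4 K (· ∈ clsF k)) (hfix : S.ext x = x) :
    ∃ c : K × K × K, x = (envF4 K).hF.nW (wordsF.getD k []) * yForm K e c k *
      ((envF4 K).hF.nW (wordsF.getD k []))⁻¹ := by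
  set n := (envF4 K).hF.nW (F := K) (wordsF.getD k []) with hn
  have hnG := C.nW_mem k hk
  have hnF := twistedF4_le_group hnG
  have hxF := rootClosure_le_groupF _ hx
  have hy1 := (C.conj_class k hk _).1 hx
  have hyfix : S.ext (n⁻¹ * x * n) = n⁻¹ * x * n := by
    rw [S.ext_mul (Subgroup.mul_mem _ (Subgroup.inv_mem _ hnF) hxF) hnF,
      S.ext_mul (Subgroup.inv_mem _ hnF) hxF, S.ext_inv hnF, C.G1_fix n hnG, hfix]
  have hyc : ∃ c : K × K × K, n⁻¹ * x * n = yForm K e c k := by
    unfold fundF at hy1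
    unfold yForm
    by_cases hk2 : k % 2 = 0
    · rw [if_pos hk2] at hy1
      obtain ⟨t, ht⟩ := C.fix_J1 _ hy1 hyfix
      exact ⟨(t, 0, 0), by rw [if_pos hk2, ht]⟩
    · rw [if_neg hk2] at hy1
      obtain ⟨t, u, ht⟩ := C.fix_J2 _ hy1 hyfix
      exact ⟨(0, t, u), by rw [if_neg hk2, ht]⟩
  obtain ⟨c, hc⟩ := hyc
  refine ⟨c, ?_⟩
  rw [← hc]; group

theorem conj_yForm_mem (k : ℕ) (hk : k < 8) (c : K × K × K) :
    (envF4 K).hF.nW (wordsF.getD k []) * yForm K e c k * ((envF4 K).hF.nW (wordsF.getD k []))⁻¹ ∈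
      rootClosure chevF4 K (· ∈ clsF k) ⊓ twistedF4 K e := by
  constructor
  · show _ ∈ rootClosure chevF4 K (· ∈ classesF.getD k [])
    rw [C.conj_class k hk]
    have : ((envF4 K).hF.nW (wordsF.getD k []))⁻¹ * ((envF4 K).hF.nW (wordsF.getD k []) *
        yForm K e c k * ((envF4 K).hF.nW (wordsF.getD k []))⁻¹) *
        (envF4 K).hF.nW (wordsF.getD k []) = yForm K e c k := by group
    rw [this]
    exact yForm_mem _ _
  · exact Subgroup.mul_mem _ (Subgroup.mul_mem _ (C.nW_mem k hk) (yForm_mem_twisted _ _))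
      (Subgroup.inv_mem _ (C.nW_mem k hk))

/-- the number of fixed points on the root closure of one class -/
theorem card_cls [Fintype K] (k : ℕ) (hk : k < 8) :
    Nat.card ↥(rootClosure chevF4 K (· ∈ clsF k) ⊓ twistedF4 K e) = Fintype.card K ^ (1 + k % 2) := by
  classical
  set n := (envF4 K).hF.nW (F := K) (wordsF.getD k []) with hn
  by_cases hk2 : k % 2 = 0
  · let Φ : K → ↥(rootClosure chevF4 K (· ∈ clsF k) ⊓ twistedF4 K e) := fun t =>
      ⟨n * yForm K e (t, 0, 0) k * n⁻¹, conj_yForm_mem C k hk _⟩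
    have hinj : Function.Injective Φ := by
      intro t t' h
      have h1 : n * yForm K e (t, 0, 0) k * n⁻¹ = n * yForm K e (t', 0, 0) k * n⁻¹ := congrArg Subtype.val h
      have h2 := mul_left_cancel (mul_right_cancel h1)
      unfold yForm at h2
      rw [if_pos hk2, if_pos hk2] at h2
      exact C.pGL_inj _ _ h2
    have hsurj : Function.Surjective Φ := by
      rintro ⟨x, hx1, hx2⟩
      obtain ⟨c, hc⟩ := cls_fixed_mem C k hk x hx1 (C.G1_fix x hx2)
      refine ⟨c.1, Subtype.ext ?_⟩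
      show n * yForm K e (c.1, 0, 0) k * n⁻¹ = x
      rw [hc]
      unfold yForm
      rw [if_pos hk2, if_pos hk2]
    rw [← Nat.card_congr (Equiv.ofBijective Φ ⟨hinj, hsurj⟩), Nat.card_eq_fintype_card, hk2]
    simp
  · let Φ : K × K → ↥(rootClosure chevF4 K (· ∈ clsF k) ⊓ twistedF4 K e) := fun p =>
      ⟨n * yForm K e (0, p.1, p.2) k * n⁻¹, conj_yForm_mem C k hk _⟩
    have hinj : Function.Injective Φ := by
      intro p p' h
      have h1 : n * yForm K e (0, p.1, p.2) k * n⁻¹ = n * yForm K e (0, p'.1, p'.2) k * n⁻¹ :=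
        congrArg Subtype.val h
      have h2 := mul_left_cancel (mul_right_cancel h1)
      unfold yForm at h2
      rw [if_neg hk2, if_neg hk2] at h2
      obtain ⟨r1, r2⟩ := C.bGL_inj _ _ _ _ h2
      exact Prod.ext r1 r2
    have hsurj : Function.Surjective Φ := by
      rintro ⟨x, hx1, hx2⟩
      obtain ⟨c, hc⟩ := cls_fixed_mem C k hk x hx1 (C.G1_fix x hx2)
      refine ⟨(c.2.1, c.2.2), Subtype.ext ?_⟩
      show n * yForm K e (0, c.2.1, c.2.2) k * n⁻¹ = x
      rw [hc]
      unfold yForm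
      rw [if_neg hk2, if_neg hk2]
    have hk1 : k % 2 = 1 := by omega
    rw [← Nat.card_congr (Equiv.ofBijective Φ ⟨hinj, hsurj⟩), Nat.card_eq_fintype_card,
      Fintype.card_prod, hk1]
    ring

/-- the split of a fixed element of the root closure of a segment -/
theorem seg_peel (i len : ℕ) (h : i + len + 1 ≤ 8) (g : GL chevF4.Idx K)
    (hg : g ∈ rootClosure chevF4 K (· ∈ segRoots i (len + 1))) (hgG : g ∈ twistedF4 K e) :
    ∃ x ∈ rootClosure chevF4 K (· ∈ clsF i) ⊓ twistedF4 K e,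
      ∃ y ∈ rootClosure chevF4 K (· ∈ segRoots (i + 1) len) ⊓ twistedF4 K e, g = x * y := by
  have hi : i < 8 := by omega
  have hl : len < 8 := by omega
  obtain ⟨t, _, hc⟩ := (envF4 K).hF.exists_ordProd_gen (envF4 K).hC (envF4 K).hcomm
    (fun r s hr hs => (envF4 K).pos_ne_neg r s hr hs) (segRoots i (len + 1))
    (seg_nodup i (by omega) (len + 1) (by omega) (by omega))
    (seg_pos i (by omega) (len + 1) (by omega) (by omega))
    (seg_good i (by omega) (len + 1) (by omega) (by omega)) g hg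
  rw [seg_split i hi len hl h, ordProd_append] at hc
  set x := (envF4 K).hF.ordProd (clsF i) t with hxdef
  set y := (envF4 K).hF.ordProd (segRoots (i + 1) len) t with hydef
  have hx : x ∈ rootClosure chevF4 K (· ∈ clsF i) := (envF4 K).hF.ordProd_mem _ t
  have hy : y ∈ rootClosure chevF4 K (· ∈ segRoots (i + 1) len) := (envF4 K).hF.ordProd_mem _ t
  have hyLF : ∀ z, z ∈ rootClosure chevF4 K (· ∈ segRoots (i + 1) len) →
      z ∈ rootClosure chevF4 K (· ∈ LF (i + 1)) := fun z hz =>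
    rc_mono _ _ (seg_sub_LF (i + 1) (by omega) len (by omega) (by omega)) hz
  obtain ⟨hxG, hσx⟩ := ext_rootClosure S (clsF i) (clsF_bar i hi) x hx
  obtain ⟨hyG, hσy⟩ := ext_rootClosure S (segRoots (i + 1) len)
    (seg_bar (i + 1) (by omega) len (by omega) (by omega)) y hy
  have hfix := C.G1_fix g hgG
  rw [hc, S.ext_mul hxG hyG] at hfix
  obtain ⟨h1, h2⟩ := peel_split_unique i hi _ _ _ _ hσx hx (hyLF _ hσy) (hyLF _ hy) hfix
  obtain ⟨c, hxc⟩ := cls_fixed_mem C i hi x hx h1
  have hxT : x ∈ twistedF4 K e := by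
    rw [hxc]
    exact (conj_yForm_mem C i hi c).2
  refine ⟨x, ⟨hx, hxT⟩, y, ⟨hy, ?_⟩, hc⟩
  have : y = x⁻¹ * g := by rw [hc]; group
  rw [this]
  exact Subgroup.mul_mem _ (Subgroup.inv_mem _ hxT) hgG

theorem card_seg_aux [Fintype K] (len : ℕ) : ∀ i, i + len ≤ 8 →
    Nat.card ↥(rootClosure chevF4 K (· ∈ segRoots i len) ⊓ twistedF4 K e) = Fintype.card K ^ segDim i len := by
  classical
  induction len with
  | zero =>
    intro i hi
    rw [seg_zero i (by omega), segDim_zero, pow_zero]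
    have h : rootClosure chevF4 K (· ∈ ([] : List ℕ)) = ⊥ := by
      unfold rootClosure
      rw [Subgroup.closure_eq_bot_iff]
      rintro x ⟨s, u, hs, _⟩
      exact absurd hs List.not_mem_nil
    rw [h, bot_inf_eq]
    exact Subgroup.card_bot
  | succ len ih =>
    intro i hi
    have hi8 : i < 8 := by omega
    have hl8 : len < 8 := by omega
    have hsplit := seg_split i hi8 len hl8 (by omega)
    let Φ : ↥(rootClosure chevF4 K (· ∈ clsF i) ⊓ twistedF4 K e) ×
        ↥(rootClosure chevF4 K (· ∈ segRoots (i + 1) len) ⊓ twistedF4 K e) →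
        ↥(rootClosure chevF4 K (· ∈ segRoots i (len + 1)) ⊓ twistedF4 K e) := fun p =>
      ⟨(p.1 : GL chevF4.Idx K) * (p.2 : GL chevF4.Idx K), by
        constructor
        · refine Subgroup.mul_mem _ (rc_mono _ _ ?_ p.1.2.1) (rc_mono _ _ ?_ p.2.2.1)
          · intro r hr
            rw [hsplit]
            exact List.mem_append_left _ hr
          · intro r hr
            rw [hsplit]
            exact List.mem_append_right _ hr
        · exact Subgroup.mul_mem _ p.1.2.2 p.2.2.2⟩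
    have hinj : Function.Injective Φ := by
      rintro ⟨x, y⟩ ⟨x', y'⟩ h
      have h1 : (x : GL chevF4.Idx K) * (y : GL chevF4.Idx K) = (x' : GL chevF4.Idx K) * (y' : GL chevF4.Idx K) :=
        congrArg Subtype.val h
      have hyLF : ∀ z, z ∈ rootClosure chevF4 K (· ∈ segRoots (i + 1) len) →
          z ∈ rootClosure chevF4 K (· ∈ LF (i + 1)) := fun z hz =>
        rc_mono _ _ (seg_sub_LF (i + 1) (by omega) len (by omega) (by omega)) hz
      obtain ⟨e1, e2⟩ := peel_split_unique i hi8 _ _ _ _ x.2.1 x'.2.1 (hyLF _ y.2.1) (hyLF _ y'.2.1) h1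
      exact Prod.ext (Subtype.ext e1) (Subtype.ext e2)
    have hsurj : Function.Surjective Φ := by
      rintro ⟨g, hg1, hg2⟩
      obtain ⟨x, hx, y, hy, hgxy⟩ := seg_peel C i len (by omega) g hg1 hg2
      exact ⟨(⟨x, hx⟩, ⟨y, hy⟩), Subtype.ext hgxy.symm⟩
    rw [← Nat.card_congr (Equiv.ofBijective Φ ⟨hinj, hsurj⟩), Nat.card_prod, card_cls C i hi8,
      ih (i + 1) (by omega), segDim_succ i hi8 len hl8 (by omega)]
    ring

/-- K-2F4-O4 -/
theorem card_seg [Fintype K] (he : e ≠ 0) (i len : ℕ) (h : i + len ≤ 8) :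
    Nat.card ↥(rootClosure chevF4 K (· ∈ segRoots i len) ⊓ twistedF4 K e) = Fintype.card K ^ segDim i len :=
  card_seg_aux C len i h

end leaves

end Cfsg.Agent.Lib.Helper33.F4O
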