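import Cfsg.Agent.Lib.Helper33.F4Final

/-!
The large Ree groups `²F₄(q)`, `q ≥ 8`, are perfect: torus elements act without fixed points on the fixed points of
the root subgroups of the two fundamental classes.
-/

set_option autoImplicit false
set_option linter.unusedSimpArgs false
set_option linter.unusedVariables false
set_option maxRecDepth 100000

namespace Cfsg.Agent.Lib.Helper33.F4

open Cfsg.Lie Cfsg.Agent.Lib.Helper24 Cfsg.Agent.Lib.Helper33.TwBN

section abs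

variable {Γ : Type*} [Group Γ]

/-- a finite subgroup `Q` on which an element `h` acts by conjugation without fixed points consists of commutators `[h, x]` -/
theorem le_of_fpf (G1 C Q : Subgroup Γ) [Finite Q]
    (hcomm : ∀ a ∈ G1, ∀ b ∈ G1, a * b * a⁻¹ * b⁻¹ ∈ C) (hQ : Q ≤ G1) (h : Γ) (hh : h ∈ G1)
    (hconj : ∀ x ∈ Q, h * x * h⁻¹ ∈ Q) (hfix : ∀ z ∈ Q, h * z * h⁻¹ = z → z = 1) : Q ≤ C := by
  let f : ↥Q → ↥Q := fun x => ⟨h * (x : Γ) * h⁻¹ * (x : Γ)⁻¹, Q.mul_mem (hconj _ x.2) (Q.inv_mem x.2)⟩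
  have hfinj : Function.Injective f := by
    intro x y hxy
    have h1 : h * (x : Γ) * h⁻¹ * (x : Γ)⁻¹ = h * (y : Γ) * h⁻¹ * (y : Γ)⁻¹ := congrArg Subtype.val hxy
    have h2 : h * ((y : Γ)⁻¹ * x) * h⁻¹ = (y : Γ)⁻¹ * x := by
      have e1 : h * ((y : Γ)⁻¹ * x) * h⁻¹ =
          (h * (y : Γ) * h⁻¹)⁻¹ * ((h * (x : Γ) * h⁻¹ * (x : Γ)⁻¹) * x) := by group
      rw [e1, h1]; group
    have h3 := hfix _ (Q.mul_mem (Q.inv_mem y.2) x.2) h2
    apply Subtype.ext
    have : (x : Γ) = y * ((y : Γ)⁻¹ * x) := by group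
    rw [this, h3, mul_one]
  have hfsurj : Function.Surjective f := Finite.injective_iff_surjective.mp hfinj
  intro q hq
  obtain ⟨y, hy⟩ := hfsurj ⟨q, hq⟩
  have h1 : h * (y : Γ) * h⁻¹ * (y : Γ)⁻¹ = q := congrArg Subtype.val hy
  rw [← h1]
  exact hcomm h hh y (hQ y.2)

end abs

variable {K : Type*} [Field K] {e : ℕ}

/-- the character of the torus element `torusHom c` at the root `r` -/
def chiF (c : Fin 4 → Kˣ) (r : ℕ) : Kˣ :=
  c 0 ^ chevF4.cartan 0 r * c 1 ^ chevF4.cartan 1 r * c 2 ^ chevF4.cartan 2 r * c 3 ^ chevF4.cartan 3 r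

/-- the coordinates of a torus element, as a function on `ℕ` -/
def cfunF (c : Fin 4 → Kˣ) : ℕ → K := fun i => if h : i < 4 then ((c ⟨i, h⟩ : Kˣ) : K) else 1

theorem cfunF_ne (c : Fin 4 → Kˣ) (i : ℕ) : cfunF c i ≠ 0 := by
  unfold cfunF
  split_ifs
  · exact Units.ne_zero _
  · exact one_ne_zero

theorem torusHom_diagF (c : Fin 4 → Kˣ) :
    ((torusHom chevF4 4 K c : GL chevF4.Idx K) : Matrix chevF4.Idx chevF4.Idx K) =
      Matrix.diagonal (fun idx : chevF4.Idx =>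
        torusEntry chevF4 (List.range chevF4.rank) (cfunF c) (enc chevF4 idx)) := by
  rw [torusHom_val]
  congr 1
  funext idx
  unfold torusEntry zpowMap
  rw [show chevF4.rank = 4 from rfl, Cfsg.Agent.Lib.Helper24.list_range_prod, Units.coe_prod]
  apply Finset.prod_congr rfl
  intro i _
  have hi : (i : ℕ) < 4 := i.isLt
  simp [torusExp, cfunF, hi]

theorem torusEntry_rootF (c : Fin 4 → Kˣ) (r : ℕ) :
    torusEntry chevF4 (List.range chevF4.rank) (cfunF c) (chevF4.rank + r) = ((chiF c r : Kˣ) : K) := by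
  unfold torusEntry
  rw [show chevF4.rank = 4 from rfl]
  simp [List.range_succ, cfunF, chiF]
  have h0 := Eexp_root chevF4 0 r
  have h1 := Eexp_root chevF4 1 r
  have h2 := Eexp_root chevF4 2 r
  have h3 := Eexp_root chevF4 3 r
  rw [show chevF4.rank = 4 from rfl] at h0 h1 h2 h3
  rw [h0, h1, h2, h3]
  ring

theorem torusHom_conjF (c : Fin 4 → Kˣ) (r : ℕ) (hr : r < 48) (t : K) :
    torusHom chevF4 4 K c * xF K r t * (torusHom chevF4 4 K c)⁻¹ = xF K r (((chiF c r : Kˣ) : K) * t) := by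
  rw [mul_inv_eq_iff_eq_mul]
  apply Units.ext
  simp only [xF]
  rw [Units.val_mul, Units.val_mul, torusHom_diagF, Facts.xGL_val, Facts.xGL_val]
  unfold ChevalleyDatum.x
  have hr' : r < chevF4.nroots := hr
  rw [dif_pos hr', dif_pos hr', ← torusEntry_rootF]
  exact (envF4 K).hF.torus_mul_xMat (cfunF c) (cfunF_ne c) ⟨r, hr'⟩ t

/-- conjugation of a word by a torus element -/
theorem torusHom_conj_word (c : Fin 4 → Kˣ) (w : List (ℕ × K)) (hw : ∀ q ∈ w, q.1 < 48) :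
    torusHom chevF4 4 K c * (envF4 K).hF.wordGL w * (torusHom chevF4 4 K c)⁻¹ =
      (envF4 K).hF.wordGL (w.map fun q => (q.1, ((chiF c q.1 : Kˣ) : K) * q.2)) := by
  induction w with
  | nil => simp [Facts.wordGL]
  | cons q w ih =>
    have e1 : (envF4 K).hF.wordGL (q :: w) = xF K q.1 q.2 * (envF4 K).hF.wordGL w := by
      simp [Facts.wordGL, xF]
    have e2 : (envF4 K).hF.wordGL ((q :: w).map fun q => (q.1, ((chiF c q.1 : Kˣ) : K) * q.2)) =
        xF K q.1 (((chiF c q.1 : Kˣ) : K) * q.2) *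
          (envF4 K).hF.wordGL (w.map fun q => (q.1, ((chiF c q.1 : Kˣ) : K) * q.2)) := by
      simp [Facts.wordGL, xF]
    rw [e1, e2, ← ih (fun p hp => hw p (List.mem_cons_of_mem _ hp)),
      ← torusHom_conjF c q.1 (hw q List.mem_cons_self) q.2]
    group

theorem chi24 (ν : Kˣ) : chiF (torParamF K e (1, ν)) 24 = ν ^ 2 := by
  have c0 : chevF4.cartan 0 24 = 0 := by decide
  have c1 : chevF4.cartan 1 24 = 0 := by decide
  have c2 : chevF4.cartan 2 24 = -1 := by decide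
  have c3 : chevF4.cartan 3 24 = 2 := by decide
  unfold chiF
  rw [c0, c1, c2, c3]
  simp [torParamF]

theorem chi25 (μ : Kˣ) : chiF (torParamF K e (μ, 1)) 25 = (μ ^ e) ^ (-2 : ℤ) * μ ^ (2 : ℤ) := by
  have c0 : chevF4.cartan 0 25 = 0 := by decide
  have c1 : chevF4.cartan 1 25 = -2 := by decide
  have c2 : chevF4.cartan 2 25 = 2 := by decide
  have c3 : chevF4.cartan 3 25 = -1 := by decide
  unfold chiF
  rw [c0, c1, c2, c3]
  simp [torParamF]

theorem chi28 (μ : Kˣ) : chiF (torParamF K e (μ, 1)) 28 = μ := by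
  have c0 : chevF4.cartan 0 28 = -1 := by decide
  have c1 : chevF4.cartan 1 28 = 0 := by decide
  have c2 : chevF4.cartan 2 28 = 1 := by decide
  have c3 : chevF4.cartan 3 28 = -1 := by decide
  unfold chiF
  rw [c0, c1, c2, c3]
  simp [torParamF]

/-- a diagonal element normalises every `rootClosure` -/
theorem diag_conj_rootClosure (h : GL chevF4.Idx K) (hh : h ∈ chevF4.diagonalSubgroup K) (R : ℕ → Prop)
    (hR : ∀ r, R r → r < 48) (x : GL chevF4.Idx K) (hx : x ∈ rootClosure chevF4 K R) :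
    h * x * h⁻¹ ∈ rootClosure chevF4 K R := by
  unfold rootClosure at hx
  induction hx using Subgroup.closure_induction with
  | mem x hx =>
    obtain ⟨r, t, hr, hx⟩ := hx
    rw [(envF4 K).hF.eq_xGL x r t hx]
    obtain ⟨c, _, hc⟩ := (envF4 K).hF.diag_conj h hh r (hR r hr)
    rw [hc t]
    exact (envF4 K).hF.xGL_mem_rootClosure R _ hr _
  | one => simp
  | mul x y _ _ hx hy =>
    have : h * (x * y) * h⁻¹ = (h * x * h⁻¹) * (h * y * h⁻¹) := by group
    rw [this]; exact Subgroup.mul_mem _ hx hy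
  | inv x _ hx =>
    have : h * x⁻¹ * h⁻¹ = (h * x * h⁻¹)⁻¹ := by group
    rw [this]; exact Subgroup.inv_mem _ hx

theorem s1_back_check : ∀ r < 48, (r = 14 ∨ r = 23) → rhoW chevF4 [0, 3] r ∈ [33, 24] := by decide +kernel
theorem s2_back_check : ∀ r < 48, (r = 20 ∨ r = 22 ∨ r = 19 ∨ r = 17) →
    rhoW chevF4 [1, 2, 1, 2] r ∈ [27, 25, 28, 30] := by decide +kernel

theorem pGL_zero (he : e ≠ 0) : pGL K e 0 = 1 := by
  rw [pGL_eq, zero_pow he]
  simp [xF, (envF4 K).hF.xGL_zero]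

theorem bGL_zero (he : e ≠ 0) : bGL K e 0 0 = 1 := by
  rw [bGL_eq, zero_pow he, zero_pow (by omega), zero_pow (by omega), add_zero]
  simp [xF, (envF4 K).hF.xGL_zero]

section leaves

variable {S : SigmaF K e} (L : LeavesF S) (C : CountLeavesF S) (T : TorLeavesF S)
include L C T

/-- the large Ree group is perfect, given torus elements acting without fixed points -/
theorem perfect_of_fpf [Finite K] (ν μ : Kˣ) (hν : ((ν ^ 2 : Kˣ) : K) ≠ 1)
    (hμ25 : (((μ ^ e) ^ (-2 : ℤ) * μ ^ (2 : ℤ) : Kˣ) : K) ≠ 1) (hμ : ((μ : Kˣ) : K) ≠ 1) :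
    commutator ↥(twistedF4 K e) = ⊤ := by
  classical
  set C0 : Subgroup (GL chevF4.Idx K) := (commutator ↥(twistedF4 K e)).map (twistedF4 K e).subtype with hC0
  have hCnorm : ∀ g ∈ twistedF4 K e, ∀ c ∈ C0, g * c * g⁻¹ ∈ C0 := by
    rintro g hg c ⟨c', hc', rfl⟩
    refine ⟨⟨g, hg⟩ * c' * ⟨g, hg⟩⁻¹, ?_, ?_⟩
    · exact (inferInstance : (commutator ↥(twistedF4 K e)).Normal).conj_mem c' hc' ⟨g, hg⟩
    · simp only [Subgroup.subtype_apply, Subgroup.coe_mul, Subgroup.coe_inv]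
  have hcomm : ∀ a ∈ twistedF4 K e, ∀ b ∈ twistedF4 K e, a * b * a⁻¹ * b⁻¹ ∈ C0 := by
    intro a ha b hb
    refine ⟨(⟨a, ha⟩ : ↥(twistedF4 K e)) * ⟨b, hb⟩ * (⟨a, ha⟩ : ↥(twistedF4 K e))⁻¹ *
      (⟨b, hb⟩ : ↥(twistedF4 K e))⁻¹, ?_, ?_⟩
    · rw [commutator_def]
      have := Subgroup.commutator_mem_commutator (g₁ := (⟨a, ha⟩ : ↥(twistedF4 K e))) (g₂ := ⟨b, hb⟩)
        (Subgroup.mem_top _) (Subgroup.mem_top _)
      rwa [commutatorElement_def] at this
    · simp only [Subgroup.subtype_apply, Subgroup.coe_mul, Subgroup.coe_inv]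
  -- the first class
  have hQ1 : rootClosure chevF4 K (· ∈ [33, 24]) ⊓ twistedF4 K e ≤ C0 := by
    set h := torF K e (1, ν) with hh
    have hhG : h ∈ twistedF4 K e := T.tor_mem _
    have hhH : h ∈ chevF4.diagonalSubgroup K := torF_mem_diag e _
    apply le_of_fpf (twistedF4 K e) C0 _ hcomm inf_le_right h hhG
    · rintro x ⟨hx1, hx2⟩
      exact ⟨diag_conj_rootClosure h hhH _ (by intro r hr; simp at hr; omega) x hx1,
        Subgroup.mul_mem _ (Subgroup.mul_mem _ hhG hx2) (Subgroup.inv_mem _ hhG)⟩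
    · rintro z ⟨hz1, hz2⟩ hz
      obtain ⟨t, rfl⟩ := C.fix_J1 z hz1 (C.G1_fix z hz2)
      have e1 : pGL K e t = (envF4 K).hF.wordGL [(33, t ^ e), (24, t)] := rfl
      have e2 : h = torusHom chevF4 4 K (torParamF K e (1, ν)) := rfl
      rw [e1, e2, torusHom_conj_word _ _ (by
        intro q hq
        simp only [List.mem_cons, List.not_mem_nil, or_false] at hq
        rcases hq with rfl | rfl <;> norm_num)] at hz
      obtain ⟨_, h2⟩ := wordJ1_inj _ _ _ _ hz
      rw [chi24] at h2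
      have ht : t = 0 := by
        by_contra hne
        exact hν (mul_right_cancel₀ hne (by rw [h2, one_mul]))
      rw [ht, pGL_zero L.e_ne]
  have hQ2 : rootClosure chevF4 K (· ∈ [27, 25, 28, 30]) ⊓ twistedF4 K e ≤ C0 := by
    set h := torF K e (μ, 1) with hh
    have hhG : h ∈ twistedF4 K e := T.tor_mem _
    have hhH : h ∈ chevF4.diagonalSubgroup K := torF_mem_diag e _
    apply le_of_fpf (twistedF4 K e) C0 _ hcomm inf_le_right h hhG
    · rintro x ⟨hx1, hx2⟩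
      exact ⟨diag_conj_rootClosure h hhH _ (by intro r hr; simp at hr; omega) x hx1,
        Subgroup.mul_mem _ (Subgroup.mul_mem _ hhG hx2) (Subgroup.inv_mem _ hhG)⟩
    · rintro z ⟨hz1, hz2⟩ hz
      obtain ⟨t, u, rfl⟩ := C.fix_J2 z hz1 (C.G1_fix z hz2)
      have e1 : bGL K e t u =
          (envF4 K).hF.wordGL [(27, t ^ e), (25, t), (28, t ^ (e + 1) + u), (30, u ^ (2 * e))] := rfl
      have e2 : h = torusHom chevF4 4 K (torParamF K e (μ, 1)) := rfl
      rw [e1, e2, torusHom_conj_word _ _ (by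
        intro q hq
        simp only [List.mem_cons, List.not_mem_nil, or_false] at hq
        rcases hq with rfl | rfl | rfl | rfl <;> norm_num)] at hz
      obtain ⟨_, h2, h3, _⟩ := wordJ2_inj _ _ _ _ _ _ _ _ hz
      rw [chi25] at h2
      rw [chi28] at h3
      have ht : t = 0 := by
        by_contra hne
        exact hμ25 (mul_right_cancel₀ hne (by rw [h2, one_mul]))
      rw [ht, zero_pow (by omega), zero_add] at h3
      have hu : u = 0 := by
        by_contra hne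
        exact hμ (mul_right_cancel₀ hne (by rw [h3, one_mul]))
      rw [ht, hu, bGL_zero L.e_ne]
  have hp : ∀ t : K, pGL K e t ∈ C0 := fun t => hQ1 ⟨by
    rw [pGL_eq]
    exact Subgroup.mul_mem _ ((envF4 K).hF.xGL_mem_rootClosure _ _ (by simp) _)
      (Subgroup.mul_mem _ ((envF4 K).hF.xGL_mem_rootClosure _ _ (by simp) _) (Subgroup.one_mem _)),
    pGL_mem_twisted t⟩
  have hb : ∀ t u : K, bGL K e t u ∈ C0 := fun t u => hQ2 ⟨by
    rw [bGL_eq]
    exact Subgroup.mul_mem _ ((envF4 K).hF.xGL_mem_rootClosure _ _ (by simp) _)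
      (Subgroup.mul_mem _ ((envF4 K).hF.xGL_mem_rootClosure _ _ (by simp) _)
      (Subgroup.mul_mem _ ((envF4 K).hF.xGL_mem_rootClosure _ _ (by simp) _)
      (Subgroup.mul_mem _ ((envF4 K).hF.xGL_mem_rootClosure _ _ (by simp) _) (Subgroup.one_mem _)))),
    bGL_mem_twisted t u⟩
  have hpn : ∀ t : K, pGLn K e t ∈ C0 := by
    intro t
    have h1 := nW_conj_mem (K := K) [0, 3] (by decide) (fun r => r = 14 ∨ r = 23) (· ∈ [33, 24])
      s1_back_check (by rintro r (rfl | rfl) <;> norm_num) (pGLn K e t) (by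
        rw [pGLn_eq]
        exact Subgroup.mul_mem _ ((envF4 K).hF.xGL_mem_rootClosure _ _ (Or.inl rfl) _)
          (Subgroup.mul_mem _ ((envF4 K).hF.xGL_mem_rootClosure _ _ (Or.inr rfl) _) (Subgroup.one_mem _)))
    have h2 : s1F K * pGLn K e t * (s1F K)⁻¹ ∈ twistedF4 K e :=
      Subgroup.mul_mem _ (Subgroup.mul_mem _ L.s1F_mem (pGLn_mem_twisted t)) (Subgroup.inv_mem _ L.s1F_mem)
    have h3 := hQ1 ⟨h1, h2⟩
    have e2 : pGLn K e t = (s1F K)⁻¹ * (s1F K * pGLn K e t * (s1F K)⁻¹) * (s1F K)⁻¹⁻¹ := by group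
    rw [e2]
    exact hCnorm _ (Subgroup.inv_mem _ L.s1F_mem) _ h3
  have hbn : ∀ t u : K, bGLn K e t u ∈ C0 := by
    intro t u
    have h1 := nW_conj_mem (K := K) [1, 2, 1, 2] (by decide) (fun r => r = 20 ∨ r = 22 ∨ r = 19 ∨ r = 17)
      (· ∈ [27, 25, 28, 30]) s2_back_check (by rintro r (rfl | rfl | rfl | rfl) <;> norm_num)
      (bGLn K e t u) (by
        rw [bGLn_eq]
        exact Subgroup.mul_mem _ ((envF4 K).hF.xGL_mem_rootClosure _ _ (Or.inl rfl) _)
          (Subgroup.mul_mem _ ((envF4 K).hF.xGL_mem_rootClosure _ _ (Or.inr (Or.inl rfl)) _)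
          (Subgroup.mul_mem _ ((envF4 K).hF.xGL_mem_rootClosure _ _ (Or.inr (Or.inr (Or.inl rfl))) _)
          (Subgroup.mul_mem _ ((envF4 K).hF.xGL_mem_rootClosure _ _ (Or.inr (Or.inr (Or.inr rfl))) _)
          (Subgroup.one_mem _)))))
    have h2 : s2F K * bGLn K e t u * (s2F K)⁻¹ ∈ twistedF4 K e :=
      Subgroup.mul_mem _ (Subgroup.mul_mem _ L.s2F_mem (bGLn_mem_twisted t u)) (Subgroup.inv_mem _ L.s2F_mem)
    have h3 := hQ2 ⟨h1, h2⟩
    have e2 : bGLn K e t u = (s2F K)⁻¹ * (s2F K * bGLn K e t u * (s2F K)⁻¹) * (s2F K)⁻¹⁻¹ := by group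
    rw [e2]
    exact hCnorm _ (Subgroup.inv_mem _ L.s2F_mem) _ h3
  have hle : twistedF4 K e ≤ C0 := by
    rw [twistedF4_eq_closure, Subgroup.closure_le]
    rintro g ((⟨t, rfl⟩ | ⟨t, u, rfl⟩) | (⟨t, rfl⟩ | ⟨t, u, rfl⟩))
    · exact hp t
    · exact hb t u
    · exact hpn t
    · exact hbn t u
  rw [eq_top_iff]
  rintro g _
  obtain ⟨c, hc, e1⟩ := hle g.2
  have : c = g := Subtype.ext e1
  rw [← this]
  exact hc

end leaves

end Cfsg.Agent.Lib.Helper33.F4
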