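import Cfsg.Agent.Lib.Helper33.F4Perf
import Cfsg.Agent.Lib.Helper33.TwSimple

/-!
The large Ree groups `²F₄(2 ^ (2 m + 1))`, `m ≥ 1`, are simple (Tits' criterion).
-/

set_option autoImplicit false
set_option linter.unusedSimpArgs false
set_option linter.unusedVariables false
set_option maxRecDepth 100000

namespace Cfsg.Agent.Lib.Helper33.F4

open Cfsg.Lie Cfsg.Agent.Lib.Helper24 Cfsg.Agent.Lib.Helper33.TwBN

variable {K : Type*} [Field K] {e : ℕ}

theorem comm_check : rhoW chevF4 ([0, 3] ++ [1, 2, 1, 2]) 33 ≠ rhoW chevF4 ([1, 2, 1, 2] ++ [0, 3]) 33 := by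
  decide +kernel

/-- Tits' criterion for the large Ree group -/
theorem LeavesF.simple_of_perfect {S : SigmaF K e} (L : LeavesF S)
    (hperf : commutator ↥(twistedF4 K e) = ⊤) :
    IsSimpleGroup ↥(twistedF4 K e) ∧ ¬ IsMulCommutative ↥(twistedF4 K e) := by
  obtain ⟨P, hB, hN, hS⟩ := L.exists_bnPair
  have hs1H : s1F K ∉ chevF4.diagonalSubgroup K := fun h =>
    s1_ne_check ((nW_mem_diag_iff (envF4 K) [0, 3] (by decide)).1 h)
  have hnt : Nontrivial ↥(twistedF4 K e) := by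
    refine ⟨⟨⟨s1F K, L.s1F_mem⟩, 1, ?_⟩⟩
    intro h
    apply hs1H
    have h1 : s1F K = 1 := congrArg Subtype.val h
    rw [h1]
    exact Subgroup.one_mem _
  have hmemB : ∀ x : ↥(twistedF4 K e), x ∈ P.B ↔ (x : GL chevF4.Idx K) ∈ chevF4.borelSubgroup K := by
    intro x
    rw [hB, Subgroup.mem_subgroupOf, Subgroup.mem_inf]
    exact ⟨fun h => h.1, fun h => ⟨h, x.2⟩⟩
  have hirr : P.Irreducible := by
    apply irreducible_of_chain P [⟨s1F K, L.s1F_mem⟩, ⟨s2F K, L.s2F_mem⟩]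
    · intro s
      rw [hS]
      constructor
      · intro hs
        rcases hs with h1 | h1
        · exact List.mem_cons.mpr (Or.inl (Subtype.ext h1))
        · exact List.mem_cons.mpr (Or.inr (List.mem_singleton.mpr (Subtype.ext h1)))
      · intro hs
        rcases List.mem_cons.mp hs with h1 | h1
        · rw [h1]; exact Or.inl rfl
        · rw [List.mem_singleton.mp h1]; exact Or.inr rfl
    · intro q hq
      simp only [List.tail_cons, List.zip_cons_cons, List.zip_nil_right, List.mem_singleton] at hq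
      rw [hq, hmemB]
      simp only [Subgroup.coe_mul, Subgroup.coe_inv]
      exact comm_not_borel_tw (envF4 K) [0, 3] [1, 2, 1, 2] (by decide) (by decide) 33 (by decide) comm_check
  have hsolv : Group.IsSolvable P.B := by
    rw [hB]; exact isSolvable_borel_inf (envF4 K).hF _
  have hcore' : P.B.normalCore = ⊥ := by rw [hB]; exact L.core_eq_bot
  refine ⟨Cfsg.Agent.S0319.result P hirr hsolv hperf hcore', ?_⟩
  intro hcomm
  have : commutator ↥(twistedF4 K e) = ⊥ := by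
    rw [commutator_eq_bot_iff_center_eq_top]
    rw [eq_top_iff]
    intro x _
    rw [Subgroup.mem_center_iff]
    intro y
    exact (hcomm.is_comm.comm y x)
  rw [this] at hperf
  exact bot_ne_top hperf

/-- the large Ree groups `²F₄(2 ^ (2 m + 1))`, `m ≥ 1`, are perfect -/
theorem perfect_F4 [Fintype K] {m : ℕ} (hK : Fintype.card K = 2 ^ (2 * m + 1)) (hm : 1 ≤ m) :
    commutator ↥(twistedF4 K (2 ^ m)) = ⊤ := by
  obtain ⟨S, L, C, T⟩ := exists_leavesF hK
  obtain ⟨μ, hμ⟩ := IsCyclic.exists_ofOrder_eq_natCard (α := Kˣ)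
  rw [Nat.card_units, Nat.card_eq_fintype_card, hK] at hμ
  have h2m : 2 ^ m ≥ 2 := by
    calc 2 ^ m ≥ 2 ^ 1 := Nat.pow_le_pow_right (by norm_num) hm
      _ = 2 := by norm_num
  have hq : 2 ^ (2 * m + 1) = 2 * (2 ^ m * 2 ^ m) := by ring
  have hbig : 2 * 2 ^ m - 2 < 2 ^ (2 * m + 1) - 1 := by
    rw [hq]
    have : 2 ^ m * 2 ^ m ≥ 2 * 2 ^ m := Nat.mul_le_mul_right _ h2m
    omega
  have hord3 : 2 < orderOf μ := by
    rw [hμ, hq]
    have : 2 ^ m * 2 ^ m ≥ 2 * 2 := Nat.mul_le_mul h2m h2m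
    omega
  have h1 : μ ^ 2 ≠ 1 := pow_ne_one_of_lt_orderOf (by norm_num) hord3
  have h3 : μ ≠ 1 := by
    intro h
    rw [h, orderOf_one] at hord3
    omega
  have h2 : (μ ^ 2 ^ m) ^ (-2 : ℤ) * μ ^ (2 : ℤ) ≠ 1 := by
    intro h
    have e1 : μ ^ (2 : ℤ) = (μ ^ 2 ^ m) ^ (2 : ℤ) := by
      have := congrArg (fun x => (μ ^ 2 ^ m) ^ (2 : ℤ) * x) h
      simp only [mul_one] at this
      rw [← this, ← mul_assoc, ← zpow_add]
      simp
    have e2 : μ ^ 2 = μ ^ (2 ^ m * 2) := by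
      have := e1
      rw [zpow_ofNat, zpow_ofNat, ← pow_mul] at this
      exact this
    have e3 : μ ^ (2 * 2 ^ m - 2) = 1 := by
      have e4 : 2 ^ m * 2 = (2 * 2 ^ m - 2) + 2 := by omega
      rw [e4, pow_add] at e2
      exact (mul_eq_right.mp e2.symm)
    exact pow_ne_one_of_lt_orderOf (by omega) (by rw [hμ]; exact hbig) e3
  exact perfect_of_fpf L C T μ μ (fun h => h1 (Units.ext (by simpa using h)))
    (fun h => h2 (Units.ext (by simpa using h))) (fun h => h3 (Units.ext (by simpa using h)))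

/-- the large Ree groups `²F₄(2 ^ (2 m + 1))`, `m ≥ 1`, are simple -/
theorem simple_F4 [Fintype K] {m : ℕ} (hK : Fintype.card K = 2 ^ (2 * m + 1)) (hm : 1 ≤ m) :
    IsSimpleGroup ↥(twistedF4 K (2 ^ m)) ∧ ¬ IsMulCommutative ↥(twistedF4 K (2 ^ m)) := by
  obtain ⟨S, L, _, _⟩ := exists_leavesF hK
  exact L.simple_of_perfect (perfect_F4 hK hm)

end Cfsg.Agent.Lib.Helper33.F4
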