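import Mathlib

/-! K-GS leaf K3 (S4840): the eigenspace trick for a quaternion action on an `F_3`-space. -/

set_option autoImplicit false

namespace Cfsg.Agent.Lib.Helper33.GS

universe u

variable {Γ V : Type u} [Group Γ] [Finite Γ] [CommGroup V] [Finite V]

/-- K3: `V` of exponent 3, `i² = j² = -1`, `i j = - j i`, `U = {v | i v * j v = v}`: `|V| = |U|²`. -/
theorem card_eq_sq_of_quaternion_action (hV3 : ∀ v : V, v ^ 3 = 1) (i j : MulAut V)
    (hi : ∀ v : V, i (i v) = v⁻¹) (hj : ∀ v : V, j (j v) = v⁻¹)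
    (hij : ∀ v : V, i (j v) = (j (i v))⁻¹)
    (U : Subgroup V) (hU : ∀ v : V, v ∈ U ↔ i v * j v = v) :
    Nat.card V = Nat.card U * Nat.card U := by
  have hji : ∀ v : V, j (i v) = (i (j v))⁻¹ := fun v => by rw [hij, inv_inv]
  have hinv3 : ∀ v : V, v⁻¹ * v⁻¹ = v := by
    intro v
    have h3 := hV3 v
    rw [pow_succ, pow_two] at h3
    calc v⁻¹ * v⁻¹ = v⁻¹ * v⁻¹ * (v * v * v) := by rw [h3, mul_one]
      _ = v := by group
  set s : V → V := fun v => i v * j v with hs
  have hs_mul : ∀ v w, s (v * w) = s v * s w := by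
    intro v w
    simp only [hs, map_mul]
    exact mul_mul_mul_comm _ _ _ _
  have hs_inv : ∀ v, s v⁻¹ = (s v)⁻¹ := by
    intro v
    simp only [hs, map_inv, mul_inv]
  have hss : ∀ v, s (s v) = v := by
    intro v
    show i (i v * j v) * j (i v * j v) = v
    rw [map_mul, map_mul, hi, hj, hij]
    have e : v⁻¹ * (j (i v))⁻¹ * (j (i v) * v⁻¹) = v⁻¹ * v⁻¹ := by group
    rw [e, hinv3]
  have hks : ∀ v, s (i (j v)) = (i (j (s v)))⁻¹ := by
    intro v
    have e1 : i (i (j v)) = (j v)⁻¹ := hi (j v)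
    have e2 : j (i (j v)) = i v := by rw [hji, hj, map_inv, inv_inv]
    have e3 : i (j (i v)) = j v := by rw [hij, hi, map_inv, inv_inv]
    have e4 : i (j (j v)) = (i v)⁻¹ := by rw [hj, map_inv]
    show i (i (j v)) * j (i (j v)) = (i (j (i v * j v)))⁻¹
    rw [e1, e2, map_mul, map_mul, e3, e4, mul_inv, inv_inv]
  let f : V →* V := MonoidHom.id V * (i.toMonoidHom * j.toMonoidHom)
  have hf : ∀ v, f v = v * s v := fun v => rfl
  have hrange : f.range = U := by
    ext u
    rw [MonoidHom.mem_range, hU]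
    constructor
    · rintro ⟨v, rfl⟩
      rw [hf]
      show s (v * s v) = v * s v
      rw [hs_mul, hss, mul_comm]
    · intro hu
      have hsu : s u = u := hu
      refine ⟨u⁻¹, ?_⟩
      rw [hf, hs_inv, hsu, hinv3]
  have hker : Nat.card f.ker = Nat.card U := by
    symm
    apply Nat.card_congr
    refine Equiv.subtypeEquiv ((j.trans i).toEquiv) ?_
    intro v
    show v ∈ U ↔ i (j v) ∈ f.ker
    rw [MonoidHom.mem_ker, hf, hU, hks]
    constructor
    · intro h
      have hsv : s v = v := h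
      rw [hsv, mul_inv_cancel]
    · intro h
      have h1 : i (j v) = i (j (s v)) := mul_inv_eq_one.mp h
      exact (j.injective (i.injective h1)).symm
  have h1 : Nat.card f.ker * f.ker.index = Nat.card V := Subgroup.card_mul_index _
  rw [Subgroup.index_ker, hrange, hker] at h1
  exact h1.symm

end Cfsg.Agent.Lib.Helper33.GS
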