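import Mathlib
import Cfsg.Prelude.Def_Characters
import Cfsg.Agent.Lib.Helper04.IndFun
import Cfsg.Agent.Lib.Helper05.CosetSum

/-!
# Induced matrix representations over a field (helper33)

For a subgroup `E` of a finite group `G` and a matrix representation `R : E →* Matrix (Fin n) (Fin n) F`,
`indMat E R : G →* Matrix ((G ⧸ E) × Fin n) ((G ⧸ E) × Fin n) F` is the induced (block monomial)
matrix representation; its trace is the class function induced from the trace of `R`
(`indMat_trace_eq_indFun`).  This generalizes `Helper83.monoMat` (the case `n = 1`).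
-/

set_option autoImplicit false

namespace Cfsg.Agent.Lib.Helper33.IndMat

section Ext

variable {F : Type*} [Field F] {G : Type*} [Group G] (E : Subgroup G) {n : ℕ}
  (R : E →* Matrix (Fin n) (Fin n) F)

/-- Extension by zero of a matrix representation of a subgroup. -/
noncomputable def extM : G → Matrix (Fin n) (Fin n) F := by
  classical
  exact fun g => if h : g ∈ E then R ⟨g, h⟩ else 0

theorem extM_of_mem {g : G} (h : g ∈ E) : extM E R g = R ⟨g, h⟩ := by
  unfold extM; rw [dif_pos h]

theorem extM_of_not_mem {g : G} (h : g ∉ E) : extM E R g = 0 := by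
  unfold extM; rw [dif_neg h]

theorem extM_one : extM E R 1 = 1 := by
  rw [extM_of_mem E R E.one_mem]
  exact map_one R

theorem extM_mul_left {x : G} (hx : x ∈ E) (y : G) :
    extM E R (x * y) = extM E R x * extM E R y := by
  by_cases hy : y ∈ E
  · rw [extM_of_mem E R (E.mul_mem hx hy), extM_of_mem E R hx, extM_of_mem E R hy, ← map_mul]
    rfl
  · have hxy : x * y ∉ E := fun h => hy (by simpa using E.mul_mem (E.inv_mem hx) h)
    rw [extM_of_not_mem E R hxy, extM_of_not_mem E R hy, mul_zero]

theorem extM_mul_right (x : G) {y : G} (hy : y ∈ E) :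
    extM E R (x * y) = extM E R x * extM E R y := by
  by_cases hx : x ∈ E
  · exact extM_mul_left E R hx y
  · have hxy : x * y ∉ E := fun h => hx (by simpa using E.mul_mem h (E.inv_mem hy))
    rw [extM_of_not_mem E R hxy, extM_of_not_mem E R hx, zero_mul]

theorem extM_trace_conj (y : G) {z : G} (hz : z ∈ E) :
    (extM E R (z⁻¹ * y * z)).trace = (extM E R y).trace := by
  rw [extM_mul_right E R _ hz, extM_mul_left E R (E.inv_mem hz), Matrix.trace_mul_comm,
    ← mul_assoc, ← extM_mul_left E R hz, mul_inv_cancel, extM_one, one_mul]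

variable [Fintype (G ⧸ E)] [DecidableEq (G ⧸ E)]

/-- The induced (block monomial) matrix representation. -/
noncomputable def indMat : G →* Matrix ((G ⧸ E) × Fin n) ((G ⧸ E) × Fin n) F where
  toFun g := Matrix.of fun a b =>
    extM E R ((Quotient.out a.1)⁻¹ * g * Quotient.out b.1) a.2 b.2
  map_one' := by
    ext ⟨q, i⟩ ⟨q', j⟩
    rw [Matrix.of_apply, mul_one, Matrix.one_apply]
    by_cases h : q = q'
    · subst h
      simp only [inv_mul_cancel, extM_one, Matrix.one_apply, Prod.mk.injEq, true_and]
    · rw [if_neg (fun hh => h (Prod.mk.inj hh).1), extM_of_not_mem]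
      · rfl
      intro hmem
      apply h
      have := (QuotientGroup.eq (s := E)).mpr hmem
      rwa [QuotientGroup.out_eq', QuotientGroup.out_eq'] at this
  map_mul' g h := by
    ext ⟨q, i⟩ ⟨q'', l⟩
    rw [Matrix.mul_apply, Matrix.of_apply, Fintype.sum_prod_type]
    set q₀ : G ⧸ E := ((g⁻¹ * Quotient.out q : G) : G ⧸ E) with hq₀
    have hx : (Quotient.out q)⁻¹ * g * Quotient.out q₀ ∈ E := by
      have h1 : ((g⁻¹ * Quotient.out q : G) : G ⧸ E) = ((Quotient.out q₀ : G) : G ⧸ E) := by
        rw [QuotientGroup.out_eq']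
      have := (QuotientGroup.eq (s := E)).mp h1
      simpa [mul_assoc] using this
    rw [Finset.sum_eq_single q₀]
    · simp only [Matrix.of_apply]
      have key : (Quotient.out q)⁻¹ * (g * h) * Quotient.out q'' =
          ((Quotient.out q)⁻¹ * g * Quotient.out q₀) *
            ((Quotient.out q₀)⁻¹ * h * Quotient.out q'') := by group
      rw [key, extM_mul_left E R hx, Matrix.mul_apply]
    · intro q' _ hne
      simp only [Matrix.of_apply]
      rw [extM_of_not_mem]
      · simp
      intro hmem
      apply hne
      have h1 : (g⁻¹ * Quotient.out q)⁻¹ * Quotient.out q' ∈ E := by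
        simpa [mul_assoc] using hmem
      have := (QuotientGroup.eq (s := E)).mpr h1
      rw [QuotientGroup.out_eq'] at this
      exact this.symm
    · intro h0
      exact absurd (Finset.mem_univ q₀) h0

theorem indMat_apply (g : G) (a b : (G ⧸ E) × Fin n) :
    indMat E R g a b = extM E R ((Quotient.out a.1)⁻¹ * g * Quotient.out b.1) a.2 b.2 := rfl

theorem indMat_trace (g : G) :
    (indMat E R g).trace =
      ∑ q : G ⧸ E, (extM E R ((Quotient.out q)⁻¹ * g * Quotient.out q)).trace := by
  unfold Matrix.trace
  rw [Fintype.sum_prod_type]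
  rfl

end Ext

section Ind

variable {F : Type*} [Field F] [Algebra F ℂ] {G : Type*} [Group G] [Fintype G]
  (E : Subgroup G) {n : ℕ} (R : E →* Matrix (Fin n) (Fin n) F)

theorem extendByZero_eq_extM (y : G) :
    Cfsg.extendByZero E (fun e => algebraMap F ℂ (R e).trace) y =
      algebraMap F ℂ (extM E R y).trace := by
  by_cases hy : y ∈ E
  · rw [Cfsg.Agent.Lib.Helper04.extendByZero_apply_of_mem E _ y hy, extM_of_mem E R hy]
  · rw [Cfsg.Agent.Lib.Helper04.extendByZero_apply_not_mem E _ y hy, extM_of_not_mem E R hy,
      Matrix.trace_zero, map_zero]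

variable [Fintype (G ⧸ E)] [DecidableEq (G ⧸ E)]

/-- The trace of the induced matrix representation is the induced class function. -/
theorem indMat_trace_eq_indFun (g : G) :
    algebraMap F ℂ ((indMat E R g).trace) =
      Cfsg.indFun E (fun e => algebraMap F ℂ (R e).trace) g := by
  rw [Cfsg.Agent.Lib.Helper04.indFun_apply]
  have h1 : ∑ x : G, Cfsg.extendByZero E (fun e => algebraMap F ℂ (R e).trace) (x⁻¹ * g * x) =
      Nat.card E • ∑ q : G ⧸ E,
        algebraMap F ℂ (extM E R ((Quotient.out q)⁻¹ * g * Quotient.out q)).trace := by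
    rw [← Cfsg.Agent.Lib.Helper05.sum_eq_card_nsmul_sum_out E
      (fun x => algebraMap F ℂ (extM E R (x⁻¹ * g * x)).trace)]
    · apply Finset.sum_congr rfl
      intro x _
      rw [extendByZero_eq_extM]
    · intro x z hz
      have : (x * z)⁻¹ * g * (x * z) = z⁻¹ * (x⁻¹ * g * x) * z := by group
      rw [this, extM_trace_conj E R _ hz]
  rw [h1, indMat_trace, map_sum, nsmul_eq_mul, ← mul_assoc, inv_mul_cancel₀, one_mul]
  exact_mod_cast Nat.card_pos.ne'

/-- The induced representation with index type `Fin m`: there are `m` and a multiplicative family of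
`m × m` matrices over `F` whose trace is the induced class function. -/
theorem exists_fin_indMat :
    ∃ (m : ℕ) (Y : G → Matrix (Fin m) (Fin m) F), Y 1 = 1 ∧ (∀ g h, Y (g * h) = Y g * Y h) ∧
      ∀ g, algebraMap F ℂ (Y g).trace = Cfsg.indFun E (fun e => algebraMap F ℂ (R e).trace) g := by
  classical
  let e : Fin (Fintype.card ((G ⧸ E) × Fin n)) ≃ (G ⧸ E) × Fin n :=
    (Fintype.equivFin ((G ⧸ E) × Fin n)).symm
  refine ⟨Fintype.card ((G ⧸ E) × Fin n), fun g => (indMat E R g).submatrix e e, ?_, ?_, ?_⟩
  · show ((indMat E R) 1).submatrix e e = 1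
    rw [map_one, Matrix.submatrix_one_equiv]
  · intro g h
    show ((indMat E R) (g * h)).submatrix e e =
      ((indMat E R) g).submatrix e e * ((indMat E R) h).submatrix e e
    rw [map_mul, Matrix.submatrix_mul_equiv]
  · intro g
    rw [← indMat_trace_eq_indFun]
    congr 1
    unfold Matrix.trace
    simp only [Matrix.diag_apply, Matrix.submatrix_apply]
    exact Equiv.sum_comp e (fun b => indMat E R g b b)

end Ind

end Cfsg.Agent.Lib.Helper33.IndMat
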