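import Cfsg.Agent.Lib.Helper33.LTOFix

/-!
# S2363: the classical families (pure ℕ); the three product bounds are hypotheses here
-/

set_option autoImplicit false

namespace Cfsg.Agent.Lib.Helper33.LTO

open Finset

/-! ### PSL -/

theorem psl_prod (q k : ℕ) :
    ∏ i : Fin (k + 2), (q ^ (k + 2) - q ^ (i : ℕ)) =
      q ^ (∑ i ∈ range (k + 2), i) * ((q - 1) * ∏ j ∈ range (k + 1), (q ^ (j + 2) - 1)) := by
  rw [Fin.prod_univ_eq_prod_range (fun i => q ^ (k + 2) - q ^ i) (k + 2)]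
  have h1 : ∀ i ∈ range (k + 2), q ^ (k + 2) - q ^ i = q ^ i * (q ^ (k + 2 - 1 - i + 1) - 1) := by
    intro i hi
    have hi' : i < k + 2 := mem_range.mp hi
    have h2 : q ^ (k + 2) = q ^ i * q ^ (k + 2 - 1 - i + 1) := by
      rw [← pow_add]; congr 1; omega
    rw [h2, Nat.mul_sub, mul_one]
  rw [prod_congr rfl h1, prod_mul_distrib, prod_pow_eq_pow_sum]
  congr 1
  rw [Finset.prod_range_reflect (fun j => q ^ (j + 1) - 1) (k + 2), prod_range_succ']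
  rw [mul_comm]
  simp

theorem psl {p : ℕ} (hp : p.Prime) {x q f k : ℕ} (hx : x ≠ 0) (hq : q = p ^ f) (hf : f ≠ 0)
    (h : Nat.gcd (k + 2) (q - 1) * ((q - 1) * x) = ∏ i : Fin (k + 2), (q ^ (k + 2) - q ^ (i : ℕ)))
    (hL : ∏ j ∈ range (k + 1), (q ^ (j + 2) - 1) < q ^ ((∑ i ∈ range (k + 2), i) + k + 1)) :
    x.factorization p = f * ∑ i ∈ range (k + 2), i ∧ x < p ^ (3 * x.factorization p) ∧
      (1 ≤ k → x ^ 3 < p ^ (8 * x.factorization p)) := by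
  obtain ⟨hpq, hq0, hq2⟩ := base hp hq hf
  rw [psl_prod q k] at h
  have hq1 : 0 < q - 1 := by omega
  have h' : x * Nat.gcd (k + 2) (q - 1) =
      q ^ (∑ i ∈ range (k + 2), i) * ∏ j ∈ range (k + 1), (q ^ (j + 2) - 1) := by
    apply Nat.eq_of_mul_eq_mul_left hq1
    calc (q - 1) * (x * Nat.gcd (k + 2) (q - 1))
        = Nat.gcd (k + 2) (q - 1) * ((q - 1) * x) := by ring
      _ = _ := h
      _ = _ := by ring
  have hS : k + 1 ≤ ∑ i ∈ range (k + 2), i := by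
    rw [sum_range_succ]; omega
  have hS2 : (∑ i ∈ range (k + 2), i) * 2 = (k + 2) * (k + 1) := by
    rw [Finset.sum_range_id_mul_two]; rfl
  obtain ⟨a, b, c⟩ := fam hp hx hq h'
    (not_dvd_of_dvd (not_dvd_sub_one hp hpq hq0) (Nat.gcd_dvd_right _ _))
    (not_dvd_prod hp (fun j _ => not_dvd_pow_sub_one hp hpq hq0 (by omega))) hL (by omega)
  refine ⟨a, b, fun hk => c ?_⟩
  nlinarith

/-! ### symplectic and orthogonal -/

/-- `d * x = q ^ (m^2) * P m` (Sp, Ω odd). -/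
theorem spLike {p : ℕ} (hp : p.Prime) {x q f m d : ℕ} (hx : x ≠ 0) (hq : q = p ^ f) (hf : f ≠ 0)
    (hm : 2 ≤ m) (hd : ¬ p ∣ d)
    (h : x * d = q ^ (m ^ 2) * ∏ i ∈ range m, (q ^ (2 * (i + 1)) - 1))
    (hL : ∏ i ∈ range m, (q ^ (2 * (i + 1)) - 1) < q ^ (m ^ 2 + m)) : Both p x := by
  obtain ⟨hpq, hq0, hq2⟩ := base hp hq hf
  refine both_of hp hx hq h hd
    (not_dvd_prod hp (fun j _ => not_dvd_pow_sub_one hp hpq hq0 (by omega))) hL ?_ ?_
  · nlinarith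
  · nlinarith

/-- `d * x = q ^ (m(m-1)) * (q^m - 1) * P (m-1)` (Ω plus), `m = j + 1`. -/
theorem plusLike {p : ℕ} (hp : p.Prime) {x q f j d : ℕ} (hx : x ≠ 0) (hq : q = p ^ f) (hf : f ≠ 0)
    (hj : 3 ≤ j) (hd : ¬ p ∣ d)
    (h : x * d = q ^ ((j + 1) * j) * (q ^ (j + 1) - 1) * ∏ i ∈ range j, (q ^ (2 * (i + 1)) - 1))
    (hL : ∏ i ∈ range j, (q ^ (2 * (i + 1)) - 1) < q ^ (j ^ 2 + j)) : Both p x := by
  obtain ⟨hpq, hq0, hq2⟩ := base hp hq hf
  refine both_of hp hx hq (N := (j + 1) * j)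
    (R := (q ^ (j + 1) - 1) * ∏ i ∈ range j, (q ^ (2 * (i + 1)) - 1)) (E := (j + 1) + (j ^ 2 + j))
    (by rw [h]; ring) hd
    (not_dvd_mul hp (not_dvd_pow_sub_one hp hpq hq0 (by omega))
      (not_dvd_prod hp (fun j _ => not_dvd_pow_sub_one hp hpq hq0 (by omega)))) ?_ ?_ ?_
  · rw [pow_add q (j + 1) (j ^ 2 + j)]
    exact lt_mul_lt (sub_one_lt hq2 _) hL
  · nlinarith
  · nlinarith

/-- `d * x = q ^ (m(m-1)) * (q^m + 1) * P (m-1)` (Ω minus), `m = j + 1`. -/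
theorem minusLike {p : ℕ} (hp : p.Prime) {x q f j d : ℕ} (hx : x ≠ 0) (hq : q = p ^ f) (hf : f ≠ 0)
    (hj : 3 ≤ j) (hd : ¬ p ∣ d)
    (h : x * d = q ^ ((j + 1) * j) * (q ^ (j + 1) + 1) * ∏ i ∈ range j, (q ^ (2 * (i + 1)) - 1))
    (hL : ∏ i ∈ range j, (q ^ (2 * (i + 1)) - 1) < q ^ (j ^ 2 + j)) : Both p x := by
  obtain ⟨hpq, hq0, hq2⟩ := base hp hq hf
  have hPpos : 0 < ∏ i ∈ range j, (q ^ (2 * (i + 1)) - 1) := by
    apply Finset.prod_pos
    intro i _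
    have : 2 ≤ q ^ (2 * (i + 1)) := le_trans hq2 (Nat.le_self_pow (by omega) q)
    omega
  refine both_of hp hx hq (N := (j + 1) * j)
    (R := (q ^ (j + 1) + 1) * ∏ i ∈ range j, (q ^ (2 * (i + 1)) - 1))
    (E := (j + 1 + 1) + (j ^ 2 + j))
    (by rw [h]; ring) hd
    (not_dvd_mul hp (not_dvd_pow_add_one hp hpq (by omega))
      (not_dvd_prod hp (fun j _ => not_dvd_pow_sub_one hp hpq hq0 (by omega)))) ?_ ?_ ?_
  · rw [pow_add q (j + 1 + 1) (j ^ 2 + j), mul_comm (q ^ (j + 1) + 1), mul_comm (q ^ (j + 1 + 1))]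
    exact lt_mul_le hL (add_one_le hq2 _) (add_one_pos _ _)
  · nlinarith
  · nlinarith

/-! ### PSU -/

theorem psu {p : ℕ} (hp : p.Prime) {x q f k : ℕ} (hx : x ≠ 0) (hq : q = p ^ f) (hf : f ≠ 0)
    (h : Nat.gcd (k + 3) (q + 1) * ((q + 1) * x) = q ^ ((k + 3) * (k + 3 - 1) / 2) *
      ∏ i ∈ range (k + 3), (if Even i then q ^ (i + 1) + 1 else q ^ (i + 1) - 1))
    (hL : ∏ i ∈ range (k + 2), (if Even (i + 1) then q ^ (i + 2) + 1 else q ^ (i + 2) - 1)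
      < q ^ ((k + 3) * (k + 2) / 2 + k + 2)) : Both p x := by
  obtain ⟨hpq, hq0, hq2⟩ := base hp hq hf
  rw [prod_range_succ'] at h
  have hq1 : 0 < q + 1 := Nat.succ_pos _
  have h' : x * Nat.gcd (k + 3) (q + 1) = q ^ ((k + 3) * (k + 2) / 2) *
      ∏ i ∈ range (k + 2), (if Even (i + 1) then q ^ (i + 2) + 1 else q ^ (i + 2) - 1) := by
    apply Nat.eq_of_mul_eq_mul_left hq1
    have e1 : k + 3 - 1 = k + 2 := rfl
    rw [e1] at h
    simp only [Even.zero, if_true, zero_add, pow_one] at h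
    have : ∀ i, (if Even (i + 1) then q ^ (i + 1 + 1) + 1 else q ^ (i + 1 + 1) - 1) =
        (if Even (i + 1) then q ^ (i + 2) + 1 else q ^ (i + 2) - 1) := fun i => rfl
    calc (q + 1) * (x * Nat.gcd (k + 3) (q + 1))
        = Nat.gcd (k + 3) (q + 1) * ((q + 1) * x) := by ring
      _ = _ := h
      _ = _ := by ring
  obtain ⟨t, ht⟩ : ∃ t, (k + 3) * (k + 2) = 2 * t := by
    have := Nat.even_mul_succ_self (k + 2)
    obtain ⟨t, ht⟩ := this
    exact ⟨t, by rw [mul_comm, ht]; ring⟩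
  have hN : (k + 3) * (k + 2) / 2 = t := by omega
  rw [hN] at h' hL
  have hdnd : ¬ p ∣ Nat.gcd (k + 3) (q + 1) :=
    not_dvd_of_dvd (not_dvd_add_one hp hpq) (Nat.gcd_dvd_right _ _)
  refine both_of hp hx hq h' hdnd ?_ hL ?_ ?_
  · apply not_dvd_prod hp
    intro i _
    split_ifs
    · exact not_dvd_pow_add_one hp hpq (by omega)
    · exact not_dvd_pow_sub_one hp hpq hq0 (by omega)
  · nlinarith
  · nlinarith

end Cfsg.Agent.Lib.Helper33.LTO
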