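import Mathlib

/-!
# S2363: arithmetic core (pure ℕ)

`fam`: if `n * d = q ^ N * R` with `q = p ^ f`, `p ∤ d`, `p ∤ R`, `R < q ^ E`, `E ≤ 2 N`, then the `p`-part of `n` is
`p ^ (f N)`, `n < p ^ (3 k)` and (if `3 E ≤ 5 N`) `n ^ 3 < p ^ (8 k)`.
-/

set_option autoImplicit false

namespace Cfsg.Agent.Lib.Helper33.LTO

open Finset

theorem fact_eq {p : ℕ} (hp : p.Prime) {n d a R : ℕ} (h : n * d = p ^ a * R)
    (hd : ¬ p ∣ d) (hR : ¬ p ∣ R) (hn : n ≠ 0) : n.factorization p = a := by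
  have hd0 : d ≠ 0 := fun h0 => hd (h0 ▸ dvd_zero p)
  have hR0 : R ≠ 0 := fun h0 => hR (h0 ▸ dvd_zero p)
  have h1 : (n * d).factorization p = n.factorization p + d.factorization p := by
    rw [Nat.factorization_mul hn hd0]; rfl
  have h2 : (p ^ a * R).factorization p = a + R.factorization p := by
    rw [Nat.factorization_mul (pow_ne_zero _ hp.ne_zero) hR0, Finsupp.add_apply,
      hp.factorization_pow]
    simp
  rw [Nat.factorization_eq_zero_of_not_dvd hd] at h1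
  rw [Nat.factorization_eq_zero_of_not_dvd hR] at h2
  rw [h] at h1
  omega

/-- The main arithmetic lemma. -/
theorem fam {p : ℕ} (hp : p.Prime) {n q f d N R E : ℕ} (hn : n ≠ 0) (hq : q = p ^ f)
    (h : n * d = q ^ N * R) (hd : ¬ p ∣ d) (hR : ¬ p ∣ R) (hRE : R < q ^ E) (h1 : E ≤ 2 * N) :
    n.factorization p = f * N ∧ n < p ^ (3 * n.factorization p) ∧
      (3 * E ≤ 5 * N → n ^ 3 < p ^ (8 * n.factorization p)) := by
  have hqN : q ^ N = p ^ (f * N) := by rw [hq, pow_mul]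
  have hfac : n.factorization p = f * N := by
    rw [hqN] at h
    exact fact_eq hp h hd hR hn
  have hq0 : 0 < q := by rw [hq]; exact pow_pos hp.pos _
  have hd0 : 0 < d := Nat.pos_of_ne_zero (fun h0 => hd (h0 ▸ dvd_zero p))
  have hle : n ≤ q ^ N * R := by
    rw [← h]; exact Nat.le_mul_of_pos_right n hd0
  have hqNpos : 0 < q ^ N := pow_pos hq0 _
  refine ⟨hfac, ?_, ?_⟩
  · rw [hfac]
    calc n ≤ q ^ N * R := hle
      _ < q ^ N * q ^ E := Nat.mul_lt_mul_of_pos_left hRE hqNpos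
      _ = q ^ (N + E) := (pow_add _ _ _).symm
      _ ≤ q ^ (3 * N) := Nat.pow_le_pow_right hq0 (by omega)
      _ = p ^ (3 * (f * N)) := by rw [hq, ← pow_mul]; congr 1; ring
  · intro h3
    rw [hfac]
    have hR3 : R ^ 3 < (q ^ E) ^ 3 := Nat.pow_lt_pow_left hRE (by norm_num)
    calc n ^ 3 ≤ (q ^ N * R) ^ 3 := Nat.pow_le_pow_left hle 3
      _ = (q ^ N) ^ 3 * R ^ 3 := mul_pow _ _ _
      _ < (q ^ N) ^ 3 * (q ^ E) ^ 3 := Nat.mul_lt_mul_of_pos_left hR3 (pow_pos hqNpos _)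
      _ = q ^ (3 * N + 3 * E) := by rw [← pow_mul, ← pow_mul, ← pow_add]; congr 1; ring
      _ ≤ q ^ (8 * N) := Nat.pow_le_pow_right hq0 (by omega)
      _ = p ^ (8 * (f * N)) := by rw [hq, ← pow_mul]; congr 1; ring

/-! ### non-divisibility -/

theorem not_dvd_pow_sub_one {p q : ℕ} (hp : p.Prime) (hpq : p ∣ q) (hq0 : 0 < q) {j : ℕ}
    (hj : j ≠ 0) : ¬ p ∣ q ^ j - 1 := by
  intro h
  have h1 : p ∣ q ^ j := dvd_pow hpq hj
  have h2 : 1 ≤ q ^ j := Nat.one_le_pow _ _ hq0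
  have h3 : p ∣ q ^ j - (q ^ j - 1) := Nat.dvd_sub h1 h
  have h4 : q ^ j - (q ^ j - 1) = 1 := by omega
  rw [h4] at h3
  exact hp.one_lt.ne' (Nat.dvd_one.mp h3)

theorem not_dvd_pow_add_one {p q : ℕ} (hp : p.Prime) (hpq : p ∣ q) {j : ℕ}
    (hj : j ≠ 0) : ¬ p ∣ q ^ j + 1 := by
  intro h
  have h1 : p ∣ q ^ j := dvd_pow hpq hj
  have h3 : p ∣ 1 := (Nat.dvd_add_right h1).mp h
  exact hp.one_lt.ne' (Nat.dvd_one.mp h3)

theorem not_dvd_sub_one {p q : ℕ} (hp : p.Prime) (hpq : p ∣ q) (hq0 : 0 < q) : ¬ p ∣ q - 1 := by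
  have := not_dvd_pow_sub_one hp hpq hq0 (j := 1) one_ne_zero
  rwa [pow_one] at this

theorem not_dvd_add_one {p q : ℕ} (hp : p.Prime) (hpq : p ∣ q) : ¬ p ∣ q + 1 := by
  have := not_dvd_pow_add_one hp hpq (j := 1) one_ne_zero
  rwa [pow_one] at this

theorem not_dvd_of_dvd {p d x : ℕ} (hx : ¬ p ∣ x) (hdx : d ∣ x) : ¬ p ∣ d :=
  fun h => hx (h.trans hdx)

theorem not_dvd_mul {p a b : ℕ} (hp : p.Prime) (ha : ¬ p ∣ a) (hb : ¬ p ∣ b) : ¬ p ∣ a * b := by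
  intro h
  rcases hp.dvd_mul.mp h with h | h
  · exact ha h
  · exact hb h

theorem not_dvd_prod {p : ℕ} (hp : p.Prime) {s : Finset ℕ} {g : ℕ → ℕ}
    (h : ∀ i ∈ s, ¬ p ∣ g i) : ¬ p ∣ ∏ i ∈ s, g i := by
  intro hd
  obtain ⟨i, hi, hpi⟩ := (Prime.dvd_finsetProd_iff hp.prime g).mp hd
  exact h i hi hpi

/-! ### basic bounds -/

theorem sub_one_lt {q : ℕ} (hq : 2 ≤ q) (j : ℕ) : q ^ j - 1 < q ^ j :=
  Nat.sub_lt (pow_pos (by omega) _) one_pos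

theorem add_one_le {q : ℕ} (hq : 2 ≤ q) (j : ℕ) : q ^ j + 1 ≤ q ^ (j + 1) := by
  have h1 : 1 ≤ q ^ j := Nat.one_le_pow _ _ (by omega)
  have h2 : q ^ j * 2 ≤ q ^ j * q := Nat.mul_le_mul_left _ hq
  rw [pow_succ]
  omega

theorem add_one_pos (q j : ℕ) : 0 < q ^ j + 1 := Nat.succ_pos _

theorem lt_mul_lt {a b c d : ℕ} (h1 : a < c) (h2 : b < d) : a * b < c * d :=
  Nat.mul_lt_mul'' h1 h2

theorem lt_mul_le {a b c d : ℕ} (h1 : a < c) (h2 : b ≤ d) (hb : 0 < b) : a * b < c * d :=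
  Nat.mul_lt_mul_of_lt_of_le h1 h2 (lt_of_lt_of_le hb h2)

end Cfsg.Agent.Lib.Helper33.LTO
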