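import Cfsg.Agent.Lib.Helper33.LTOClass
import Cfsg.Agent.Lib.Helper59.LTO
import Cfsg.Agent.S0243
import Cfsg.Agent.S0245
import Cfsg.Agent.S0246
import Cfsg.Agent.S0280
import Cfsg.Agent.S0292
import Cfsg.Agent.S0293
import Cfsg.Agent.S0294

/-!
# S2363: the classical families, group level
-/

set_option autoImplicit false

namespace Cfsg.Agent.Lib.Helper33.LTO

open Finset

theorem card_field {F : Type*} [Field F] [Fintype F] (p : ℕ) [CharP F p] :
    ∃ f : ℕ, f ≠ 0 ∧ Fintype.card F = p ^ f := by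
  obtain ⟨n, _, hn⟩ := FiniteField.card F p
  exact ⟨n, n.ne_zero, hn⟩

theorem root_of_pow {p q a f' : ℕ} (hp : p.Prime) (ha : a ≠ 0) (h : q ^ a = p ^ f') (hf' : f' ≠ 0) :
    ∃ f : ℕ, f ≠ 0 ∧ q = p ^ f := by
  have h1 : q ∣ p ^ f' := h ▸ dvd_pow_self q ha
  obtain ⟨m, _, hm⟩ := (Nat.dvd_prime_pow hp).mp h1
  refine ⟨m, ?_, hm⟩
  rintro rfl
  rw [pow_zero] at hm
  rw [hm, one_pow] at h
  exact hf' ((Nat.pow_eq_one.mp h.symm).resolve_left hp.one_lt.ne')

theorem card_ne_zero' (G : Type*) [Group G] [Finite G] : Nat.card G ≠ 0 := Nat.card_pos.ne'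

/-- PSL. -/
theorem fam_psl {G : Type*} [Group G] [Finite G] {p : ℕ} (hp : p.Prime)
    {F : Type} [Field F] [Fintype F] [CharP F p] {n : ℕ} (hn : 2 ≤ n)
    (e : G ≃* Matrix.ProjectiveSpecialLinearGroup (Fin n) F) :
    Nat.card G < p ^ (3 * (Nat.card G).factorization p) ∧
      ((n = 2 → Fintype.card F ≠ p ^ (Nat.card G).factorization p) →
        Nat.card G ^ 3 < p ^ (8 * (Nat.card G).factorization p)) := by
  obtain ⟨f, hf, hq⟩ := card_field (F := F) p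
  obtain ⟨k, rfl⟩ : ∃ k, n = k + 2 := ⟨n - 2, by omega⟩
  have h := Cfsg.Agent.S0243.result (F := F) rfl (k + 2) hn
  rw [← Nat.card_congr e.toEquiv] at h
  have hq2 := (base hp hq hf).2.2
  obtain ⟨a, b, c⟩ := psl hp (card_ne_zero' G) hq hf h (Cfsg.Agent.Lib.Helper59.LTO.psl_bound _ k hq2)
  refine ⟨b, fun hex => ?_⟩
  rcases Nat.eq_zero_or_pos k with hk | hk
  · exfalso
    subst hk
    apply hex rfl
    rw [a, hq]
    simp [Finset.sum_range_succ]
  · exact c hk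

/-- PSp. -/
theorem fam_psp {G : Type*} [Group G] [Finite G] {p : ℕ} (hp : p.Prime)
    {F : Type} [Field F] [Fintype F] [CharP F p] {m : ℕ} (hm : 2 ≤ m)
    (e : G ≃* Cfsg.PSp m F) : Both p (Nat.card G) := by
  obtain ⟨f, hf, hq⟩ := card_field (F := F) p
  obtain ⟨hpq, hq0, hq2⟩ := base hp hq hf
  have h1 := Cfsg.Agent.S0245.result (F := F) rfl m
  have h2 := Cfsg.Agent.S0246.result (F := F) rfl m (by omega)
  have h3 := Subgroup.card_eq_card_quotient_mul_card_subgroup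
    (Subgroup.center (Matrix.symplecticGroup (Fin m) F))
  rw [h1, h2, ← Nat.card_congr e.toEquiv] at h3
  exact spLike hp (card_ne_zero' G) hq hf hm
    (not_dvd_of_dvd (not_dvd_sub_one hp hpq hq0) (Nat.gcd_dvd_right _ _)) h3.symm
    (Cfsg.Agent.Lib.Helper59.LTO.sp_bound _ m hq2 (by omega))

/-- PSU. -/
theorem fam_psu {G : Type*} [Group G] [Finite G] {p : ℕ} (hp : p.Prime)
    {F : Type} [Field F] [Fintype F] [CharP F p] {n q : ℕ} (hF : Fintype.card F = q ^ 2)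
    (hn : 3 ≤ n) (e : G ≃* Cfsg.PSU n F q) : Both p (Nat.card G) := by
  obtain ⟨f', hf', hq'⟩ := card_field (F := F) p
  obtain ⟨f, hf, hq⟩ := root_of_pow hp two_ne_zero (hF.symm.trans hq') hf'
  obtain ⟨k, rfl⟩ : ∃ k, n = k + 3 := ⟨n - 3, by omega⟩
  have h := Cfsg.Agent.S0280.result (F := F) hF (k + 3) (by omega)
  rw [← Nat.card_congr e.toEquiv] at h
  have hq2 := (base hp hq hf).2.2
  exact psu hp (card_ne_zero' G) hq hf h (Cfsg.Agent.Lib.Helper59.LTO.psu_bound _ k hq2)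

/-- PΩ odd. -/
theorem fam_odd {G : Type*} [Group G] [Finite G] {p : ℕ} (hp : p.Prime)
    {F : Type} [Field F] [Fintype F] [CharP F p] {m : ℕ} (hm : 3 ≤ m) (hodd : Odd (Fintype.card F))
    (e : G ≃* Cfsg.POmega F (Cfsg.quadFormOdd m F)) : Both p (Nat.card G) := by
  obtain ⟨f, hf, hq⟩ := card_field (F := F) p
  obtain ⟨hpq, hq0, hq2⟩ := base hp hq hf
  have h := Cfsg.Agent.S0292.result (F := F) rfl hodd m hm
  rw [← Nat.card_congr e.toEquiv, mul_comm] at h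
  have hd : ¬ p ∣ 2 := by
    intro h2
    have : p = 2 := (Nat.prime_dvd_prime_iff_eq hp Nat.prime_two).mp h2
    subst this
    exact (Nat.not_even_iff_odd.mpr hodd) (even_iff_two_dvd.mpr hpq)
  exact spLike hp (card_ne_zero' G) hq hf (by omega) hd h
    (Cfsg.Agent.Lib.Helper59.LTO.sp_bound _ m hq2 (by omega))

/-- PΩ plus. -/
theorem fam_plus {G : Type*} [Group G] [Finite G] {p : ℕ} (hp : p.Prime)
    {F : Type} [Field F] [Fintype F] [CharP F p] {m : ℕ} (hm : 4 ≤ m)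
    (e : G ≃* Cfsg.POmega F (Cfsg.quadFormPlus m F)) : Both p (Nat.card G) := by
  obtain ⟨f, hf, hq⟩ := card_field (F := F) p
  obtain ⟨hpq, hq0, hq2⟩ := base hp hq hf
  have h := Cfsg.Agent.S0293.result (F := F) rfl m hm
  rw [← Nat.card_congr e.toEquiv, mul_comm] at h
  obtain ⟨j, rfl⟩ : ∃ j, m = j + 1 := ⟨m - 1, by omega⟩
  simp only [Nat.add_sub_cancel] at h
  exact plusLike hp (card_ne_zero' G) hq hf (by omega)
    (not_dvd_of_dvd (not_dvd_pow_sub_one hp hpq hq0 (by omega)) (Nat.gcd_dvd_right _ _)) h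
    (Cfsg.Agent.Lib.Helper59.LTO.sp_bound _ j hq2 (by omega))

/-- PΩ minus. -/
theorem fam_minus {G : Type*} [Group G] [Finite G] {p : ℕ} (hp : p.Prime)
    {F : Type} [Field F] [Fintype F] [CharP F p] {m : ℕ} (hm : 4 ≤ m) (a b : F)
    (hab : ∀ z₁ z₂ : F, z₁ ^ 2 + a * z₁ * z₂ + b * z₂ ^ 2 = 0 → z₁ = 0 ∧ z₂ = 0)
    (e : G ≃* Cfsg.POmega F (Cfsg.quadFormMinus (m - 1) F a b)) : Both p (Nat.card G) := by
  obtain ⟨f, hf, hq⟩ := card_field (F := F) p
  obtain ⟨hpq, hq0, hq2⟩ := base hp hq hf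
  have h := Cfsg.Agent.S0294.result (F := F) rfl m hm a b hab
  rw [← Nat.card_congr e.toEquiv, mul_comm] at h
  obtain ⟨j, rfl⟩ : ∃ j, m = j + 1 := ⟨m - 1, by omega⟩
  simp only [Nat.add_sub_cancel] at h
  exact minusLike hp (card_ne_zero' G) hq hf (by omega)
    (not_dvd_of_dvd (not_dvd_pow_add_one hp hpq (by omega)) (Nat.gcd_dvd_right _ _)) h
    (Cfsg.Agent.Lib.Helper59.LTO.sp_bound _ j hq2 (by omega))

end Cfsg.Agent.Lib.Helper33.LTO
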