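import Cfsg.Agent.Lib.Helper33.LTOFamC
import Cfsg.Agent.S1059
import Cfsg.Agent.S1062
import Cfsg.Agent.S1063
import Cfsg.Agent.S1064
import Cfsg.Agent.S1065
import Cfsg.Agent.S1066
import Cfsg.Agent.S1067
import Cfsg.Agent.S1068
import Cfsg.Agent.S1069
import Cfsg.Agent.S1163

/-!
# S2363: the exceptional, twisted, Suzuki and Ree families, group level
-/

set_option autoImplicit false

namespace Cfsg.Agent.Lib.Helper33.LTO

open Finset

theorem fam_g2 {G : Type*} [Group G] [Finite G] {p : ℕ} (hp : p.Prime)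
    {F : Type} [Field F] [Fintype F] [CharP F p]
    (e : G ≃* Cfsg.Lie.chevG2.group F) : Both p (Nat.card G) := by
  obtain ⟨f, hf, hq⟩ := card_field (F := F) p
  have h := Cfsg.Agent.S1059.result (F := F) rfl
  rw [← Nat.card_congr e.toEquiv] at h
  exact g2 hp (card_ne_zero' G) hq hf h

theorem fam_f4 {G : Type*} [Group G] [Finite G] {p : ℕ} (hp : p.Prime)
    {F : Type} [Field F] [Fintype F] [CharP F p]
    (e : G ≃* Cfsg.Lie.chevF4.group F) : Both p (Nat.card G) := by
  obtain ⟨f, hf, hq⟩ := card_field (F := F) p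
  have h := Cfsg.Agent.S1062.result (F := F) rfl
  rw [← Nat.card_congr e.toEquiv] at h
  exact f4 hp (card_ne_zero' G) hq hf h

theorem fam_e6 {G : Type*} [Group G] [Finite G] {p : ℕ} (hp : p.Prime)
    {F : Type} [Field F] [Fintype F] [CharP F p]
    (e : G ≃* Cfsg.Lie.chevE6.group F) : Both p (Nat.card G) := by
  obtain ⟨f, hf, hq⟩ := card_field (F := F) p
  have h := Cfsg.Agent.S1063.result (F := F) rfl
  rw [← Nat.card_congr e.toEquiv] at h
  exact e6 hp (card_ne_zero' G) hq hf h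

theorem fam_e7 {G : Type*} [Group G] [Finite G] {p : ℕ} (hp : p.Prime)
    {F : Type} [Field F] [Fintype F] [CharP F p]
    (e : G ≃* Cfsg.Lie.chevE7.group F) : Both p (Nat.card G) := by
  obtain ⟨f, hf, hq⟩ := card_field (F := F) p
  have h := Cfsg.Agent.S1064.result (F := F) rfl
  rw [← Nat.card_congr e.toEquiv] at h
  exact e7 hp (card_ne_zero' G) hq hf h

theorem fam_e8 {G : Type*} [Group G] [Finite G] {p : ℕ} (hp : p.Prime)
    {F : Type} [Field F] [Fintype F] [CharP F p]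
    (e : G ≃* Cfsg.Lie.chevE8.group F) : Both p (Nat.card G) := by
  obtain ⟨f, hf, hq⟩ := card_field (F := F) p
  have h := Cfsg.Agent.S1065.result (F := F) rfl
  rw [← Nat.card_congr e.toEquiv] at h
  exact e8 hp (card_ne_zero' G) hq hf h

theorem fam_twE6 {G : Type*} [Group G] [Finite G] {p : ℕ} (hp : p.Prime)
    {K : Type} [Field K] [Fintype K] [CharP K p] {q : ℕ} (hqp : IsPrimePow q)
    (hK : Fintype.card K = q ^ 2) (e : G ≃* Cfsg.Lie.twistedE6 K q) : Both p (Nat.card G) := by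
  obtain ⟨f', hf', hq'⟩ := card_field (F := K) p
  obtain ⟨f, hf, hq⟩ := root_of_pow hp two_ne_zero (hK.symm.trans hq') hf'
  have h := Cfsg.Agent.S1066.result (K := K) hqp hK
  rw [← Nat.card_congr e.toEquiv] at h
  exact twE6 hp (card_ne_zero' G) hq hf h

theorem fam_twD4 {G : Type*} [Group G] [Finite G] {p : ℕ} (hp : p.Prime)
    {K : Type} [Field K] [Fintype K] [CharP K p] {q : ℕ} (hqp : IsPrimePow q)
    (hK : Fintype.card K = q ^ 3) (e : G ≃* Cfsg.Lie.twistedD4 K q) : Both p (Nat.card G) := by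
  obtain ⟨f', hf', hq'⟩ := card_field (F := K) p
  obtain ⟨f, hf, hq⟩ := root_of_pow hp three_ne_zero (hK.symm.trans hq') hf'
  have h := Cfsg.Agent.S1067.result (K := K) hqp hK
  rw [← Nat.card_congr e.toEquiv] at h
  exact twD4 hp (card_ne_zero' G) hq hf h

theorem fam_sz {G : Type*} [Group G] [Finite G]
    {F : Type} [Field F] [Fintype F] {m : ℕ} (hm : 1 ≤ m) (hF : Fintype.card F = 2 ^ (2 * m + 1))
    (e : G ≃* Cfsg.Lie.Sz F (2 ^ (m + 1))) : Both 2 (Nat.card G) := by
  have h := (Cfsg.Agent.S1163.result (F := F) hm hF).1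
  rw [← Nat.card_congr e.toEquiv] at h
  exact sz Nat.prime_two (card_ne_zero' G) (q := 2 ^ (2 * m + 1)) (f := 2 * m + 1) rfl (by omega) h

theorem fam_twF4 {G : Type*} [Group G] [Finite G]
    {K : Type} [Field K] [Fintype K] {m : ℕ} (hK : Fintype.card K = 2 ^ (2 * m + 1))
    (e : G ≃* Cfsg.Lie.twistedF4 K (2 ^ m)) : Both 2 (Nat.card G) := by
  have h := Cfsg.Agent.S1068.result (K := K) hK
  rw [← Nat.card_congr e.toEquiv] at h
  exact twF4 Nat.prime_two (card_ne_zero' G) (q := 2 ^ (2 * m + 1)) (f := 2 * m + 1) rfl (by omega) h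

theorem fam_twG2 {G : Type*} [Group G] [Finite G]
    {K : Type} [Field K] [Fintype K] {m : ℕ} (hK : Fintype.card K = 3 ^ (2 * m + 1))
    (e : G ≃* Cfsg.Lie.twistedG2 K (3 ^ m)) : Both 3 (Nat.card G) := by
  have h := Cfsg.Agent.S1069.result (K := K) hK
  rw [← Nat.card_congr e.toEquiv] at h
  exact twG2 Nat.prime_three (card_ne_zero' G) (q := 3 ^ (2 * m + 1)) (f := 2 * m + 1) rfl (by omega) h

end Cfsg.Agent.Lib.Helper33.LTO
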