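import Cfsg.Agent.Lib.Helper33.LTOCore

/-!
# S2363: the families of fixed rank (pure ℕ)
-/

set_option autoImplicit false

namespace Cfsg.Agent.Lib.Helper33.LTO

open Finset

/-- The conclusion of S2363 for a number `n` (both inequalities). -/
def Both (p n : ℕ) : Prop :=
  n < p ^ (3 * n.factorization p) ∧ n ^ 3 < p ^ (8 * n.factorization p)

theorem base {p q f : ℕ} (hp : p.Prime) (hq : q = p ^ f) (hf : f ≠ 0) :
    p ∣ q ∧ 0 < q ∧ 2 ≤ q := by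
  refine ⟨hq ▸ dvd_pow_self p hf, hq ▸ pow_pos hp.pos _, ?_⟩
  rw [hq]
  exact le_trans hp.two_le (Nat.le_self_pow hf p)

theorem both_of {p : ℕ} (hp : p.Prime) {n q f d N R E : ℕ} (hn : n ≠ 0) (hq : q = p ^ f)
    (h : n * d = q ^ N * R) (hd : ¬ p ∣ d) (hR : ¬ p ∣ R) (hRE : R < q ^ E) (h1 : E ≤ 2 * N)
    (h3 : 3 * E ≤ 5 * N) : Both p n := by
  obtain ⟨_, a, b⟩ := fam hp hn hq h hd hR hRE h1
  exact ⟨a, b h3⟩

theorem g2 {p : ℕ} (hp : p.Prime) {n q f : ℕ} (hn : n ≠ 0) (hq : q = p ^ f) (hf : f ≠ 0)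
    (h : n = q ^ 6 * (q ^ 2 - 1) * (q ^ 6 - 1)) : Both p n := by
  obtain ⟨hpq, hq0, hq2⟩ := base hp hq hf
  have s := fun j => sub_one_lt hq2 j
  have nd := fun j (hj : j ≠ 0) => not_dvd_pow_sub_one hp hpq hq0 (j := j) hj
  refine both_of hp hn hq (d := 1) (N := 6) (R := (q ^ 2 - 1) * (q ^ 6 - 1)) (E := 8)
    (by rw [h]; ring) hp.not_dvd_one ?_ ?_ (by norm_num) (by norm_num)
  · exact not_dvd_mul hp (nd 2 (by norm_num)) (nd 6 (by norm_num))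
  · calc (q ^ 2 - 1) * (q ^ 6 - 1) < q ^ 2 * q ^ 6 := lt_mul_lt (s 2) (s 6)
      _ = q ^ 8 := by ring

theorem f4 {p : ℕ} (hp : p.Prime) {n q f : ℕ} (hn : n ≠ 0) (hq : q = p ^ f) (hf : f ≠ 0)
    (h : n = q ^ 24 * (q ^ 2 - 1) * (q ^ 6 - 1) * (q ^ 8 - 1) * (q ^ 12 - 1)) : Both p n := by
  obtain ⟨hpq, hq0, hq2⟩ := base hp hq hf
  have s := fun j => sub_one_lt hq2 j
  have nd := fun j (hj : j ≠ 0) => not_dvd_pow_sub_one hp hpq hq0 (j := j) hj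
  refine both_of hp hn hq (d := 1) (N := 24)
    (R := (q ^ 2 - 1) * (q ^ 6 - 1) * (q ^ 8 - 1) * (q ^ 12 - 1)) (E := 28)
    (by rw [h]; ring) hp.not_dvd_one ?_ ?_ (by norm_num) (by norm_num)
  · exact not_dvd_mul hp (not_dvd_mul hp (not_dvd_mul hp (nd 2 (by norm_num)) (nd 6 (by norm_num)))
      (nd 8 (by norm_num))) (nd 12 (by norm_num))
  · calc (q ^ 2 - 1) * (q ^ 6 - 1) * (q ^ 8 - 1) * (q ^ 12 - 1)
        < q ^ 2 * q ^ 6 * q ^ 8 * q ^ 12 :=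
          lt_mul_lt (lt_mul_lt (lt_mul_lt (s 2) (s 6)) (s 8)) (s 12)
      _ = q ^ 28 := by ring

theorem e6 {p : ℕ} (hp : p.Prime) {n q f : ℕ} (hn : n ≠ 0) (hq : q = p ^ f) (hf : f ≠ 0)
    (h : Nat.gcd 3 (q - 1) * n = q ^ 36 * (q ^ 2 - 1) * (q ^ 5 - 1) * (q ^ 6 - 1) * (q ^ 8 - 1) *
      (q ^ 9 - 1) * (q ^ 12 - 1)) : Both p n := by
  obtain ⟨hpq, hq0, hq2⟩ := base hp hq hf
  have s := fun j => sub_one_lt hq2 j
  have nd := fun j (hj : j ≠ 0) => not_dvd_pow_sub_one hp hpq hq0 (j := j) hj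
  refine both_of hp hn hq (d := Nat.gcd 3 (q - 1)) (N := 36)
    (R := (q ^ 2 - 1) * (q ^ 5 - 1) * (q ^ 6 - 1) * (q ^ 8 - 1) * (q ^ 9 - 1) * (q ^ 12 - 1)) (E := 42)
    (by rw [mul_comm, h]; ring) (not_dvd_of_dvd (not_dvd_sub_one hp hpq hq0) (Nat.gcd_dvd_right _ _))
    ?_ ?_ (by norm_num) (by norm_num)
  · exact not_dvd_mul hp (not_dvd_mul hp (not_dvd_mul hp (not_dvd_mul hp (not_dvd_mul hp
      (nd 2 (by norm_num)) (nd 5 (by norm_num))) (nd 6 (by norm_num))) (nd 8 (by norm_num)))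
      (nd 9 (by norm_num))) (nd 12 (by norm_num))
  · calc (q ^ 2 - 1) * (q ^ 5 - 1) * (q ^ 6 - 1) * (q ^ 8 - 1) * (q ^ 9 - 1) * (q ^ 12 - 1)
        < q ^ 2 * q ^ 5 * q ^ 6 * q ^ 8 * q ^ 9 * q ^ 12 :=
          lt_mul_lt (lt_mul_lt (lt_mul_lt (lt_mul_lt (lt_mul_lt (s 2) (s 5)) (s 6)) (s 8)) (s 9)) (s 12)
      _ = q ^ 42 := by ring

theorem e7 {p : ℕ} (hp : p.Prime) {n q f : ℕ} (hn : n ≠ 0) (hq : q = p ^ f) (hf : f ≠ 0)
    (h : Nat.gcd 2 (q - 1) * n = q ^ 63 * (q ^ 2 - 1) * (q ^ 6 - 1) * (q ^ 8 - 1) * (q ^ 10 - 1) *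
      (q ^ 12 - 1) * (q ^ 14 - 1) * (q ^ 18 - 1)) : Both p n := by
  obtain ⟨hpq, hq0, hq2⟩ := base hp hq hf
  have s := fun j => sub_one_lt hq2 j
  have nd := fun j (hj : j ≠ 0) => not_dvd_pow_sub_one hp hpq hq0 (j := j) hj
  refine both_of hp hn hq (d := Nat.gcd 2 (q - 1)) (N := 63)
    (R := (q ^ 2 - 1) * (q ^ 6 - 1) * (q ^ 8 - 1) * (q ^ 10 - 1) * (q ^ 12 - 1) * (q ^ 14 - 1) *
      (q ^ 18 - 1)) (E := 70)
    (by rw [mul_comm, h]; ring) (not_dvd_of_dvd (not_dvd_sub_one hp hpq hq0) (Nat.gcd_dvd_right _ _))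
    ?_ ?_ (by norm_num) (by norm_num)
  · exact not_dvd_mul hp (not_dvd_mul hp (not_dvd_mul hp (not_dvd_mul hp (not_dvd_mul hp
      (not_dvd_mul hp (nd 2 (by norm_num)) (nd 6 (by norm_num))) (nd 8 (by norm_num)))
      (nd 10 (by norm_num))) (nd 12 (by norm_num))) (nd 14 (by norm_num))) (nd 18 (by norm_num))
  · calc (q ^ 2 - 1) * (q ^ 6 - 1) * (q ^ 8 - 1) * (q ^ 10 - 1) * (q ^ 12 - 1) * (q ^ 14 - 1) *
          (q ^ 18 - 1)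
        < q ^ 2 * q ^ 6 * q ^ 8 * q ^ 10 * q ^ 12 * q ^ 14 * q ^ 18 :=
          lt_mul_lt (lt_mul_lt (lt_mul_lt (lt_mul_lt (lt_mul_lt (lt_mul_lt (s 2) (s 6)) (s 8))
            (s 10)) (s 12)) (s 14)) (s 18)
      _ = q ^ 70 := by ring

theorem e8 {p : ℕ} (hp : p.Prime) {n q f : ℕ} (hn : n ≠ 0) (hq : q = p ^ f) (hf : f ≠ 0)
    (h : n = q ^ 120 * (q ^ 2 - 1) * (q ^ 8 - 1) * (q ^ 12 - 1) * (q ^ 14 - 1) * (q ^ 18 - 1) *
      (q ^ 20 - 1) * (q ^ 24 - 1) * (q ^ 30 - 1)) : Both p n := by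
  obtain ⟨hpq, hq0, hq2⟩ := base hp hq hf
  have s := fun j => sub_one_lt hq2 j
  have nd := fun j (hj : j ≠ 0) => not_dvd_pow_sub_one hp hpq hq0 (j := j) hj
  refine both_of hp hn hq (d := 1) (N := 120)
    (R := (q ^ 2 - 1) * (q ^ 8 - 1) * (q ^ 12 - 1) * (q ^ 14 - 1) * (q ^ 18 - 1) * (q ^ 20 - 1) *
      (q ^ 24 - 1) * (q ^ 30 - 1)) (E := 128)
    (by rw [h]; ring) hp.not_dvd_one ?_ ?_ (by norm_num) (by norm_num)
  · exact not_dvd_mul hp (not_dvd_mul hp (not_dvd_mul hp (not_dvd_mul hp (not_dvd_mul hp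
      (not_dvd_mul hp (not_dvd_mul hp (nd 2 (by norm_num)) (nd 8 (by norm_num)))
      (nd 12 (by norm_num))) (nd 14 (by norm_num))) (nd 18 (by norm_num))) (nd 20 (by norm_num)))
      (nd 24 (by norm_num))) (nd 30 (by norm_num))
  · calc (q ^ 2 - 1) * (q ^ 8 - 1) * (q ^ 12 - 1) * (q ^ 14 - 1) * (q ^ 18 - 1) * (q ^ 20 - 1) *
          (q ^ 24 - 1) * (q ^ 30 - 1)
        < q ^ 2 * q ^ 8 * q ^ 12 * q ^ 14 * q ^ 18 * q ^ 20 * q ^ 24 * q ^ 30 :=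
          lt_mul_lt (lt_mul_lt (lt_mul_lt (lt_mul_lt (lt_mul_lt (lt_mul_lt (lt_mul_lt (s 2) (s 8))
            (s 12)) (s 14)) (s 18)) (s 20)) (s 24)) (s 30)
      _ = q ^ 128 := by ring

theorem twE6 {p : ℕ} (hp : p.Prime) {n q f : ℕ} (hn : n ≠ 0) (hq : q = p ^ f) (hf : f ≠ 0)
    (h : Nat.gcd 3 (q + 1) * n = q ^ 36 * (q ^ 2 - 1) * (q ^ 5 + 1) * (q ^ 6 - 1) * (q ^ 8 - 1) *
      (q ^ 9 + 1) * (q ^ 12 - 1)) : Both p n := by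
  obtain ⟨hpq, hq0, hq2⟩ := base hp hq hf
  have s := fun j => sub_one_lt hq2 j
  have a := fun j => add_one_le hq2 j
  have nd := fun j (hj : j ≠ 0) => not_dvd_pow_sub_one hp hpq hq0 (j := j) hj
  have na := fun j (hj : j ≠ 0) => not_dvd_pow_add_one hp hpq (j := j) hj
  refine both_of hp hn hq (d := Nat.gcd 3 (q + 1)) (N := 36)
    (R := (q ^ 2 - 1) * (q ^ 5 + 1) * (q ^ 6 - 1) * (q ^ 8 - 1) * (q ^ 9 + 1) * (q ^ 12 - 1)) (E := 44)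
    (by rw [mul_comm, h]; ring) (not_dvd_of_dvd (not_dvd_add_one hp hpq) (Nat.gcd_dvd_right _ _))
    ?_ ?_ (by norm_num) (by norm_num)
  · exact not_dvd_mul hp (not_dvd_mul hp (not_dvd_mul hp (not_dvd_mul hp (not_dvd_mul hp
      (nd 2 (by norm_num)) (na 5 (by norm_num))) (nd 6 (by norm_num))) (nd 8 (by norm_num)))
      (na 9 (by norm_num))) (nd 12 (by norm_num))
  · calc (q ^ 2 - 1) * (q ^ 5 + 1) * (q ^ 6 - 1) * (q ^ 8 - 1) * (q ^ 9 + 1) * (q ^ 12 - 1)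
        < q ^ 2 * q ^ (5 + 1) * q ^ 6 * q ^ 8 * q ^ (9 + 1) * q ^ 12 :=
          lt_mul_lt (lt_mul_le (lt_mul_lt (lt_mul_lt (lt_mul_le (s 2) (a 5) (add_one_pos _ _)) (s 6))
            (s 8)) (a 9) (add_one_pos _ _)) (s 12)
      _ = q ^ 44 := by ring

theorem twD4 {p : ℕ} (hp : p.Prime) {n q f : ℕ} (hn : n ≠ 0) (hq : q = p ^ f) (hf : f ≠ 0)
    (h : n = q ^ 12 * (q ^ 2 - 1) * (q ^ 6 - 1) * (q ^ 8 + q ^ 4 + 1)) : Both p n := by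
  obtain ⟨hpq, hq0, hq2⟩ := base hp hq hf
  have s := fun j => sub_one_lt hq2 j
  have nd := fun j (hj : j ≠ 0) => not_dvd_pow_sub_one hp hpq hq0 (j := j) hj
  have hb : q ^ 8 + q ^ 4 + 1 ≤ q ^ 9 := by
    have h1 : q ^ 4 + 1 ≤ q ^ 5 := add_one_le hq2 4
    have h2 : q ^ 5 ≤ q ^ 8 := Nat.pow_le_pow_right hq0 (by norm_num)
    have h3 : q ^ 8 * 2 ≤ q ^ 8 * q := Nat.mul_le_mul_left _ hq2
    have h4 : q ^ 9 = q ^ 8 * q := pow_succ q 8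
    omega
  refine both_of hp hn hq (d := 1) (N := 12)
    (R := (q ^ 2 - 1) * (q ^ 6 - 1) * (q ^ 8 + q ^ 4 + 1)) (E := 17)
    (by rw [h]; ring) hp.not_dvd_one ?_ ?_ (by norm_num) (by norm_num)
  · refine not_dvd_mul hp (not_dvd_mul hp (nd 2 (by norm_num)) (nd 6 (by norm_num))) ?_
    intro hd
    have h1 : p ∣ q ^ 8 + q ^ 4 :=
      dvd_add (dvd_pow hpq (by norm_num)) (dvd_pow hpq (by norm_num))
    exact hp.not_dvd_one ((Nat.dvd_add_right h1).mp hd)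
  · calc (q ^ 2 - 1) * (q ^ 6 - 1) * (q ^ 8 + q ^ 4 + 1) < q ^ 2 * q ^ 6 * q ^ 9 :=
          lt_mul_le (lt_mul_lt (s 2) (s 6)) hb (Nat.succ_pos _)
      _ = q ^ 17 := by ring

theorem twF4 {p : ℕ} (hp : p.Prime) {n q f : ℕ} (hn : n ≠ 0) (hq : q = p ^ f) (hf : f ≠ 0)
    (h : n = q ^ 12 * (q - 1) * (q ^ 3 + 1) * (q ^ 4 - 1) * (q ^ 6 + 1)) : Both p n := by
  obtain ⟨hpq, hq0, hq2⟩ := base hp hq hf
  have s := fun j => sub_one_lt hq2 j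
  have a := fun j => add_one_le hq2 j
  have nd := fun j (hj : j ≠ 0) => not_dvd_pow_sub_one hp hpq hq0 (j := j) hj
  have na := fun j (hj : j ≠ 0) => not_dvd_pow_add_one hp hpq (j := j) hj
  have s1 : q - 1 < q := Nat.sub_lt hq0 one_pos
  refine both_of hp hn hq (d := 1) (N := 12)
    (R := (q - 1) * (q ^ 3 + 1) * (q ^ 4 - 1) * (q ^ 6 + 1)) (E := 16)
    (by rw [h]; ring) hp.not_dvd_one ?_ ?_ (by norm_num) (by norm_num)
  · exact not_dvd_mul hp (not_dvd_mul hp (not_dvd_mul hp (not_dvd_sub_one hp hpq hq0)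
      (na 3 (by norm_num))) (nd 4 (by norm_num))) (na 6 (by norm_num))
  · calc (q - 1) * (q ^ 3 + 1) * (q ^ 4 - 1) * (q ^ 6 + 1)
        < q * q ^ (3 + 1) * q ^ 4 * q ^ (6 + 1) :=
          lt_mul_le (lt_mul_lt (lt_mul_le s1 (a 3) (add_one_pos _ _)) (s 4)) (a 6) (add_one_pos _ _)
      _ = q ^ 16 := by ring

theorem twG2 {p : ℕ} (hp : p.Prime) {n q f : ℕ} (hn : n ≠ 0) (hq : q = p ^ f) (hf : f ≠ 0)
    (h : n = q ^ 3 * (q - 1) * (q ^ 3 + 1)) : Both p n := by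
  obtain ⟨hpq, hq0, hq2⟩ := base hp hq hf
  have a := fun j => add_one_le hq2 j
  have na := fun j (hj : j ≠ 0) => not_dvd_pow_add_one hp hpq (j := j) hj
  have s1 : q - 1 < q := Nat.sub_lt hq0 one_pos
  refine both_of hp hn hq (d := 1) (N := 3) (R := (q - 1) * (q ^ 3 + 1)) (E := 5)
    (by rw [h]; ring) hp.not_dvd_one ?_ ?_ (by norm_num) (by norm_num)
  · exact not_dvd_mul hp (not_dvd_sub_one hp hpq hq0) (na 3 (by norm_num))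
  · calc (q - 1) * (q ^ 3 + 1) < q * q ^ (3 + 1) := lt_mul_le s1 (a 3) (add_one_pos _ _)
      _ = q ^ 5 := by ring

theorem sz {p : ℕ} (hp : p.Prime) {n q f : ℕ} (hn : n ≠ 0) (hq : q = p ^ f) (hf : f ≠ 0)
    (h : n = q ^ 2 * (q - 1) * (q ^ 2 + 1)) : Both p n := by
  obtain ⟨hpq, hq0, hq2⟩ := base hp hq hf
  have na := fun j (hj : j ≠ 0) => not_dvd_pow_add_one hp hpq (j := j) hj
  refine both_of hp hn hq (d := 1) (N := 2) (R := (q - 1) * (q ^ 2 + 1)) (E := 3)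
    (by rw [h]; ring) hp.not_dvd_one ?_ ?_ (by norm_num) (by norm_num)
  · exact not_dvd_mul hp (not_dvd_sub_one hp hpq hq0) (na 2 (by norm_num))
  · obtain ⟨r, rfl⟩ : ∃ r, q = r + 1 := ⟨q - 1, by omega⟩
    rw [Nat.add_sub_cancel]
    nlinarith [sq_nonneg r]

end Cfsg.Agent.Lib.Helper33.LTO
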