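import Mathlib

set_option autoImplicit false

namespace Cfsg.Agent.Lib.Helper33

open Polynomial

/-- Norm of `t - gen` for a power basis is the minimal polynomial of `gen` evaluated at `t`. -/
theorem norm_algebraMap_sub_gen {R S : Type*} [CommRing R] [CommRing S] [Algebra R S]
    (pb : PowerBasis R S) (t : R) :
    Algebra.norm R (algebraMap R S t - pb.gen) = (minpoly R pb.gen).eval t := by
  classical
  rw [Algebra.norm_eq_matrix_det pb.basis, map_sub, AlgHom.commutes,
    ← charpoly_leftMulMatrix pb, Matrix.eval_charpoly]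
  congr 1

/-- The cubic family used for `q = 3`. -/
noncomputable def cubicFam {K : Type*} [Field K] (t : K) : K[X] :=
  X ^ 3 - C t * X ^ 2 + C (2 * t - 3) * X - 1

theorem cubicFam_eval {K : Type*} [Field K] (t x : K) :
    (cubicFam t).eval x = x ^ 3 - t * x ^ 2 + (2 * t - 3) * x - 1 := by
  simp [cubicFam]

theorem cubicFam_monic {K : Type*} [Field K] (t : K) : (cubicFam t).Monic := by
  unfold cubicFam
  monicity!

theorem cubicFam_natDegree {K : Type*} [Field K] (t : K) : (cubicFam t).natDegree = 3 := by
  unfold cubicFam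
  compute_degree!

/-- Pigeonhole: some member of the cubic family has no root in a finite field of odd characteristic. -/
theorem exists_cubicFam_no_root {K : Type*} [Field K] [Finite K] :
    ∃ t : K, ∀ x : K, (cubicFam t).eval x ≠ 0 := by
  by_contra hcon
  push Not at hcon
  choose r hr using hcon
  have hr0 : ∀ t, r t ≠ 0 := by
    intro t h0
    have := hr t
    rw [cubicFam_eval, h0] at this
    simp at this
  have hr2 : ∀ t, r t ≠ 2 := by
    intro t h0
    have := hr t
    rw [cubicFam_eval, h0] at this
    ring_nf at this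
    exact one_ne_zero this
  have hinj : Function.Injective r := by
    intro t t' htt
    have h1 := hr t
    have h2' := hr t'
    rw [cubicFam_eval] at h1 h2'
    rw [← htt] at h2'
    have : (t - t') * (r t * (r t - 2)) = 0 := by linear_combination h2' - h1
    rcases mul_eq_zero.mp this with h | h
    · exact sub_eq_zero.mp h
    · rcases mul_eq_zero.mp h with h | h
      · exact absurd h (hr0 t)
      · exact absurd (sub_eq_zero.mp h) (hr2 t)
  obtain ⟨t, ht⟩ := (Finite.injective_iff_surjective.mp hinj) 0
  exact hr0 t ht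


/-- The case `q = 3`: there are at least two `a` in the field with `p ^ 3` elements such that
`a` and `2 - a` both have norm one. -/
theorem two_le_ncard_three (p : ℕ) [hp : Fact p.Prime] :
    2 ≤ Set.ncard {a : GaloisField p 3 | Algebra.norm (ZMod p) a = 1 ∧
      Algebra.norm (ZMod p) (2 - a) = 1} := by
  classical
  obtain ⟨t, ht⟩ := exists_cubicFam_no_root (K := ZMod p)
  obtain ⟨f, hfdef⟩ : ∃ f : (ZMod p)[X], f = cubicFam t := ⟨_, rfl⟩
  have hfeval : ∀ x : ZMod p, f.eval x = x ^ 3 - t * x ^ 2 + (2 * t - 3) * x - 1 := by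
    intro x; rw [hfdef]; exact cubicFam_eval t x
  have ht' : ∀ x : ZMod p, f.eval x ≠ 0 := by
    intro x; rw [hfdef]; exact ht x
  have hmonic : f.Monic := by rw [hfdef]; exact cubicFam_monic t
  have hdeg : f.natDegree = 3 := by rw [hfdef]; exact cubicFam_natDegree t
  have hirr : Irreducible f :=
    irreducible_of_degree_le_three_of_not_isRoot (by rw [hdeg]; simp) (fun x hx => ht' x hx)
  haveI : Fact (Irreducible f) := ⟨hirr⟩
  have hf0 : f ≠ 0 := hmonic.ne_zero
  let pb := AdjoinRoot.powerBasis hf0
  have hgen : pb.gen = AdjoinRoot.root f := AdjoinRoot.powerBasis_gen hf0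
  have hmin : minpoly (ZMod p) pb.gen = f := AdjoinRoot.minpoly_powerBasis_gen_of_monic hmonic hf0
  haveI : Module.Finite (ZMod p) (AdjoinRoot f) := pb.finite
  have hfr : Module.finrank (ZMod p) (AdjoinRoot f) = 3 := by
    rw [pb.finrank, AdjoinRoot.powerBasis_dim, hdeg]
  have hcard : Nat.card (AdjoinRoot f) = p ^ 3 := by
    rw [Module.natCard_eq_pow_finrank (K := ZMod p), hfr, Nat.card_eq_fintype_card, ZMod.card]
  let e := GaloisField.algEquivGaloisField p 3 hcard
  -- norms
  have hN : ∀ c : ZMod p, Algebra.norm (ZMod p)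
      (algebraMap (ZMod p) (AdjoinRoot f) c - AdjoinRoot.root f) = f.eval c := by
    intro c
    rw [← hgen, norm_algebraMap_sub_gen pb c, hmin]
  have hN0 : Algebra.norm (ZMod p) (AdjoinRoot.root f) = 1 := by
    have h := hN 0
    rw [map_zero, zero_sub, hfeval] at h
    have h2 : Algebra.norm (ZMod p) (-AdjoinRoot.root f) =
        (-1) ^ 3 * Algebra.norm (ZMod p) (AdjoinRoot.root f) := by
      have : -AdjoinRoot.root f = (algebraMap (ZMod p) (AdjoinRoot f) (-1)) * AdjoinRoot.root f := by
        simp
      rw [this, map_mul, Algebra.norm_algebraMap, hfr]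
    rw [h2] at h
    linear_combination -h
  have hN2 : Algebra.norm (ZMod p) (2 - AdjoinRoot.root f) = 1 := by
    have h := hN 2
    rw [hfeval] at h
    have h2 : algebraMap (ZMod p) (AdjoinRoot f) 2 = 2 := map_ofNat _ 2
    rw [h2] at h
    rw [h]; ring
  have ha₀1 : AdjoinRoot.root f ≠ 1 := by
    intro h1
    have hroot : Polynomial.aeval (AdjoinRoot.root f) f = 0 := by
      rw [AdjoinRoot.aeval_eq, AdjoinRoot.mk_self]
    rw [h1] at hroot
    have h2 : Polynomial.aeval (1 : AdjoinRoot f) f =
        algebraMap (ZMod p) (AdjoinRoot f) (f.eval 1) := by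
      rw [← map_one (algebraMap (ZMod p) (AdjoinRoot f)), Polynomial.aeval_algebraMap_apply,
        Polynomial.coe_aeval_eq_eval]
    rw [h2] at hroot
    have := (algebraMap (ZMod p) (AdjoinRoot f)).injective (hroot.trans (map_zero _).symm)
    exact ht' 1 this
  rw [show (2 : ℕ) = 1 + 1 from rfl, Nat.add_one_le_iff, Set.one_lt_ncard_iff (Set.toFinite _)]
  refine ⟨1, e (AdjoinRoot.root f), ?_, ?_, ?_⟩
  · refine ⟨map_one _, ?_⟩
    have : (2 : GaloisField p 3) - 1 = 1 := by ring
    rw [this, map_one]
  · refine ⟨?_, ?_⟩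
    · rw [Algebra.norm_eq_of_algEquiv e]; exact hN0
    · have : (2 : GaloisField p 3) - e (AdjoinRoot.root f) = e (2 - AdjoinRoot.root f) := by
        rw [map_sub, map_ofNat]
      rw [this, Algebra.norm_eq_of_algEquiv e]; exact hN2
  · intro h
    apply ha₀1
    apply e.injective
    rw [map_one]; exact h.symm

end Cfsg.Agent.Lib.Helper33
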