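import Mathlib

set_option autoImplicit false

namespace Cfsg.Agent.Lib.Helper33

open Finset

section

variable {p : ℕ} [hp : Fact p.Prime] {F : Type*} [Field F] [Fintype F] [Algebra (ZMod p) F]

/-- The multiplicative character `ω ∘ N` of `F` attached to a Dirichlet character `ω` mod `p`. -/
noncomputable def normChar (ω : DirichletCharacter ℂ p) : MulChar F ℂ where
  toFun x := ω (Algebra.norm (ZMod p) x)
  map_one' := by simp
  map_mul' x y := by simp [map_mul]
  map_nonunit' a ha := by
    have ha0 : a = 0 := by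
      by_contra h
      exact ha (isUnit_iff_ne_zero.mpr h)
    rw [ha0, Algebra.norm_zero]
    exact MulChar.map_nonunit ω (by simp)

@[simp] theorem normChar_apply (ω : DirichletCharacter ℂ p) (x : F) :
    normChar ω x = ω (Algebra.norm (ZMod p) x) := rfl

theorem normChar_mul (ω ω' : DirichletCharacter ℂ p) :
    normChar (F := F) (ω * ω') = normChar ω * normChar ω' := by
  ext x
  simp [MulChar.mul_apply]

theorem normChar_one : normChar (F := F) (1 : DirichletCharacter ℂ p) = 1 := by
  rw [MulChar.eq_one_iff]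
  intro a
  rw [normChar_apply]
  have hu : IsUnit (Algebra.norm (ZMod p) (a : F)) := by
    rw [isUnit_iff_ne_zero]
    intro h
    exact a.ne_zero (Algebra.norm_eq_zero_iff.mp h)
  exact MulChar.one_apply hu

theorem normChar_eq_one_iff (ω : DirichletCharacter ℂ p) :
    normChar (F := F) ω = 1 ↔ ω = 1 := by
  constructor
  · intro h
    rw [MulChar.eq_one_iff]
    intro y
    obtain ⟨x, hx⟩ := FiniteField.norm_surjective (ZMod p) F (y : ZMod p)
    have hx0 : x ≠ 0 := by
      intro h0
      rw [h0, Algebra.norm_zero] at hx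
      exact y.ne_zero hx.symm
    have h1 : normChar (F := F) ω x = 1 := by
      rw [h]
      exact MulChar.one_apply (isUnit_iff_ne_zero.mpr hx0)
    rw [normChar_apply, hx] at h1
    exact h1
  · intro h
    rw [h]; exact normChar_one

theorem norm_normChar_le_one (ω : DirichletCharacter ℂ p) (x : F) : ‖normChar ω x‖ ≤ 1 := by
  rw [normChar_apply]
  exact DirichletCharacter.norm_le_one ω _

/-- Indicator of norm one as a character sum. -/
theorem sum_normChar_apply (x : F) :
    ∑ ω : DirichletCharacter ℂ p, normChar ω x =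
      if Algebra.norm (ZMod p) x = 1 then ((p : ℂ) - 1) else 0 := by
  haveI : NeZero p := ⟨hp.out.ne_zero⟩
  simp only [normChar_apply]
  rw [DirichletCharacter.sum_characters_eq ℂ (Algebra.norm (ZMod p) x), Nat.totient_prime hp.out]
  split_ifs
  · rw [Nat.cast_sub hp.out.one_lt.le]; simp
  · rfl

theorem sum_mul_two_sub (h2 : (2 : F) ≠ 0) (χ χ' : MulChar F ℂ) :
    ∑ a : F, χ a * χ' (2 - a) = χ 2 * χ' 2 * jacobiSum χ χ' := by
  rw [jacobiSum, Finset.mul_sum,
    ← Equiv.sum_comp (Equiv.mulLeft₀ (2 : F) h2) (fun a => χ a * χ' (2 - a))]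
  apply Finset.sum_congr rfl
  intro x _
  have h : (2 : F) - 2 * x = 2 * (1 - x) := by ring
  simp only [Equiv.mulLeft₀_apply]
  rw [h, map_mul, map_mul]; ring

open Classical in
theorem count_identity (h2 : (2 : F) ≠ 0) :
    (((p : ℂ) - 1) ^ 2) *
        (Set.ncard {a : F | Algebra.norm (ZMod p) a = 1 ∧ Algebra.norm (ZMod p) (2 - a) = 1} : ℂ) =
      ∑ x : DirichletCharacter ℂ p × DirichletCharacter ℂ p,
        normChar (F := F) x.1 2 * normChar (F := F) x.2 2 *
          jacobiSum (normChar (F := F) x.1) (normChar x.2) := by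
  have h1 : ∀ x : DirichletCharacter ℂ p × DirichletCharacter ℂ p,
      normChar (F := F) x.1 2 * normChar (F := F) x.2 2 *
          jacobiSum (normChar (F := F) x.1) (normChar x.2) =
        ∑ a : F, normChar x.1 a * normChar x.2 (2 - a) := fun x =>
    (sum_mul_two_sub h2 _ _).symm
  simp_rw [h1]
  rw [Fintype.sum_prod_type]
  have h3 : ∑ ω : DirichletCharacter ℂ p, ∑ ω' : DirichletCharacter ℂ p, ∑ a : F,
      normChar ω a * normChar ω' (2 - a) =
      ∑ a : F, (∑ ω : DirichletCharacter ℂ p, normChar ω a) *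
        (∑ ω' : DirichletCharacter ℂ p, normChar ω' (2 - a)) := by
    simp_rw [Finset.sum_mul_sum]
    calc ∑ ω : DirichletCharacter ℂ p, ∑ ω' : DirichletCharacter ℂ p, ∑ a : F,
          normChar ω a * normChar ω' (2 - a)
        = ∑ ω : DirichletCharacter ℂ p, ∑ a : F, ∑ ω' : DirichletCharacter ℂ p,
          normChar ω a * normChar ω' (2 - a) := by
          apply Finset.sum_congr rfl
          intro ω _
          exact Finset.sum_comm
      _ = ∑ a : F, ∑ ω : DirichletCharacter ℂ p, ∑ ω' : DirichletCharacter ℂ p,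
          normChar ω a * normChar ω' (2 - a) := Finset.sum_comm
  rw [h3]
  simp_rw [sum_normChar_apply]
  have h4 : ∀ a : F, (if Algebra.norm (ZMod p) a = 1 then ((p : ℂ) - 1) else 0) *
      (if Algebra.norm (ZMod p) (2 - a) = 1 then ((p : ℂ) - 1) else 0) =
      if (Algebra.norm (ZMod p) a = 1 ∧ Algebra.norm (ZMod p) (2 - a) = 1) then
        ((p : ℂ) - 1) ^ 2 else 0 := by
    intro a
    by_cases ha : Algebra.norm (ZMod p) a = 1 <;> by_cases hb : Algebra.norm (ZMod p) (2 - a) = 1 <;>
      simp [ha, hb, sq]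
  simp_rw [h4]
  rw [← Finset.sum_filter, Finset.sum_const, nsmul_eq_mul, mul_comm]
  congr 2
  rw [Set.ncard_eq_toFinset_card']
  congr 1
  ext a
  simp

theorem norm_jacobiSum_normChar_le (ω ω' : DirichletCharacter ℂ p) (hne : ¬ (ω = 1 ∧ ω' = 1)) :
    ‖jacobiSum (normChar (F := F) ω) (normChar ω')‖ ≤ Real.sqrt (Fintype.card F) := by
  have hQ1 : (1 : ℝ) ≤ Real.sqrt (Fintype.card F) := by
    rw [Real.one_le_sqrt]
    exact_mod_cast Fintype.card_pos
  by_cases hχ : normChar (F := F) ω = 1
  · have hχ' : normChar (F := F) ω' ≠ 1 := by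
      intro h
      exact hne ⟨(normChar_eq_one_iff ω).mp hχ, (normChar_eq_one_iff ω').mp h⟩
    rw [hχ, jacobiSum_one_nontrivial hχ', norm_neg, norm_one]
    exact hQ1
  · by_cases hχ' : normChar (F := F) ω' = 1
    · rw [hχ', jacobiSum_comm, jacobiSum_one_nontrivial hχ, norm_neg, norm_one]
      exact hQ1
    · by_cases hmul : normChar (F := F) ω * normChar ω' = 1
      · have hinv : normChar (F := F) ω' = (normChar ω)⁻¹ := eq_inv_of_mul_eq_one_right hmul
        rw [hinv, jacobiSum_nontrivial_inv hχ, norm_neg]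
        exact (norm_normChar_le_one ω _).trans hQ1
      · haveI : CharP F p := charP_of_injective_algebraMap (algebraMap (ZMod p) F).injective p
        have hchar : ringChar ℂ ≠ ringChar F := by
          rw [ringChar.eq F p, ringChar.eq_zero]
          exact hp.out.ne_zero.symm
        have h := jacobiSum_mul_jacobiSum_inv hchar hχ hχ' hmul
        have hconj : jacobiSum (normChar (F := F) ω)⁻¹ (normChar ω')⁻¹ =
            (starRingEnd ℂ) (jacobiSum (normChar (F := F) ω) (normChar ω')) := by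
          simp only [jacobiSum, map_sum, map_mul]
          apply Finset.sum_congr rfl
          intro x _
          rw [← MulChar.star_apply', ← MulChar.star_apply']
          rfl
        rw [hconj, Complex.mul_conj] at h
        have h2 : Complex.normSq (jacobiSum (normChar (F := F) ω) (normChar ω')) =
            (Fintype.card F : ℝ) := by
          exact_mod_cast h
        rw [Complex.normSq_eq_norm_sq] at h2
        apply Real.le_sqrt_of_sq_le
        rw [h2]

open Classical in
theorem two_le_ncard_of_card_ge (hp2 : p ≠ 2) (hQ : p ^ 4 ≤ Fintype.card F) :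
    2 ≤ Set.ncard {a : F | Algebra.norm (ZMod p) a = 1 ∧ Algebra.norm (ZMod p) (2 - a) = 1} := by
  haveI : NeZero p := ⟨hp.out.ne_zero⟩
  haveI : CharP F p := charP_of_injective_algebraMap (algebraMap (ZMod p) F).injective p
  have hp3 : 3 ≤ p := by
    have := hp.out.two_le
    omega
  have h2 : (2 : F) ≠ 0 := by
    intro h
    have h' : ((2 : ℕ) : F) = 0 := by exact_mod_cast h
    rw [CharP.cast_eq_zero_iff F p] at h'
    have := Nat.le_of_dvd (by norm_num) h'
    omega
  by_contra hcon
  set n := Set.ncard {a : F | Algebra.norm (ZMod p) a = 1 ∧ Algebra.norm (ZMod p) (2 - a) = 1}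
    with hn
  have hn1 : (n : ℝ) ≤ 1 := by
    have : n ≤ 1 := by omega
    exact_mod_cast this
  have hid := count_identity (p := p) (F := F) h2
  rw [← hn] at hid
  set D := DirichletCharacter ℂ p with hD
  set T : D × D → ℂ := fun x => normChar (F := F) x.1 2 * normChar (F := F) x.2 2 *
          jacobiSum (normChar (F := F) x.1) (normChar x.2) with hT
  have hsplit : ∑ x : D × D, T x = T (1, 1) + ∑ x ∈ (Finset.univ.erase ((1, 1) : D × D)), T x :=
    (Finset.add_sum_erase _ _ (Finset.mem_univ _)).symm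
  have hT11 : T (1, 1) = (Fintype.card F : ℂ) - 2 := by
    simp only [hT]
    rw [normChar_one, jacobiSum_one_one, MulChar.one_apply (isUnit_iff_ne_zero.mpr h2)]
    ring
  set s : ℝ := Real.sqrt (Fintype.card F) with hs
  have hbound : ∀ x ∈ (Finset.univ.erase ((1, 1) : D × D)), ‖T x‖ ≤ s := by
    intro x hx
    have hx' : ¬ (x.1 = 1 ∧ x.2 = 1) := by
      rintro ⟨h1, h2'⟩
      exact (Finset.mem_erase.mp hx).1 (Prod.ext h1 h2')
    simp only [hT, norm_mul]
    have h1 := norm_normChar_le_one (F := F) x.1 2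
    have h2' := norm_normChar_le_one (F := F) x.2 2
    have h3 := norm_jacobiSum_normChar_le (F := F) x.1 x.2 hx'
    have h0 : 0 ≤ ‖jacobiSum (normChar (F := F) x.1) (normChar x.2)‖ := norm_nonneg _
    calc ‖normChar (F := F) x.1 2‖ * ‖normChar (F := F) x.2 2‖ *
          ‖jacobiSum (normChar (F := F) x.1) (normChar x.2)‖
        ≤ 1 * 1 * ‖jacobiSum (normChar (F := F) x.1) (normChar x.2)‖ := by
          gcongr
      _ ≤ s := by rw [one_mul, one_mul]; exact h3
  have hcardD : Fintype.card D = p - 1 := by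
    rw [← Nat.card_eq_fintype_card,
      DirichletCharacter.card_eq_totient_of_hasEnoughRootsOfUnity ℂ p, Nat.totient_prime hp.out]
  have hcard : ((Finset.univ.erase ((1, 1) : D × D)).card : ℝ) = ((p : ℝ) - 1) ^ 2 - 1 := by
    rw [Finset.card_erase_of_mem (Finset.mem_univ _), Finset.card_univ, Fintype.card_prod, hcardD]
    have h1 : 1 ≤ (p - 1) * (p - 1) := by
      have : 2 ≤ p - 1 := by omega
      nlinarith
    rw [Nat.cast_sub h1, Nat.cast_mul, Nat.cast_sub hp.out.one_lt.le]
    push_cast; ring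
  have hsum : ‖∑ x ∈ (Finset.univ.erase ((1, 1) : D × D)), T x‖ ≤
      (((p : ℝ) - 1) ^ 2 - 1) * s := by
    calc ‖∑ x ∈ (Finset.univ.erase ((1, 1) : D × D)), T x‖
        ≤ ∑ x ∈ (Finset.univ.erase ((1, 1) : D × D)), ‖T x‖ := norm_sum_le _ _
      _ ≤ ∑ _x ∈ (Finset.univ.erase ((1, 1) : D × D)), s := Finset.sum_le_sum hbound
      _ = (((p : ℝ) - 1) ^ 2 - 1) * s := by
        rw [Finset.sum_const, nsmul_eq_mul, hcard]
  -- the remainder is real
  have hrem : ∑ x ∈ (Finset.univ.erase ((1, 1) : D × D)), T x =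
      (((((p : ℝ) - 1) ^ 2 * (n : ℝ) - ((Fintype.card F : ℝ) - 2) : ℝ)) : ℂ) := by
    have : ∑ x ∈ (Finset.univ.erase ((1, 1) : D × D)), T x = ∑ x : D × D, T x - T (1, 1) := by
      rw [hsplit]; ring
    rw [this, ← hid, hT11]
    push_cast; ring
  rw [hrem, Complex.norm_real, Real.norm_eq_abs] at hsum
  have habs := (abs_le.mp hsum).1
  -- numerics
  have hsQ : s ^ 2 = (Fintype.card F : ℝ) := Real.sq_sqrt (by positivity)
  have hsp : (p : ℝ) ^ 2 ≤ s := by
    rw [hs]
    apply Real.le_sqrt_of_sq_le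
    have : ((p ^ 4 : ℕ) : ℝ) ≤ (Fintype.card F : ℝ) := by exact_mod_cast hQ
    calc ((p : ℝ) ^ 2) ^ 2 = ((p ^ 4 : ℕ) : ℝ) := by push_cast; ring
      _ ≤ _ := this
  have hp3' : (3 : ℝ) ≤ p := by exact_mod_cast hp3
  have hc : (0 : ℝ) ≤ ((p : ℝ) - 1) ^ 2 := sq_nonneg _
  have hs0 : 0 ≤ s := Real.sqrt_nonneg _
  have key1 : 2 * (p : ℝ) ≤ s - ((p : ℝ) - 1) ^ 2 + 1 := by nlinarith
  have key2 : 2 * (p : ℝ) * s ≤ s * (s - ((p : ℝ) - 1) ^ 2 + 1) := by nlinarith
  nlinarith

end

end Cfsg.Agent.Lib.Helper33
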