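import Mathlib

set_option autoImplicit false

namespace Cfsg.Agent.Lib.Helper33

open Polynomial

/-- In a finite Galois extension `L/K`, if the norm of `t + k` takes one value for all `k` in a
finite set `Z ⊆ K`, then `Z` has at most `[L : K]` elements. -/
theorem card_le_finrank_of_norm_add_const {K L : Type*} [Field K] [Field L] [Algebra K L]
    [FiniteDimensional K L] [IsGalois K L] (t : L) (c : K) (Z : Finset K)
    (hZ : ∀ k ∈ Z, Algebra.norm K (t + algebraMap K L k) = c) :
    Z.card ≤ Module.finrank K L := by
  classical
  let Q : L[X] := ∏ σ : Gal(L/K), (X + C (σ t))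
  have hQmonic : Q.Monic := monic_prod_of_monic _ _ (fun σ _ => monic_X_add_C _)
  have hQdeg : Q.natDegree = Module.finrank K L := by
    rw [natDegree_prod_of_monic _ _ (fun σ _ => monic_X_add_C _)]
    simp only [natDegree_X_add_C, Finset.sum_const, smul_eq_mul, mul_one, Finset.card_univ]
    rw [← Nat.card_eq_fintype_card, IsGalois.card_aut_eq_finrank]
  have hpos : 0 < Module.finrank K L := Module.finrank_pos
  let R : L[X] := Q - C (algebraMap K L c)
  have hRdeg : R.natDegree = Module.finrank K L := by
    rw [natDegree_sub_C, hQdeg]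
  have hRne : R ≠ 0 := by
    intro h
    rw [h, natDegree_zero] at hRdeg
    omega
  have hroot : ∀ k ∈ Z, algebraMap K L k ∈ R.roots := by
    intro k hk
    rw [mem_roots hRne, IsRoot.def, eval_sub, eval_C, eval_prod]
    have h1 : ∀ σ : Gal(L/K), eval (algebraMap K L k) (X + C (σ t)) = σ (t + algebraMap K L k) := by
      intro σ
      rw [eval_add, eval_X, eval_C, map_add, AlgEquiv.commutes, add_comm]
    rw [Finset.prod_congr rfl (fun σ _ => h1 σ), ← Algebra.norm_eq_prod_automorphisms, hZ k hk,
      sub_self]
  have hinj : Function.Injective (algebraMap K L) := (algebraMap K L).injective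
  have hsub : (Z.image (algebraMap K L)).val ⊆ R.roots := by
    intro z hz
    rw [Finset.mem_val, Finset.mem_image] at hz
    obtain ⟨k, hk, rfl⟩ := hz
    exact hroot k hk
  have := card_le_degree_of_subset_roots hsub
  rw [Finset.card_image_of_injective _ hinj, hRdeg] at this
  exact this

end Cfsg.Agent.Lib.Helper33
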