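import Mathlib
import Cfsg.Prelude.Def_Characters
import Cfsg.Agent.Lib.Helper33.IndMat
import Cfsg.Agent.Lib.Helper79.RealStructure
import Cfsg.Agent.Lib.Helper79.RealRep
import Cfsg.Agent.Lib.Helper83.Linear

/-!
# Frobenius–Schur indicator of an induced character; counting linear characters with prescribed
restriction (helper33)

* `fsInd_indFun_eq_one`: if `ψ ∈ Irr(I)` has indicator `+1` and `Ind_I^G ψ` is irreducible, then
  `Ind_I^G ψ` has indicator `+1` (induce a real matrix representation).
* `card_le_index_of_restrict_eq`: a family of distinct linear characters of `G` with the same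
  restriction to `I` has at most `[G : I]` members (Dedekind independence).
-/

set_option autoImplicit false
set_option linter.style.haveILetI false

namespace Cfsg.Agent.Lib.Helper33.RealInd

open Cfsg

universe u

section FS

variable {G : Type u} [Group G] [Fintype G]

theorem fsInd_indFun_eq_one (I : Subgroup G) [Fintype I] {ψ : I → ℂ} (hψ : IsIrrCharacter I ψ)
    (hν : Cfsg.Agent.Lib.Helper79.fsInd ψ = 1) (hirr : IsIrrCharacter G (indFun I ψ)) :
    Cfsg.Agent.Lib.Helper79.fsInd (indFun I ψ) = 1 := by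
  classical
  obtain ⟨n, ρ, hρirr, hρχ⟩ := hψ
  haveI := hρirr
  have hν' : Cfsg.Agent.Lib.Helper79.fsInd ρ.character = 1 := by rw [hρχ]; exact hν
  obtain ⟨R, hR1, hRmul, hRtr⟩ := Cfsg.Agent.Lib.Helper79.exists_real_rep_of_fsInd_eq_one ρ hν'
  let R' : I →* Matrix (Fin n) (Fin n) ℝ :=
    { toFun := R, map_one' := hR1, map_mul' := hRmul }
  obtain ⟨m, Y, hY1, hYmul, hYtr⟩ := Cfsg.Agent.Lib.Helper33.IndMat.exists_fin_indMat (F := ℝ) I R'
  have hfun : (fun e : I => algebraMap ℝ ℂ (R' e).trace) = ψ := by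
    funext e
    rw [← hρχ]
    exact hRtr e
  rw [hfun] at hYtr
  have := Cfsg.Agent.Lib.Helper79.fsInd_eq_one_of_real_rep ⟨indFun I ψ, hirr⟩ m
    (Cfsg.Agent.Lib.Helper79.matRep Y hY1 hYmul) (fun g => by
      rw [Cfsg.Agent.Lib.Helper79.trace_matRep]
      exact hYtr g)
  exact this

end FS

section Count

variable {G : Type u} [Group G] [Finite G]

theorem card_le_index_of_restrict_eq (I : Subgroup G) {ι : Type*} [Finite ι] (lam : ι → G → ℂ)
    (hinj : Function.Injective lam) (hchar : ∀ s, IsCharacter G (lam s)) (hone : ∀ s, lam s 1 = 1)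
    (hres : ∀ s t, ∀ i ∈ I, lam s i = lam t i) : Nat.card ι ≤ I.index := by
  classical
  haveI : Fintype G := Fintype.ofFinite G
  haveI : Fintype ι := Fintype.ofFinite ι
  haveI : Fintype (G ⧸ I) := Fintype.ofFinite _
  rcases isEmpty_or_nonempty ι with hemp | ⟨⟨s₀⟩⟩
  · rw [Nat.card_eq_fintype_card, Fintype.card_eq_zero]; exact Nat.zero_le _
  have hmul : ∀ s g h, lam s (g * h) = lam s g * lam s h := fun s g h =>
    Cfsg.Agent.Lib.Helper83.char_deg_one_mul (hchar s) (hone s) g h
  have hne : ∀ s g, lam s g ≠ 0 := fun s g =>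
    Cfsg.Agent.Lib.Helper83.char_deg_one_ne_zero (hchar s) (hone s) g
  let μ : ι → (G →* ℂ) := fun s =>
    { toFun := fun g => lam s g * (lam s₀ g)⁻¹
      map_one' := by rw [hone, hone, inv_one, mul_one]
      map_mul' := fun g h => by
        rw [hmul, hmul, mul_inv]; ring }
  have hμinj : Function.Injective μ := by
    intro s t hst
    apply hinj
    funext g
    have h1 : μ s g = μ t g := by rw [hst]
    have h2 : lam s g * (lam s₀ g)⁻¹ = lam t g * (lam s₀ g)⁻¹ := h1
    exact mul_right_cancel₀ (inv_ne_zero (hne s₀ g)) h2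
  have hμI : ∀ s, ∀ i ∈ I, μ s i = 1 := by
    intro s i hi
    show lam s i * (lam s₀ i)⁻¹ = 1
    rw [hres s s₀ i hi, mul_inv_cancel₀ (hne s₀ i)]
  have hμrel : ∀ s (a b : G), QuotientGroup.leftRel I a b → μ s a = μ s b := by
    intro s a b hab
    rw [QuotientGroup.leftRel_apply] at hab
    have : b = a * (a⁻¹ * b) := by group
    rw [this, map_mul, hμI s _ hab, mul_one]
  let μt : ι → (G ⧸ I → ℂ) := fun s => Quotient.lift (μ s) (hμrel s)
  have hli : LinearIndependent ℂ μt := by
    apply LinearIndependent.of_comp (LinearMap.funLeft ℂ ℂ (QuotientGroup.mk (s := I)))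
    have hcomp : (LinearMap.funLeft ℂ ℂ (QuotientGroup.mk (s := I))) ∘ μt =
        (fun f : G →* ℂ => (f : G → ℂ)) ∘ μ := by
      funext s g
      rfl
    rw [hcomp]
    exact (linearIndependent_monoidHom G ℂ).comp μ hμinj
  have := hli.fintype_card_le_finrank
  rw [Module.finrank_fintype_fun_eq_card] at this
  rw [Nat.card_eq_fintype_card, Subgroup.index_eq_card, Nat.card_eq_fintype_card]
  exact this

end Count

end Cfsg.Agent.Lib.Helper33.RealInd
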