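import Cfsg.Agent.Lib.Helper24.ReeS
import Cfsg.Agent.Lib.Helper24.ReeU3
import Cfsg.Agent.Lib.Helper37.SL2Pres
import Cfsg.Agent.Lib.Helper76.ReeTorus

/-!
# Keystone 115207 K-Ree2-C (pack of helper76, S1152 + S1157), parallel hand of helper33

The twisted diagonal `Φ : SL₂(K) → ²G₂` (helper24's `ree_sl2_hom`) has kernel `{1, -1}`.
-/

set_option autoImplicit false

namespace Cfsg.Agent.Lib.Helper33.Ree2

open Cfsg.Lie Cfsg.Agent.Lib.Helper24 Cfsg.Agent.Lib.Helper33.Ree Cfsg.Agent.Lib.Helper37.SL2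

/-! ### Bruhat decomposition of `SL₂` (as in `Helper37.SL2.mem_closure_gens`) -/

section bruhat

variable {F : Type*} [Field F]

theorem sl2_bruhat0 (g : Matrix.SpecialLinearGroup (Fin 2) F) (hc : g 1 0 = 0) :
    ∃ (t : F) (ht : t ≠ 0) (s : F), g = dd t ht * uu s := by
  have hdet := det_eq g
  have ha : g 0 0 ≠ 0 := by
    intro ha
    rw [ha, hc] at hdet
    simp at hdet
  have had : g 0 0 * g 1 1 = 1 := by
    rw [hc, mul_zero, sub_zero] at hdet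
    exact hdet
  refine ⟨g 0 0, ha, g 0 1 / g 0 0, ?_⟩
  obtain ⟨m00, m01, m10, m11⟩ := mul_uu (dd (g 0 0) ha) (g 0 1 / g 0 0)
  obtain ⟨d00, d01, d10, d11⟩ := dd_apply (g 0 0) ha
  apply ext4
  · rw [m00, d00]
  · rw [m01, d00, d01, add_zero]
    field_simp
  · rw [m10, d10, hc]
  · rw [m11, d10, d11, zero_mul, zero_add]
    exact eq_inv_of_mul_eq_one_right had

theorem sl2_bruhat1 (g : Matrix.SpecialLinearGroup (Fin 2) F) (hc : g 1 0 ≠ 0) :
    ∃ (s t : F) (ht : t ≠ 0) (s' : F), g = uu s * dd t ht * w1 * uu s' := by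
  have hdet := det_eq g
  have hc' : -(g 1 0)⁻¹ ≠ 0 := neg_ne_zero.mpr (inv_ne_zero hc)
  refine ⟨g 0 0 / g 1 0, -(g 1 0)⁻¹, hc', g 1 1 / g 1 0, ?_⟩
  obtain ⟨m00, m01, m10, m11⟩ :=
    mul_uu (uu (g 0 0 / g 1 0) * dd (-(g 1 0)⁻¹) hc' * w1) (g 1 1 / g 1 0)
  obtain ⟨w00, w01, w10, w11⟩ := mul_w1 (uu (g 0 0 / g 1 0) * dd (-(g 1 0)⁻¹) hc')
  obtain ⟨k00, k01, k10, k11⟩ := mul_dd (uu (g 0 0 / g 1 0)) (-(g 1 0)⁻¹) hc'
  obtain ⟨u00, u01, u10, u11⟩ := uu_apply (g 0 0 / g 1 0)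
  apply ext4
  · rw [m00, w00, k01, u01]
    field_simp
  · rw [m01, w00, w01, k01, k00, u01, u00]
    field_simp
    linear_combination -hdet
  · rw [m10, w10, k11, u11]
    field_simp
  · rw [m11, w10, w11, k11, k10, u11, u10, zero_mul, add_zero]
    field_simp

/-- copy of `Helper24.sl2_w1_eq` (kept local so that this file does not need the closure of S1030) -/
theorem sl2_w1_eq' : (w1 : Matrix.SpecialLinearGroup (Fin 2) F) = uu 1 * ll (-1) * uu 1 := by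
  apply Subtype.ext
  simp only [Matrix.SpecialLinearGroup.coe_mul]
  show (!![0, 1; -1, 0] : Matrix (Fin 2) (Fin 2) F) =
    !![1, 1; 0, 1] * !![1, 0; -1, 1] * !![1, 1; 0, 1]
  simp

/-- copy of `Helper24.sl2_dd_eq` -/
theorem sl2_dd_eq' (t : F) (ht : t ≠ 0) :
    dd t ht = (uu t * ll (-t⁻¹) * uu t) * (uu (-1) * ll 1 * uu (-1)) := by
  apply Subtype.ext
  simp only [Matrix.SpecialLinearGroup.coe_mul]
  show (!![t, 0; 0, t⁻¹] : Matrix (Fin 2) (Fin 2) F) =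
    (!![1, t; 0, 1] * !![1, 0; -t⁻¹, 1] * !![1, t; 0, 1]) *
      (!![1, -1; 0, 1] * !![1, 0; 1, 1] * !![1, -1; 0, 1])
  simp [ht]

theorem sl2_neg_one_eq : (-1 : Matrix.SpecialLinearGroup (Fin 2) F) = dd (-1) (neg_ne_zero.mpr one_ne_zero) := by
  apply Subtype.ext
  rw [Matrix.SpecialLinearGroup.coe_neg, Matrix.SpecialLinearGroup.coe_one]
  show (-1 : Matrix (Fin 2) (Fin 2) F) = !![-1, 0; 0, (-1)⁻¹]
  ext i j
  fin_cases i <;> fin_cases j <;> simp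

theorem sl2_dd_one : dd (1 : F) one_ne_zero = 1 := by
  apply Subtype.ext
  show (!![1, 0; 0, (1 : F)⁻¹] : Matrix (Fin 2) (Fin 2) F) = 1
  ext i j
  fin_cases i <;> fin_cases j <;> simp

theorem sl2_uu_zero' : uu (0 : F) = 1 := by
  apply Subtype.ext
  show (!![1, 0; 0, 1] : Matrix (Fin 2) (Fin 2) F) = 1
  ext i j
  fin_cases i <;> fin_cases j <;> simp

end bruhat

/-! ### The values of `Φ` -/

section phi

variable {K : Type*} [Field K] {e : ℕ}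

theorem phi_nn (he : Odd e)
    (Φ : Matrix.SpecialLinearGroup (Fin 2) K →* GL chevG2.Idx K)
    (hu : ∀ u : K, Φ (uu u) = (envG2 K).hF.xGL 8 (u ^ e) * (envG2 K).hF.xGL 10 u)
    (hl : ∀ u : K, Φ (ll u) = (envG2 K).hF.xGL 3 (u ^ e) * (envG2 K).hF.xGL 1 u) (s : K) :
    Φ (uu s * ll (-s⁻¹) * uu s) = (envG2 K).hF.nGL 8 (s ^ e) * (envG2 K).hF.nGL 10 s := by
  have he0 : e ≠ 0 := by rintro rfl; simp at he
  rw [map_mul, map_mul, hu, hl, he.neg_pow]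
  have h := Cfsg.Agent.Lib.Helper76.Ree.nn_eq (K := K) e he0 s
  rw [Cfsg.Agent.Lib.Helper76.Ree.wordU_0s0 e he0, Cfsg.Agent.Lib.Helper76.Ree.wordV_0s0 e he0] at h
  exact h.symm

/-- `Φ (dd t) = h_a(t^(e+1)) h_b(t^(3e+1))` -/
theorem phi_dd (he : Odd e)
    (Φ : Matrix.SpecialLinearGroup (Fin 2) K →* GL chevG2.Idx K)
    (hu : ∀ u : K, Φ (uu u) = (envG2 K).hF.xGL 8 (u ^ e) * (envG2 K).hF.xGL 10 u)
    (hl : ∀ u : K, Φ (ll u) = (envG2 K).hF.xGL 3 (u ^ e) * (envG2 K).hF.xGL 1 u) (t : Kˣ) :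
    Φ (dd (t : K) t.ne_zero) =
      Cfsg.Agent.Lib.Helper76.Ree.tor (t ^ e * t) ((t ^ e) ^ 3 * t) := by
  have h1 : (ll (1 : K)) = ll (-(-1 : K)⁻¹) := by
    congr 1
    rw [inv_neg_one, neg_neg]
  rw [sl2_dd_eq' (t : K) t.ne_zero, map_mul, phi_nn he Φ hu hl (t : K), h1, phi_nn he Φ hu hl (-1),
    he.neg_one_pow]
  have hc := (Cfsg.Agent.Lib.Helper76.Ree.nGL_commute (K := K) (-1) (t : K)).eq
  have e1 : (envG2 K).hF.nGL 8 ((t : K) ^ e) * (envG2 K).hF.nGL 10 (t : K) *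
      ((envG2 K).hF.nGL 8 (-1) * (envG2 K).hF.nGL 10 (-1)) =
      ((envG2 K).hF.nGL 8 ((t : K) ^ e) * (envG2 K).hF.nGL 8 (-1)) *
        ((envG2 K).hF.nGL 10 (t : K) * (envG2 K).hF.nGL 10 (-1)) := by
    calc (envG2 K).hF.nGL 8 ((t : K) ^ e) * (envG2 K).hF.nGL 10 (t : K) *
          ((envG2 K).hF.nGL 8 (-1) * (envG2 K).hF.nGL 10 (-1))
        = (envG2 K).hF.nGL 8 ((t : K) ^ e) * ((envG2 K).hF.nGL 10 (t : K) * (envG2 K).hF.nGL 8 (-1)) *
            (envG2 K).hF.nGL 10 (-1) := by group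
      _ = (envG2 K).hF.nGL 8 ((t : K) ^ e) * ((envG2 K).hF.nGL 8 (-1) * (envG2 K).hF.nGL 10 (t : K)) *
            (envG2 K).hF.nGL 10 (-1) := by rw [hc]
      _ = _ := by group
  rw [e1, ← Cfsg.Agent.Lib.Helper76.Ree.hGL_eq, ← Cfsg.Agent.Lib.Helper76.Ree.hGL_eq,
    ← Cfsg.Agent.Lib.Helper76.Ree.tor_mul]
  have h8 := Cfsg.Agent.Lib.Helper76.Ree.hMat8 (K := K) (t ^ e)
  have h10 := Cfsg.Agent.Lib.Helper76.Ree.hMat10 (K := K) t
  apply Units.ext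
  rw [Units.val_mul, Units.val_mul, Facts.wordGL_val, Facts.wordGL_val, ← h8, ← h10,
    Units.val_pow_eq_pow_val]
  rfl

theorem phi_neg_one (he : Odd e)
    (Φ : Matrix.SpecialLinearGroup (Fin 2) K →* GL chevG2.Idx K)
    (hu : ∀ u : K, Φ (uu u) = (envG2 K).hF.xGL 8 (u ^ e) * (envG2 K).hF.xGL 10 u)
    (hl : ∀ u : K, Φ (ll u) = (envG2 K).hF.xGL 3 (u ^ e) * (envG2 K).hF.xGL 1 u) :
    Φ (-1) = 1 := by
  have h := phi_dd he Φ hu hl (-1 : Kˣ)
  have e1 : dd ((-1 : Kˣ) : K) (-1 : Kˣ).ne_zero = (-1 : Matrix.SpecialLinearGroup (Fin 2) K) := by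
    rw [sl2_neg_one_eq]
    congr 1
  rw [e1] at h
  rw [h, he.neg_one_pow]
  have : ((-1 : Kˣ) * -1 = 1) ∧ ((-1 : Kˣ) ^ 3 * -1 = 1) := by
    constructor
    · simp
    · simp [pow_succ]
  rw [this.1, this.2, Cfsg.Agent.Lib.Helper76.Ree.tor_one]

theorem phi_ker (he : Odd e)
    (Φ : Matrix.SpecialLinearGroup (Fin 2) K →* GL chevG2.Idx K)
    (hu : ∀ u : K, Φ (uu u) = (envG2 K).hF.xGL 8 (u ^ e) * (envG2 K).hF.xGL 10 u)
    (hl : ∀ u : K, Φ (ll u) = (envG2 K).hF.xGL 3 (u ^ e) * (envG2 K).hF.xGL 1 u)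
    (g : Matrix.SpecialLinearGroup (Fin 2) K) (hg : Φ g = 1) : g = 1 ∨ g = -1 := by
  have he0 : e ≠ 0 := by rintro rfl; simp at he
  have hUpos : ∀ s : K, Φ (uu s) ∈ chevG2.posUnipotent K := by
    intro s
    rw [hu]
    exact Subgroup.mul_mem _ ((envG2 K).hF.xGL_mem_pos 8 (by decide) _)
      ((envG2 K).hF.xGL_mem_pos 10 (by decide) _)
  have hDdiag : ∀ (t : K) (ht : t ≠ 0), Φ (dd t ht) ∈ chevG2.diagonalSubgroup K := by
    intro t ht
    have : Φ (dd t ht) = Cfsg.Agent.Lib.Helper76.Ree.tor (Units.mk0 t ht ^ e * Units.mk0 t ht)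
        ((Units.mk0 t ht ^ e) ^ 3 * Units.mk0 t ht) := phi_dd he Φ hu hl (Units.mk0 t ht)
    rw [this]
    exact Cfsg.Agent.Lib.Helper76.Ree.tor_mem_diagonal _ _
  by_cases hc : g 1 0 = 0
  · obtain ⟨t, ht, s, rfl⟩ := sl2_bruhat0 g hc
    rw [map_mul] at hg
    have hUH := ((envG2 K).hF.borel_semidirect (F := K)).2
    have h1 : Φ (uu s) ∈ chevG2.posUnipotent K ⊓ chevG2.diagonalSubgroup K := by
      refine ⟨hUpos s, ?_⟩
      have : Φ (uu s) = (Φ (dd t ht))⁻¹ := eq_inv_of_mul_eq_one_right hg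
      rw [this]
      exact Subgroup.inv_mem _ (hDdiag t ht)
    rw [hUH, Subgroup.mem_bot] at h1
    rw [h1, mul_one] at hg
    -- s = 0
    have hs : s = 0 := by
      rw [hu] at h1
      have h2 : (envG2 K).hF.wordGL (reeWordU e (0 : K) s 0) =
          (envG2 K).hF.wordGL (reeWordU e (0 : K) 0 0) := by
        have a1 := Cfsg.Agent.Lib.Helper76.Ree.wordU_0s0 (K := K) e he0 s
        have a2 := Cfsg.Agent.Lib.Helper76.Ree.wordU_0s0 (K := K) e he0 0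
        rw [zero_pow he0, Facts.xGL_zero, Facts.xGL_zero, one_mul] at a2
        exact a1.trans (h1.trans a2.symm)
      exact (reeWordU_inj (0 : K) s 0 0 0 0 h2).2.1
    -- t = ± 1
    have hd : Φ (dd t ht) = Cfsg.Agent.Lib.Helper76.Ree.tor (Units.mk0 t ht ^ e * Units.mk0 t ht)
        ((Units.mk0 t ht ^ e) ^ 3 * Units.mk0 t ht) := phi_dd he Φ hu hl (Units.mk0 t ht)
    rw [hg] at hd
    have hd' : Cfsg.Agent.Lib.Helper76.Ree.tor (1 : Kˣ) 1 =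
        Cfsg.Agent.Lib.Helper76.Ree.tor (Units.mk0 t ht ^ e * Units.mk0 t ht)
          ((Units.mk0 t ht ^ e) ^ 3 * Units.mk0 t ht) := by
      rw [Cfsg.Agent.Lib.Helper76.Ree.tor_one]
      exact hd
    obtain ⟨q1, q2⟩ := Cfsg.Agent.Lib.Helper76.Ree.tor_injective _ _ _ _ hd'
    set τ : Kˣ := Units.mk0 t ht with hτ
    have hτ2 : τ ^ 2 = 1 := by
      obtain ⟨k, hk⟩ := he
      have b1 : τ ^ (e + 1) = 1 := by rw [pow_succ]; exact q1.symm
      have b2 : τ ^ (3 * e + 1) = 1 := by rw [pow_succ, pow_mul']; exact q2.symm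
      have b3 : τ ^ (3 * e + 1) = τ ^ (e + 1) * τ ^ (2 * e) := by rw [← pow_add]; congr 1; ring
      rw [b2, b1, one_mul] at b3
      have b4 : τ ^ (2 * e + 2) = 1 := by
        have : τ ^ (2 * e + 2) = (τ ^ (e + 1)) ^ 2 := by rw [← pow_mul]; congr 1; ring
        rw [this, b1, one_pow]
      have b5 : τ ^ (2 * e + 2) = τ ^ (2 * e) * τ ^ 2 := pow_add _ _ _
      rw [b4, ← b3, one_mul] at b5
      exact b5.symm
    have ht2 : t ^ 2 = 1 := by
      have := congrArg (fun x : Kˣ => (x : K)) hτ2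
      simpa [hτ] using this
    have ht' : t = 1 ∨ t = -1 := by
      have : (t - 1) * (t + 1) = 0 := by ring_nf; rw [ht2]; ring
      rcases mul_eq_zero.mp this with h | h
      · left; exact sub_eq_zero.mp h
      · right; exact eq_neg_of_add_eq_zero_left h
    subst hs
    rw [sl2_uu_zero', mul_one]
    rcases ht' with rfl | rfl
    · left; exact sl2_dd_one
    · right; exact sl2_neg_one_eq.symm
  · exfalso
    obtain ⟨s, t, ht, s', rfl⟩ := sl2_bruhat1 g hc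
    rw [map_mul, map_mul, map_mul] at hg
    have hw : Φ w1 = reeS K := by
      rw [sl2_w1_eq']
      have := phi_nn he Φ hu hl 1
      rw [inv_one, one_pow] at this
      rw [this]
      rfl
    have hb1 : Φ (uu s) * Φ (dd t ht) ∈ chevG2.borelSubgroup K :=
      Subgroup.mul_mem _ (pos_le_borel chevG2 K (hUpos s)) (diagonal_le_borel chevG2 K (hDdiag t ht))
    have hb2 : Φ (uu s') ∈ chevG2.borelSubgroup K := pos_le_borel chevG2 K (hUpos s')
    have e1 : Φ w1 = (Φ (uu s) * Φ (dd t ht))⁻¹ * (Φ (uu s'))⁻¹ := by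
      have : Φ (uu s) * Φ (dd t ht) * Φ w1 * Φ (uu s') = 1 := hg
      calc Φ w1 = (Φ (uu s) * Φ (dd t ht))⁻¹ * (Φ (uu s) * Φ (dd t ht) * Φ w1 * Φ (uu s')) *
            (Φ (uu s'))⁻¹ := by group
        _ = _ := by rw [this, mul_one]
    apply reeS_not_borel (K := K)
    rw [← hw, e1]
    exact Subgroup.mul_mem _ (Subgroup.inv_mem _ hb1) (Subgroup.inv_mem _ hb2)

end phi

end Cfsg.Agent.Lib.Helper33.Ree2
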