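import Mathlib

/-!
Arithmetic of the field of `3 ^ (2 m + 1)` elements used for the Ree groups.
-/

set_option autoImplicit false

namespace Cfsg.Agent.Lib.Helper33.Ree

variable {K : Type*} [Field K] [Fintype K] {m : ℕ}

theorem charP_three_of_card (hK : Fintype.card K = 3 ^ (2 * m + 1)) : CharP K 3 := by
  obtain ⟨p, hp⟩ := CharP.exists K
  obtain ⟨n, hpp, hn⟩ := FiniteField.card K p
  have h1 : p ∣ 3 ^ (2 * m + 1) := by
    rw [← hK, hn]
    exact dvd_pow_self p n.ne_zero
  have h2 : p = 3 := (Nat.prime_dvd_prime_iff_eq hpp Nat.prime_three).mp (hpp.dvd_of_dvd_pow h1)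
  rw [← h2]
  exact hp

theorem pow_theta (hK : Fintype.card K = 3 ^ (2 * m + 1)) (t : K) : t ^ (3 * 3 ^ m * 3 ^ m) = t := by
  have : 3 * 3 ^ m * 3 ^ m = Fintype.card K := by
    rw [hK]; ring
  rw [this, FiniteField.pow_card]

theorem odd_three_pow (m : ℕ) : Odd (3 ^ m) := Odd.pow (by decide)

theorem card_mod_four (hK : Fintype.card K = 3 ^ (2 * m + 1)) : Fintype.card K % 4 = 3 := by
  rw [hK, pow_succ, pow_mul, Nat.mul_mod, Nat.pow_mod]
  norm_num

/-- every non-zero element is a square or the negative of a square -/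
theorem isSquare_or_neg (hK : Fintype.card K = 3 ^ (2 * m + 1)) (μ : K) (hμ : μ ≠ 0) :
    IsSquare μ ∨ IsSquare (-μ) := by
  haveI := charP_three_of_card hK
  have h2 : ringChar K ≠ 2 := by
    rw [ringChar.eq K 3]; decide
  have h4 := card_mod_four hK
  have hodd : Odd (Fintype.card K / 2) := by
    rw [Nat.odd_iff]; omega
  rcases FiniteField.pow_dichotomy h2 hμ with h | h
  · left
    exact (FiniteField.isSquare_iff h2 hμ).2 h
  · right
    apply (FiniteField.isSquare_iff h2 (neg_ne_zero.mpr hμ)).2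
    rw [neg_pow, h, hodd.neg_one_pow]
    simp

end Cfsg.Agent.Lib.Helper33.Ree
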