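import Cfsg.Agent.Lib.Helper33.ReeBN
import Cfsg.Agent.Lib.Helper33.ReeField
import Cfsg.Agent.Lib.Helper33.ReeSigma
import Cfsg.Agent.Lib.Helper24.ReeLeaves

/-!
The leaves of the keystone pack K-Ree, assembled: `Leaves S` for the field of `3 ^ (2 m + 1)` elements.
-/

set_option autoImplicit false
set_option linter.unusedSimpArgs false
set_option linter.unusedVariables false
set_option maxRecDepth 100000

namespace Cfsg.Agent.Lib.Helper33.Ree

open Cfsg.Lie Cfsg.Agent.Lib.Helper24 Cfsg.Agent.Lib.Helper33.TwBN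

variable {K : Type*} [Field K] {e : ℕ}

theorem rhoW0_eq_neg : ∀ r < 12, rhoW chevG2 reeW0 r = chevG2.neg r := by decide +kernel

/-- `sGL` acts as `-1` on the roots -/
theorem sGL_conj_of (S : Sigma K e) (hE : ReeExp K e) (r : ℕ) (hr : r < 12) : ∃ η : K, η ≠ 0 ∧
    ∀ t : K, sGL K * xG K r t * (sGL K)⁻¹ = xG K (chevG2.neg r) (η * t) := by
  obtain ⟨h, hh, e1⟩ := reeS_class S hE
  have hr' : r < chevG2.nroots := hr
  obtain ⟨c, hc, ec⟩ := (envG2 K).hF.diag_conj h hh r hr'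
  obtain ⟨η, hη, en⟩ := (envG2 K).hF.nW_conj (F := K) (envG2 K).hN reeW0 (by decide) r hr'
  refine ⟨(η : K) * c, ?_, fun t => ?_⟩
  · apply mul_ne_zero _ hc
    rcases hη with h1 | h1 <;> rw [h1] <;> simp
  · have e2 : sGL K = (envG2 K).hF.nW reeW0 * h := e1
    have e3 : sGL K * xG K r t * (sGL K)⁻¹ =
        (envG2 K).hF.nW reeW0 * (h * xG K r t * h⁻¹) * ((envG2 K).hF.nW reeW0)⁻¹ := by
      rw [e2]; group
    rw [e3]
    simp only [xG]
    rw [ec t, en (c * t), rhoW0_eq_neg r hr, mul_assoc]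

/-- all the leaves -/
theorem leaves_of [CharP K 3] (S : Sigma K e) (he : Odd e) (hθ : ∀ t : K, t ^ (3 * e * e) = t) : Leaves S where
  ext_uGL := Cfsg.Agent.Lib.Helper24.Ree.ext_uGL S he hθ
  ext_vGL := Cfsg.Agent.Lib.Helper24.Ree.ext_vGL S he hθ
  fix_pos := fun g hg hfix => Cfsg.Agent.Lib.Helper24.Ree.fix_pos S he hθ
    (Cfsg.Agent.Lib.Helper24.Ree.ext_uGL S he hθ) g hg hfix
  uGL_inj := Cfsg.Agent.Lib.Helper24.Ree.uGL_inj
  ext_pos := Cfsg.Agent.Lib.Helper24.Ree.ext_pos S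
  ext_mono := Cfsg.Agent.Lib.Helper24.Ree.ext_mono S he
  ext_Un := Cfsg.Agent.Lib.Helper24.Ree.ext_Un S he hθ
  sGL_conj := sGL_conj_of S (Cfsg.Agent.Lib.Helper24.Ree.reeExp S he hθ)
  fix_mono := Cfsg.Agent.Lib.Helper24.Ree.fix_mono S he hθ
  sGL_mem := Cfsg.Agent.Lib.Helper24.Ree.sGL_mem he
  e_ne := fun h => by rw [h] at he; exact absurd he (by decide)

/-- the leaves for the field of `3 ^ (2 m + 1)` elements -/
theorem exists_leaves [Fintype K] {m : ℕ} (hK : Fintype.card K = 3 ^ (2 * m + 1)) :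
    ∃ S : Sigma K (3 ^ m), Leaves S := by
  haveI := charP_three_of_card hK
  obtain ⟨S⟩ := exists_sigma (K := K) m
  exact ⟨S, leaves_of S (odd_three_pow m) (pow_theta hK)⟩

end Cfsg.Agent.Lib.Helper33.Ree
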