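import Cfsg.Agent.Lib.Helper33.ReeTor
import Cfsg.Agent.Lib.Helper33.TwBNChev
import Cfsg.Agent.Lib.Helper33.TwBNAbs2

/-!
The `(B, N)`-pair of the Ree group `²G₂`, from the leaves of the keystone pack K-Ree (bundled in `Leaves`).
-/

set_option autoImplicit false
set_option linter.unusedSimpArgs false
set_option linter.unusedVariables false

namespace Cfsg.Agent.Lib.Helper33.Ree

open Cfsg.Lie Cfsg.Agent.Lib.Helper24 Cfsg.Agent.Lib.Helper33.TwBN

variable {K : Type*} [Field K] {e : ℕ}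

/-- the leaves of the keystone pack used for the `(B, N)`-pair -/
structure Leaves (S : Sigma K e) : Prop where
  ext_uGL : ∀ t u v : K, S.ext (uGL K e t u v) = uGL K e t u v
  ext_vGL : ∀ t u v : K, S.ext (vGL K e t u v) = vGL K e t u v
  fix_pos : ∀ g : GL chevG2.Idx K, g ∈ chevG2.posUnipotent K → S.ext g = g → ∃ t u v : K, g = uGL K e t u v
  uGL_inj : ∀ t u v t' u' v' : K, uGL K e t u v = uGL K e t' u' v' → t = t' ∧ u = u' ∧ v = v'
  ext_pos : ∀ g : GL chevG2.Idx K, g ∈ chevG2.posUnipotent K → S.ext g ∈ chevG2.posUnipotent K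
  ext_mono : ∀ g : GL chevG2.Idx K, g ∈ chevG2.monomialSubgroup K → S.ext g ∈ chevG2.monomialSubgroup K
  ext_Un : ∀ n : GL chevG2.Idx K, n ∈ chevG2.monomialSubgroup K → ∀ u : GL chevG2.Idx K,
    u ∈ Un chevG2 K n → S.ext u ∈ Un chevG2 K (S.ext n)
  sGL_conj : ∀ r : ℕ, r < 12 → ∃ η : K, η ≠ 0 ∧
    ∀ t : K, sGL K * xG K r t * (sGL K)⁻¹ = xG K (chevG2.neg r) (η * t)
  fix_mono : ∀ n : GL chevG2.Idx K, n ∈ chevG2.monomialSubgroup K → S.ext n = n →
    n ∈ chevG2.diagonalSubgroup K ∨ (sGL K)⁻¹ * n ∈ chevG2.diagonalSubgroup K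
  sGL_mem : sGL K ∈ twistedG2 K e
  e_ne : e ≠ 0

section basic

theorem uGL_eq (t u v : K) : uGL K e t u v =
    xG K 7 (t ^ e) * (xG K 6 t * (xG K 8 (t ^ (e + 1) + u ^ e) * (xG K 9 (t ^ (2 * e + 1) + v ^ e) *
      (xG K 10 u * (xG K 11 v * 1))))) := by
  simp [uGL, reeWordU, Facts.wordGL, xG, g2a, g2b, g2ab, g2aab, g2aaab, g2aaabb]

theorem vGL_eq (t u v : K) : vGL K e t u v =
    xG K 4 (-(t ^ e)) * (xG K 5 (-t) * (xG K 3 (-(t ^ (e + 1) + u ^ e)) *
      (xG K 2 (-(t ^ (2 * e + 1) + v ^ e)) * (xG K 1 (-u) * (xG K 0 (-v) * 1))))) := by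
  simp only [vGL, reeWordV, reeWordU, ChevalleyDatum.negWord, Facts.wordGL, List.map_cons, List.map_nil,
    List.prod_cons, List.prod_nil, xG]
  rfl

theorem isPos_iff (r : ℕ) : chevG2.IsPosRoot r ↔ 6 ≤ r ∧ r < 12 := by
  constructor
  · rintro ⟨hr, h⟩
    have hr' : r < 12 := hr
    refine ⟨?_, hr'⟩
    by_contra hlt
    rw [not_le] at hlt
    interval_cases r <;> revert h <;> decide
  · rintro ⟨h6, h12⟩
    interval_cases r <;> decide

theorem isNeg_iff (r : ℕ) : chevG2.IsNegRoot r ↔ r < 6 := by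
  constructor
  · rintro ⟨hr, h⟩
    have hr' : r < 12 := hr
    by_contra hlt
    rw [not_lt] at hlt
    interval_cases r <;> revert h <;> decide
  · intro h6
    interval_cases r <;> decide

theorem neg_eq (r : ℕ) (hr : r < 12) : chevG2.neg r = 11 - r := by
  interval_cases r <;> rfl

theorem xG_mem_pos (r : ℕ) (hr : 6 ≤ r ∧ r < 12) (t : K) : xG K r t ∈ chevG2.posUnipotent K :=
  (envG2 K).hF.xGL_mem_pos r ((isPos_iff r).2 hr) t

theorem xG_mem_neg (r : ℕ) (hr : r < 6) (t : K) : xG K r t ∈ chevG2.negUnipotent K :=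
  (envG2 K).hF.xGL_mem_neg r ((isNeg_iff r).2 hr) t

theorem uGL_mem_pos (t u v : K) : uGL K e t u v ∈ chevG2.posUnipotent K := by
  rw [uGL_eq]
  refine Subgroup.mul_mem _ (xG_mem_pos 7 (by omega) _) (Subgroup.mul_mem _ (xG_mem_pos 6 (by omega) _)
    (Subgroup.mul_mem _ (xG_mem_pos 8 (by omega) _) (Subgroup.mul_mem _ (xG_mem_pos 9 (by omega) _)
    (Subgroup.mul_mem _ (xG_mem_pos 10 (by omega) _) (Subgroup.mul_mem _ (xG_mem_pos 11 (by omega) _)
    (Subgroup.one_mem _))))))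

theorem vGL_mem_neg (t u v : K) : vGL K e t u v ∈ chevG2.negUnipotent K := by
  rw [vGL_eq]
  refine Subgroup.mul_mem _ (xG_mem_neg 4 (by omega) _) (Subgroup.mul_mem _ (xG_mem_neg 5 (by omega) _)
    (Subgroup.mul_mem _ (xG_mem_neg 3 (by omega) _) (Subgroup.mul_mem _ (xG_mem_neg 2 (by omega) _)
    (Subgroup.mul_mem _ (xG_mem_neg 1 (by omega) _) (Subgroup.mul_mem _ (xG_mem_neg 0 (by omega) _)
    (Subgroup.one_mem _))))))

theorem uGL_zero (he : e ≠ 0) : uGL K e 0 0 0 = 1 := by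
  rw [uGL_eq]
  simp [xG, Facts.xGL_zero, zero_pow he]

theorem twisted_le_group : twistedG2 K e ≤ chevG2.group K := by
  rw [twisted_eq_closure, Subgroup.closure_le]
  rintro g (⟨t, u, v, rfl⟩ | ⟨t, u, v, rfl⟩)
  · exact (envG2 K).hF.wordGL_mem_group _
  · exact (envG2 K).hF.wordGL_mem_group _

theorem sGL_mem_mono : sGL K ∈ chevG2.monomialSubgroup K :=
  Subgroup.mul_mem _ ((envG2 K).hF.nGL_mem_monomial 8 (by decide) 1 one_ne_zero)
    ((envG2 K).hF.nGL_mem_monomial 10 (by decide) 1 one_ne_zero)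

end basic

section leaves

variable {S : Sigma K e} (L : Leaves S)
include L

/-- every element of the twisted group is fixed -/
theorem Leaves.G1_fix (g : GL chevG2.Idx K) (hg : g ∈ twistedG2 K e) : S.ext g = g := by
  have key : g ∈ chevG2.group K ∧ S.ext g = g := by
    rw [twisted_eq_closure] at hg
    induction hg using Subgroup.closure_induction with
    | mem x hx =>
      rcases hx with ⟨t, u, v, rfl⟩ | ⟨t, u, v, rfl⟩
      · exact ⟨(envG2 K).hF.wordGL_mem_group _, L.ext_uGL t u v⟩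
      · exact ⟨(envG2 K).hF.wordGL_mem_group _, L.ext_vGL t u v⟩
    | one => exact ⟨Subgroup.one_mem _, S.ext_one⟩
    | mul x y _ _ hx hy =>
      exact ⟨Subgroup.mul_mem _ hx.1 hy.1, by rw [S.ext_mul hx.1 hy.1, hx.2, hy.2]⟩
    | inv x _ hx =>
      exact ⟨Subgroup.inv_mem _ hx.1, by rw [S.ext_inv hx.1, hx.2]⟩
  exact key.2

/-- `s U s⁻¹ ≤ V` -/
theorem Leaves.s_conj_pos (g : GL chevG2.Idx K) (hg : g ∈ chevG2.posUnipotent K) :
    sGL K * g * (sGL K)⁻¹ ∈ chevG2.negUnipotent K := by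
  unfold ChevalleyDatum.posUnipotent at hg
  induction hg using Subgroup.closure_induction with
  | mem x hx =>
    obtain ⟨r, t, hr, hx⟩ := hx
    rw [(envG2 K).hF.eq_xGL x r t hx]
    obtain ⟨h6, h12⟩ := (isPos_iff r).1 hr
    obtain ⟨η, _, hη⟩ := L.sGL_conj r h12
    have := hη t
    simp only [xG] at this
    rw [this]
    apply (envG2 K).hF.xGL_mem_neg
    rw [isNeg_iff, neg_eq r h12]
    omega
  | one => simp
  | mul x y _ _ hx hy =>
    have : sGL K * (x * y) * (sGL K)⁻¹ = (sGL K * x * (sGL K)⁻¹) * (sGL K * y * (sGL K)⁻¹) := by group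
    rw [this]; exact Subgroup.mul_mem _ hx hy
  | inv x _ hx =>
    have : sGL K * x⁻¹ * (sGL K)⁻¹ = (sGL K * x * (sGL K)⁻¹)⁻¹ := by group
    rw [this]; exact Subgroup.inv_mem _ hx

/-- `s V s⁻¹ ≤ U` -/
theorem Leaves.s_conj_neg (g : GL chevG2.Idx K) (hg : g ∈ chevG2.negUnipotent K) :
    sGL K * g * (sGL K)⁻¹ ∈ chevG2.posUnipotent K := by
  unfold ChevalleyDatum.negUnipotent at hg
  induction hg using Subgroup.closure_induction with
  | mem x hx =>
    obtain ⟨r, t, hr, hx⟩ := hx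
    rw [(envG2 K).hF.eq_xGL x r t hx]
    have h6 := (isNeg_iff r).1 hr
    have h12 : r < 12 := by omega
    obtain ⟨η, _, hη⟩ := L.sGL_conj r h12
    have := hη t
    simp only [xG] at this
    rw [this]
    apply (envG2 K).hF.xGL_mem_pos
    rw [isPos_iff, neg_eq r h12]
    omega
  | one => simp
  | mul x y _ _ hx hy =>
    have : sGL K * (x * y) * (sGL K)⁻¹ = (sGL K * x * (sGL K)⁻¹) * (sGL K * y * (sGL K)⁻¹) := by group
    rw [this]; exact Subgroup.mul_mem _ hx hy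
  | inv x _ hx =>
    have : sGL K * x⁻¹ * (sGL K)⁻¹ = (sGL K * x * (sGL K)⁻¹)⁻¹ := by group
    rw [this]; exact Subgroup.inv_mem _ hx

/-- `s² ∈ H` -/
theorem Leaves.s_sq : sGL K * sGL K ∈ chevG2.diagonalSubgroup K := by
  have E := envG2 K
  apply (envG2 K).hF.mem_diagonal_of_trivial_action (envG2 K).hN (envG2 K).hR (envG2 K).hNe (envG2 K).hS
    (envG2 K).P (envG2 K).hB (envG2 K).hPS (envG2 K).hBN _ (Subgroup.mul_mem _ sGL_mem_mono sGL_mem_mono)
  intro r hr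
  have hr12 : r < 12 := hr
  obtain ⟨η, hη1, hη⟩ := L.sGL_conj r hr12
  have hn12 : chevG2.neg r < 12 := by rw [neg_eq r hr12]; omega
  obtain ⟨η', hη1', hη'⟩ := L.sGL_conj (chevG2.neg r) hn12
  have hnn : chevG2.neg (chevG2.neg r) = r := by
    rw [neg_eq _ hn12, neg_eq r hr12]; omega
  refine ⟨η' * η, ?_, fun t => ?_⟩
  · exact mul_ne_zero hη1' hη1
  · have e1 : sGL K * sGL K * (envG2 K).hF.xGL r t * (sGL K * sGL K)⁻¹ =
        sGL K * (sGL K * xG K r t * (sGL K)⁻¹) * (sGL K)⁻¹ := by simp only [xG]; group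
    rw [e1, hη t, hη' (η * t), hnn, mul_assoc]

/-- `s ∉ B` -/
theorem Leaves.one_lt : uGL K e 0 1 0 ≠ 1 := by
  intro h
  rw [← uGL_zero (K := K) L.e_ne] at h
  exact one_ne_zero (L.uGL_inj _ _ _ _ _ _ h).2.1

/-- the setting of the abstract construction for the Ree groups -/
noncomputable def Leaves.setup : TwBN2.Setup (GL chevG2.Idx K) where
  B := chevG2.borelSubgroup K
  N := chevG2.monomialSubgroup K
  H := chevG2.diagonalSubgroup K
  U := chevG2.posUnipotent K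
  Un := Un chevG2 K
  σ := S.ext
  G1 := twistedG2 K e
  S := {sGL K}
  hBUH := fun b hb => exists_mul_of_mem_sup_of_le_normalizer _ _
    (envG2 K).hF.diagonal_le_normalizer_pos b hb
  hUB := pos_le_borel chevG2 K
  hHB := diagonal_le_borel chevG2 K
  hHN := diagonal_le_monomial chevG2 K
  hUH := fun x hxU hxH => by
    have : x ∈ chevG2.posUnipotent K ⊓ chevG2.diagonalSubgroup K := ⟨hxU, hxH⟩
    rw [(envG2 K).hF.borel_semidirect.2, Subgroup.mem_bot] at this
    exact this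
  hBN := fun x hxB hxN => by
    rw [← (envG2 K).hBN]; exact ⟨hxB, hxN⟩
  hNH := fun n hn h hh =>
    (Subgroup.mem_normalizer_iff.mp ((envG2 K).hF.monomial_le_normalizer (envG2 K).hN (envG2 K).hH hn) h).mp hh
  nf_exists := fun g hg =>
    (envG2 K).hF.normal_form_exists (envG2 K).hN (envG2 K).hH (envG2 K).hR (envG2 K).hC (envG2 K).hU
      (envG2 K).hNR (envG2 K).hcomm (envG2 K).P (envG2 K).hB (envG2 K).hN' g (twisted_le_group hg)
  nf_unique := fun b b' n u u' hb hb' hn hu hu' e =>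
    ((envG2 K).hF.normal_form_unique (envG2 K).P (envG2 K).hB (envG2 K).hN' (envG2 K).hBN b b' n n u u'
      hb hb' hn hn hu hu' e).2 rfl
  bruhat := fun n hn n' hn' b₁ h1 b₂ h2 b₁' h1' b₂' h2' e =>
    (envG2 K).hF.bruhat_unique (envG2 K).P (envG2 K).hB (envG2 K).hN' (envG2 K).hBN n n' hn hn'
      b₁ b₂ b₁' b₂' h1 h2 h1' h2' e
  Un_le := Un_le
  Un_H := Un_H (envG2 K).hF
  σ_mul3 := fun u₁ hu₁ n hn u hu => by
    have h1 := (envG2 K).hF.pos_le_group hu₁
    have h2 := (envG2 K).hF.monomial_le_group hn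
    have h3 := (envG2 K).hF.pos_le_group hu
    rw [S.ext_mul (Subgroup.mul_mem _ h1 h2) h3, S.ext_mul h1 h2]
  σU := L.ext_pos
  σN := L.ext_mono
  σUn := L.ext_Un
  G1_fix := L.G1_fix
  fixU := fun u hu hfix => by
    obtain ⟨t, u', v, rfl⟩ := L.fix_pos u hu hfix
    exact uGL_mem_twisted t u' v
  S_mem := by
    rintro s rfl
    exact ⟨sGL_mem_mono, L.sGL_mem, L.s_sq⟩
  S_exch := by
    rintro s rfl b _ n hn hfn n' hn' hfn' β₁ _ β₂ _ _
    have hss := L.s_sq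
    rcases L.fix_mono n hn hfn with h | h <;> rcases L.fix_mono n' hn' hfn' with h' | h'
    · left
      exact Subgroup.mul_mem _ (Subgroup.inv_mem _ h) h'
    · right
      have : (sGL K * n)⁻¹ * n' = n⁻¹ * ((sGL K)⁻¹ * n') := by group
      rw [this]
      exact Subgroup.mul_mem _ (Subgroup.inv_mem _ h) h'
    · right
      have : (sGL K * n)⁻¹ * n' = ((sGL K)⁻¹ * n)⁻¹ * (sGL K * sGL K)⁻¹ * n' := by group
      rw [this]
      exact Subgroup.mul_mem _ (Subgroup.mul_mem _ (Subgroup.inv_mem _ h) (Subgroup.inv_mem _ hss)) h'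
    · left
      have : n⁻¹ * n' = ((sGL K)⁻¹ * n)⁻¹ * ((sGL K)⁻¹ * n') := by group
      rw [this]
      exact Subgroup.mul_mem _ (Subgroup.inv_mem _ h) h'
  S_inj := by
    rintro s rfl s' rfl _
    rfl
  S_ne := by
    rintro s rfl
    refine ⟨uGL K e 0 1 0, pos_le_borel chevG2 K (uGL_mem_pos 0 1 0), uGL_mem_twisted 0 1 0, ?_⟩
    intro hB
    have h3 := L.s_conj_pos _ (uGL_mem_pos (e := e) (0 : K) 1 0)
    have e1 : sGL K * uGL K e 0 1 0 * (sGL K)⁻¹ = (sGL K * uGL K e 0 1 0 * sGL K) * (sGL K * sGL K)⁻¹ := by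
      group
    have h4 : sGL K * uGL K e 0 1 0 * (sGL K)⁻¹ ∈ chevG2.borelSubgroup K ⊓ chevG2.negUnipotent K := by
      refine ⟨?_, h3⟩
      rw [e1]
      exact Subgroup.mul_mem _ hB (Subgroup.inv_mem _ (diagonal_le_borel chevG2 K L.s_sq))
    rw [(envG2 K).hF.borel_inf_neg.1, Subgroup.mem_bot] at h4
    have h5 : sGL K * uGL K e 0 1 0 = sGL K := mul_inv_eq_one.mp h4
    exact L.one_lt (mul_left_cancel (h5.trans (mul_one _).symm))
  gens := ⟨_, twisted_eq_closure, by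
    rintro y (⟨t, u, v, rfl⟩ | ⟨t, u, v, rfl⟩)
    · left; exact uGL_mem_pos t u v
    · right; exact ⟨sGL K, rfl, L.s_conj_neg _ (vGL_mem_neg t u v)⟩⟩

/-- the `(B, N)`-pair of the Ree group -/
theorem Leaves.exists_bnPair : ∃ P : Cfsg.BNPair ↥(twistedG2 K e),
    P.B = (chevG2.borelSubgroup K ⊓ twistedG2 K e).subgroupOf (twistedG2 K e) ∧
    P.N = (chevG2.monomialSubgroup K ⊓ twistedG2 K e).subgroupOf (twistedG2 K e) ∧
    P.S = {s : ↥(twistedG2 K e) | (s : GL chevG2.Idx K) ∈ ({sGL K} : Set (GL chevG2.Idx K))} :=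
  L.setup.exists_bnPair

end leaves

end Cfsg.Agent.Lib.Helper33.Ree
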