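import Cfsg.Agent.Lib.Helper33.ReeBN
import Cfsg.Agent.Lib.Helper33.TwCore
import Cfsg.Agent.Lib.Helper33.TwTorus
import Cfsg.Agent.Lib.Helper24.ReeU3

/-!
The Ree groups: the normal core of `B¹` is trivial, and `N¹ / H¹` has order two.
-/

set_option autoImplicit false
set_option linter.unusedSimpArgs false
set_option linter.unusedVariables false
set_option maxRecDepth 100000

namespace Cfsg.Agent.Lib.Helper33.Ree

open Cfsg.Lie Cfsg.Agent.Lib.Helper24 Cfsg.Agent.Lib.Helper33.TwBN

variable {K : Type*} [Field K] {e : ℕ}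

/-- the coordinates of the roots of `G₂` on the fundamental roots `a`, `b` -/
def g2Coef (r j : ℕ) : ℤ :=
  ([[-3, -2], [-3, -1], [-2, -1], [-1, -1], [-1, 0], [0, -1], [0, 1], [1, 0], [1, 1], [2, 1], [3, 1],
    [3, 2]].getD r []).getD j 0

theorem g2Coef_lin : ∀ r < chevG2.nroots, ∀ i < chevG2.rank, chevG2.cartan i r =
    ((List.range chevG2.rank).map fun j => g2Coef r j * chevG2.cartan i (chevG2.simple j)).sum := by
  decide +kernel

/-- a character of the torus of `G₂` which is trivial on the fundamental roots is trivial -/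
theorem torusEntry_eq_one_G2 (c : ℕ → K) (hc : ∀ i, c i ≠ 0)
    (h1 : ∀ j < chevG2.rank, torusEntry chevG2 (List.range chevG2.rank) c (chevG2.rank + chevG2.simple j) = 1) :
    ∀ r < chevG2.nroots, torusEntry chevG2 (List.range chevG2.rank) c (chevG2.rank + r) = 1 := by
  intro r hr
  have key : ∀ s, torusEntry chevG2 (List.range chevG2.rank) c (chevG2.rank + s) =
      ∏ i ∈ Finset.range chevG2.rank, c i ^ chevG2.cartan i s := by
    intro s
    unfold torusEntry
    rw [TwBN.list_range_prod]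
    apply Finset.prod_congr rfl
    intro i _
    rw [Eexp_root]
  rw [key]
  have hlin : ∀ i ∈ Finset.range chevG2.rank, chevG2.cartan i r =
      ∑ j ∈ Finset.range chevG2.rank, g2Coef r j * chevG2.cartan i (chevG2.simple j) := by
    intro i hi
    rw [← TwBN.list_range_sum]
    exact g2Coef_lin r hr i (Finset.mem_range.mp hi)
  calc ∏ i ∈ Finset.range chevG2.rank, c i ^ chevG2.cartan i r
      = ∏ i ∈ Finset.range chevG2.rank, ∏ j ∈ Finset.range chevG2.rank,
          (c i ^ chevG2.cartan i (chevG2.simple j)) ^ g2Coef r j := by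
        apply Finset.prod_congr rfl
        intro i hi
        rw [hlin i hi, zpow_finset_sum₀ _ (hc i)]
        apply Finset.prod_congr rfl
        intro j _
        rw [mul_comm, zpow_mul]
    _ = ∏ j ∈ Finset.range chevG2.rank, ∏ i ∈ Finset.range chevG2.rank,
          (c i ^ chevG2.cartan i (chevG2.simple j)) ^ g2Coef r j := Finset.prod_comm
    _ = ∏ j ∈ Finset.range chevG2.rank,
          (∏ i ∈ Finset.range chevG2.rank, c i ^ chevG2.cartan i (chevG2.simple j)) ^ g2Coef r j := by
        apply Finset.prod_congr rfl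
        intro j _
        rw [Finset.prod_zpow]
    _ = 1 := by
        apply Finset.prod_eq_one
        intro j hj
        rw [← key, h1 j (Finset.mem_range.mp hj), one_zpow]

theorem uGL_one_eq (he : e ≠ 0) : uGL K e 1 0 0 =
    (envG2 K).hF.ordProd reeL (reeC 1 1 1 1 0 0) := by
  rw [ordProd_reeC]
  show (envG2 K).hF.wordGL (reeWordU e 1 0 0) = _
  rw [reeWordU_eq]
  simp [zero_pow he]

/-- an element of `H` centralising the twisted group is trivial -/
theorem center_diag_ree (he : e ≠ 0) (k : GL chevG2.Idx K) (hkH : k ∈ chevG2.diagonalSubgroup K)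
    (hcent : ∀ g ∈ twistedG2 K e, k * g = g * k) : k = 1 := by
  obtain ⟨c, hc, hdiag⟩ := (envG2 K).hF.diagonal_torus _ hkH
  have hconjk : ∀ r < chevG2.nroots, ∀ t : K,
      k * (envG2 K).hF.xGL r t * k⁻¹ =
        (envG2 K).hF.xGL r
          (torusEntry chevG2 (List.range chevG2.rank) c (chevG2.rank + r) * t) := by
    intro r hr t
    rw [mul_inv_eq_iff_eq_mul]
    apply Units.ext
    rw [Units.val_mul, Units.val_mul, hdiag, Facts.xGL_val, Facts.xGL_val]
    unfold ChevalleyDatum.x
    rw [dif_pos hr, dif_pos hr]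
    exact (envG2 K).hF.torus_mul_xMat c hc ⟨r, hr⟩ t
  have e1 := uGL_one_eq (K := K) he
  have e2 : k * uGL K e 1 0 0 * k⁻¹ = (envG2 K).hF.ordProd reeL
      (fun r => torusEntry chevG2 (List.range chevG2.rank) c (chevG2.rank + r) * reeC (1 : K) 1 1 1 0 0 r) := by
    rw [e1, ordProd_eq_prod, conj_list_prod, ordProd_eq_prod, List.map_map]
    congr 1
    apply List.map_congr_left
    intro r hr
    simp only [Function.comp_apply]
    exact hconjk r (reeL_pos r hr).1 _
  have e3 : k * uGL K e 1 0 0 * k⁻¹ = uGL K e 1 0 0 := by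
    rw [hcent _ (uGL_mem_twisted 1 0 0)]; group
  rw [e2, e1] at e3
  have h4 := ree_ordProd_inj _ _ e3
  have hsimple : ∀ j < chevG2.rank,
      torusEntry chevG2 (List.range chevG2.rank) c (chevG2.rank + chevG2.simple j) = 1 := by
    intro j hj
    have hj2 : j < 2 := hj
    interval_cases j
    · have := h4 7 (by decide)
      have e7 : chevG2.simple 0 = 7 := rfl
      rw [e7]
      simpa [reeC] using this
    · have := h4 6 (by decide)
      have e6 : chevG2.simple 1 = 6 := rfl
      rw [e6]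
      simpa [reeC] using this
  have hchar := torusEntry_eq_one_G2 c hc hsimple
  apply Units.ext
  rw [hdiag]
  simp only [Units.val_one]
  rw [← Matrix.diagonal_one]
  congr 1
  funext idx
  rcases idx with i | s
  · have : enc chevG2 (Sum.inl i : chevG2.Idx) < chevG2.rank := i.isLt
    unfold torusEntry
    apply List.prod_eq_one
    intro x hx
    simp only [List.mem_map] at hx
    obtain ⟨j, _, rfl⟩ := hx
    simp [Eexp, this]
  · exact hchar s.val s.isLt

section leaves

variable {S : Sigma K e} (L : Leaves S)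
include L

/-- the normal core of `B ⊓ G¹` in the Ree group is trivial -/
theorem Leaves.core_eq_bot :
    ((chevG2.borelSubgroup K ⊓ twistedG2 K e).subgroupOf (twistedG2 K e)).normalCore = ⊥ := by
  apply core_eq_bot_abs (chevG2.borelSubgroup K) (chevG2.diagonalSubgroup K) (chevG2.posUnipotent K)
    (chevG2.negUnipotent K) (twistedG2 K e)
    (fun b hb => exists_mul_of_mem_sup_of_le_normalizer _ _
      (envG2 K).hF.diagonal_le_normalizer_pos b hb)
    (diagonal_le_borel chevG2 K)
    (fun x hxB hxV => by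
      have : x ∈ chevG2.borelSubgroup K ⊓ chevG2.negUnipotent K := ⟨hxB, hxV⟩
      rw [(envG2 K).hF.borel_inf_neg.1, Subgroup.mem_bot] at this
      exact this)
    (fun x hxB hxV => by
      have : x ∈ chevG2.borelSubgroup K ⊓ (chevG2.negUnipotent K ⊔ chevG2.diagonalSubgroup K) :=
        ⟨hxB, hxV⟩
      rw [(envG2 K).hF.borel_inf_neg.2] at this
      exact this)
    (fun h hh u hu =>
      (Subgroup.mem_normalizer_iff.mp ((envG2 K).hF.diagonal_le_normalizer_pos hh) u).mp hu)
    (fun h hh v hv =>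
      (Subgroup.mem_normalizer_iff.mp ((envG2 K).hF.diagonal_le_normalizer_neg hh) v).mp hv)
    (sGL K) L.sGL_mem
    (fun h hh =>
      (Subgroup.mem_normalizer_iff.mp
        ((envG2 K).hF.monomial_le_normalizer (envG2 K).hN (envG2 K).hH sGL_mem_mono) h).mp hh)
    L.s_conj_pos
    _ twisted_eq_closure
  · rintro y (⟨t, u, v, rfl⟩ | ⟨t, u, v, rfl⟩)
    · left; exact uGL_mem_pos t u v
    · right; exact vGL_mem_neg t u v
  · intro k hkH _ hcent
    exact center_diag_ree L.e_ne k hkH hcent

/-- `s ∉ H` -/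
theorem Leaves.s_not_mem : sGL K ∉ chevG2.diagonalSubgroup K := by
  intro h
  obtain ⟨b, hb, _, hnb⟩ := L.setup.S_ne (sGL K) rfl
  exact hnb (Subgroup.mul_mem _ (Subgroup.mul_mem _ (diagonal_le_borel chevG2 K h) hb)
    (diagonal_le_borel chevG2 K h))

/-- the elements of `N ⊓ G¹` lie in `H` or in `s H` -/
theorem Leaves.mono_cases (n : GL chevG2.Idx K) (hn : n ∈ chevG2.monomialSubgroup K ⊓ twistedG2 K e) :
    n ∈ chevG2.diagonalSubgroup K ∨ (sGL K)⁻¹ * n ∈ chevG2.diagonalSubgroup K :=
  L.fix_mono n hn.1 (L.G1_fix n hn.2)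

/-- `N¹ / H¹` has order two -/
theorem Leaves.weyl :
    ∃ φ : ↥(chevG2.monomialSubgroup K ⊓ twistedG2 K e) →* Multiplicative (ZMod 2),
      Function.Surjective φ ∧
      φ.ker = (chevG2.diagonalSubgroup K ⊓ twistedG2 K e).subgroupOf
        (chevG2.monomialSubgroup K ⊓ twistedG2 K e) := by
  classical
  have hss := L.s_sq
  have hsN := sGL_mem_mono (K := K)
  have hnot := L.s_not_mem
  have hNH : ∀ n ∈ chevG2.monomialSubgroup K, ∀ h ∈ chevG2.diagonalSubgroup K,
      n * h * n⁻¹ ∈ chevG2.diagonalSubgroup K := L.setup.hNH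
  -- an element of `s H` is not in `H`
  have hsH : ∀ n : GL chevG2.Idx K, (sGL K)⁻¹ * n ∈ chevG2.diagonalSubgroup K →
      n ∉ chevG2.diagonalSubgroup K := by
    intro n h1 h2
    apply hnot
    have : sGL K = n * ((sGL K)⁻¹ * n)⁻¹ := by group
    rw [this]
    exact Subgroup.mul_mem _ h2 (Subgroup.inv_mem _ h1)
  -- the product of two elements of `s H` lies in `H`
  have hprod : ∀ n n' : GL chevG2.Idx K, (sGL K)⁻¹ * n ∈ chevG2.diagonalSubgroup K →
      (sGL K)⁻¹ * n' ∈ chevG2.diagonalSubgroup K → n * n' ∈ chevG2.diagonalSubgroup K := by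
    intro n n' h1 h2
    have e1 : n * n' = (sGL K * sGL K) * ((sGL K)⁻¹ * ((sGL K)⁻¹ * n) * (sGL K)⁻¹⁻¹) *
        ((sGL K)⁻¹ * n') := by group
    rw [e1]
    exact Subgroup.mul_mem _ (Subgroup.mul_mem _ hss
      (hNH _ (Subgroup.inv_mem _ hsN) _ h1)) h2
  let f : ↥(chevG2.monomialSubgroup K ⊓ twistedG2 K e) → Multiplicative (ZMod 2) := fun n =>
    if (n : GL chevG2.Idx K) ∈ chevG2.diagonalSubgroup K then 1 else Multiplicative.ofAdd 1
  have hf1 : ∀ n : ↥(chevG2.monomialSubgroup K ⊓ twistedG2 K e),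
      (n : GL chevG2.Idx K) ∈ chevG2.diagonalSubgroup K → f n = 1 := fun n h => if_pos h
  have hf2 : ∀ n : ↥(chevG2.monomialSubgroup K ⊓ twistedG2 K e),
      (n : GL chevG2.Idx K) ∉ chevG2.diagonalSubgroup K → f n = Multiplicative.ofAdd 1 :=
    fun n h => if_neg h
  have hsq : (Multiplicative.ofAdd (1 : ZMod 2)) * Multiplicative.ofAdd 1 = 1 := by decide
  have hne : (Multiplicative.ofAdd (1 : ZMod 2)) ≠ 1 := by decide
  have hmul : ∀ a b, f (a * b) = f a * f b := by
    intro a b
    by_cases ha : (a : GL chevG2.Idx K) ∈ chevG2.diagonalSubgroup K <;>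
      by_cases hb : (b : GL chevG2.Idx K) ∈ chevG2.diagonalSubgroup K
    · rw [hf1 a ha, hf1 b hb, hf1 (a * b) (by rw [Subgroup.coe_mul]; exact Subgroup.mul_mem _ ha hb)]
      simp
    · rw [hf1 a ha, hf2 b hb, one_mul]
      apply hf2
      rw [Subgroup.coe_mul]
      intro h
      apply hb
      have : (b : GL chevG2.Idx K) = (a : GL chevG2.Idx K)⁻¹ * ((a : GL chevG2.Idx K) * b) := by group
      rw [this]
      exact Subgroup.mul_mem _ (Subgroup.inv_mem _ ha) h
    · rw [hf2 a ha, hf1 b hb, mul_one]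
      apply hf2
      rw [Subgroup.coe_mul]
      intro h
      apply ha
      have : (a : GL chevG2.Idx K) = ((a : GL chevG2.Idx K) * b) * (b : GL chevG2.Idx K)⁻¹ := by group
      rw [this]
      exact Subgroup.mul_mem _ h (Subgroup.inv_mem _ hb)
    · rw [hf2 a ha, hf2 b hb, hsq]
      apply hf1
      rw [Subgroup.coe_mul]
      have ha' := (L.mono_cases a a.2).resolve_left ha
      have hb' := (L.mono_cases b b.2).resolve_left hb
      exact hprod _ _ ha' hb'
  refine ⟨MonoidHom.mk' f hmul, ?_, ?_⟩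
  · intro y
    have hy : y = 1 ∨ y = Multiplicative.ofAdd 1 := by revert y; decide
    rcases hy with rfl | rfl
    · exact ⟨1, map_one _⟩
    · refine ⟨⟨sGL K, hsN, L.sGL_mem⟩, ?_⟩
      exact hf2 _ hnot
  · ext n
    rw [MonoidHom.mem_ker, Subgroup.mem_subgroupOf, Subgroup.mem_inf]
    constructor
    · intro h
      refine ⟨?_, n.2.2⟩
      by_contra hn
      exact hne ((hf2 n hn).symm.trans h)
    · rintro ⟨h, _⟩
      exact hf1 n h

end leaves

end Cfsg.Agent.Lib.Helper33.Ree
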