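import Cfsg.Agent.Lib.Helper33.ReeAll2

/-!
The elements of odd order of the torus `H¹` of the Ree group: there are `(q - 1) / 2` of them, and the non-trivial
ones act without fixed points on `U¹`.
-/

set_option autoImplicit false
set_option linter.unusedSimpArgs false
set_option linter.unusedVariables false
set_option maxRecDepth 100000

namespace Cfsg.Agent.Lib.Helper33.Ree

open Cfsg.Lie Cfsg.Agent.Lib.Helper24 Cfsg.Agent.Lib.Helper33.TwBN

variable {K : Type*} [Field K] {e : ℕ}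

/-- the elements of odd order of a group of order `2 k`, `k` odd, are the solutions of `x ^ k = 1` -/
theorem odd_orderOf_iff {G : Type*} [Group G] (k : ℕ) (hk : Odd k) (x : G) (hx : x ^ (2 * k) = 1) :
    Odd (orderOf x) ↔ x ^ k = 1 := by
  constructor
  · intro ho
    apply orderOf_dvd_iff_pow_eq_one.mp
    have h1 : orderOf x ∣ 2 * k := orderOf_dvd_of_pow_eq_one hx
    exact (Nat.Coprime.dvd_of_dvd_mul_left (Nat.Coprime.symm (Nat.coprime_two_left.mpr ho)) h1)
  · intro h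
    obtain ⟨d, hd⟩ := orderOf_dvd_of_pow_eq_one h
    by_contra hno
    rw [Nat.not_odd_iff_even] at hno
    have : Even k := by rw [hd]; exact hno.mul_right d
    exact (Nat.not_even_iff_odd.mpr hk) this

/-- the number of elements of odd order of the multiplicative group of the field -/
theorem card_units_odd [Fintype K] {m : ℕ} (hK : Fintype.card K = 3 ^ (2 * m + 1)) :
    2 * Nat.card {x : Kˣ // Odd (orderOf x)} = 3 ^ (2 * m + 1) - 1 := by
  have h4 := card_mod_four hK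
  set k := (Fintype.card K - 1) / 2 with hk
  have h2k : 2 * k = Fintype.card K - 1 := by omega
  have hkodd : Odd k := by rw [Nat.odd_iff]; omega
  have hpow : ∀ x : Kˣ, x ^ (2 * k) = 1 := by
    intro x
    rw [h2k, ← Nat.card_eq_fintype_card (α := K), ← Nat.card_units]
    exact pow_card_eq_one'
  have e1 : Nat.card {x : Kˣ // Odd (orderOf x)} = Nat.card {x : Kˣ // x ^ k = 1} :=
    Nat.card_congr (Equiv.subtypeEquivRight (fun x => odd_orderOf_iff k hkodd x (hpow x)))
  rw [e1, card_units_pow_eq_one, ← hK, ← h2k]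
  have : Nat.gcd (2 * k) k = k := Nat.gcd_eq_right (Dvd.intro_left 2 rfl)
  rw [this]

theorem units_zpow_card [Fintype K] {m : ℕ} (hK : Fintype.card K = 3 ^ (2 * m + 1)) (μ : Kˣ) :
    μ ^ ((3 * ((3 ^ m : ℕ) : ℤ) * ((3 ^ m : ℕ) : ℤ)) - 1) = 1 := by
  have h1 : Fintype.card K = 3 * 3 ^ m * 3 ^ m := by rw [hK]; ring
  have h2 : 1 ≤ Fintype.card K := Fintype.card_pos
  have h3 : (3 * ((3 ^ m : ℕ) : ℤ) * ((3 ^ m : ℕ) : ℤ)) - 1 = ((Fintype.card K - 1 : ℕ) : ℤ) := by
    rw [Nat.cast_sub h2, h1]; push_cast; ring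
  rw [h3, zpow_natCast, ← Nat.card_eq_fintype_card (α := K), ← Nat.card_units]
  exact pow_card_eq_one'

section leaves

variable {S : Sigma K e} (L : Leaves S) (T : TorLeaves S)
include L T

/-- `H¹ ≃* Kˣ` -/
noncomputable def torEquiv : ↥(chevG2.diagonalSubgroup K ⊓ twistedG2 K e) ≃* Kˣ :=
  (MulEquiv.subgroupCongr T.inf_eq_range).trans (MonoidHom.ofInjective T.torG_inj).symm

theorem torEquiv_symm_apply (μ : Kˣ) :
    (((torEquiv T).symm μ : ↥(chevG2.diagonalSubgroup K ⊓ twistedG2 K e)) : GL chevG2.Idx K) = torG K e μ := rfl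

/-- the number of elements of odd order of `H¹` -/
theorem card_odd [Fintype K] {m : ℕ} (hK : Fintype.card K = 3 ^ (2 * m + 1)) :
    2 * Nat.card {h : ↥(chevG2.diagonalSubgroup K ⊓ twistedG2 K e) // Odd (orderOf h)} =
      3 ^ (2 * m + 1) - 1 := by
  rw [← card_units_odd hK]
  congr 1
  apply Nat.card_congr
  exact (torEquiv T).toEquiv.subtypeEquiv (fun h => by
    rw [MulEquiv.toEquiv_eq_coe, MulEquiv.coe_toEquiv, MulEquiv.orderOf_eq])

/-- a non-trivial element of odd order of `H¹` centralises no non-trivial element of `U¹` -/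
theorem odd_fpf (hq : ∀ μ : Kˣ, μ ^ ((3 * (e : ℤ) * e) - 1) = 1)
    (h : GL chevG2.Idx K) (hh : h ∈ chevG2.diagonalSubgroup K ⊓ twistedG2 K e) (h1 : h ≠ 1)
    (hodd : Odd (orderOf h)) :
    (chevG2.posUnipotent K ⊓ twistedG2 K e) ⊓ Subgroup.centralizer {h} = ⊥ := by
  rw [T.inf_eq_range] at hh
  obtain ⟨μ, rfl⟩ := hh
  have hμ1 : μ ≠ 1 := by
    intro hμ; apply h1; rw [hμ, map_one]
  have hoddμ : Odd (orderOf μ) := by
    rwa [orderOf_injective (torG K e) T.torG_inj μ] at hodd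
  have hq1 := hq μ
  -- the three characters are not trivial
  have h11 : chi (torParam K e μ) 11 ≠ 1 := by rw [chi_eleven]; exact hμ1
  have h6 : chi (torParam K e μ) 6 ≠ 1 := by
    rw [chi_six]
    intro h6
    apply hμ1
    have e1 : (1 : ℤ) = ((3 * (e : ℤ) * e) - 1) * 3 + ((2 : ℤ) - 3 * e) * (3 * e + 2) := by ring
    calc μ = μ ^ (1 : ℤ) := (zpow_one μ).symm
      _ = μ ^ (((3 * (e : ℤ) * e) - 1) * 3 + ((2 : ℤ) - 3 * e) * (3 * e + 2)) := by rw [← e1]
      _ = 1 := by rw [zpow_add, zpow_mul, zpow_mul, hq1, h6]; simp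
  have h10 : chi (torParam K e μ) 10 ≠ 1 := by
    rw [chi_ten]
    intro h10
    apply hμ1
    have e1 : (2 : ℤ) = (3 * (e : ℤ) - 1) * (1 + 3 * e) + ((3 * (e : ℤ) * e) - 1) * (-3) := by ring
    have h2 : μ ^ (2 : ℤ) = 1 := by
      calc μ ^ (2 : ℤ) = μ ^ ((3 * (e : ℤ) - 1) * (1 + 3 * e) + ((3 * (e : ℤ) * e) - 1) * (-3)) := by
            rw [← e1]
        _ = 1 := by rw [zpow_add, zpow_mul, zpow_mul, hq1, h10]; simp
    have h3 : orderOf μ ∣ 2 := by
      apply orderOf_dvd_of_pow_eq_one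
      have := h2
      rwa [zpow_ofNat] at this
    have h4 : orderOf μ = 1 := by
      rcases (Nat.dvd_prime Nat.prime_two).mp h3 with h | h
      · exact h
      · rw [h] at hoddμ; exact absurd hoddμ (by decide)
    exact orderOf_eq_one_iff.mp h4
  rw [eq_bot_iff]
  rintro z ⟨⟨hzU, hzG⟩, hzc⟩
  rw [Subgroup.mem_bot]
  obtain ⟨a, b, c, rfl⟩ := L.fix_pos z hzU (L.G1_fix z hzG)
  have hcomm : torG K e μ * uGL K e a b c = uGL K e a b c * torG K e μ :=
    Subgroup.mem_centralizer_iff.mp hzc _ rfl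
  have hz : torG K e μ * uGL K e a b c * (torG K e μ)⁻¹ = uGL K e a b c := by
    rw [hcomm]; group
  rw [torG_conj_uGL L T μ a b c] at hz
  obtain ⟨ha, hb, hc⟩ := L.uGL_inj _ _ _ _ _ _ hz
  have hval : ∀ χ : Kˣ, χ ≠ 1 → ((χ : Kˣ) : K) ≠ 1 := fun χ hχ h => hχ (Units.val_eq_one.mp h)
  have ha0 : a = 0 := by
    by_contra hne
    exact hval _ h6 (mul_right_cancel₀ hne (by rw [ha, one_mul]))
  have hb0 : b = 0 := by
    by_contra hne
    exact hval _ h10 (mul_right_cancel₀ hne (by rw [hb, one_mul]))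
  have hc0 : c = 0 := by
    by_contra hne
    exact hval _ h11 (mul_right_cancel₀ hne (by rw [hc, one_mul]))
  rw [ha0, hb0, hc0, uGL_zero L.e_ne]

end leaves

end Cfsg.Agent.Lib.Helper33.Ree
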