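import Cfsg.Agent.Lib.Helper33.ReeLaw
import Cfsg.Agent.Lib.Helper33.ReeOdd

/-!
The Ree groups `²G₂(3 ^ (2 m + 1))`, `m ≥ 1`, are generated by two elements
(Steinberg's rank one argument: a generator of the torus and `u s`).
-/

set_option autoImplicit false
set_option linter.unusedSimpArgs false
set_option linter.unusedVariables false
set_option linter.unusedSectionVars false
set_option maxRecDepth 100000

namespace Cfsg.Agent.Lib.Helper33.Ree

open Cfsg.Lie Cfsg.Agent.Lib.Helper24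

section abstract

variable {K : Type*} [Field K] {Γ : Type*} [Group Γ]

/-- a subgroup containing the torus and one element of `U¹` outside `U₂` contains `U¹`
(abstract form: `φ` parametrises `U¹`, `F = (·)^{3θ}`) -/
theorem all_mem_of_law (φ : K → K → K → Γ) (F : K → K) (hd : Kˣ → Γ) (χ₁ χ₂ χ₃ : Kˣ → K)
    (hmul : ∀ t u v t' u' v' : K, φ t u v * φ t' u' v' =
      φ (t + t') (u + u' - F t' * t) (v + v' - F t' * t ^ 2 - t' * (u - F t' * t)))
    (hconj : ∀ (ν : Kˣ) (t u v : K), hd ν * φ t u v * (hd ν)⁻¹ = φ (χ₁ ν * t) (χ₂ ν * u) (χ₃ ν * v))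
    (hF0 : F 0 = 0) (hF1 : F 1 = 1) (hFne : ∃ t : K, F t ≠ t) (h2 : (2 : K) ≠ 0)
    (hχ1 : ∀ τ : K, τ ≠ 0 → ∃ ν : Kˣ, χ₁ ν = τ)
    (hχ2 : ∀ σ : K, σ ≠ 0 → ∃ ν : Kˣ, χ₂ ν = σ ^ 2)
    (Lg : Subgroup Γ) (hH : ∀ ν : Kˣ, hd ν ∈ Lg)
    (t₀ u₀ v₀ : K) (ht₀ : t₀ ≠ 0) (hw : φ t₀ u₀ v₀ ∈ Lg) : ∀ t u v : K, φ t u v ∈ Lg := by
  -- right multiplication by elements of `U₂`
  have radd : ∀ T U V u₂ v₂ : K, φ T U V * φ 0 u₂ v₂ = φ T (U + u₂) (V + v₂) := by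
    intro T U V u₂ v₂
    rw [hmul, hF0]
    congr 1 <;> ring
  have hone : φ 0 0 0 = 1 := by
    have := radd 0 0 0 0 0
    simp only [add_zero] at this
    exact mul_left_cancel (a := φ 0 0 0) (by rw [this, mul_one])
  have diff_mem : ∀ a b c b' c' : K, φ a b c ∈ Lg → φ a b' c' ∈ Lg → φ 0 (b - b') (c - c') ∈ Lg := by
    intro a b c b' c' h1 h2
    have e1 : φ a b c = φ a b' c' * φ 0 (b - b') (c - c') := by
      rw [radd]
      congr 1 <;> ring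
    have e2 : φ 0 (b - b') (c - c') = (φ a b' c')⁻¹ * φ a b c := by
      rw [e1]; group
    rw [e2]
    exact Lg.mul_mem (Lg.inv_mem h2) h1
  -- step 2
  have step2 : ∀ t : K, t ≠ 0 → ∃ u v : K, φ t u v ∈ Lg := by
    intro t ht
    obtain ⟨ν, hν⟩ := hχ1 (t / t₀) (div_ne_zero ht ht₀)
    refine ⟨χ₂ ν * u₀, χ₃ ν * v₀, ?_⟩
    have := hconj ν t₀ u₀ v₀
    rw [hν, div_mul_cancel₀ t ht₀] at this
    rw [← this]
    exact Lg.mul_mem (Lg.mul_mem (hH ν) hw) (Lg.inv_mem (hH ν))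
  -- step 3
  obtain ⟨t', ht'⟩ := hFne
  have ht'0 : t' ≠ 0 := by
    rintro rfl
    exact ht' hF0
  obtain ⟨u, v, hx⟩ := step2 1 one_ne_zero
  obtain ⟨u', v', hy⟩ := step2 t' ht'0
  have hxy : φ 1 u v * φ t' u' v' ∈ Lg := Lg.mul_mem hx hy
  have hyx : φ t' u' v' * φ 1 u v ∈ Lg := Lg.mul_mem hy hx
  rw [hmul] at hxy hyx
  rw [add_comm t' 1] at hyx
  have hz := diff_mem _ _ _ _ _ hxy hyx
  set u₁ := u + u' - F t' * 1 - (u' + u - F 1 * t') with hu₁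
  have hu₁' : u₁ = t' - F t' := by rw [hu₁, hF1]; ring
  have hu₁0 : u₁ ≠ 0 := by
    rw [hu₁']
    intro h
    exact ht' (sub_eq_zero.mp h).symm
  generalize v + v' - F t' * 1 ^ 2 - t' * (u - F t' * 1) -
    (v' + v - F 1 * t' ^ 2 - 1 * (u' - F 1 * t')) = v₁ at hz
  -- step 4
  have step4 : ∀ w : K, φ 0 0 w ∈ Lg := by
    intro w
    by_cases hw0 : w = 0
    · rw [hw0, hone]; exact Lg.one_mem
    · obtain ⟨a, b, hab⟩ := step2 (w / u₁) (div_ne_zero hw0 hu₁0)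
      have h1 : φ (w / u₁) a b * φ 0 u₁ v₁ ∈ Lg := Lg.mul_mem hab hz
      have h2 : φ 0 u₁ v₁ * φ (w / u₁) a b ∈ Lg := Lg.mul_mem hz hab
      rw [radd] at h1
      rw [hmul, zero_add] at h2
      have h3 := diff_mem _ _ _ _ _ h1 h2
      have e1 : a + u₁ - (u₁ + a - F (w / u₁) * 0) = 0 := by ring
      have e2 : b + v₁ - (v₁ + b - F (w / u₁) * 0 ^ 2 - w / u₁ * (u₁ - F (w / u₁) * 0)) = w := by
        field_simp
        ring
      rw [e1, e2] at h3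
      exact h3
  -- step 5
  have hA1 : φ 0 u₁ 0 ∈ Lg := by
    have := Lg.mul_mem hz (step4 (-v₁))
    rw [radd] at this
    simpa using this
  have hAadd : ∀ a b : K, φ 0 a 0 ∈ Lg → φ 0 b 0 ∈ Lg → φ 0 (a + b) 0 ∈ Lg := by
    intro a b ha hb
    have := Lg.mul_mem ha hb
    rw [radd] at this
    simpa using this
  have hAneg : ∀ a : K, φ 0 a 0 ∈ Lg → φ 0 (-a) 0 ∈ Lg := by
    intro a ha
    have e1 : φ 0 a 0 * φ 0 (-a) 0 = 1 := by
      rw [radd]; simp [hone]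
    have e2 : φ 0 (-a) 0 = (φ 0 a 0)⁻¹ := eq_inv_of_mul_eq_one_right e1
    rw [e2]
    exact Lg.inv_mem ha
  have hAsq : ∀ a σ : K, φ 0 a 0 ∈ Lg → φ 0 (σ ^ 2 * a) 0 ∈ Lg := by
    intro a σ ha
    by_cases hσ : σ = 0
    · rw [hσ]; simp [hone, Lg.one_mem]
    · obtain ⟨ν, hν⟩ := hχ2 σ hσ
      have := hconj ν 0 a 0
      rw [hν, mul_zero, mul_zero] at this
      rw [← this]
      exact Lg.mul_mem (Lg.mul_mem (hH ν) ha) (Lg.inv_mem (hH ν))
  have step5 : ∀ y : K, φ 0 y 0 ∈ Lg := by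
    intro y
    have e1 : y = ((y / u₁ + 1) / 2) ^ 2 * u₁ + -(((y / u₁ - 1) / 2) ^ 2 * u₁) := by
      field_simp
      ring
    rw [e1]
    exact hAadd _ _ (hAsq _ _ hA1) (hAneg _ (hAsq _ _ hA1))
  have step5' : ∀ y w : K, φ 0 y w ∈ Lg := by
    intro y w
    have := Lg.mul_mem (step5 y) (step4 w)
    rw [radd] at this
    simpa using this
  -- step 6
  intro t a b
  by_cases ht : t = 0
  · rw [ht]; exact step5' a b
  · obtain ⟨a₀, b₀, h0⟩ := step2 t ht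
    have := Lg.mul_mem h0 (step5' (a - a₀) (b - b₀))
    rw [radd] at this
    simpa using this

end abstract

section concrete

variable {K : Type*} [Field K] [Fintype K] {m : ℕ}

/-- the Ree groups `²G₂(3 ^ (2 m + 1))`, `m ≥ 1`, are generated by two elements -/
theorem two_gen_ree (hK : Fintype.card K = 3 ^ (2 * m + 1)) (hm : 1 ≤ m) :
    ∃ a b : ↥(twistedG2 K (3 ^ m)),
      Subgroup.closure ({a, b} : Set ↥(twistedG2 K (3 ^ m))) = ⊤ := by
  classical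
  obtain ⟨S, L, T⟩ := exists_leaves2 hK
  haveI := charP_three_of_card hK
  have h3 : (3 : K) = 0 := by exact_mod_cast CharP.cast_eq_zero K 3
  have h2 : (2 : K) ≠ 0 := by
    intro h
    have : (1 : K) = 0 := by linear_combination h3 - h
    exact one_ne_zero this
  obtain ⟨μ, hμ⟩ := IsCyclic.exists_generator (α := Kˣ)
  have hord : orderOf μ = 3 ^ (2 * m + 1) - 1 := by
    rw [orderOf_eq_card_of_forall_mem_zpowers hμ, Nat.card_units, Nat.card_eq_fintype_card, hK]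
  have hq : ∀ ν : Kˣ, ν ^ ((3 * ((3 ^ m : ℕ) : ℤ) * ((3 ^ m : ℕ) : ℤ)) - 1) = 1 :=
    fun ν => units_zpow_card hK ν
  have he3 : 3 ≤ 3 ^ m := by
    calc 3 = 3 ^ 1 := by norm_num
      _ ≤ 3 ^ m := Nat.pow_le_pow_right (by norm_num) hm
  have hqe : 3 ^ (2 * m + 1) = 3 * 3 ^ m * 3 ^ m := by ring
  generalize 3 ^ m = e at S L T hq he3 hqe
  have he0 : e ≠ 0 := by omega
  have hμ1 : μ ≠ 1 := by
    intro h1
    rw [h1, orderOf_one] at hord
    have : 9 ≤ 3 * e * e := by nlinarith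
    omega
  -- the generators
  have hhG : torG K e μ ∈ twistedG2 K e := T.tor_mem μ
  have hsG : sGL K ∈ twistedG2 K e := L.sGL_mem
  have hbG : uGL K e 1 0 0 * sGL K ∈ twistedG2 K e :=
    Subgroup.mul_mem _ (uGL_mem_twisted _ _ _) hsG
  refine ⟨⟨torG K e μ, hhG⟩, ⟨uGL K e 1 0 0 * sGL K, hbG⟩, ?_⟩
  set Lg : Subgroup (GL chevG2.Idx K) :=
    Subgroup.closure {torG K e μ, uGL K e 1 0 0 * sGL K} with hLg
  have hhL : torG K e μ ∈ Lg := Subgroup.subset_closure (by simp)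
  have hbL : uGL K e 1 0 0 * sGL K ∈ Lg := Subgroup.subset_closure (by simp)
  suffices hle : twistedG2 K e ≤ Lg by
    rw [eq_top_iff]
    intro x _
    have hx : (x : GL chevG2.Idx K) ∈ Lg := hle x.2
    have e1 : (Subgroup.closure ({⟨torG K e μ, hhG⟩, ⟨uGL K e 1 0 0 * sGL K, hbG⟩} :
        Set ↥(twistedG2 K e))).map (twistedG2 K e).subtype = Lg := by
      rw [MonoidHom.map_closure, hLg]
      congr 1
      ext y
      simp [Set.image_insert_eq, Set.image_singleton]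
    rw [← e1] at hx
    obtain ⟨y, hy, hyx⟩ := hx
    have : y = x := Subtype.ext hyx
    rwa [← this]
  -- the torus
  have hH : ∀ ν : Kˣ, torG K e ν ∈ Lg := by
    intro ν
    obtain ⟨k, hk⟩ := Subgroup.mem_zpowers_iff.mp (hμ ν)
    rw [← hk, map_zpow]
    exact Lg.zpow_mem hhL k
  -- the conjugate of the torus generator
  have hsN : sGL K ∈ Subgroup.normalizer (chevG2.diagonalSubgroup K : Set (GL chevG2.Idx K)) :=
    (envG2 K).hF.monomial_le_normalizer (envG2 K).hN (envG2 K).hH sGL_mem_mono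
  have hh'D : sGL K * torG K e μ * (sGL K)⁻¹ ∈ chevG2.diagonalSubgroup K ⊓ twistedG2 K e :=
    ⟨(Subgroup.mem_normalizer_iff.mp hsN _).mp (torG_mem_diag e μ),
      Subgroup.mul_mem _ (Subgroup.mul_mem _ hsG hhG) (Subgroup.inv_mem _ hsG)⟩
  rw [T.inf_eq_range] at hh'D
  obtain ⟨μ', hμ'⟩ := hh'D
  have hμ'1 : μ' ≠ 1 := by
    intro h1
    rw [h1, map_one] at hμ'
    have e1 : torG K e μ = 1 := by
      have : torG K e μ = (sGL K)⁻¹ * (sGL K * torG K e μ * (sGL K)⁻¹) * sGL K := by group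
      rw [this, ← hμ']; group
    apply hμ1
    apply T.torG_inj
    rw [e1, map_one]
  -- the first character does not kill μ'
  have hc1 : ((chi (torParam K e μ') 6 : Kˣ) : K) ≠ 1 := by
    rw [Ne, Units.val_eq_one, chi_six]
    intro h6
    apply hμ'1
    have e1 : (1 : ℤ) = ((3 * (e : ℤ) * e) - 1) * 3 + ((2 : ℤ) - 3 * e) * (3 * e + 2) := by ring
    calc μ' = μ' ^ (1 : ℤ) := (zpow_one μ').symm
      _ = μ' ^ (((3 * (e : ℤ) * e) - 1) * 3 + ((2 : ℤ) - 3 * e) * (3 * e + 2)) := by rw [← e1]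
      _ = 1 := by rw [zpow_add, zpow_mul, zpow_mul, hq μ', h6]; simp
  -- an element of `U¹` outside `U₂` in `Lg`
  have hw : ∃ t₀ u₀ v₀ : K, t₀ ≠ 0 ∧ uGL K e t₀ u₀ v₀ ∈ Lg := by
    set c := ((chi (torParam K e μ') 6 : Kˣ) : K) with hc
    have e1 : (uGL K e 1 0 0 * sGL K) * torG K e μ * (uGL K e 1 0 0 * sGL K)⁻¹ =
        uGL K e 1 0 0 * (sGL K * torG K e μ * (sGL K)⁻¹) * (uGL K e 1 0 0)⁻¹ := by group
    have h1 : uGL K e 1 0 0 * torG K e μ' * (uGL K e 1 0 0)⁻¹ ∈ Lg := by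
      rw [hμ', ← e1]
      exact Lg.mul_mem (Lg.mul_mem hbL hhL) (Lg.inv_mem hbL)
    have h2' : uGL K e 1 0 0 * torG K e μ' * (uGL K e 1 0 0)⁻¹ * (torG K e μ')⁻¹ ∈ Lg :=
      Lg.mul_mem h1 (Lg.inv_mem (hH μ'))
    have e2 : uGL K e 1 0 0 * torG K e μ' * (uGL K e 1 0 0)⁻¹ * (torG K e μ')⁻¹ =
        uGL K e 1 0 0 * (torG K e μ' * uGL K e 1 0 0 * (torG K e μ')⁻¹)⁻¹ := by group
    rw [e2, torG_conj_uGL L T μ' 1 0 0, mul_one, mul_zero, mul_zero] at h2'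
    -- it lies in U¹
    have hU : uGL K e 1 0 0 * (uGL K e c 0 0)⁻¹ ∈ chevG2.posUnipotent K :=
      Subgroup.mul_mem _ (uGL_mem_pos _ _ _) (Subgroup.inv_mem _ (uGL_mem_pos _ _ _))
    have hG : uGL K e 1 0 0 * (uGL K e c 0 0)⁻¹ ∈ twistedG2 K e :=
      Subgroup.mul_mem _ (uGL_mem_twisted _ _ _) (Subgroup.inv_mem _ (uGL_mem_twisted _ _ _))
    obtain ⟨t₀, u₀, v₀, e3⟩ := L.fix_pos _ hU (L.G1_fix _ hG)
    refine ⟨t₀, u₀, v₀, ?_, by rw [← e3]; exact h2'⟩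
    have e4 : uGL K e t₀ u₀ v₀ * uGL K e c 0 0 = uGL K e 1 0 0 := by
      rw [← e3]; group
    rw [uGL_mul L h3] at e4
    obtain ⟨e5, -, -⟩ := L.uGL_inj _ _ _ _ _ _ e4
    intro h0
    rw [h0, zero_add] at e5
    exact hc1 e5
  obtain ⟨t₀, u₀, v₀, ht₀, hw₀⟩ := hw
  -- `U¹ ≤ Lg`
  have hU1 : ∀ t u v : K, uGL K e t u v ∈ Lg := by
    apply all_mem_of_law (fun t u v => uGL K e t u v) (fun t => (t ^ e) ^ 3) (fun ν => torG K e ν)
      (fun ν => ((chi (torParam K e ν) 6 : Kˣ) : K)) (fun ν => ((chi (torParam K e ν) 10 : Kˣ) : K))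
      (fun ν => ((chi (torParam K e ν) 11 : Kˣ) : K))
      (fun t u v t' u' v' => uGL_mul L h3 t u v t' u' v')
      (fun ν t u v => torG_conj_uGL L T ν t u v)
      (by simp [he0]) (by simp) ?_ h2 ?_ ?_ Lg hH t₀ u₀ v₀ ht₀ hw₀
    · -- the Frobenius map is not the identity
      refine ⟨(μ : K), ?_⟩
      intro hF
      have e1 : μ ^ (3 * e) = μ := by
        apply Units.ext
        rw [Units.val_pow_eq_pow_val, mul_comm, pow_mul]
        exact hF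
      have e2 : μ ^ (3 * e - 1) = 1 := by
        have : μ ^ (3 * e - 1) * μ = 1 * μ := by
          rw [← pow_succ, one_mul, show 3 * e - 1 + 1 = 3 * e by omega, e1]
        exact mul_right_cancel this
      have h4 := orderOf_dvd_of_pow_eq_one e2
      rw [hord, hqe] at h4
      have h5 := Nat.le_of_dvd (by omega) h4
      have : 9 * e ≤ 3 * e * e := by nlinarith
      omega
    · intro τ hτ
      refine ⟨(Units.mk0 τ hτ) ^ ((2 : ℤ) + 3 * e), ?_⟩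
      rw [chi_six, ← zpow_mul]
      have e1 : ((2 : ℤ) + 3 * e) * ((2 : ℤ) - 3 * e) = 1 + ((3 * (e : ℤ) * e) - 1) * (-3) := by ring
      rw [e1, zpow_add, zpow_mul, hq]
      simp
    · intro σ hσ
      refine ⟨(Units.mk0 σ hσ) ^ (3 * (e : ℤ) + 1), ?_⟩
      rw [chi_ten, ← zpow_mul]
      have e1 : (3 * (e : ℤ) + 1) * (3 * (e : ℤ) - 1) = 2 + ((3 * (e : ℤ) * e) - 1) * 3 := by ring
      rw [e1, zpow_add, zpow_mul, hq]
      simp
  -- `s ∈ Lg`
  have hsL : sGL K ∈ Lg := by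
    have : sGL K = (uGL K e 1 0 0)⁻¹ * (uGL K e 1 0 0 * sGL K) := by group
    rw [this]
    exact Lg.mul_mem (Lg.inv_mem (hU1 1 0 0)) hbL
  -- `V¹ ≤ Lg`
  have hV1 : ∀ t u v : K, vGL K e t u v ∈ Lg := by
    intro t u v
    have hU : sGL K * vGL K e t u v * (sGL K)⁻¹ ∈ chevG2.posUnipotent K :=
      L.s_conj_neg _ (vGL_mem_neg t u v)
    have hG : sGL K * vGL K e t u v * (sGL K)⁻¹ ∈ twistedG2 K e :=
      Subgroup.mul_mem _ (Subgroup.mul_mem _ hsG (vGL_mem_twisted t u v)) (Subgroup.inv_mem _ hsG)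
    obtain ⟨a, b, c, e1⟩ := L.fix_pos _ hU (L.G1_fix _ hG)
    have : vGL K e t u v = (sGL K)⁻¹ * (sGL K * vGL K e t u v * (sGL K)⁻¹) * sGL K := by group
    rw [this, e1]
    exact Lg.mul_mem (Lg.mul_mem (Lg.inv_mem hsL) (hU1 a b c)) hsL
  rw [twisted_eq_closure, Subgroup.closure_le]
  rintro g (⟨t, u, v, rfl⟩ | ⟨t, u, v, rfl⟩)
  · exact hU1 t u v
  · exact hV1 t u v

end concrete

end Cfsg.Agent.Lib.Helper33.Ree
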