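import Cfsg.Agent.Lib.Helper33.ReeAll2

/-!
The multiplication in `U¹ = U ⊓ ²G₂(q)`:
`u(t,u,v) u(t',u',v') = u(t+t', u+u'-t t'^{3θ}, v+v'-t'u+t t'^{3θ+1}-t² t'^{3θ})`.
-/

set_option autoImplicit false
set_option linter.unusedSimpArgs false
set_option linter.unusedVariables false
set_option linter.unusedSectionVars false
set_option maxRecDepth 100000

namespace Cfsg.Agent.Lib.Helper33.Ree

open Cfsg.Lie Cfsg.Agent.Lib.Helper24

variable {K : Type*} [Field K] {e : ℕ}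

section comm

theorem xg_mul (r : ℕ) (s t : K) : xG K r s * xG K r t = xG K r (s + t) :=
  (envG2 K).hF.xGL_mul r s t

theorem xg_mul' (r : ℕ) (s t : K) (g : GL chevG2.Idx K) :
    xG K r s * (xG K r t * g) = xG K r (s + t) * g := by
  rw [← mul_assoc, xg_mul]

theorem xg_zero (r : ℕ) : xG K r (0 : K) = 1 := (envG2 K).hF.xGL_zero r

theorem cm_nil (r s : ℕ) (hr : r < chevG2.nroots) (hs : s < chevG2.nroots)
    (hne : s ≠ r) (hneg : s ≠ chevG2.neg r) (h : chevG2.commTerms r s = []) (t u : K) :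
    Commute (xG K r t) (xG K s u) :=
  g2_comm_nil r s hr hs hne hneg h t u

variable (h3 : (3 : K) = 0)
include h3

/-- in characteristic 3 the root elements of `a` and `2a+b` commute -/
theorem cm_7_9 (t u : K) : Commute (xG K 7 t) (xG K 9 u) := by
  have hq := (envG2 K).hcomm 7 (by decide) 9 (by decide) (by decide) (by decide) t u
  have e1 : chevG2.commTerms 7 9 = [(10, 3, 1, 1)] := by decide
  have e' : chevG2.commWord K 7 9 t u = [(10, 0)] := by
    unfold ChevalleyDatum.commWord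
    rw [e1]
    simp [h3]
  rw [e'] at hq
  have e2 : (envG2 K).hF.wordGL ([(10, 0)] : List (ℕ × K)) = 1 := by
    simp [Facts.wordGL, Facts.xGL_zero]
  rw [e2, mul_one] at hq
  exact hq.symm

/-- `x_{a+b}(u) x_a(t) = x_a(t) x_{a+b}(u) x_{2a+b}(2tu)` in characteristic 3 -/
theorem cm_7_8 (t u : K) : xG K 8 u * xG K 7 t = xG K 7 t * (xG K 8 u * xG K 9 (2 * t * u)) := by
  have hq := (envG2 K).hcomm 7 (by decide) 8 (by decide) (by decide) (by decide) t u
  have e1 : chevG2.commTerms 7 8 = [(9, -2, 1, 1), (10, -3, 2, 1), (11, 3, 1, 2)] := by decide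
  have e' : chevG2.commWord K 7 8 t u = [(9, 2 * t * u), (10, 0), (11, 0)] := by
    unfold ChevalleyDatum.commWord
    rw [e1]
    simp only [List.map_cons, List.map_nil]
    have h3' : ((3 : ℤ) : K) = 0 := by exact_mod_cast h3
    have h3'' : ((-3 : ℤ) : K) = 0 := by push_cast; rw [h3]; ring
    refine congrArg₂ _ (Prod.ext rfl ?_) (congrArg₂ _ (Prod.ext rfl ?_) (congrArg₂ _ (Prod.ext rfl ?_) rfl))
    · push_cast; ring
    · show ((-3 : ℤ) : K) * (-t) ^ 2 * u ^ 1 = 0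
      rw [h3'']; ring
    · show ((3 : ℤ) : K) * (-t) ^ 1 * u ^ 2 = 0
      rw [h3']; ring
  rw [e'] at hq
  have e2 : (envG2 K).hF.wordGL ([(9, 2 * t * u), (10, 0), (11, 0)] : List (ℕ × K)) =
      xG K 9 (2 * t * u) := by
    simp [Facts.wordGL, Facts.xGL_zero, xG]
  rw [e2] at hq
  rw [hq, mul_assoc]

omit h3 in
/-- `x_{3a+b}(u) x_b(t) = x_b(t) x_{3a+b}(u) x_{3a+2b}(-tu)` -/
theorem cm_6_10 (t u : K) : xG K 10 u * xG K 6 t = xG K 6 t * (xG K 10 u * xG K 11 (-(t * u))) := by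
  have hq := (envG2 K).hcomm 6 (by decide) 10 (by decide) (by decide) (by decide) t u
  have e1 : chevG2.commTerms 6 10 = [(11, 1, 1, 1)] := by decide
  have e' : chevG2.commWord K 6 10 t u = [(11, -(t * u))] := by
    unfold ChevalleyDatum.commWord
    rw [e1]
    simp only [List.map_cons, List.map_nil]
    refine congrArg₂ _ (Prod.ext rfl ?_) rfl
    push_cast; ring
  rw [e'] at hq
  have e2 : (envG2 K).hF.wordGL ([(11, -(t * u))] : List (ℕ × K)) = xG K 11 (-(t * u)) := by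
    simp [Facts.wordGL, xG]
  rw [e2] at hq
  rw [hq, mul_assoc]

omit h3 in
theorem cm_7_6 (P Q : K) : xG K 6 P * xG K 7 Q =
    xG K 7 Q * (xG K 6 P * (xG K 8 (Q * P) * (xG K 9 (Q ^ 2 * P) * (xG K 10 (-(Q ^ 3 * P)) *
      xG K 11 (-(Q ^ 3 * P ^ 2)))))) := by
  have := g2_comm_7_6 (F := K) P Q
  simp only [mul_assoc] at this
  exact this

end comm

section collect

variable (h3 : (3 : K) = 0)

theorem lc_of_comm {G : Type*} [Group G] {a b : G} (h : Commute a b) (g : G) :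
    a * (b * g) = b * (a * g) := h.left_comm g

theorem lc_of_eq {G : Type*} [Group G] {a b c : G} (h : a * b = b * (a * c)) (g : G) :
    a * (b * g) = b * (a * (c * g)) := by
  rw [← mul_assoc, h]
  simp only [mul_assoc]

-- commuting pairs, two-term form
theorem s_8_6 (s t : K) : xG K 8 s * xG K 6 t = xG K 6 t * xG K 8 s :=
  (cm_nil 6 8 (by decide) (by decide) (by decide) (by decide) (by decide) t s).symm.eq
theorem s_9_6 (s t : K) : xG K 9 s * xG K 6 t = xG K 6 t * xG K 9 s :=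
  (cm_nil 6 9 (by decide) (by decide) (by decide) (by decide) (by decide) t s).symm.eq
theorem s_11_6 (s t : K) : xG K 11 s * xG K 6 t = xG K 6 t * xG K 11 s :=
  (cm_nil 6 11 (by decide) (by decide) (by decide) (by decide) (by decide) t s).symm.eq
theorem s_10_7 (s t : K) : xG K 10 s * xG K 7 t = xG K 7 t * xG K 10 s :=
  (cm_nil 7 10 (by decide) (by decide) (by decide) (by decide) (by decide) t s).symm.eq
theorem s_11_7 (s t : K) : xG K 11 s * xG K 7 t = xG K 7 t * xG K 11 s :=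
  (cm_nil 7 11 (by decide) (by decide) (by decide) (by decide) (by decide) t s).symm.eq
theorem s_10_8 (s t : K) : xG K 10 s * xG K 8 t = xG K 8 t * xG K 10 s :=
  (cm_nil 8 10 (by decide) (by decide) (by decide) (by decide) (by decide) t s).symm.eq
theorem s_11_8 (s t : K) : xG K 11 s * xG K 8 t = xG K 8 t * xG K 11 s :=
  (cm_nil 8 11 (by decide) (by decide) (by decide) (by decide) (by decide) t s).symm.eq
theorem s_10_9 (s t : K) : xG K 10 s * xG K 9 t = xG K 9 t * xG K 10 s :=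
  (cm_nil 9 10 (by decide) (by decide) (by decide) (by decide) (by decide) t s).symm.eq
theorem s_11_9 (s t : K) : xG K 11 s * xG K 9 t = xG K 9 t * xG K 11 s :=
  (cm_nil 9 11 (by decide) (by decide) (by decide) (by decide) (by decide) t s).symm.eq
theorem s_11_10 (s t : K) : xG K 11 s * xG K 10 t = xG K 10 t * xG K 11 s :=
  (cm_nil 10 11 (by decide) (by decide) (by decide) (by decide) (by decide) t s).symm.eq

include h3 in
theorem s_9_7 (s t : K) : xG K 9 s * xG K 7 t = xG K 7 t * xG K 9 s := (cm_7_9 h3 t s).symm.eq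
include h3 in
theorem s_9_8 (s t : K) : xG K 9 s * xG K 8 t = xG K 8 t * xG K 9 s := (g2_comm_8_9 h3 t s).symm.eq

-- three-term forms
theorem l_8_6 (s t : K) (g : GL chevG2.Idx K) : xG K 8 s * (xG K 6 t * g) = xG K 6 t * (xG K 8 s * g) := by
  rw [← mul_assoc, s_8_6, mul_assoc]
theorem l_9_6 (s t : K) (g : GL chevG2.Idx K) : xG K 9 s * (xG K 6 t * g) = xG K 6 t * (xG K 9 s * g) := by
  rw [← mul_assoc, s_9_6, mul_assoc]
theorem l_11_6 (s t : K) (g : GL chevG2.Idx K) : xG K 11 s * (xG K 6 t * g) = xG K 6 t * (xG K 11 s * g) := by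
  rw [← mul_assoc, s_11_6, mul_assoc]
theorem l_10_7 (s t : K) (g : GL chevG2.Idx K) : xG K 10 s * (xG K 7 t * g) = xG K 7 t * (xG K 10 s * g) := by
  rw [← mul_assoc, s_10_7, mul_assoc]
theorem l_11_7 (s t : K) (g : GL chevG2.Idx K) : xG K 11 s * (xG K 7 t * g) = xG K 7 t * (xG K 11 s * g) := by
  rw [← mul_assoc, s_11_7, mul_assoc]
theorem l_10_8 (s t : K) (g : GL chevG2.Idx K) : xG K 10 s * (xG K 8 t * g) = xG K 8 t * (xG K 10 s * g) := by
  rw [← mul_assoc, s_10_8, mul_assoc]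
theorem l_11_8 (s t : K) (g : GL chevG2.Idx K) : xG K 11 s * (xG K 8 t * g) = xG K 8 t * (xG K 11 s * g) := by
  rw [← mul_assoc, s_11_8, mul_assoc]
theorem l_10_9 (s t : K) (g : GL chevG2.Idx K) : xG K 10 s * (xG K 9 t * g) = xG K 9 t * (xG K 10 s * g) := by
  rw [← mul_assoc, s_10_9, mul_assoc]
theorem l_11_9 (s t : K) (g : GL chevG2.Idx K) : xG K 11 s * (xG K 9 t * g) = xG K 9 t * (xG K 11 s * g) := by
  rw [← mul_assoc, s_11_9, mul_assoc]
theorem l_11_10 (s t : K) (g : GL chevG2.Idx K) : xG K 11 s * (xG K 10 t * g) = xG K 10 t * (xG K 11 s * g) := by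
  rw [← mul_assoc, s_11_10, mul_assoc]
include h3 in
theorem l_9_7 (s t : K) (g : GL chevG2.Idx K) : xG K 9 s * (xG K 7 t * g) = xG K 7 t * (xG K 9 s * g) := by
  rw [← mul_assoc, s_9_7 h3, mul_assoc]
include h3 in
theorem l_9_8 (s t : K) (g : GL chevG2.Idx K) : xG K 9 s * (xG K 8 t * g) = xG K 8 t * (xG K 9 s * g) := by
  rw [← mul_assoc, s_9_8 h3, mul_assoc]

-- non-commuting pairs
include h3 in
theorem l_8_7 (u t : K) (g : GL chevG2.Idx K) :
    xG K 8 u * (xG K 7 t * g) = xG K 7 t * (xG K 8 u * (xG K 9 (2 * t * u) * g)) := by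
  rw [← mul_assoc, cm_7_8 h3]
  simp only [mul_assoc]

theorem l_10_6 (u t : K) (g : GL chevG2.Idx K) :
    xG K 10 u * (xG K 6 t * g) = xG K 6 t * (xG K 10 u * (xG K 11 (-(t * u)) * g)) := by
  rw [← mul_assoc, cm_6_10]
  simp only [mul_assoc]

theorem l_6_7 (P Q : K) (g : GL chevG2.Idx K) : xG K 6 P * (xG K 7 Q * g) =
    xG K 7 Q * (xG K 6 P * (xG K 8 (Q * P) * (xG K 9 (Q ^ 2 * P) * (xG K 10 (-(Q ^ 3 * P)) *
      (xG K 11 (-(Q ^ 3 * P ^ 2)) * g))))) := by
  rw [← mul_assoc, cm_7_6]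
  simp only [mul_assoc]

include h3 in
/-- the multiplication of ordered products along `[a, b, a+b, 2a+b, 3a+b, 3a+2b]` in characteristic 3 -/
theorem pos_mul (a b c d f g a' b' c' d' f' g' : K) :
    (xG K 7 a * (xG K 6 b * (xG K 8 c * (xG K 9 d * (xG K 10 f * xG K 11 g))))) *
      (xG K 7 a' * (xG K 6 b' * (xG K 8 c' * (xG K 9 d' * (xG K 10 f' * xG K 11 g'))))) =
    xG K 7 (a + a') * (xG K 6 (b + b') * (xG K 8 (c + c' + a' * b) *
      (xG K 9 (d + d' + a' ^ 2 * b + 2 * a' * c) * (xG K 10 (f + f' - a' ^ 3 * b) *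
        xG K 11 (g + g' - a' ^ 3 * b ^ 2 - b' * (f - a' ^ 3 * b)))))) := by
  simp only [mul_assoc, xg_mul, xg_mul', s_8_6, s_9_6, s_11_6, s_10_7, s_11_7, s_10_8, s_11_8, s_10_9,
    s_11_9, s_11_10, s_9_7 h3, s_9_8 h3, l_8_6, l_9_6, l_11_6, l_10_7, l_11_7, l_10_8, l_11_8, l_10_9,
    l_11_9, l_11_10, l_9_7 h3, l_9_8 h3, l_8_7 h3, l_10_6, l_6_7, cm_7_8 h3, cm_6_10, cm_7_6]
  refine congrArg₂ _ rfl (congrArg₂ _ rfl (congrArg₂ _ (congrArg _ ?_) (congrArg₂ _ (congrArg _ ?_)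
    (congrArg₂ _ (congrArg _ ?_) (congrArg _ ?_))))) <;> ring

end collect

section law

variable {S : Sigma K e} (L : Leaves S)
include L

/-- the multiplication in `U¹` -/
theorem uGL_mul (h3 : (3 : K) = 0) (t u v t' u' v' : K) :
    uGL K e t u v * uGL K e t' u' v' =
      uGL K e (t + t') (u + u' - (t' ^ e) ^ 3 * t)
        (v + v' - (t' ^ e) ^ 3 * t ^ 2 - t' * (u - (t' ^ e) ^ 3 * t)) := by
  have hU : uGL K e t u v * uGL K e t' u' v' ∈ chevG2.posUnipotent K :=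
    Subgroup.mul_mem _ (uGL_mem_pos t u v) (uGL_mem_pos t' u' v')
  have hG : uGL K e t u v * uGL K e t' u' v' ∈ twistedG2 K e :=
    Subgroup.mul_mem _ (uGL_mem_twisted t u v) (uGL_mem_twisted t' u' v')
  obtain ⟨t'', u'', v'', e1⟩ := L.fix_pos _ hU (L.G1_fix _ hG)
  have e2 : uGL K e t u v * uGL K e t' u' v' = (envG2 K).hF.ordProd reeL
      (reeC (t ^ e + t' ^ e) (t + t')
        (t ^ (e + 1) + u ^ e + (t' ^ (e + 1) + u' ^ e) + t' ^ e * t)
        (t ^ (2 * e + 1) + v ^ e + (t' ^ (2 * e + 1) + v' ^ e) + (t' ^ e) ^ 2 * t +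
          2 * t' ^ e * (t ^ (e + 1) + u ^ e))
        (u + u' - (t' ^ e) ^ 3 * t)
        (v + v' - (t' ^ e) ^ 3 * t ^ 2 - t' * (u - (t' ^ e) ^ 3 * t))) := by
    rw [uGL_eq, uGL_eq, ordProd_reeC]
    simp only [mul_one]
    rw [pos_mul h3]
    simp [Facts.wordGL, xG, mul_assoc]
  have e3 := e1
  rw [e2, uGL_eq_ordProd] at e3
  have h4 := ree_ordProd_inj _ _ e3
  have h6 := h4 6 (by decide)
  have h10 := h4 10 (by decide)
  have h11 := h4 11 (by decide)
  simp only [reeC] at h6 h10 h11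
  norm_num at h6 h10 h11
  rw [e1, ← h6, ← h10, ← h11]

end law

end Cfsg.Agent.Lib.Helper33.Ree
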