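import Cfsg.Agent.Lib.Helper33.ReeExt
import Cfsg.Agent.Lib.Helper24.TorusCard

/-!
The parametrisation `μ ↦ h_a(μ ^ e) h_b(μ)` of the fixed points of the twisting automorphism on the torus
of `G₂(K)`.
-/

set_option autoImplicit false

namespace Cfsg.Agent.Lib.Helper33.Ree

open Cfsg.Lie Cfsg.Agent.Lib.Helper24

/-- `μ ↦ (μ ^ e, μ)` (the first coordinate belongs to the short fundamental root `a`) -/
def torParam (K : Type*) [Field K] (e : ℕ) : Kˣ →* (Fin 2 → Kˣ) where
  toFun μ := ![μ ^ e, μ]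
  map_one' := by
    funext i
    fin_cases i <;> simp
  map_mul' a b := by
    funext i
    fin_cases i <;> simp [mul_pow]

/-- `μ ↦ h_a(μ ^ e) h_b(μ)` -/
noncomputable def torG (K : Type*) [Field K] (e : ℕ) : Kˣ →* GL chevG2.Idx K :=
  (torusHom chevG2 2 K).comp (torParam K e)

theorem torG_mem_diag {K : Type*} [Field K] (e : ℕ) (μ : Kˣ) :
    torG K e μ ∈ chevG2.diagonalSubgroup K := by
  rw [← (envG2 K).hF.torusHom_range (envG2 K).hS 2 rfl]
  exact ⟨_, rfl⟩

end Cfsg.Agent.Lib.Helper33.Ree
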