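import Cfsg.Agent.Lib.Helper24.Ord_E6
import Cfsg.Agent.Lib.Helper68.SQChev
import Cfsg.Agent.Lib.Helper68.SQOdd

/-!
# K-SQ leaf 462509 (parallel hand, helper33): `SylSq (E₆(q))`, `q` even
-/

set_option autoImplicit false
set_option maxRecDepth 100000

namespace Cfsg.Agent.Lib.Helper33.SQ

open Cfsg Cfsg.Lie Cfsg.Agent.Lib.Helper24 Cfsg.Agent.Lib.Helper38.SQ Cfsg.Agent.Lib.Helper68.SQ

/-- `g * c = a * P`, `g` coprime to `a`, `P` odd: then `c = a * m` with `m` odd -/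
theorem exists_odd_cofactor {g c a P : ℕ} (hg0 : 0 < g) (h : g * c = a * P) (hga : Nat.Coprime g a)
    (hP : ¬ 2 ∣ P) : ∃ m, ¬ 2 ∣ m ∧ c = a * m := by
  have h1 : g ∣ a * P := ⟨c, h.symm⟩
  have h2 : g ∣ P := hga.dvd_of_dvd_mul_left h1
  obtain ⟨m, rfl⟩ := h2
  refine ⟨m, fun h3 => hP (dvd_mul_of_dvd_right h3 g), ?_⟩
  have : g * c = g * (a * m) := by rw [h]; ring
  exact Nat.eq_of_mul_eq_mul_left hg0 this

theorem sylSq_e6 (F : Type) [Field F] [Fintype F] [CharP F 2] :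
    SylSq (Cfsg.Lie.chevE6.group F) := by
  obtain ⟨E⟩ := env_of_facts (F := F) chevE6 (by simp) nTabE6 orbTabE6 nfacts_E6 hnfacts_E6 cfacts_E6
  have hq := two_dvd_card_of_charTwo F
  have hq0 : 0 < Fintype.card F := Fintype.card_pos
  have h := fun d (hd : d ≠ 0) => not_two_dvd_pow_sub_one hq hq0 hd
  have e : chevE6.nroots / 2 = 36 := by decide
  have ho := ord_E6 (F := F) rfl
  have hP : ¬ 2 ∣ (Fintype.card F ^ 2 - 1) * ((Fintype.card F ^ 5 - 1) *
      ((Fintype.card F ^ 6 - 1) * ((Fintype.card F ^ 8 - 1) * ((Fintype.card F ^ 9 - 1) *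
      (Fintype.card F ^ 12 - 1))))) :=
    not_two_dvd_mul (h 2 (by norm_num)) (not_two_dvd_mul (h 5 (by norm_num))
      (not_two_dvd_mul (h 6 (by norm_num)) (not_two_dvd_mul (h 8 (by norm_num))
      (not_two_dvd_mul (h 9 (by norm_num)) (h 12 (by norm_num))))))
  have hg0 : 0 < Nat.gcd 3 (Fintype.card F - 1) := Nat.gcd_pos_of_pos_left _ (by norm_num)
  have hga : Nat.Coprime (Nat.gcd 3 (Fintype.card F - 1)) (Fintype.card F ^ 36) := by
    apply Nat.Coprime.pow_right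
    apply Nat.Coprime.coprime_dvd_left (Nat.gcd_dvd_right 3 (Fintype.card F - 1))
    have h1 : Fintype.card F - 1 + 1 = Fintype.card F := Nat.sub_add_cancel hq0
    have h2 : Nat.Coprime (Fintype.card F - 1) (Fintype.card F - 1 + 1) := by simp
    rw [h1] at h2
    exact h2
  obtain ⟨m, hm, hc⟩ := exists_odd_cofactor hg0 (by rw [ho]; simp only [mul_assoc]) hga hP
  refine sylSq_of_env E m hm ?_
  rw [e]
  exact hc

end Cfsg.Agent.Lib.Helper33.SQ
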