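import Cfsg.Agent.Lib.Helper24.Ord_E7
import Cfsg.Agent.Lib.Helper68.SQChev
import Cfsg.Agent.Lib.Helper68.SQOdd

/-!
# K-SQ leaf 462510 (parallel hand, helper33): `SylSq (E₇(q))`, `q` even
-/

set_option autoImplicit false
set_option maxRecDepth 100000

namespace Cfsg.Agent.Lib.Helper33.SQ

open Cfsg Cfsg.Lie Cfsg.Agent.Lib.Helper24 Cfsg.Agent.Lib.Helper38.SQ Cfsg.Agent.Lib.Helper68.SQ

theorem sylSq_e7 (F : Type) [Field F] [Fintype F] [CharP F 2] :
    SylSq (Cfsg.Lie.chevE7.group F) := by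
  obtain ⟨E⟩ := env_of_facts (F := F) chevE7 (by simp) nTabE7 orbTabE7 nfacts_E7 hnfacts_E7 cfacts_E7
  have hq := two_dvd_card_of_charTwo F
  have hq0 : 0 < Fintype.card F := Fintype.card_pos
  have h := fun d (hd : d ≠ 0) => not_two_dvd_pow_sub_one hq hq0 hd
  have e : chevE7.nroots / 2 = 63 := by decide
  have hg : Nat.gcd 2 (Fintype.card F - 1) = 1 := by
    have h1 : ¬ 2 ∣ Fintype.card F - 1 := by omega
    exact (Nat.Prime.coprime_iff_not_dvd Nat.prime_two).2 h1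
  refine sylSq_of_env E ((Fintype.card F ^ 2 - 1) * ((Fintype.card F ^ 6 - 1) *
      ((Fintype.card F ^ 8 - 1) * ((Fintype.card F ^ 10 - 1) * ((Fintype.card F ^ 12 - 1) *
      ((Fintype.card F ^ 14 - 1) * (Fintype.card F ^ 18 - 1)))))))
    (not_two_dvd_mul (h 2 (by norm_num)) (not_two_dvd_mul (h 6 (by norm_num))
      (not_two_dvd_mul (h 8 (by norm_num)) (not_two_dvd_mul (h 10 (by norm_num))
      (not_two_dvd_mul (h 12 (by norm_num)) (not_two_dvd_mul (h 14 (by norm_num))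
      (h 18 (by norm_num)))))))) ?_
  have ho := ord_E7 (F := F) rfl
  rw [hg, one_mul] at ho
  rw [e, ho]
  simp only [mul_assoc]

end Cfsg.Agent.Lib.Helper33.SQ
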