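import Cfsg.Agent.Lib.Helper24.Ord_G2
import Cfsg.Agent.Lib.Helper68.SQChev
import Cfsg.Agent.Lib.Helper68.SQOdd

/-!
# K-SQ leaf 462507 (parallel hand, helper33): `SylSq (G₂(q))`, `q` even
-/

set_option autoImplicit false
set_option maxRecDepth 100000

namespace Cfsg.Agent.Lib.Helper33.SQ

open Cfsg Cfsg.Lie Cfsg.Agent.Lib.Helper24 Cfsg.Agent.Lib.Helper38.SQ Cfsg.Agent.Lib.Helper68.SQ

theorem sylSq_g2 (F : Type) [Field F] [Fintype F] [CharP F 2] :
    SylSq (Cfsg.Lie.chevG2.group F) := by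
  obtain ⟨E⟩ := env_of_facts (F := F) chevG2 (by simp) nTabG2 orbTabG2 nfacts_G2 hnfacts_G2 cfacts_G2
  have hq := two_dvd_card_of_charTwo F
  have hq0 : 0 < Fintype.card F := Fintype.card_pos
  have h := fun d (hd : d ≠ 0) => not_two_dvd_pow_sub_one hq hq0 hd
  have e : chevG2.nroots / 2 = 6 := by decide
  refine sylSq_of_env E ((Fintype.card F ^ 2 - 1) * (Fintype.card F ^ 6 - 1))
    (not_two_dvd_mul (h 2 (by norm_num)) (h 6 (by norm_num))) ?_
  rw [e, ord_G2 (F := F) rfl]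
  simp only [mul_assoc]

end Cfsg.Agent.Lib.Helper33.SQ
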