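import Mathlib
import Cfsg.Agent.Lib.Helper84.CliffordDegree
import Cfsg.Agent.Lib.Helper82.DefectZero
import Cfsg.Agent.Lib.Helper84.NormalAction
import Cfsg.Agent.Lib.Helper85.CliffordAbelian

/-!
# K-StOp-EX1 (keystone 254832): defect zero passes to a normal subgroup of `p`-power index

If `χ ∈ Irr(G)` has degree `|G|_p` and `H ⊴ G` has index `p`, then `χ` vanishes off `H` (the elements
outside `H` are `p`-singular), so `⟨χ|_H, χ|_H⟩ = p`; by Clifford `χ|_H = e ∑_{i ≤ t} θ_i` with
`e² t = p`, hence `e = 1`, `t = p` and `θ(1) = χ(1) / p = |H|_p`.  A chain of normal subgroups of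
index `p` gives the general case.
-/

set_option autoImplicit false
set_option linter.unusedSectionVars false
set_option linter.unusedVariables false

namespace Cfsg.Agent.Lib.Helper33.StOp

open Cfsg
open scoped ComplexConjugate

universe u

/-- an element outside a normal subgroup of index `p` has order divisible by `p` -/
theorem dvd_orderOf_of_not_mem {G : Type u} [Group G] [Finite G] (N : Subgroup G) [N.Normal]
    (p : ℕ) [Fact p.Prime] (hidx : N.index = p) (g : G) (hg : g ∉ N) : p ∣ orderOf g := by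
  have hp : p.Prime := Fact.out
  have h1 : orderOf (g : G ⧸ N) ∣ orderOf g := by
    apply orderOf_dvd_of_pow_eq_one
    rw [← QuotientGroup.mk_pow, pow_orderOf_eq_one]
    rfl
  have h2 : orderOf (g : G ⧸ N) ∣ p := by
    rw [← hidx, Subgroup.index_eq_card]
    exact orderOf_dvd_natCard _
  have h3 : orderOf (g : G ⧸ N) ≠ 1 := by
    rw [Ne, orderOf_eq_one_iff, QuotientGroup.eq_one_iff]
    exact hg
  rcases (Nat.dvd_prime hp).1 h2 with h | h
  · exact absurd h h3
  · rw [← h]; exact h1

/-- the norm of the restriction of a function vanishing off a subgroup -/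
theorem classInner_restrict_self {G : Type u} [Group G] [Fintype G] (N : Subgroup G) [Fintype N]
    (χ : G → ℂ) (hvan : ∀ g, g ∉ N → χ g = 0) :
    classInner (fun n : N => χ n) (fun n : N => χ n) = (N.index : ℂ) * classInner χ χ := by
  classical
  have hsum : ∑ g : G, χ g * conj (χ g) = ∑ n : N, χ n * conj (χ n) := by
    rw [← Finset.sum_subtype (Finset.univ.filter (fun g : G => g ∈ N))
      (fun x => by simp) (fun g => χ g * conj (χ g))]
    symm
    apply Finset.sum_filter_of_ne
    intro g _ hne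
    by_contra hg
    exact hne (by rw [hvan g hg, zero_mul])
  have hcard : (Nat.card G : ℂ) = (Nat.card N : ℂ) * (N.index : ℂ) := by
    rw [← Subgroup.card_mul_index N]; push_cast; ring
  have hN0 : (Nat.card N : ℂ) ≠ 0 := Nat.cast_ne_zero.2 Nat.card_pos.ne'
  have hi0 : (N.index : ℂ) ≠ 0 := by
    apply Nat.cast_ne_zero.2
    intro h0
    have := Subgroup.card_mul_index N
    rw [h0, mul_zero] at this
    exact Nat.card_pos.ne' this.symm
  rw [Cfsg.Agent.Lib.Helper83.classInner_def, Cfsg.Agent.Lib.Helper83.classInner_def, hsum, hcard]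
  field_simp

/-- the invariant: an irreducible character of degree the full power of `p` -/
def DZ (p : ℕ) (G : Type u) [Group G] : Prop :=
  ∃ χ : G → ℂ, IsIrrCharacter G χ ∧ charDegree χ = p ^ (Nat.card G).factorization p

theorem DZ.transport {p : ℕ} {A B : Type u} [Group A] [Group B] [Finite B] (e : A ≃* B) (h : DZ p B) :
    DZ p A := by
  obtain ⟨χ, hχ, hd⟩ := h
  refine ⟨fun a => χ (e a), Cfsg.Agent.Lib.Helper84.isIrrCharacter_comp_mulEquiv e hχ, ?_⟩
  rw [Nat.card_congr e.toEquiv, ← hd]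
  show ⌊(χ (e 1)).re⌋₊ = ⌊(χ 1).re⌋₊
  rw [map_one]

/-- one step: a normal subgroup of index `p` -/
theorem DZ.step {G : Type u} [Group G] [Finite G] (N : Subgroup G) (hN : N.Normal) (p : ℕ)
    [Fact p.Prime] (hidx : N.index = p) (h : DZ p G) : DZ p ↥N := by
  classical
  have : Fintype G := Fintype.ofFinite G
  have : Fintype N := Fintype.ofFinite N
  have hp : p.Prime := Fact.out
  obtain ⟨χ, hχ, hd⟩ := h
  have hnd : ¬ p ∣ Nat.card G / charDegree χ := by
    rw [hd]
    exact Nat.not_dvd_ordCompl hp Nat.card_pos.ne'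
  obtain ⟨M, hM⟩ := Cfsg.Agent.Lib.Helper82.exists_isPModular p hp
  have hblock := Cfsg.Agent.Lib.Helper82.blockOf_eq_singleton_of_not_dvd hM ⟨χ, hχ⟩ hnd
  have hvan : ∀ g, g ∉ N → χ g = 0 := fun g hg =>
    Cfsg.Agent.Lib.Helper82.eq_zero_of_blockOf_eq_singleton hM ⟨χ, hχ⟩ hblock g
      (haveI := hN; dvd_orderOf_of_not_mem N p hidx g hg)
  have hχc := Cfsg.Agent.Lib.Helper83.isCharacter_of_irr hχ
  have hres : IsCharacter N (fun n : N => χ n) := Cfsg.Agent.Lib.Helper83.isCharacter_restrict N hχc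
  have hnorm : classInner (fun n : N => χ n) (fun n : N => χ n) = (p : ℂ) := by
    rw [classInner_restrict_self N χ hvan, hidx,
      Cfsg.Agent.Lib.Helper83.irr_inner_self ⟨χ, hχ⟩, mul_one]
  have h1 : (fun n : N => χ n) 1 ≠ 0 :=
    Cfsg.Agent.Lib.Helper82.IsIrrCharacter.apply_one_ne_zero hχ
  obtain ⟨θ, hθ, hθne⟩ := Cfsg.Agent.Lib.Helper85.exists_irr_constituent hres h1
  obtain ⟨m, hm⟩ := Cfsg.Agent.Lib.Helper83.classInner_char_nat hres
    (Cfsg.Agent.Lib.Helper83.isCharacter_of_irr hθ)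
  have hm0 : m ≠ 0 := by
    rintro rfl
    exact hθne (by rw [hm]; simp)
  have hcl := Cfsg.Agent.Lib.Helper85.clifford_finset hN hχ hθ hθne
  have hcard := Cfsg.Agent.Lib.Helper85.card_conj_orbit_eq_index hN θ
  set t := (Cfsg.Agent.Lib.Helper85.conjStab hN θ).index with ht
  have hnorm2 : classInner (fun n : N => χ n) (fun n : N => χ n) = (m : ℂ) * ((t : ℂ) * (m : ℂ)) := by
    have e1 := congrArg (classInner (fun n : N => χ n)) hcl
    rw [e1, Cfsg.Agent.Lib.Helper83.classInner_smul_right,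
      Cfsg.Agent.Lib.Helper83.classInner_sum_right, hm, Complex.conj_natCast]
    congr 1
    have e2 : ∀ ψ ∈ Finset.univ.image (fun g : G => Cfsg.Agent.Lib.Helper85.conjFun hN θ g),
        classInner (fun n : N => χ n) ψ = (m : ℂ) := by
      intro ψ hψ
      rw [Finset.mem_image] at hψ
      obtain ⟨g, -, rfl⟩ := hψ
      rw [Cfsg.Agent.Lib.Helper85.classInner_restrict_conjFun hN
        (Cfsg.Agent.Lib.Helper83.char_isClassFunction hχc), hm]
    rw [Finset.sum_congr rfl e2, Finset.sum_const, nsmul_eq_mul, hcard]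
  have hnat : m * (t * m) = p := by
    have : ((m * (t * m) : ℕ) : ℂ) = (p : ℂ) := by
      push_cast
      rw [← hnorm2, hnorm]
    exact_mod_cast this
  have hm1 : m = 1 := by
    have hmp : m ∣ p := ⟨t * m, hnat.symm⟩
    rcases (Nat.dvd_prime hp).1 hmp with h | h
    · exact h
    · exfalso
      rw [h] at hnat
      have h2 : t * p = 1 := by
        have := Nat.eq_of_mul_eq_mul_left hp.pos (hnat.trans (mul_one p).symm)
        exact this
      have h3 : p = 1 := Nat.eq_one_of_mul_eq_one_left h2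
      exact hp.one_lt.ne' h3
  have htp : t = p := by
    rw [hm1, mul_one, one_mul] at hnat
    exact hnat
  have hdeg := Cfsg.Agent.Lib.Helper84.clifford_degree hN ⟨χ, hχ⟩ ⟨θ, hθ⟩ m hm hm0
  rw [← ht, hm1, one_mul, htp] at hdeg
  change charDegree χ = p * charDegree θ at hdeg
  refine ⟨θ, hθ, ?_⟩
  have hcardG : Nat.card G = Nat.card N * p := by
    rw [← hidx, Subgroup.card_mul_index]
  have hfac : (Nat.card G).factorization p = (Nat.card N).factorization p + 1 := by
    rw [hcardG, Nat.factorization_mul Nat.card_pos.ne' hp.ne_zero]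
    simp [hp.factorization_self]
  rw [hd, hfac, pow_succ, mul_comm] at hdeg
  exact (Nat.eq_of_mul_eq_mul_left hp.pos hdeg).symm

/-- a chain of normal subgroups of index `p` -/
theorem DZ.chain (p : ℕ) [Fact p.Prime] : ∀ (k : ℕ) {G : Type u} [Group G] [Finite G]
    (H : Subgroup G) [H.Normal], H.index = p ^ k → DZ p G → DZ p ↥H := by
  have hp : p.Prime := Fact.out
  intro k
  induction k with
  | zero =>
    intro G _ _ H _ hidx h
    rw [pow_zero, Subgroup.index_eq_one] at hidx
    subst hidx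
    exact DZ.transport Subgroup.topEquiv h
  | succ k ih =>
    intro G _ _ H _ hidx h
    -- a subgroup of index `p` of the `p`-group `G ⧸ H`
    have hcardQ : Nat.card (G ⧸ H) = p ^ (k + 1) := by
      rw [← Subgroup.index_eq_card, hidx]
    obtain ⟨Kb, hKb⟩ := Sylow.exists_subgroup_card_pow_prime p
      (show p ^ k ∣ Nat.card (G ⧸ H) by rw [hcardQ]; exact pow_dvd_pow p (Nat.le_succ k))
    have hKidx : Kb.index = p := by
      have h1 := Subgroup.card_mul_index Kb
      rw [hKb, hcardQ, pow_succ] at h1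
      exact Nat.eq_of_mul_eq_mul_left (pow_pos hp.pos k) h1
    have hKn : Kb.Normal := by
      apply Subgroup.normal_of_index_eq_minFac_card
      rw [hKidx, hcardQ, Nat.Prime.pow_minFac hp (Nat.succ_ne_zero k)]
    let M : Subgroup G := Kb.comap (QuotientGroup.mk' H)
    have hMn : M.Normal := hKn.comap _
    have hMidx : M.index = p := by
      rw [← hKidx]
      exact Subgroup.index_comap_of_surjective Kb (QuotientGroup.mk'_surjective H)
    have hHM : H ≤ M := by
      intro x hx
      show (QuotientGroup.mk' H x) ∈ Kb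
      have : QuotientGroup.mk' H x = 1 := (QuotientGroup.eq_one_iff x).2 hx
      rw [this]
      exact Kb.one_mem
    have hM := DZ.step M hMn p hMidx h
    have hrel : (H.subgroupOf M).index = p ^ k := by
      have h1 := Subgroup.relIndex_mul_index hHM
      rw [hMidx, hidx, pow_succ] at h1
      exact Nat.eq_of_mul_eq_mul_right hp.pos h1
    have h2 := ih (G := ↥M) (H.subgroupOf M) hrel hM
    exact DZ.transport (Subgroup.subgroupOfEquivOfLe hHM).symm h2

/-- a character of degree `|A|_p` has the degree of a Sylow subgroup and vanishes on its non-identity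
elements -/
theorem DZ.final {p : ℕ} [Fact p.Prime] {A : Type u} [Group A] [Finite A] {θ : A → ℂ}
    (hθ : IsIrrCharacter A θ) (hd : charDegree θ = p ^ (Nat.card A).factorization p) :
    ∀ Q : Sylow p A, θ 1 = Nat.card Q ∧ ∀ x : A, x ∈ Q → x ≠ 1 → θ x = 0 := by
  classical
  have : Fintype A := Fintype.ofFinite A
  have hp : p.Prime := Fact.out
  intro Q
  have hcardQ : Nat.card Q = p ^ (Nat.card A).factorization p := Sylow.card_eq_multiplicity Q
  constructor
  · rw [← Cfsg.Agent.Lib.Helper83.charDegree_cast (Cfsg.Agent.Lib.Helper83.isCharacter_of_irr hθ),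
      hd, hcardQ]
  · intro x hx hx1
    obtain ⟨M, hM⟩ := Cfsg.Agent.Lib.Helper82.exists_isPModular p hp
    have hnd : ¬ p ∣ Nat.card A / charDegree θ := by
      rw [hd]
      exact Nat.not_dvd_ordCompl hp Nat.card_pos.ne'
    have hblock := Cfsg.Agent.Lib.Helper82.blockOf_eq_singleton_of_not_dvd hM ⟨θ, hθ⟩ hnd
    have hox : p ∣ orderOf x := by
      obtain ⟨k, hk⟩ := (IsPGroup.iff_orderOf.mp Q.isPGroup') ⟨x, hx⟩
      rw [Subgroup.orderOf_mk] at hk
      rw [hk]
      apply dvd_pow_self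
      rintro rfl
      rw [pow_zero, orderOf_eq_one_iff] at hk
      exact hx1 hk
    exact Cfsg.Agent.Lib.Helper82.eq_zero_of_blockOf_eq_singleton hM ⟨θ, hθ⟩ hblock x hox

/-- **K-StOp-EX1.** -/
theorem exists_defect_zero_restrict {G : Type*} [Group G] [Finite G] (H : Subgroup G) [H.Normal]
    (p : ℕ) [Fact p.Prime] (hidx : ∃ k : ℕ, H.index = p ^ k)
    (hZG : Subgroup.center G = ⊥) (hZH : Subgroup.center ↥H = ⊥)
    (hχ : ∃ χ : G ⧸ Subgroup.center G → ℂ, Cfsg.IsIrrCharacter (G ⧸ Subgroup.center G) χ ∧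
      ∀ Q : Sylow p (G ⧸ Subgroup.center G), χ 1 = Nat.card Q ∧
        ∀ x : G ⧸ Subgroup.center G, x ∈ Q → x ≠ 1 → χ x = 0) :
    ∃ θ : ↥H ⧸ Subgroup.center ↥H → ℂ, Cfsg.IsIrrCharacter (↥H ⧸ Subgroup.center ↥H) θ ∧
      ∀ Q : Sylow p (↥H ⧸ Subgroup.center ↥H), θ 1 = Nat.card Q ∧
        ∀ x : ↥H ⧸ Subgroup.center ↥H, x ∈ Q → x ≠ 1 → θ x = 0 := by
  classical
  have hp : p.Prime := Fact.out
  obtain ⟨k, hk⟩ := hidx
  obtain ⟨χ, hχi, hχQ⟩ := hχ
  -- `χ` has degree `|G / Z|_p`
  have hdzQ : DZ p (G ⧸ Subgroup.center G) := by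
    refine ⟨χ, hχi, ?_⟩
    obtain ⟨Q⟩ : Nonempty (Sylow p (G ⧸ Subgroup.center G)) := inferInstance
    have h1 := (hχQ Q).1
    rw [Sylow.card_eq_multiplicity] at h1
    unfold Cfsg.charDegree
    rw [h1, Complex.natCast_re, Nat.floor_natCast]
  let eG : G ≃* G ⧸ Subgroup.center G :=
    (QuotientGroup.quotientBot (G := G)).symm.trans (QuotientGroup.quotientMulEquivOfEq hZG.symm)
  have hdzG : DZ p G := DZ.transport eG hdzQ
  have hdzH : DZ p ↥H := DZ.chain p k H hk hdzG
  let eH : ↥H ⧸ Subgroup.center ↥H ≃* ↥H :=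
    (QuotientGroup.quotientMulEquivOfEq hZH).trans (QuotientGroup.quotientBot (G := ↥H))
  obtain ⟨θ, hθ, hd⟩ := DZ.transport eH hdzH
  exact ⟨θ, hθ, DZ.final hθ hd⟩

end Cfsg.Agent.Lib.Helper33.StOp
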