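import Cfsg.Agent.Lib.Helper33.TwBNChev
import Cfsg.Agent.Lib.Helper24.HConj

/-!
Assembly: the `(B, N)`-pair of a twisted group, from the tables of helper24 and a few decidable
checks on the classes of fundamental roots.
-/

set_option autoImplicit false
set_option linter.unusedSimpArgs false
set_option linter.unusedVariables false

namespace Cfsg.Agent.Lib.Helper33.TwBN

open Cfsg.Lie Cfsg.Agent.Lib.Helper24

section main

variable {F : Type*} [Field F] {D : ChevalleyDatum} {tab : List ℕ} {orb : List (ℕ × ℕ × ℕ)}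

/-- the decidable checks on the classes of fundamental roots -/
structure ClsChecks (D : ChevalleyDatum) (R : ℕ → ℕ) (Fd : List (ℕ × ℕ × List ℕ))
    (Hd : List (ℕ × ℕ)) : Prop where
  inHd : ∀ x ∈ Fd, (x.1, x.2.1) ∈ Hd
  shape : ∀ x ∈ Fd, x.2.2.length = x.2.1 ∧ 1 ≤ x.2.1 ∧ x.2.1 ≤ 3 ∧ x.2.2.Nodup
  negPos : ∀ x ∈ Fd, ∀ s ∈ orbitL R x.2.1 (D.neg x.1), s < D.nroots ∧ D.IsPosRoot (rhoW D x.2.2 s)
  posNeg : ∀ x ∈ Fd, ∀ s ∈ orbitL R x.2.1 x.1, s < D.nroots ∧ D.IsNegRoot (rhoW D x.2.2 s)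
  other : ∀ x ∈ Fd, ∀ x' ∈ Fd, x ≠ x' → D.IsPosRoot (rhoW D x'.2.2 x.1)

theorem rootClosure_neg_le (D : ChevalleyDatum) (F : Type*) [Field F] (R : ℕ → Prop)
    (hR : ∀ r, R r → D.IsNegRoot r) : rootClosure D F R ≤ D.negUnipotent F := by
  unfold rootClosure ChevalleyDatum.negUnipotent
  apply Subgroup.closure_mono
  rintro x ⟨r, t, hr, hx⟩
  exact ⟨r, t, hR r hr, hx⟩

theorem rootClosure_le_group (hF : Facts D) (R : ℕ → Prop) : rootClosure D F R ≤ D.group F := by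
  unfold rootClosure
  rw [Subgroup.closure_le]
  rintro g ⟨s, u, _, hg⟩
  rw [hF.eq_xGL g s u hg]
  exact hF.xGL_mem_group s u

theorem G1_le_group (E : Env D F tab orb) (T : Tw D F E.hF) (Fund : List (ℕ × ℕ)) :
    T.G1 Fund ≤ D.group F := by
  unfold Tw.G1
  rw [Subgroup.closure_le]
  rintro g ⟨p, _, t, _, rfl⟩
  exact rootClosure_le_group E.hF _ (T.cls_mem p.2 (p.1, t))

/-- the roots of a fundamental class are positive -/
theorem orbit_pos (E : Env D F tab orb) (T : Tw D F E.hF) {Fd : List (ℕ × ℕ × List ℕ)}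
    (hG : TwG E T Fd) (x : ℕ × ℕ × List ℕ) (hx : x ∈ Fd) (s : ℕ)
    (hs : s ∈ orbitL T.R x.2.1 x.1) : D.IsPosRoot s := by
  obtain ⟨hjx, hrk⟩ := hG.jx x hx
  rw [← hjx] at hs
  obtain ⟨i, hi, rfl⟩ := List.mem_map.mp hs
  exact (reflPosOK_spec D i (E.hRefl i (hrk i hi))).1

/-- the element `x_J(1)` of a fundamental class: it lies in `U ∩ G¹` and is not trivial -/
theorem cls_one (E : Env D F tab orb) (T : Tw D F E.hF) {Fd : List (ℕ × ℕ × List ℕ)}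
    {Hd : List (ℕ × ℕ)} {Lc : List ℕ} {Λ : List ℤ} (hG : TwG E T Fd) (hT : TwU E T Hd Lc Λ)
    (x : ℕ × ℕ × List ℕ) (hx : x ∈ Fd) (hHd : (x.1, x.2.1) ∈ Hd) :
    T.cls x.2.1 (x.1, (1 : F)) ∈ rootClosure D F (· ∈ orbitL T.R x.2.1 x.1) ∧
    T.cls x.2.1 (x.1, (1 : F)) ∈ T.G1 (fundOf D Fd) ∧ T.cls x.2.1 (x.1, (1 : F)) ≠ 1 := by
  refine ⟨T.cls_mem x.2.1 (x.1, 1), ?_, ?_⟩
  · have hA := T.cls_const x.2.1 x.1 (1 : F) (hG.eta1 x hx) (map_one _)
    apply Subgroup.subset_closure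
    refine ⟨(x.1, x.2.1), ?_, 1, ?_, rfl⟩
    · apply List.mem_append_left; exact List.mem_map.mpr ⟨x, hx, rfl⟩
    · rw [hA.2]
  · intro h1
    have h0 : T.cls x.2.1 (x.1, (0 : F)) = 1 := T.cls_zero _ _
    have := (hT.cls_mul_inj (x.1, x.2.1) hHd (fun _ => False) (fun s hs => hs.elim) (1 : F) 0 1 1
      (Subgroup.one_mem _) (Subgroup.one_mem _) (by
        show T.cls x.2.1 (x.1, (1 : F)) * 1 = T.cls x.2.1 (x.1, (0 : F)) * 1
        rw [h1, h0])).1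
    exact one_ne_zero this

/-- distinct classes have distinct images modulo `B` -/
theorem S_inj_tw (E : Env D F tab orb) (T : Tw D F E.hF) {Fd : List (ℕ × ℕ × List ℕ)}
    {Hd : List (ℕ × ℕ)} (hG : TwG E T Fd) (hC : ClsChecks D T.R Fd Hd)
    (x : ℕ × ℕ × List ℕ) (hx : x ∈ Fd) (x' : ℕ × ℕ × List ℕ) (hx' : x' ∈ Fd)
    (h : (E.hF.nW (F := F) x.2.2)⁻¹ * E.hF.nW x'.2.2 ∈ D.borelSubgroup F) : x = x' := by
  by_contra hxx
  have hrk := (hG.jx x hx).2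
  have hrk' := (hG.jx x' hx').2
  have hsN := E.nW_mem (F := F) _ hrk
  have hsN' := E.nW_mem (F := F) _ hrk'
  have hk1 := (hC.shape x hx).2.1
  have hmem : x.1 ∈ orbitL T.R x.2.1 x.1 := (mem_orbitL T.R x.2.1 x.1 x.1).2 ⟨0, hk1, rfl⟩
  have hlt : x.1 < D.nroots := (hC.posNeg x hx x.1 hmem).1
  have hH : (E.hF.nW (F := F) x.2.2)⁻¹ * E.hF.nW x'.2.2 ∈ D.diagonalSubgroup F := by
    rw [← E.hBN]
    exact ⟨h, Subgroup.mul_mem _ (Subgroup.inv_mem _ hsN) hsN'⟩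
  generalize hs : E.hF.nW (F := F) x.2.2 = s at *
  generalize hs' : E.hF.nW (F := F) x'.2.2 = s' at *
  generalize hX₁ : E.hF.xGL x.1 (1 : F) = X₁ at *
  have hX : X₁ ∈ rootClosure D F (fun r => r = x.1) := by
    rw [← hX₁]
    exact E.hF.xGL_mem_rootClosure (fun r => r = x.1) x.1 rfl 1
  have h1 : s' * X₁ * s'⁻¹ ∈ D.posUnipotent F := by
    rw [← hs']
    exact rootClosure_pos_le D F _ (fun r hr => hr)
      (E.conj_rootClosure_nW x'.2.2 hrk' (fun r => r = x.1) D.IsPosRoot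
        (fun r hr => by rw [hr]; exact ⟨hlt, hC.other x hx x' hx' hxx⟩) X₁ hX)
  have h2 : (s⁻¹ * s') * X₁ * (s⁻¹ * s')⁻¹ ∈ rootClosure D F (fun r => r = x.1) :=
    (Subgroup.mem_normalizer_iff.mp
      (E.hF.diagonal_le_normalizer_rootClosure (fun r => r = x.1)
        (fun r hr => by rw [hr]; exact hlt) hH) _).mp hX
  have h3 : s * ((s⁻¹ * s') * X₁ * (s⁻¹ * s')⁻¹) * s⁻¹ ∈ D.negUnipotent F := by
    rw [← hs]
    exact rootClosure_neg_le D F _ (fun r hr => hr)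
      (E.conj_rootClosure_nW x.2.2 hrk (fun r => r = x.1) D.IsNegRoot
        (fun r hr => by rw [hr]; exact ⟨hlt, (hC.posNeg x hx x.1 hmem).2⟩) _ (by rw [hs]; exact h2))
  have e : s * ((s⁻¹ * s') * X₁ * (s⁻¹ * s')⁻¹) * s⁻¹ = s' * X₁ * s'⁻¹ := by group
  rw [e] at h3
  have h4 : s' * X₁ * s'⁻¹ ∈ D.borelSubgroup F ⊓ D.negUnipotent F := ⟨pos_le_borel D F h1, h3⟩
  rw [E.hF.borel_inf_neg.1, Subgroup.mem_bot] at h4
  have h5 : s' * X₁ = s' := mul_inv_eq_one.mp h4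
  have h6 : X₁ = 1 := mul_left_cancel (h5.trans (mul_one s').symm)
  rw [← hX₁] at h6
  exact one_ne_zero (E.hF.xGL_eq_one E.hNe x.1 hlt 1 h6)

/-- `s B s ≠ B` for the representative of a class -/
theorem S_ne_tw (E : Env D F tab orb) (T : Tw D F E.hF) {Fd : List (ℕ × ℕ × List ℕ)}
    {Hd : List (ℕ × ℕ)} {Lc : List ℕ} {Λ : List ℤ} (hG : TwG E T Fd) (hT : TwU E T Hd Lc Λ)
    (hC : ClsChecks D T.R Fd Hd) (x : ℕ × ℕ × List ℕ) (hx : x ∈ Fd) :
    ∃ b ∈ D.borelSubgroup F, b ∈ T.G1 (fundOf D Fd) ∧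
      E.hF.nW (F := F) x.2.2 * b * E.hF.nW x.2.2 ∉ D.borelSubgroup F := by
  obtain ⟨hb1, hb2, hb3⟩ := cls_one E T hG hT x hx (hC.inHd x hx)
  have hrk := (hG.jx x hx).2
  have hss := (class_ok E T hG x hx (hC.shape x hx)).sq_mem
  generalize hb : T.cls x.2.1 (x.1, (1 : F)) = b at *
  have hbU : b ∈ D.posUnipotent F :=
    rootClosure_pos_le D F _ (fun r hr => orbit_pos E T hG x hx r hr) hb1
  refine ⟨b, pos_le_borel D F hbU, hb2, ?_⟩
  intro hB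
  have h3 : E.hF.nW x.2.2 * b * (E.hF.nW x.2.2)⁻¹ ∈ D.negUnipotent F :=
    rootClosure_neg_le D F _ (fun r hr => hr)
      (E.conj_rootClosure_nW x.2.2 hrk _ D.IsNegRoot
        (fun s hs => ⟨(hC.posNeg x hx s hs).1, (hC.posNeg x hx s hs).2⟩) b hb1)
  generalize hs : E.hF.nW (F := F) x.2.2 = s at *
  have e : s * b * s⁻¹ = (s * b * s) * (s * s)⁻¹ := by group
  have h4 : s * b * s⁻¹ ∈ D.borelSubgroup F ⊓ D.negUnipotent F := by
    refine ⟨?_, h3⟩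
    rw [e]
    exact Subgroup.mul_mem _ hB (Subgroup.inv_mem _ (diagonal_le_borel D F hss))
  rw [E.hF.borel_inf_neg.1, Subgroup.mem_bot] at h4
  have h5 : s * b = s := mul_inv_eq_one.mp h4
  exact hb3 (mul_left_cancel (h5.trans (mul_one s).symm))

/-- the generators of the twisted group lie in `U` or are conjugate into `U` by a representative -/
theorem gens_tw (E : Env D F tab orb) (T : Tw D F E.hF) {Fd : List (ℕ × ℕ × List ℕ)}
    {Hd : List (ℕ × ℕ)} (hG : TwG E T Fd) (hC : ClsChecks D T.R Fd Hd) :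
    ∀ y ∈ T.genSet (fundOf D Fd), y ∈ D.posUnipotent F ∨
      ∃ s ∈ {s : GL D.Idx F | ∃ x ∈ Fd, s = E.hF.nW x.2.2}, s * y * s⁻¹ ∈ D.posUnipotent F := by
  rintro y ⟨p, hp, t, _, rfl⟩
  unfold fundOf at hp
  rcases List.mem_append.mp hp with hp | hp
  · obtain ⟨x, hx, rfl⟩ := List.mem_map.mp hp
    left
    exact rootClosure_pos_le D F _ (fun r hr => orbit_pos E T hG x hx r hr)
      (T.cls_mem x.2.1 (x.1, t))
  · obtain ⟨x, hx, rfl⟩ := List.mem_map.mp hp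
    right
    refine ⟨E.hF.nW x.2.2, ⟨x, hx, rfl⟩, ?_⟩
    exact rootClosure_pos_le D F _ (fun r hr => hr)
      (E.conj_rootClosure_nW x.2.2 (hG.jx x hx).2 _ D.IsPosRoot
        (fun s hs => ⟨(hC.negPos x hx s hs).1, (hC.negPos x hx s hs).2⟩) _
        (T.cls_mem x.2.1 (D.neg x.1, t)))

/-- the setting of the abstract construction -/
noncomputable def setupOf (E : Env D F tab orb) (T : Tw D F E.hF) {Fd : List (ℕ × ℕ × List ℕ)}
    {Hd : List (ℕ × ℕ)} {Lc : List ℕ} {Λ : List ℤ} (hG : TwG E T Fd) (hT : TwU E T Hd Lc Λ)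
    (hSR : simpleReflNeOK D = true)
    (hFixLe : D.posUnipotent F ⊓ T.Fx ≤ T.G1 (fundOf D Fd))
    (hC : ClsChecks D T.R Fd Hd) : Setup (GL D.Idx F) where
  B := D.borelSubgroup F
  N := D.monomialSubgroup F
  H := D.diagonalSubgroup F
  U := D.posUnipotent F
  Un := Un D F
  σ := T.σ
  G1 := T.G1 (fundOf D Fd)
  S := {s | ∃ x ∈ Fd, s = E.hF.nW x.2.2}
  hBUH := fun b hb => exists_mul_of_mem_sup_of_le_normalizer _ _
    E.hF.diagonal_le_normalizer_pos b hb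
  hUB := pos_le_borel D F
  hHB := diagonal_le_borel D F
  hHN := diagonal_le_monomial D F
  hUH := fun x hxU hxH => by
    have : x ∈ D.posUnipotent F ⊓ D.diagonalSubgroup F := ⟨hxU, hxH⟩
    rw [E.hF.borel_semidirect.2, Subgroup.mem_bot] at this
    exact this
  hBN := fun x hxB hxN => by
    rw [← E.hBN]; exact ⟨hxB, hxN⟩
  hNH := (coreOf E T).hNH
  nf_exists := fun g hg =>
    E.hF.normal_form_exists E.hN E.hH E.hR E.hC E.hU E.hNR E.hcomm E.P E.hB E.hN' g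
      (G1_le_group E T _ hg)
  nf_unique := fun b b' n u u' hb hb' hn hu hu' e =>
    (E.hF.normal_form_unique E.P E.hB E.hN' E.hBN b b' n n u u' hb hb' hn hn hu hu' e).2 rfl
  bruhat := (coreOf E T).bruhat
  Un_le := Un_le
  Un_H := Un_H E.hF
  σU := T.map_pos
  σN := map_monomial E T
  σUn := fun n _ u hu => map_Un E T n u hu
  G1_fix := fun g hg => (T.mem_Fx g).1 (Tw.G1_le_Fx E T _ hG.fund hg)
  fixU := fun u hu hfix => hFixLe ⟨hu, (T.mem_Fx u).2 hfix⟩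
  S_mem := by
    rintro s ⟨x, hx, rfl⟩
    exact ⟨E.nW_mem _ (hG.jx x hx).2, hG.nW_mem x hx,
      (class_ok E T hG x hx (hC.shape x hx)).sq_mem⟩
  S_exch := by
    rintro s ⟨x, hx, rfl⟩
    exact (class_ok E T hG x hx (hC.shape x hx)).exch hSR
  S_inj := by
    rintro s ⟨x, hx, rfl⟩ s' ⟨x', hx', rfl⟩ h
    rw [S_inj_tw E T hG hC x hx x' hx' h]
  S_ne := by
    rintro s ⟨x, hx, rfl⟩
    exact S_ne_tw E T hG hT hC x hx
  gens := ⟨T.genSet (fundOf D Fd), rfl, gens_tw E T hG hC⟩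

/-- the `(B, N)`-pair of a twisted group -/
theorem exists_bnPair_tw (E : Env D F tab orb) (T : Tw D F E.hF) {Fd : List (ℕ × ℕ × List ℕ)}
    {Hd : List (ℕ × ℕ)} {Lc : List ℕ} {Λ : List ℤ} (hG : TwG E T Fd) (hT : TwU E T Hd Lc Λ)
    (hSR : simpleReflNeOK D = true)
    (hFixLe : D.posUnipotent F ⊓ T.Fx ≤ T.G1 (fundOf D Fd))
    (hC : ClsChecks D T.R Fd Hd) :
    ∃ P : Cfsg.BNPair ↥(T.G1 (fundOf D Fd)),
      P.B = (D.borelSubgroup F ⊓ T.G1 (fundOf D Fd)).subgroupOf (T.G1 (fundOf D Fd)) ∧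
      P.N = (D.monomialSubgroup F ⊓ T.G1 (fundOf D Fd)).subgroupOf (T.G1 (fundOf D Fd)) ∧
      P.S = {s : ↥(T.G1 (fundOf D Fd)) | ∃ x ∈ Fd, (s : GL D.Idx F) = E.hF.nW x.2.2} :=
  (setupOf E T hG hT hSR hFixLe hC).exists_bnPair

end main

end Cfsg.Agent.Lib.Helper33.TwBN
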