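import Cfsg.Agent.Lib.Helper33.TwBNMain
import Cfsg.Agent.Lib.Helper24.TwId_E6
import Cfsg.Agent.Lib.Helper24.TwId_D4
import Cfsg.Agent.Lib.Helper24.BNTab

/-!
The `(B, N)`-pairs of `²E₆(q)` and `³D₄(q)`: the decidable checks and the instances.
-/

set_option autoImplicit false
set_option maxRecDepth 100000

namespace Cfsg.Agent.Lib.Helper33.TwBN

open Cfsg.Lie Cfsg.Agent.Lib.Helper24

theorem clsChecks_E6 : ClsChecks chevE6 twRf_E6 twFd_E6 twHd_E6 where
  inHd := by decide +kernel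
  shape := by decide +kernel
  negPos := by decide +kernel
  posNeg := by decide +kernel
  other := by decide +kernel

theorem clsChecks_D4 : ClsChecks chevD4 twRf_D4 twFd_D4 twHd_D4 where
  inHd := by decide +kernel
  shape := by decide +kernel
  negPos := by decide +kernel
  posNeg := by decide +kernel
  other := by decide +kernel

/-- the `(B, N)`-pair of the twisted group of type `E₆` -/
theorem exists_bnPair_E6 (F : Type*) [Field F] (f : F ≃+* F) :
    ∃ P : Cfsg.BNPair ↥((twE6 F f).G1 (fundOf chevE6 twFd_E6)),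
      P.B = (chevE6.borelSubgroup F ⊓ (twE6 F f).G1 (fundOf chevE6 twFd_E6)).subgroupOf
        ((twE6 F f).G1 (fundOf chevE6 twFd_E6)) ∧
      P.N = (chevE6.monomialSubgroup F ⊓ (twE6 F f).G1 (fundOf chevE6 twFd_E6)).subgroupOf
        ((twE6 F f).G1 (fundOf chevE6 twFd_E6)) ∧
      P.S = {s : ↥((twE6 F f).G1 (fundOf chevE6 twFd_E6)) | ∃ x ∈ twFd_E6,
        (s : GL chevE6.Idx F) = (envE6 F).hF.nW x.2.2} :=
  exists_bnPair_tw (envE6 F) (twE6 F f) (twG_E6 F f) (twU_E6 F f) simpleReflNe_E6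
    (twFixLe_E6 F f) (by rw [twE6_R]; exact clsChecks_E6)

/-- the `(B, N)`-pair of the twisted group of type `D₄` -/
theorem exists_bnPair_D4 (F : Type*) [Field F] (f : F ≃+* F) :
    ∃ P : Cfsg.BNPair ↥((twD4 F f).G1 (fundOf chevD4 twFd_D4)),
      P.B = (chevD4.borelSubgroup F ⊓ (twD4 F f).G1 (fundOf chevD4 twFd_D4)).subgroupOf
        ((twD4 F f).G1 (fundOf chevD4 twFd_D4)) ∧
      P.N = (chevD4.monomialSubgroup F ⊓ (twD4 F f).G1 (fundOf chevD4 twFd_D4)).subgroupOf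
        ((twD4 F f).G1 (fundOf chevD4 twFd_D4)) ∧
      P.S = {s : ↥((twD4 F f).G1 (fundOf chevD4 twFd_D4)) | ∃ x ∈ twFd_D4,
        (s : GL chevD4.Idx F) = (envD4 F).hF.nW x.2.2} :=
  exists_bnPair_tw (envD4 F) (twD4 F f) (twG_D4 F f) (twU_D4 F f) simpleReflNe_D4
    (twFixLe_D4 F f) (by rw [twD4_R]; exact clsChecks_D4)

end Cfsg.Agent.Lib.Helper33.TwBN
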