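import Cfsg.Agent.Lib.Helper33.TwCore
import Cfsg.Agent.Lib.Helper33.TwBNTab

/-!
The normal core of `B¹` in `²E₆(q)` and `³D₄(q)`: tables and instances.
-/

set_option autoImplicit false
set_option maxRecDepth 100000

namespace Cfsg.Agent.Lib.Helper33.TwBN

open Cfsg.Lie Cfsg.Agent.Lib.Helper24

/-- the longest element of the twisted Weyl group of type `F₄`, as a word in the classes -/
def twW0_E6 : List ℕ := [0, 1, 3, 2, 0, 1, 3, 2, 0, 1, 3, 2, 0, 1, 3, 2, 0, 1, 3, 2, 0, 1, 3, 2]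

/-- the longest element of the twisted Weyl group of type `G₂`, as a word in the classes -/
def twW0_D4 : List ℕ := [0, 1, 0, 1, 0, 1]

theorem twW0_lt_E6 : ∀ j ∈ twW0_E6, j < twFd_E6.length := by decide +kernel
theorem twW0_lt_D4 : ∀ j ∈ twW0_D4, j < twFd_D4.length := by decide +kernel

theorem twLong_E6 : ∀ r < chevE6.nroots, chevE6.IsPosRoot r →
    chevE6.IsNegRoot (rhoW chevE6 (expandJ twFd_E6 twW0_E6) r) := by decide +kernel

theorem twLong_D4 : ∀ r < chevD4.nroots, chevD4.IsPosRoot r →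
    chevD4.IsNegRoot (rhoW chevD4 (expandJ twFd_D4 twW0_D4) r) := by decide +kernel

theorem twCover_E6 : ∀ j < chevE6.rank, ∃ x ∈ twFd_E6, j ∈ x.2.2 := by decide +kernel
theorem twCover_D4 : ∀ j < chevD4.rank, ∃ x ∈ twFd_D4, j ∈ x.2.2 := by decide +kernel

theorem twNegOrb_E6 : ∀ x ∈ twFd_E6, ∀ s ∈ orbitL twRf_E6 x.2.1 (chevE6.neg x.1),
    chevE6.IsNegRoot s := by decide +kernel

theorem twNegOrb_D4 : ∀ x ∈ twFd_D4, ∀ s ∈ orbitL twRf_D4 x.2.1 (chevD4.neg x.1),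
    chevD4.IsNegRoot s := by decide +kernel

end Cfsg.Agent.Lib.Helper33.TwBN
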