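import Cfsg.Agent.Lib.Helper76.TwBNCount
import Cfsg.Agent.Lib.Helper08.BNPairExchange

/-!
# Orders of the minimal parabolic subgroups of a twisted group, from the twisted Bruhat normal form

In the abstract setting `TwBN2.Setup`: the double coset `B¹ n B¹` has `|U¹| |H¹| |U_n⁻ ∩ G¹|` elements, and
the parabolic subgroup `⟨B¹, s⟩` of the `(B, N)`-pair of `G¹` is `B¹ ∪ B¹ s B¹`.
-/

set_option autoImplicit false
set_option linter.unusedSectionVars false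
set_option linter.unusedVariables false

namespace Cfsg.Agent.Lib.Helper33.TwPar

open Cfsg.Agent.Lib.Helper33.TwBN2 Cfsg.Agent.Lib.Helper76.TwCount Cfsg.Agent.Lib.Helper08

variable {Γ : Type*} [Group Γ] (D : Setup Γ)

/-- the double coset of `n` with respect to `B ⊓ G¹` -/
def cell (n : Γ) : Set Γ := {g | D.DC1 n g}

theorem cell_le_G1 (n : Γ) (hnG : n ∈ D.G1) : ∀ g ∈ cell D n, g ∈ D.G1 := by
  rintro g ⟨β₁, _, h1, β₂, _, h2, rfl⟩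
  exact D.G1.mul_mem (D.G1.mul_mem h1 hnG) h2

theorem Un_one : D.Un 1 = ⊥ := by
  rw [eq_bot_iff]
  intro u hu
  rw [Subgroup.mem_bot]
  have := D.nf_unique 1 u 1 u 1 D.B.one_mem (D.hUB (D.Un_le _ hu)) D.N.one_mem hu
    (D.Un 1).one_mem (by group)
  exact this.1.symm

/-- the number of elements of a double coset -/
theorem card_cell [Finite Γ] (n : Γ) (hn : n ∈ D.N) (hnG : n ∈ D.G1) :
    Nat.card (cell D n) = Nat.card ↥(D.U ⊓ D.G1) * Nat.card ↥(D.H ⊓ D.G1) *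
      Nat.card ↥(D.Un n ⊓ D.G1) := by
  classical
  let ν : Unit → Γ := fun _ => n
  have hmem : ∀ x : ↥(D.U ⊓ D.G1) × ↥(D.H ⊓ D.G1) × ↥(D.Un n ⊓ D.G1),
      (x.1 : Γ) * (x.2.1 : Γ) * n * (x.2.2 : Γ) ∈ cell D n := by
    rintro ⟨⟨u₁, hu₁, hu₁G⟩, ⟨h, hh, hhG⟩, ⟨u, hu, huG⟩⟩
    exact ⟨u₁ * h, D.B.mul_mem (D.hUB hu₁) (D.hHB hh), D.G1.mul_mem hu₁G hhG, u,
      D.hUB (D.Un_le _ hu), huG, rfl⟩
  let Φ : ↥(D.U ⊓ D.G1) × ↥(D.H ⊓ D.G1) × ↥(D.Un n ⊓ D.G1) → cell D n :=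
    fun x => ⟨(x.1 : Γ) * (x.2.1 : Γ) * n * (x.2.2 : Γ), hmem x⟩
  have hinj : Function.Injective Φ := by
    intro x y hxy
    have h1 : nfMap D ν ⟨(), x⟩ = nfMap D ν ⟨(), y⟩ := congrArg Subtype.val hxy
    have h2 := nfMap_injective D ν (fun _ => hn) (fun _ _ _ => rfl) h1
    simpa using h2
  have hsurj : Function.Surjective Φ := by
    rintro ⟨g, β₁, hβ₁, hβ₁G, β₂, hβ₂, hβ₂G, rfl⟩
    have hg : β₁ * n * β₂ ∈ D.G1 := D.G1.mul_mem (D.G1.mul_mem hβ₁G hnG) hβ₂G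
    obtain ⟨u₁, hu₁, hu₁G, n', hn', hn'G, u₂, hu₂, hu₂G, e⟩ := fixed_nf' D _ hg
    have hk : n⁻¹ * n' ∈ D.H :=
      D.bruhat n hn n' hn' β₁ hβ₁ β₂ hβ₂ u₁ (D.hUB hu₁) u₂ (D.hUB (D.Un_le _ hu₂)) e
    have hk' : n * (n⁻¹ * n') * n⁻¹ ∈ D.H := D.hNH n hn _ hk
    have e1 : n' = (n * (n⁻¹ * n') * n⁻¹) * n := by group
    have hu₂' : u₂ ∈ D.Un n := by
      rw [e1, Un_H_eq D _ hk'] at hu₂
      exact hu₂
    have hkG : n * (n⁻¹ * n') * n⁻¹ ∈ D.G1 :=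
      D.G1.mul_mem (D.G1.mul_mem hnG (D.G1.mul_mem (D.G1.inv_mem hnG) hn'G)) (D.G1.inv_mem hnG)
    refine ⟨⟨⟨u₁, hu₁, hu₁G⟩, ⟨n * (n⁻¹ * n') * n⁻¹, hk', hkG⟩, ⟨u₂, hu₂', hu₂G⟩⟩, ?_⟩
    apply Subtype.ext
    show u₁ * (n * (n⁻¹ * n') * n⁻¹) * n * u₂ = β₁ * n * β₂
    rw [e]; group
  rw [← Nat.card_congr (Equiv.ofBijective Φ ⟨hinj, hsurj⟩), Nat.card_prod, Nat.card_prod, mul_assoc]

theorem cell_one : cell D 1 = ((D.B ⊓ D.G1 : Subgroup Γ) : Set Γ) := by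
  ext g
  constructor
  · rintro ⟨β₁, h1, h1G, β₂, h2, h2G, rfl⟩
    exact ⟨D.B.mul_mem (D.B.mul_mem h1 D.B.one_mem) h2, D.G1.mul_mem (D.G1.mul_mem h1G D.G1.one_mem) h2G⟩
  · rintro ⟨hB, hG⟩
    exact ⟨g, hB, hG, 1, D.B.one_mem, D.G1.one_mem, by group⟩

/-- `|B¹| = |U¹| |H¹|` -/
theorem card_B1 [Finite Γ] :
    Nat.card ↥(D.B ⊓ D.G1) = Nat.card ↥(D.U ⊓ D.G1) * Nat.card ↥(D.H ⊓ D.G1) := by
  have h := card_cell D 1 D.N.one_mem D.G1.one_mem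
  rw [Un_one, bot_inf_eq, Subgroup.card_bot, mul_one] at h
  rw [← h, cell_one]
  rfl

theorem cell_disjoint (n n' : Γ) (hn : n ∈ D.N) (hn' : n' ∈ D.N) (h : n⁻¹ * n' ∉ D.H) :
    Disjoint (cell D n) (cell D n') := by
  rw [Set.disjoint_left]
  rintro g ⟨β₁, h1, _, β₂, h2, _, rfl⟩ ⟨β₁', h1', _, β₂', h2', _, e⟩
  exact h (D.bruhat n hn n' hn' β₁ h1 β₂ h2 β₁' h1' β₂' h2' e)

section parabolic

variable (P : Cfsg.BNPair ↥D.G1) (hB : P.B = (D.B ⊓ D.G1).subgroupOf D.G1)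
include hB

theorem mem_PB (x : ↥D.G1) : x ∈ P.B ↔ (x : Γ) ∈ D.B := by
  rw [hB, Subgroup.mem_subgroupOf, Subgroup.mem_inf]
  exact ⟨fun h => h.1, fun h => ⟨h, x.2⟩⟩

theorem dc_iff (n g : ↥D.G1) : DC P n g ↔ D.DC1 (n : Γ) (g : Γ) := by
  constructor
  · rintro ⟨b1, hb1, b2, hb2, rfl⟩
    exact ⟨b1, (mem_PB D P hB b1).1 hb1, b1.2, b2, (mem_PB D P hB b2).1 hb2, b2.2, rfl⟩
  · rintro ⟨β₁, h1, h1G, β₂, h2, h2G, e⟩
    exact ⟨⟨β₁, h1G⟩, (mem_PB D P hB _).2 h1, ⟨β₂, h2G⟩, (mem_PB D P hB _).2 h2, Subtype.ext e⟩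

/-- `⟨B¹, s⟩ = B¹ ∪ B¹ s B¹` -/
theorem mem_parabolic_singleton (s : ↥D.G1) (hs : s ∈ P.S) (g : ↥D.G1) :
    g ∈ P.parabolic {s} ↔ (g : Γ) ∈ cell D 1 ∪ cell D (s : Γ) := by
  rw [mem_parabolic_iff P (Set.singleton_subset_iff.2 hs)]
  constructor
  · rintro ⟨n, hn, hdc⟩
    rw [Subgroup.mem_closure_singleton] at hn
    obtain ⟨k, rfl⟩ := hn
    have hss : s * s ∈ P.B := P.sq_mem s hs
    have hpow : ∀ j : ℤ, (s * s) ^ j ∈ P.B := fun j => Subgroup.zpow_mem _ hss j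
    rcases Int.even_or_odd' k with ⟨j, rfl | rfl⟩
    · left
      have e : s ^ (2 * j) = (s * s) ^ j := by
        rw [zpow_mul, zpow_two]
      rw [e] at hdc
      obtain ⟨b1, hb1, b2, hb2, rfl⟩ := hdc
      have : DC P 1 (b1 * (s * s) ^ j * b2) :=
        ⟨b1 * (s * s) ^ j, P.B.mul_mem hb1 (hpow j), b2, hb2, by group⟩
      exact (dc_iff D P hB 1 _).1 this
    · right
      have e : s ^ (2 * j + 1) = s * (s * s) ^ j := by
        rw [zpow_add, zpow_one, zpow_mul, zpow_two]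
        exact (((Commute.refl s).mul_right (Commute.refl s)).zpow_right j).eq.symm
      rw [e] at hdc
      obtain ⟨b1, hb1, b2, hb2, rfl⟩ := hdc
      have : DC P s (b1 * (s * (s * s) ^ j) * b2) :=
        ⟨b1, hb1, (s * s) ^ j * b2, P.B.mul_mem (hpow j) hb2, by group⟩
      exact (dc_iff D P hB s _).1 this
  · rintro (h | h)
    · exact ⟨1, Subgroup.one_mem _, (dc_iff D P hB 1 g).2 h⟩
    · exact ⟨s, Subgroup.subset_closure rfl, (dc_iff D P hB s g).2 h⟩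

/-- the order of a minimal parabolic subgroup -/
theorem card_parabolic_singleton [Finite Γ] (s : ↥D.G1) (hs : s ∈ P.S) (hsN : (s : Γ) ∈ D.N) :
    Nat.card ↥(P.parabolic {s}) = Nat.card ↥(D.U ⊓ D.G1) * Nat.card ↥(D.H ⊓ D.G1) *
      (1 + Nat.card ↥(D.Un (s : Γ) ⊓ D.G1)) := by
  classical
  have hsB : s ∉ P.B := S_not_mem_B P hs
  have hsH : (1 : Γ)⁻¹ * (s : Γ) ∉ D.H := by
    intro h
    rw [inv_one, one_mul] at h
    exact hsB ((mem_PB D P hB s).2 (D.hHB h))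
  have hdis := cell_disjoint D 1 (s : Γ) D.N.one_mem hsN hsH
  -- the parabolic subgroup, as a set of elements of `Γ`
  have hcard : Nat.card ↥(P.parabolic {s}) = Nat.card ↥(cell D 1 ∪ cell D (s : Γ)) := by
    let Ψ : ↥(P.parabolic {s}) → ↥(cell D 1 ∪ cell D (s : Γ)) := fun g =>
      ⟨((g : ↥D.G1) : Γ), (mem_parabolic_singleton D P hB s hs g).1 g.2⟩
    have hinj : Function.Injective Ψ := by
      intro x y hxy
      have h0 : ((x : ↥D.G1) : Γ) = ((y : ↥D.G1) : Γ) :=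
        congrArg (fun z : ↥(cell D 1 ∪ cell D (s : Γ)) => (z : Γ)) hxy
      exact Subtype.ext (Subtype.ext h0)
    have hsurj : Function.Surjective Ψ := by
      rintro ⟨g, hg⟩
      have hgG : g ∈ D.G1 := by
        rcases hg with h | h
        · exact cell_le_G1 D 1 D.G1.one_mem g h
        · exact cell_le_G1 D (s : Γ) s.2 g h
      exact ⟨⟨⟨g, hgG⟩, (mem_parabolic_singleton D P hB s hs ⟨g, hgG⟩).2 hg⟩, rfl⟩
    exact Nat.card_congr (Equiv.ofBijective Ψ ⟨hinj, hsurj⟩)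
  have hfin1 : (cell D 1).Finite := Set.toFinite _
  have hfin2 : (cell D (s : Γ)).Finite := Set.toFinite _
  rw [hcard, Nat.card_coe_set_eq, Set.ncard_union_eq hdis hfin1 hfin2, ← Nat.card_coe_set_eq,
    ← Nat.card_coe_set_eq, card_cell D 1 D.N.one_mem D.G1.one_mem, card_cell D (s : Γ) hsN s.2,
    Un_one, bot_inf_eq, Subgroup.card_bot]
  ring

/-- in rank 2, every proper standard parabolic subgroup lies in a minimal one -/
theorem card_parabolic_dvd [Finite Γ] (s1 s2 : ↥D.G1) (hS : P.S = {s1, s2}) (J : Set ↥D.G1)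
    (hJ : J ⊆ P.S) (hne : J ≠ P.S) :
    Nat.card ↥(P.parabolic J) ∣ Nat.card ↥(P.parabolic {s1}) ∨
      Nat.card ↥(P.parabolic J) ∣ Nat.card ↥(P.parabolic {s2}) := by
  by_cases h1 : s1 ∈ J
  · by_cases h2 : s2 ∈ J
    · exfalso
      apply hne
      apply Set.Subset.antisymm hJ
      rw [hS]
      rintro x (rfl | rfl)
      · exact h1
      · exact h2
    · left
      apply Subgroup.card_dvd_of_le
      apply parabolic_mono
      intro x hx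
      have := hJ hx
      rw [hS] at this
      rcases this with rfl | rfl
      · rfl
      · exact absurd hx h2
  · right
    apply Subgroup.card_dvd_of_le
    apply parabolic_mono
    intro x hx
    have := hJ hx
    rw [hS] at this
    rcases this with rfl | rfl
    · exact absurd hx h1
    · rfl

theorem card_PB [Finite Γ] :
    Nat.card ↥P.B = Nat.card ↥(D.U ⊓ D.G1) * Nat.card ↥(D.H ⊓ D.G1) := by
  rw [← card_B1 D, hB]
  exact Nat.card_congr (Subgroup.subgroupOfEquivOfLe inf_le_right).toEquiv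

variable (hN : P.N = (D.N ⊓ D.G1).subgroupOf D.G1)
include hN

theorem mem_PN (x : ↥D.G1) : x ∈ P.N ↔ (x : Γ) ∈ D.N := by
  rw [hN, Subgroup.mem_subgroupOf, Subgroup.mem_inf]
  exact ⟨fun h => h.1, fun h => ⟨h, x.2⟩⟩

theorem PB_inf_PN : P.B ⊓ P.N = (D.H ⊓ D.G1).subgroupOf D.G1 := by
  ext x
  rw [Subgroup.mem_inf, mem_PB D P hB, mem_PN D P hB hN, Subgroup.mem_subgroupOf, Subgroup.mem_inf]
  constructor
  · rintro ⟨h1, h2⟩
    exact ⟨D.hBN _ h1 h2, x.2⟩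
  · rintro ⟨h1, _⟩
    exact ⟨D.hHB h1, D.hHN h1⟩

theorem card_PB_inf_PN [Finite Γ] : Nat.card ↥(P.B ⊓ P.N) = Nat.card ↥(D.H ⊓ D.G1) := by
  rw [PB_inf_PN D P hB hN]
  exact Nat.card_congr (Subgroup.subgroupOfEquivOfLe inf_le_right).toEquiv

/-- the index of `H¹` in `B¹` is `|U¹|` -/
theorem relIndex_PB [Finite Γ] : (P.B ⊓ P.N).relIndex P.B = Nat.card ↥(D.U ⊓ D.G1) := by
  have h1 := Subgroup.relIndex_mul_relIndex (⊥ : Subgroup ↥D.G1) (P.B ⊓ P.N) P.B bot_le inf_le_left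
  rw [Subgroup.relIndex_bot_left, Subgroup.relIndex_bot_left, card_PB D P hB,
    card_PB_inf_PN D P hB hN, mul_comm (Nat.card ↥(D.U ⊓ D.G1))] at h1
  exact Nat.eq_of_mul_eq_mul_left Nat.card_pos h1

/-- an element of `B¹` whose conjugate under the longest element lies in `B¹` is in `H¹` -/
theorem mem_PN_of_conj_mem (V : Subgroup Γ) (w₀ : ↥D.G1) (hw₀ : (w₀ : Γ) ∈ D.N)
    (hUV : ∀ u ∈ D.U, (w₀ : Γ)⁻¹ * u * (w₀ : Γ) ∈ V) (hBV : ∀ x ∈ D.B, x ∈ V ⊔ D.H → x ∈ D.H)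
    (b : ↥D.G1) (hb : b ∈ P.B) (hc : w₀⁻¹ * b * w₀ ∈ P.B) : b ∈ P.N := by
  rw [mem_PN D P hB hN]
  rw [mem_PB D P hB] at hb hc
  obtain ⟨u, hu, h, hh, e⟩ := D.hBUH _ hb
  have hn : (w₀ : Γ)⁻¹ ∈ D.N := D.N.inv_mem hw₀
  have e1 : ((w₀⁻¹ * b * w₀ : ↥D.G1) : Γ) =
      ((w₀ : Γ)⁻¹ * u * (w₀ : Γ)) * ((w₀ : Γ)⁻¹ * h * ((w₀ : Γ)⁻¹)⁻¹) := by
    rw [Subgroup.coe_mul, Subgroup.coe_mul, Subgroup.coe_inv, e]
    group
  have h1 : ((w₀⁻¹ * b * w₀ : ↥D.G1) : Γ) ∈ V ⊔ D.H := by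
    rw [e1]
    exact Subgroup.mul_mem_sup (hUV u hu) (D.hNH _ hn h hh)
  have h2 := hBV _ hc h1
  have h3 := D.hNH _ hw₀ _ h2
  have e2 : (w₀ : Γ) * ((w₀⁻¹ * b * w₀ : ↥D.G1) : Γ) * (w₀ : Γ)⁻¹ = (b : Γ) := by
    rw [Subgroup.coe_mul, Subgroup.coe_mul, Subgroup.coe_inv]
    group
  rw [e2] at h3
  exact D.hHN h3

end parabolic

end Cfsg.Agent.Lib.Helper33.TwPar
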