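import Cfsg.Agent.Lib.Helper33.TwSimple
import Cfsg.Agent.Lib.Helper33.TwCoreTab
import Cfsg.Agent.Lib.Helper33.TwTorus

/-!
Core of `B¹` and simplicity for `²E₆(q)` and `³D₄(q)`: instances.
-/

set_option autoImplicit false
set_option maxRecDepth 100000

namespace Cfsg.Agent.Lib.Helper33.TwBN

open Cfsg.Lie Cfsg.Agent.Lib.Helper24

/-- the normal core of `B¹` in the twisted group of type `E₆` is trivial -/
theorem core_eq_bot_E6 (F : Type*) [Field F] (f : F ≃+* F) :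
    ((chevE6.borelSubgroup F ⊓ (twE6 F f).G1 (fundOf chevE6 twFd_E6)).subgroupOf
      ((twE6 F f).G1 (fundOf chevE6 twFd_E6))).normalCore = ⊥ :=
  core_eq_bot_tw (envE6 F) (twE6 F f) (twG_E6 F f) (twU_E6 F f) (by rw [twE6_R]; exact twO_E6)
    twCover_E6 (fun c hc h1 => torusEntry_eq_one_of_simple chevE6 cartanLin_E6 c hc h1)
    twW0_E6 twW0_lt_E6 (fun r hr => twLong_E6 r hr.1 hr) (by rw [twE6_R]; exact twNegOrb_E6)

/-- the normal core of `B¹` in the twisted group of type `D₄` is trivial -/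
theorem core_eq_bot_D4 (F : Type*) [Field F] (f : F ≃+* F) :
    ((chevD4.borelSubgroup F ⊓ (twD4 F f).G1 (fundOf chevD4 twFd_D4)).subgroupOf
      ((twD4 F f).G1 (fundOf chevD4 twFd_D4))).normalCore = ⊥ :=
  core_eq_bot_tw (envD4 F) (twD4 F f) (twG_D4 F f) (twU_D4 F f) (by rw [twD4_R]; exact twO_D4)
    twCover_D4 (fun c hc h1 => torusEntry_eq_one_of_simple chevD4 cartanLin_D4 c hc h1)
    twW0_D4 twW0_lt_D4 (fun r hr => twLong_D4 r hr.1 hr) (by rw [twD4_R]; exact twNegOrb_D4)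

/-- the classes of type `E₆` along the Dynkin diagram of type `F₄` -/
def twChain_E6 : List (ℕ × ℕ × List ℕ) := [(46, 1, [1]), (39, 1, [3]), (42, 2, [2, 4]), (56, 2, [0, 5])]

theorem twChain_mem_E6 : ∀ x, x ∈ twChain_E6 ↔ x ∈ twFd_E6 := by
  intro x
  simp only [twChain_E6, twFd_E6, List.mem_cons, List.not_mem_nil, or_false]
  tauto

theorem twChain_ne_E6 : ∀ q ∈ twChain_E6.zip twChain_E6.tail, ∃ r < chevE6.nroots,
    rhoW chevE6 (q.1.2.2 ++ q.2.2.2) r ≠ rhoW chevE6 (q.2.2.2 ++ q.1.2.2) r := by decide +kernel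

theorem twChain_ne_D4 : ∀ q ∈ twFd_D4.zip twFd_D4.tail, ∃ r < chevD4.nroots,
    rhoW chevD4 (q.1.2.2 ++ q.2.2.2) r ≠ rhoW chevD4 (q.2.2.2 ++ q.1.2.2) r := by decide +kernel

theorem nontrivial_E6 (F : Type*) [Field F] (f : F ≃+* F) :
    Nontrivial ↥((twE6 F f).G1 (fundOf chevE6 twFd_E6)) := by
  obtain ⟨_, hb2, hb3⟩ := cls_one (envE6 F) (twE6 F f) (twG_E6 F f) (twU_E6 F f) (46, 1, [1])
    (by decide) (by decide)
  exact ⟨⟨⟨_, hb2⟩, 1, fun h => hb3 (congrArg Subtype.val h)⟩⟩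

theorem nontrivial_D4 (F : Type*) [Field F] (f : F ≃+* F) :
    Nontrivial ↥((twD4 F f).G1 (fundOf chevD4 twFd_D4)) := by
  obtain ⟨_, hb2, hb3⟩ := cls_one (envD4 F) (twD4 F f) (twG_D4 F f) (twU_D4 F f) (14, 1, [1])
    (by decide) (by decide)
  exact ⟨⟨⟨_, hb2⟩, 1, fun h => hb3 (congrArg Subtype.val h)⟩⟩

/-- the twisted group of type `E₆` is simple if it is perfect -/
theorem simple_E6 (F : Type*) [Field F] (f : F ≃+* F)
    (hperf : commutator ↥((twE6 F f).G1 (fundOf chevE6 twFd_E6)) = ⊤) :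
    IsSimpleGroup ↥((twE6 F f).G1 (fundOf chevE6 twFd_E6)) ∧
      ¬ IsMulCommutative ↥((twE6 F f).G1 (fundOf chevE6 twFd_E6)) := by
  obtain ⟨P, hB, _, hS⟩ := exists_bnPair_E6 F f
  exact simple_tw (envE6 F) (twE6 F f) (twG_E6 F f) P hB hS twChain_E6 twChain_mem_E6
    twChain_ne_E6 hperf (core_eq_bot_E6 F f) (nontrivial_E6 F f)

/-- the twisted group of type `D₄` is simple if it is perfect -/
theorem simple_D4 (F : Type*) [Field F] (f : F ≃+* F)
    (hperf : commutator ↥((twD4 F f).G1 (fundOf chevD4 twFd_D4)) = ⊤) :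
    IsSimpleGroup ↥((twD4 F f).G1 (fundOf chevD4 twFd_D4)) ∧
      ¬ IsMulCommutative ↥((twD4 F f).G1 (fundOf chevD4 twFd_D4)) := by
  obtain ⟨P, hB, _, hS⟩ := exists_bnPair_D4 F f
  exact simple_tw (envD4 F) (twD4 F f) (twG_D4 F f) P hB hS twFd_D4 (fun _ => Iff.rfl)
    twChain_ne_D4 hperf (core_eq_bot_D4 F f) (nontrivial_D4 F f)

end Cfsg.Agent.Lib.Helper33.TwBN
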