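import Cfsg.Agent.Lib.Helper33.TwWeyl
import Cfsg.Agent.Lib.Helper33.TwBNTab

/-!
The Weyl groups `N¹/H¹` of `²E₆(q)` and `³D₄(q)`: tables and instances.
-/

set_option autoImplicit false
set_option maxRecDepth 100000

namespace Cfsg.Agent.Lib.Helper33.TwBN

open Cfsg.Lie Cfsg.Agent.Lib.Helper24

/-- the classes of type `E₆` along the Coxeter diagram of type `F₄` -/
def twWChain_E6 : List (ℕ × ℕ × List ℕ) := [(46, 1, [1]), (39, 1, [3]), (42, 2, [2, 4]), (56, 2, [0, 5])]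

theorem twWChain_mem_E6 : ∀ x, x ∈ twWChain_E6 ↔ x ∈ twFd_E6 := by
  intro x
  simp only [twWChain_E6, twFd_E6, List.mem_cons, List.not_mem_nil, or_false]
  tauto

theorem twWChain_nodup_E6 : twWChain_E6.Nodup := by decide +kernel

theorem twFd_nodup_D4 : twFd_D4.Nodup := by decide +kernel

/-- the entries of the Coxeter matrix of type `F₄` -/
def ordF4 (i j : Fin 4) : ℕ := ![![1, 3, 2, 2], ![3, 1, 4, 2], ![2, 4, 1, 3], ![2, 2, 3, 1]] i j

/-- the entries of the Coxeter matrix of type `G₂` -/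
def ordG2 (i j : Fin 2) : ℕ := ![![1, 6], ![6, 1]] i j

theorem twWOrd_E6 : ∀ i j : Fin 4, i ≠ j →
    ordOK chevE6 ((twWChain_E6.getD i.val (0, 0, [])).2.2 ++ (twWChain_E6.getD j.val (0, 0, [])).2.2)
      (CoxeterMatrix.F₄ i j) := by
  have h : ∀ i j : Fin 4, i ≠ j →
    ordOK chevE6 ((twWChain_E6.getD i.val (0, 0, [])).2.2 ++ (twWChain_E6.getD j.val (0, 0, [])).2.2)
      (ordF4 i j) := by decide +kernel
  exact h

theorem twWOrd_D4 : ∀ i j : Fin 2, i ≠ j →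
    ordOK chevD4 ((twFd_D4.getD i.val (0, 0, [])).2.2 ++ (twFd_D4.getD j.val (0, 0, [])).2.2)
      (CoxeterMatrix.G₂ i j) := by
  have h : ∀ i j : Fin 2, i ≠ j →
    ordOK chevD4 ((twFd_D4.getD i.val (0, 0, [])).2.2 ++ (twFd_D4.getD j.val (0, 0, [])).2.2)
      (ordG2 i j) := by decide +kernel
  exact h

/-- the Weyl group of the twisted group of type `E₆` is the Coxeter group of type `F₄` -/
theorem weyl_E6 (F : Type*) [Field F] (f : F ≃+* F) :
    ∃ φ : ↥(chevE6.monomialSubgroup F ⊓ (twE6 F f).G1 (fundOf chevE6 twFd_E6)) →*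
        (CoxeterMatrix.F₄).Group, Function.Surjective φ ∧
      φ.ker = (chevE6.diagonalSubgroup F ⊓ (twE6 F f).G1 (fundOf chevE6 twFd_E6)).subgroupOf
        (chevE6.monomialSubgroup F ⊓ (twE6 F f).G1 (fundOf chevE6 twFd_E6)) := by
  obtain ⟨P, hB, hN, hS⟩ := exists_bnPair_E6 F f
  exact weyl_tw (envE6 F) (twE6 F f) (twG_E6 F f) (by rw [twE6_R]; exact clsChecks_E6) P hB hN hS
    twWChain_E6 twWChain_nodup_E6 twWChain_mem_E6 rfl CoxeterMatrix.F₄ twWOrd_E6

/-- the Weyl group of the twisted group of type `D₄` is the Coxeter group of type `G₂` -/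
theorem weyl_D4 (F : Type*) [Field F] (f : F ≃+* F) :
    ∃ φ : ↥(chevD4.monomialSubgroup F ⊓ (twD4 F f).G1 (fundOf chevD4 twFd_D4)) →*
        (CoxeterMatrix.G₂).Group, Function.Surjective φ ∧
      φ.ker = (chevD4.diagonalSubgroup F ⊓ (twD4 F f).G1 (fundOf chevD4 twFd_D4)).subgroupOf
        (chevD4.monomialSubgroup F ⊓ (twD4 F f).G1 (fundOf chevD4 twFd_D4)) := by
  obtain ⟨P, hB, hN, hS⟩ := exists_bnPair_D4 F f
  exact weyl_tw (envD4 F) (twD4 F f) (twG_D4 F f) (by rw [twD4_R]; exact clsChecks_D4) P hB hN hS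
    twFd_D4 twFd_nodup_D4 (fun _ => Iff.rfl) rfl CoxeterMatrix.G₂ twWOrd_D4

end Cfsg.Agent.Lib.Helper33.TwBN
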