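import Mathlib

/-!
# K81-B: twisted automorphisms and transitivity force `p` to be a primitive root mod `q`
(sub-task of S4081, spec in `notes/S4081Spec.lean.txt`).
-/

set_option autoImplicit false

namespace Cfsg.Agent.Lib.Helper33.Twisted

open Polynomial

section general

variable {F V : Type*} [Field F] [AddCommGroup V] [Module F V]

/-- The `T`-cyclic subspace generated by `v`: all `f(T) v`. -/
noncomputable def cyc (T : V →ₗ[F] V) (v : V) : Submodule F V :=
  LinearMap.range ((LinearMap.applyₗ v : (V →ₗ[F] V) →ₗ[F] V) ∘ₗ (Polynomial.aeval T).toLinearMap)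

theorem mem_cyc {T : V →ₗ[F] V} {v w : V} : w ∈ cyc T v ↔ ∃ f : F[X], (aeval T f) v = w := by
  unfold cyc
  simp [LinearMap.mem_range]

theorem self_mem_cyc (T : V →ₗ[F] V) (v : V) : v ∈ cyc T v :=
  mem_cyc.2 ⟨1, by simp⟩

theorem cyc_le_of_mem {T : V →ₗ[F] V} {v w : V} (h : w ∈ cyc T v) : cyc T w ≤ cyc T v := by
  obtain ⟨e, rfl⟩ := mem_cyc.1 h
  intro u hu
  obtain ⟨f, rfl⟩ := mem_cyc.1 hu
  refine mem_cyc.2 ⟨f * e, ?_⟩
  rw [map_mul, Module.End.mul_apply]

theorem twist_pow {T : V →ₗ[F] V} (σ : V ≃ₗ[F] V) (k : ℕ)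
    (h : ∀ u, σ (T u) = (T ^ k) (σ u)) (n : ℕ) (u : V) :
    σ ((T ^ n) u) = ((T ^ k) ^ n) (σ u) := by
  induction n generalizing u with
  | zero => simp
  | succ n ih =>
    rw [pow_succ, Module.End.mul_apply, ih, h, pow_succ ((T ^ k)) n, Module.End.mul_apply]

theorem twist_aeval {T : V →ₗ[F] V} (σ : V ≃ₗ[F] V) (k : ℕ)
    (h : ∀ u, σ (T u) = (T ^ k) (σ u)) (f : F[X]) (u : V) :
    σ ((aeval T f) u) = (aeval T (f.comp (X ^ k))) (σ u) := by
  rw [aeval_comp, aeval_X_pow]
  induction f using Polynomial.induction_on' with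
  | add f g hf hg => simp [hf, hg]
  | monomial n a =>
    simp only [aeval_monomial, Module.algebraMap_end_apply,
      Module.End.mul_apply, map_smul]
    rw [twist_pow σ k h]

theorem twist_cyc_le {T : V →ₗ[F] V} (σ : V ≃ₗ[F] V) (k : ℕ)
    (h : ∀ u, σ (T u) = (T ^ k) (σ u)) (v : V) :
    (cyc T v).map (σ : V →ₗ[F] V) ≤ cyc T (σ v) := by
  rintro _ ⟨u, hu, rfl⟩
  obtain ⟨f, rfl⟩ := mem_cyc.1 hu
  exact mem_cyc.2 ⟨f.comp (X ^ k), (twist_aeval σ k h f v).symm⟩

end general

section main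

variable {p q : ℕ} [hp : Fact p.Prime] [hq : Fact q.Prime]

theorem natCast_q_ne_zero (hpq : p ≠ q) : ((q : ℕ) : ZMod p) ≠ 0 := by
  intro h
  rw [ZMod.natCast_eq_zero_iff] at h
  exact hpq ((Nat.prime_dvd_prime_iff_eq hp.1 hq.1).1 h)

theorem orderOf_eq_of_twisted_transitive (hpq : p ≠ q)
    {V : Type*} [AddCommGroup V] [Module (ZMod p) V] [Finite V] [Nontrivial V]
    (T : V →ₗ[ZMod p] V) (hT : ∑ i ∈ Finset.range q, T ^ i = 0)
    (hk : ∀ k : ℕ, 0 < k → k < q → ∃ σ : V ≃ₗ[ZMod p] V, ∀ v, σ (T v) = (T ^ k) (σ v))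
    (htrans : ∀ v w : V, v ≠ 0 → w ≠ 0 →
      ∃ (σ : V ≃ₗ[ZMod p] V) (k : ℕ), ¬ q ∣ k ∧ (∀ u, σ (T u) = (T ^ k) (σ u)) ∧ σ v = w) :
    orderOf (p : ZMod q) = q - 1 := by
  classical
  have hq1 : 1 < q := hq.1.one_lt
  have : NeZero ((q : ℕ) : ZMod p) := ⟨natCast_q_ne_zero hpq⟩
  set Φ : (ZMod p)[X] := cyclotomic q (ZMod p) with hΦ
  have hΦT : aeval T Φ = 0 := by
    rw [hΦ, cyclotomic_prime, map_sum]
    simpa using hT
  have hΦsep : Φ.Separable := separable_cyclotomic q (ZMod p)
  -- Step 1: all cyclic subspaces of nonzero vectors have the same dimension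
  have hdim : ∀ v w : V, v ≠ 0 → w ≠ 0 →
      Module.finrank (ZMod p) (cyc T v) ≤ Module.finrank (ZMod p) (cyc T w) := by
    intro v w hv hw
    obtain ⟨σ, k, -, hσ, hσv⟩ := htrans v w hv hw
    have h1 := twist_cyc_le σ k hσ v
    rw [hσv] at h1
    have h2 : Module.finrank (ZMod p) ((cyc T v).map (σ : V →ₗ[ZMod p] V)) =
        Module.finrank (ZMod p) (cyc T v) :=
      LinearEquiv.finrank_map_eq σ (cyc T v)
    rw [← h2]
    exact Submodule.finrank_mono h1
  -- Step 2: the minimal polynomial is irreducible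
  have hint : IsIntegral (ZMod p) T := Algebra.IsIntegral.isIntegral T
  set m : (ZMod p)[X] := minpoly (ZMod p) T with hm
  have hmΦ : m ∣ Φ := minpoly.dvd (ZMod p) T hΦT
  have hm0 : m ≠ 0 := minpoly.ne_zero hint
  have hmT : aeval T m = 0 := minpoly.aeval (ZMod p) T
  have hmunit : ¬ IsUnit m := minpoly.not_isUnit (ZMod p) T
  have hmirr : Irreducible m := by
    obtain ⟨g, hgirr, hgm⟩ := WfDvdMonoid.exists_irreducible_factor hmunit hm0
    obtain ⟨h, hgh⟩ := hgm
    by_cases hhu : IsUnit h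
    · rw [hgh]
      exact (irreducible_mul_isUnit hhu).2 hgirr
    exfalso
    have hsep : (g * h).Separable := by
      rw [← hgh]; exact hΦsep.of_dvd hmΦ
    obtain ⟨a, b, hab⟩ := hsep.isCoprime
    have hh0 : h ≠ 0 := by
      rintro rfl; apply hm0; rw [hgh, mul_zero]
    have hg0 : g ≠ 0 := hgirr.ne_zero
    have hbez : ∀ u : V, (aeval T (a * g)) u + (aeval T (b * h)) u = u := by
      intro u
      have : aeval T (a * g + b * h) = 1 := by rw [hab, map_one]
      rw [map_add] at this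
      have h2 := congrArg (fun f : Module.End (ZMod p) V => f u) this
      simpa using h2
    have hgh0 : ∀ u : V, (aeval T g) ((aeval T h) u) = 0 := by
      intro u
      rw [← Module.End.mul_apply, ← map_mul, ← hgh, hmT]; rfl
    have hhg0 : ∀ u : V, (aeval T h) ((aeval T g) u) = 0 := by
      intro u
      rw [← Module.End.mul_apply, ← map_mul, mul_comm, ← hgh, hmT]; rfl
    -- kernels are nonzero
    have hkg : ∃ v : V, v ≠ 0 ∧ (aeval T g) v = 0 := by
      by_contra hcon
      push Not at hcon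
      have hh : aeval T h = 0 := by
        ext u
        by_contra hne
        exact hcon _ hne (hgh0 u)
      have hdvd : m ∣ h := minpoly.dvd (ZMod p) T hh
      rw [hgh] at hdvd
      have : g * h ∣ 1 * h := by simpa using hdvd
      exact hgirr.not_isUnit (isUnit_of_dvd_one ((mul_dvd_mul_iff_right hh0).1 this))
    have hkh : ∃ w : V, w ≠ 0 ∧ (aeval T h) w = 0 := by
      by_contra hcon
      push Not at hcon
      have hg : aeval T g = 0 := by
        ext u
        by_contra hne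
        exact hcon _ hne (hhg0 u)
      have hdvd : m ∣ g := minpoly.dvd (ZMod p) T hg
      rw [hgh] at hdvd
      have : g * h ∣ g * 1 := by simpa using hdvd
      exact hhu (isUnit_of_dvd_one ((mul_dvd_mul_iff_left hg0).1 this))
    obtain ⟨v, hv0, hv⟩ := hkg
    obtain ⟨w, hw0, hw⟩ := hkh
    -- components
    have hav : (aeval T (a * g)) v = 0 := by
      rw [map_mul, Module.End.mul_apply, hv, map_zero]
    have hbw : (aeval T (b * h)) w = 0 := by
      rw [map_mul, Module.End.mul_apply, hw, map_zero]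
    have hbv : (aeval T (b * h)) v = v := by
      have := hbez v; rw [hav, zero_add] at this; exact this
    have haw : (aeval T (a * g)) w = w := by
      have := hbez w; rw [hbw, add_zero] at this; exact this
    have hgw : (aeval T g) w ≠ 0 := by
      intro h0
      apply hw0
      have := hbez w
      rw [map_mul, Module.End.mul_apply, h0, map_zero, hbw, add_zero] at this
      exact this.symm
    have hvw0 : v + w ≠ 0 := by
      intro h0
      have hw' : w = -v := eq_neg_of_add_eq_zero_right h0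
      apply hgw
      rw [hw', map_neg, hv, neg_zero]
    have hv_mem : v ∈ cyc T (v + w) :=
      mem_cyc.2 ⟨b * h, by rw [map_add, hbv, hbw, add_zero]⟩
    have hw_mem : w ∈ cyc T (v + w) :=
      mem_cyc.2 ⟨a * g, by rw [map_add, hav, haw, zero_add]⟩
    have hw_not : w ∉ cyc T v := by
      intro hmem
      obtain ⟨f, hf⟩ := mem_cyc.1 hmem
      apply hgw
      rw [← hf, ← Module.End.mul_apply, ← map_mul, mul_comm, map_mul, Module.End.mul_apply, hv,
        map_zero]
    have hlt : cyc T v < cyc T (v + w) := by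
      refine lt_of_le_of_ne (cyc_le_of_mem hv_mem) ?_
      intro heq
      exact hw_not (heq ▸ hw_mem)
    have := Submodule.finrank_lt_finrank_of_lt hlt
    exact absurd (hdim (v + w) v hvw0 hv0) (not_le.2 this)
  -- Step 3: `m ∣ m.comp (X ^ k)`
  have hcomp : ∀ k : ℕ, 0 < k → k < q → m ∣ m.comp (X ^ k) := by
    intro k hk0 hkq
    obtain ⟨σ, hσ⟩ := hk k hk0 hkq
    apply minpoly.dvd (ZMod p) T
    ext u
    obtain ⟨u', rfl⟩ := σ.surjective u
    rw [← twist_aeval σ k hσ m u', hmT]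
    simp
  -- Step 4: count roots in the field `AdjoinRoot m`
  haveI : Fact (Irreducible m) := ⟨hmirr⟩
  set K := AdjoinRoot m with hK
  set τ : K := AdjoinRoot.root m with hτ
  have hτm : aeval τ m = 0 := by
    rw [hτ, AdjoinRoot.aeval_eq, AdjoinRoot.mk_self]
  have hτΦ : aeval τ Φ = 0 := by
    obtain ⟨c, hc⟩ := hmΦ
    rw [hc, map_mul, hτm, zero_mul]
  have hτq : τ ^ q = 1 := by
    have h1 : aeval τ (X ^ q - 1 : (ZMod p)[X]) = 0 := by
      rw [← cyclotomic_prime_mul_X_sub_one (ZMod p) q, map_mul, ← hΦ, hτΦ, zero_mul]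
    simpa [sub_eq_zero] using h1
  have hτ1 : τ ≠ 1 := by
    intro h1
    rw [hΦ, cyclotomic_prime, h1] at hτΦ
    simp only [map_sum, map_pow, aeval_X, one_pow, Finset.sum_const, Finset.card_range,
      nsmul_eq_mul, mul_one] at hτΦ
    have h2 : ((q : ℕ) : K) = algebraMap (ZMod p) K ((q : ℕ) : ZMod p) := by simp
    rw [h2] at hτΦ
    exact natCast_q_ne_zero hpq ((map_eq_zero (algebraMap (ZMod p) K)).1 hτΦ)
  have hord : orderOf τ = q := orderOf_eq_prime hτq hτ1
  have hroot : ∀ k : ℕ, 0 < k → k < q → τ ^ k ∈ m.aroots K := by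
    intro k hk0 hkq
    rw [mem_aroots]
    refine ⟨hm0, ?_⟩
    obtain ⟨c, hc⟩ := hcomp k hk0 hkq
    have : aeval τ (m.comp (X ^ k)) = 0 := by rw [hc, map_mul, hτm, zero_mul]
    rwa [aeval_comp, aeval_X_pow] at this
  have hcard : q - 1 ≤ m.natDegree := by
    have hsub : (Finset.Ioo 0 q).image (fun k => τ ^ k) ⊆ (m.aroots K).toFinset := by
      intro x hx
      obtain ⟨k, hk, rfl⟩ := Finset.mem_image.1 hx
      rw [Finset.mem_Ioo] at hk
      exact Multiset.mem_toFinset.2 (hroot k hk.1 hk.2)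
    have hinj : Set.InjOn (fun k => τ ^ k) ((Finset.Ioo 0 q : Finset ℕ) : Set ℕ) := by
      intro a ha b hb hab
      have ha' : a ∈ Set.Iio (orderOf τ) := by
        rw [hord]; simpa using (Finset.mem_Ioo.1 ha).2
      have hb' : b ∈ Set.Iio (orderOf τ) := by
        rw [hord]; simpa using (Finset.mem_Ioo.1 hb).2
      exact pow_injOn_Iio_orderOf ha' hb' hab
    calc q - 1 = (Finset.Ioo 0 q).card := by simp
      _ = ((Finset.Ioo 0 q).image (fun k => τ ^ k)).card := (Finset.card_image_of_injOn hinj).symm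
      _ ≤ (m.aroots K).toFinset.card := Finset.card_le_card hsub
      _ ≤ Multiset.card (m.aroots K) := Multiset.toFinset_card_le _
      _ ≤ (m.map (algebraMap (ZMod p) K)).natDegree := card_roots' _
      _ ≤ m.natDegree := natDegree_map_le
  -- Step 5: degree of irreducible factors of the cyclotomic polynomial
  have hcop : p.Coprime q := (Nat.coprime_primes hp.1 hq.1).2 hpq
  have hdeg := natDegree_of_dvd_cyclotomic_of_irreducible (K := ZMod p) (p := p) (f := 1) (n := q)
    (by simp) hcop hmΦ hmirr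
  have hdeg' : m.natDegree = orderOf ((p : ℕ) : ZMod q) := by
    rw [hdeg, ← orderOf_units, ZMod.coe_unitOfCoprime]
    simp
  have hp0 : ((p : ℕ) : ZMod q) ≠ 0 := by
    intro h
    rw [ZMod.natCast_eq_zero_iff] at h
    exact hpq ((Nat.prime_dvd_prime_iff_eq hq.1 hp.1).1 h).symm
  have hdvd : orderOf ((p : ℕ) : ZMod q) ∣ q - 1 :=
    orderOf_dvd_of_pow_eq_one (ZMod.pow_card_sub_one_eq_one hp0)
  have hle : orderOf ((p : ℕ) : ZMod q) ≤ q - 1 := Nat.le_of_dvd (by omega) hdvd
  rw [hdeg'] at hcard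
  exact le_antisymm hle hcard

end main

end Cfsg.Agent.Lib.Helper33.Twisted
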